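import Mathlib
import Cfsg.Statements.S4032
import Cfsg.Agent.Lib.Coprime.SchurZassenhaus

set_option autoImplicit false
set_option linter.all false
open Cfsg
open scoped Pointwise

namespace Cfsg.Agent.S4032

open Cfsg.Agent.Lib.Coprime.SchurZassenhaus

variable {G : Type*} [Group G]

lemma mem_cent {x z : G} : z ∈ Subgroup.centralizer ({x} : Set G) ↔ z * x = x * z := by
  rw [Subgroup.mem_centralizer_iff]
  constructor
  · intro h
    exact (h x (Set.mem_singleton x)).symm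
  · rintro h _ rfl
    exact h.symm

/-- Lifting an element of the quotient of order prime to `|N|` to an element of the same order. -/
lemma exists_lift [Finite G] (N : Subgroup G) [N.Normal] (y : G ⧸ N)
    (hcop : Nat.Coprime (Nat.card N) (orderOf y)) :
    ∃ x : G, (x : G ⧸ N) = y ∧ orderOf x = orderOf y := by
  obtain ⟨x₀, rfl⟩ := QuotientGroup.mk_surjective y
  set a := orderOf (x₀ : G ⧸ N) with ha
  set n := Nat.card N with hn
  obtain ⟨u, v, huv⟩ := Nat.isCoprime_iff_coprime.2 hcop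
  have hx₀a : x₀ ^ a ∈ N := by
    rw [← QuotientGroup.eq_one_iff, QuotientGroup.mk_pow, ha, pow_orderOf_eq_one]
  have hx₀n : (x₀ ^ a) ^ n = 1 := by
    have := pow_card_eq_one' (x := (⟨x₀ ^ a, hx₀a⟩ : N))
    exact congrArg Subtype.val this
  refine ⟨x₀ ^ (u * n), ?_, ?_⟩
  · have h1 : ((x₀ ^ (u * (n : ℤ)) : G) : G ⧸ N) = (x₀ : G ⧸ N) ^ (u * (n : ℤ)) := by
      rw [QuotientGroup.mk_zpow]
    rw [h1]
    have h2 : u * (n : ℤ) = 1 - v * (a : ℤ) := by linarith
    rw [h2, zpow_sub, zpow_one, zpow_mul', zpow_natCast, ha, pow_orderOf_eq_one, one_zpow, inv_one,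
      mul_one]
  · have h1 : (x₀ ^ (u * (n : ℤ))) ^ a = 1 := by
      rw [← zpow_natCast, ← zpow_mul]
      have h2 : u * (n : ℤ) * (a : ℤ) = ((a * n : ℕ) : ℤ) * u := by push_cast; ring
      rw [h2, zpow_mul, zpow_natCast, pow_mul, hx₀n, one_zpow]
    have h2 := orderOf_dvd_of_pow_eq_one h1
    apply Nat.dvd_antisymm h2
    have h3 : ((x₀ ^ (u * (n : ℤ)) : G) : G ⧸ N) = (x₀ : G ⧸ N) := by
      have h1 : ((x₀ ^ (u * (n : ℤ)) : G) : G ⧸ N) = (x₀ : G ⧸ N) ^ (u * (n : ℤ)) := by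
        rw [QuotientGroup.mk_zpow]
      rw [h1]
      have h2 : u * (n : ℤ) = 1 - v * (a : ℤ) := by linarith
      rw [h2, zpow_sub, zpow_one, zpow_mul', zpow_natCast, ha, pow_orderOf_eq_one, one_zpow, inv_one,
        mul_one]
    have h4 : orderOf ((x₀ ^ (u * (n : ℤ)) : G) : G ⧸ N) ∣ orderOf (x₀ ^ (u * (n : ℤ))) :=
      orderOf_map_dvd (QuotientGroup.mk' N) _
    rw [h3] at h4
    exact h4

/-- Let π be a set of primes and G a finite group in which N_G(⟨x⟩) = C_G(x) for every π-element x. If N is a normal subgroup of G whose order is divisible by no prime of π, then G/N has the same property: N_{G/N}(⟨y⟩) = C_{G/N}(y) for every π-element y of G/N. -/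
theorem result {G : Type*} [Group G] [Finite G] (π : Set ℕ)
    (hirr : ∀ x : G, (∀ r : ℕ, r.Prime → r ∣ orderOf x → r ∈ π) →
      Subgroup.normalizer ((Subgroup.zpowers x : Subgroup G) : Set G) ≤ Subgroup.centralizer {x})
    (N : Subgroup G) [N.Normal] (hN : ∀ r : ℕ, r.Prime → r ∣ Nat.card N → r ∉ π) :
    ∀ y : G ⧸ N, (∀ r : ℕ, r.Prime → r ∣ orderOf y → r ∈ π) →
      Subgroup.normalizer ((Subgroup.zpowers y : Subgroup (G ⧸ N)) : Set (G ⧸ N)) ≤ Subgroup.centralizer {y} := by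
  intro y hy gb hgb
  have hcop : Nat.Coprime (Nat.card N) (orderOf y) := by
    apply Nat.coprime_of_dvd
    intro r hr h1 h2
    exact hN r hr h1 (hy r hr h2)
  obtain ⟨x, hxy, hxo⟩ := exists_lift N y hcop
  obtain ⟨g, rfl⟩ := QuotientGroup.mk_surjective gb
  have hxπ : ∀ r : ℕ, r.Prime → r ∣ orderOf x → r ∈ π := by
    rw [hxo]; exact hy
  have hxC := hirr x hxπ
  set A : Subgroup G := Subgroup.zpowers x with hA
  set L : Subgroup G := A ⊔ N with hL
  have hxL : x ∈ L := Subgroup.mem_sup_left (Subgroup.mem_zpowers x)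
  have hAL : A ≤ L := le_sup_left
  have hNL : N ≤ L := le_sup_right
  have hcardA : Nat.card A = orderOf x := Nat.card_zpowers x
  have hgxL : g * x * g⁻¹ ∈ L := by
    have h1 := (Subgroup.mem_normalizer_iff.1 hgb y).1 (Subgroup.mem_zpowers y)
    obtain ⟨i, hi⟩ := Subgroup.mem_zpowers_iff.1 h1
    have h2 : ((x ^ i : G) : G ⧸ N) = ((g * x * g⁻¹ : G) : G ⧸ N) := by
      rw [QuotientGroup.mk_zpow, hxy, hi]
      rw [← hxy]
      rfl
    have h3 : (x ^ i)⁻¹ * (g * x * g⁻¹) ∈ N := QuotientGroup.eq.1 h2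
    have h4 : g * x * g⁻¹ = x ^ i * ((x ^ i)⁻¹ * (g * x * g⁻¹)) := by group
    rw [h4]
    exact L.mul_mem (L.zpow_mem hxL i) (hNL h3)
  set B : Subgroup G := MulAut.conj g • A with hB
  have hBL : B ≤ L := by
    intro w hw
    rw [hB, mem_conj_smul_iff] at hw
    obtain ⟨j, hj⟩ := Subgroup.mem_zpowers_iff.1 hw
    have h1 : w = (g * x * g⁻¹) ^ j := by
      rw [conj_zpow, hj]
      group
    rw [h1]
    exact L.zpow_mem hgxL j
  have hcardB : Nat.card B = Nat.card A := card_conj_smul g A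
  have hcopNA : Nat.Coprime (Nat.card N) (Nat.card A) := by
    rw [hcardA, hxo]; exact hcop
  have hdisj : A ⊓ N = ⊥ := by
    rw [inf_comm]
    exact disjoint_of_coprime_card hcopNA
  have hcardL : Nat.card L = Nat.card N * Nat.card A := card_sup_of_disjoint N A hdisj
  haveI hNn : (N.subgroupOf L).Normal := inferInstance
  have hsolv : Group.IsSolvable (A.subgroupOf L) := by
    apply isSolvable_of_comm
    rintro ⟨⟨a, ha⟩, ha'⟩ ⟨⟨b, hb⟩, hb'⟩
    have ha2 : a ∈ Subgroup.zpowers x := Subgroup.mem_subgroupOf.1 ha'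
    have hb2 : b ∈ Subgroup.zpowers x := Subgroup.mem_subgroupOf.1 hb'
    obtain ⟨i, rfl⟩ := ha2
    obtain ⟨j, rfl⟩ := hb2
    apply Subtype.ext
    apply Subtype.ext
    exact ((Commute.refl x).zpow_zpow i j).eq
  obtain ⟨h, hh⟩ := conj_of_card (N.subgroupOf L) (A.subgroupOf L) (B.subgroupOf L) (Or.inr hsolv)
    (by rw [card_subgroupOf_of_le hNL, card_subgroupOf_of_le hAL, hcardL])
    (by rw [card_subgroupOf_of_le hBL, card_subgroupOf_of_le hAL, hcardB])
    (by rw [card_subgroupOf_of_le hNL, card_subgroupOf_of_le hAL]; exact hcopNA)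
  have hconj : MulAut.conj (h : G) • A = B := conj_of_subgroupOf hAL hBL h hh
  -- `g⁻¹ h` normalizes `A`
  set c : G := g⁻¹ * h with hc
  have hcA : MulAut.conj c • A = A := by
    rw [hc, conj_mul_smul, hconj, hB, ← conj_mul_smul]
    simp
  have hcA' : MulAut.conj c⁻¹ • A = A := by
    have : MulAut.conj c⁻¹ • (MulAut.conj c • A) = A := by
      rw [← conj_mul_smul]
      simp
    rwa [hcA] at this
  have hcN : c ∈ Subgroup.normalizer ((A : Subgroup G) : Set G) := by
    rw [Subgroup.mem_normalizer_iff]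
    intro w
    have := mem_conj_smul_iff c⁻¹ w A
    rw [hcA', inv_inv] at this
    exact this
  have hcc : c * x = x * c := mem_cent.1 (hxC hcN)
  -- pass to the quotient
  have hmem : (h : G) ∈ ((A ⊔ N : Subgroup G) : Set G) := h.2
  rw [Subgroup.mul_normal] at hmem
  obtain ⟨a₁, ha₁, z, hz, haz⟩ := Set.mem_mul.1 hmem
  obtain ⟨i, rfl⟩ := ha₁
  have hzq : ((z : G) : G ⧸ N) = 1 := (QuotientGroup.eq_one_iff z).2 hz
  have hhq : (((h : G)) : G ⧸ N) = y ^ i := by
    rw [← haz, QuotientGroup.mk_mul, hzq, mul_one, QuotientGroup.mk_zpow, hxy]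
  have hcq : Commute ((c : G) : G ⧸ N) y := by
    rw [← hxy]
    have : ((c * x : G) : G ⧸ N) = ((x * c : G) : G ⧸ N) := by rw [hcc]
    exact this
  have hcq2 : ((c : G) : G ⧸ N) = (g : G ⧸ N)⁻¹ * y ^ i := by
    rw [hc, QuotientGroup.mk_mul, QuotientGroup.mk_inv, hhq]
  have hginv : Commute (g : G ⧸ N)⁻¹ y := by
    have h1 : (g : G ⧸ N)⁻¹ = ((c : G) : G ⧸ N) * (y ^ i)⁻¹ := by
      rw [hcq2]; group
    rw [h1]
    exact hcq.mul_left ((Commute.zpow_left (Commute.refl y) i).inv_left)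
  rw [mem_cent]
  have hfin := hginv.inv_left
  rw [inv_inv] at hfin
  exact hfin

end Cfsg.Agent.S4032
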