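import Mathlib
import Cfsg.Statements.S4027
import Cfsg.Agent.S0199
import Cfsg.Agent.S4032

set_option autoImplicit false
set_option linter.all false
open Cfsg
open scoped Pointwise

namespace Cfsg.Agent.S4027

variable {G : Type*} [Group G]

lemma inv_self {a : G} (ha : orderOf a = 2) : a⁻¹ = a := by
  have h : a ^ 2 = 1 := ha ▸ pow_orderOf_eq_one a
  rw [pow_two] at h
  exact inv_eq_of_mul_eq_one_left h

/-- Two involutions generate a `2`-group if no involution inverts a nontrivial element of
odd order. -/
lemma dihedral_two_group [Finite G]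
    (hinv : ∀ z a : G, z ≠ 1 → ¬ 2 ∣ orderOf z → orderOf a = 2 → a * z * a⁻¹ = z⁻¹ → False)
    {a b : G} (ha : orderOf a = 2) (hb : orderOf b = 2) :
    IsPGroup 2 (Subgroup.zpowers a ⊔ Subgroup.zpowers b : Subgroup G) := by
  haveI f2 : Fact (Nat.Prime 2) := ⟨Nat.prime_two⟩
  have hainv := inv_self ha
  have hbinv := inv_self hb
  set y := a * b with hy
  have hinvy : ∀ i : ℕ, a * y ^ i * a⁻¹ = (y ^ i)⁻¹ := by
    intro i
    have h1 : a * y * a⁻¹ = y⁻¹ := by
      rw [hy, mul_inv_rev, hainv, hbinv, ← mul_assoc]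
      have : a * a = 1 := by
        have h : a ^ 2 = 1 := ha ▸ pow_orderOf_eq_one a
        rwa [pow_two] at h
      rw [this, one_mul]
    rw [← conj_pow, h1, inv_pow]
  obtain ⟨s, o', ho', ho⟩ := Nat.exists_eq_pow_mul_and_not_dvd (orderOf_pos y).ne' 2 (by norm_num)
  have hz : y ^ 2 ^ s = 1 := by
    by_contra hz1
    have hoz : ¬ 2 ∣ orderOf (y ^ 2 ^ s) := by
      intro h2
      have h3 : (y ^ 2 ^ s) ^ o' = 1 := by
        rw [← pow_mul, ← ho, pow_orderOf_eq_one]
      exact ho' (h2.trans (orderOf_dvd_of_pow_eq_one h3))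
    exact hinv _ a hz1 hoz ha (hinvy _)
  have hpy : IsPGroup 2 (Subgroup.zpowers y) := by
    have h3 := orderOf_dvd_of_pow_eq_one hz
    obtain ⟨j, -, hj⟩ := (Nat.dvd_prime_pow Nat.prime_two).1 h3
    exact IsPGroup.of_card (n := j) (by rw [Nat.card_zpowers, hj])
  have hpa : IsPGroup 2 (Subgroup.zpowers a) :=
    IsPGroup.of_card (n := 1) (by rw [Nat.card_zpowers, ha]; norm_num)
  have hnorm : Subgroup.zpowers a ≤ Subgroup.normalizer ((Subgroup.zpowers y : Subgroup G) : Set G) := by
    rw [Subgroup.zpowers_le, Subgroup.mem_normalizer_iff]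
    have key : ∀ x ∈ Subgroup.zpowers y, a * x * a⁻¹ ∈ Subgroup.zpowers y := by
      rintro x ⟨k, rfl⟩
      have h1 : a * y * a⁻¹ = y⁻¹ := by simpa using hinvy 1
      simp only [← MulAut.conj_apply, map_zpow]
      rw [MulAut.conj_apply, h1]
      exact Subgroup.zpow_mem _ (Subgroup.inv_mem _ (Subgroup.mem_zpowers y)) k
    intro x
    refine ⟨key x, fun hx => ?_⟩
    have h1 := key _ hx
    have h2 : a * (a * x * a⁻¹) * a⁻¹ = x := by
      have e : a * a = 1 := by
        have h : a ^ 2 = 1 := ha ▸ pow_orderOf_eq_one a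
        rwa [pow_two] at h
      rw [hainv]
      calc a * (a * x * a) * a = (a * a) * x * (a * a) := by group
        _ = x := by rw [e]; group
    rwa [h2] at h1
  have hE := IsPGroup.to_sup_of_normal_right' hpa hpy hnorm
  apply hE.to_le
  apply sup_le le_sup_left
  rw [Subgroup.zpowers_le]
  have h1 : b = a * y := by
    have e : a * a = 1 := by
      have h : a ^ 2 = 1 := ha ▸ pow_orderOf_eq_one a
      rwa [pow_two] at h
    rw [hy, ← mul_assoc, e, one_mul]
  rw [h1]
  exact Subgroup.mul_mem _ (Subgroup.mem_sup_left (Subgroup.mem_zpowers a))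
    (Subgroup.mem_sup_right (Subgroup.mem_zpowers y))

/-- Every involution lies in a normal `2`-subgroup, by the Baer-Suzuki theorem. -/
lemma exists_normal_two_subgroup [Finite G]
    (hinv : ∀ z a : G, z ≠ 1 → ¬ 2 ∣ orderOf z → orderOf a = 2 → a * z * a⁻¹ = z⁻¹ → False)
    {a : G} (ha : orderOf a = 2) :
    ∃ N : Subgroup G, N.Normal ∧ IsPGroup 2 N ∧ a ∈ N := by
  haveI f2 : Fact (Nat.Prime 2) := ⟨Nat.prime_two⟩
  have hpa : IsPGroup 2 (Subgroup.zpowers a) :=
    IsPGroup.of_card (n := 1) (by rw [Nat.card_zpowers, ha]; norm_num)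
  obtain ⟨N, hN1, hN2, hN3⟩ := Cfsg.Agent.S0199.result (p := 2) (Subgroup.zpowers a) hpa (by
    intro g
    have h1 : (Subgroup.zpowers a).map (MulAut.conj g).toMonoidHom = Subgroup.zpowers (g * a * g⁻¹) := by
      rw [MonoidHom.map_zpowers]
      rfl
    rw [h1]
    apply dihedral_two_group hinv ha
    have := (MulAut.conj g).orderOf_eq a
    rw [MulAut.conj_apply] at this
    rw [this, ha])
  exact ⟨N, hN1, hN2, hN3 (Subgroup.mem_zpowers a)⟩

/-- Lifting normality of Sylow `2`-subgroups along a normal `2`-subgroup. -/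
lemma sylow_normal_of_quotient [Finite G] (N : Subgroup G) [N.Normal] (hN : IsPGroup 2 N)
    (hq : ∀ Q : Sylow 2 (G ⧸ N), (Q : Subgroup (G ⧸ N)).Normal) (P : Sylow 2 G) :
    (P : Subgroup G).Normal := by
  haveI f2 : Fact (Nat.Prime 2) := ⟨Nat.prime_two⟩
  have hNP : N ≤ (P : Subgroup G) := by
    have h1 := IsPGroup.to_sup_of_normal_left hN P.isPGroup'
    have h2 := P.is_maximal' h1 le_sup_right
    rw [← h2]
    exact le_sup_left
  let Q : Sylow 2 (G ⧸ N) := P.mapSurjective (QuotientGroup.mk'_surjective N)
  have hQ := hq Q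
  have hQ' : ((P : Subgroup G).map (QuotientGroup.mk' N)).Normal := hQ
  have h1 : (((P : Subgroup G).map (QuotientGroup.mk' N)).comap (QuotientGroup.mk' N)) = (P : Subgroup G) := by
    rw [Subgroup.comap_map_eq_self]
    rwa [QuotientGroup.ker_mk']
  rw [← h1]
  exact hQ'.comap _

/-- Let G be a finite group in which every element x of odd order satisfies N_G(⟨x⟩) = C_G(x). Then the Sylow 2-subgroups of G are normal. -/
theorem result {G : Type*} [Group G] [Finite G]
    (hirr : ∀ x : G, (∀ r : ℕ, r.Prime → r ∣ orderOf x → r ≠ 2) →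
      Subgroup.normalizer ((Subgroup.zpowers x : Subgroup G) : Set G) ≤ Subgroup.centralizer {x}) (P : Sylow 2 G) :
    (P : Subgroup G).Normal := by
  haveI f2 : Fact (Nat.Prime 2) := ⟨Nat.prime_two⟩
  -- strong induction on the order
  induction hn : Nat.card G using Nat.strong_induction_on generalizing G with
  | _ n ih =>
    by_cases h2 : 2 ∣ Nat.card G
    · obtain ⟨a, ha⟩ := exists_prime_orderOf_dvd_card' (G := G) 2 h2
      have hinv : ∀ z a : G, z ≠ 1 → ¬ 2 ∣ orderOf z → orderOf a = 2 → a * z * a⁻¹ = z⁻¹ → False := by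
        intro z a hz hoz ha hazi
        have h3 : ∀ r : ℕ, r.Prime → r ∣ orderOf z → r ≠ 2 := by
          rintro r hr hrz rfl
          exact hoz hrz
        have h4 : a ∈ Subgroup.normalizer ((Subgroup.zpowers z : Subgroup G) : Set G) := by
          rw [Subgroup.mem_normalizer_iff]
          have hainv := inv_self ha
          have key : ∀ x ∈ Subgroup.zpowers z, a * x * a⁻¹ ∈ Subgroup.zpowers z := by
            rintro x ⟨k, rfl⟩
            simp only [← MulAut.conj_apply, map_zpow]
            rw [MulAut.conj_apply, hazi]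
            exact Subgroup.zpow_mem _ (Subgroup.inv_mem _ (Subgroup.mem_zpowers z)) k
          intro x
          refine ⟨key x, fun hx => ?_⟩
          have h1 := key _ hx
          have h2 : a * (a * x * a⁻¹) * a⁻¹ = x := by
            have e : a * a = 1 := by
              have h : a ^ 2 = 1 := ha ▸ pow_orderOf_eq_one a
              rwa [pow_two] at h
            rw [hainv]
            calc a * (a * x * a) * a = (a * a) * x * (a * a) := by group
              _ = x := by rw [e]; group
          rwa [h2] at h1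
        have h5 := hirr z h3 h4
        have h6 : a * z = z * a := by
          have := Subgroup.mem_centralizer_iff.1 h5 z (Set.mem_singleton z)
          exact this.symm
        have h7 : a * z * a⁻¹ = z := by rw [h6]; group
        rw [h7] at hazi
        have h8 : z ^ 2 = 1 := by
          rw [pow_two]
          nth_rw 1 [hazi]
          simp
        have h9 := orderOf_dvd_of_pow_eq_one h8
        rcases (Nat.dvd_prime Nat.prime_two).1 h9 with h | h
        · exact hz (orderOf_eq_one_iff.1 h)
        · rw [h] at hoz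
          exact hoz (dvd_refl 2)
      obtain ⟨N, hNn, hN2, haN⟩ := exists_normal_two_subgroup hinv ha
      haveI := hNn
      have hN1 : N ≠ ⊥ := by
        rintro rfl
        rw [Subgroup.mem_bot] at haN
        rw [haN, orderOf_one] at ha
        omega
      have hcard : Nat.card (G ⧸ N) < n := by
        rw [← hn]
        have h3 := Subgroup.card_eq_card_quotient_mul_card_subgroup N
        have h4 : 1 < Nat.card N := by
          have h5 : Nat.card N ≠ 1 := fun h => hN1 (Subgroup.eq_bot_of_card_eq _ h)
          have h6 : 0 < Nat.card N := Nat.card_pos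
          omega
        have h7 : 0 < Nat.card (G ⧸ N) := Nat.card_pos
        nlinarith
      have hirr' := Cfsg.Agent.S4032.result {r | r ≠ 2} hirr N (by
        intro r hr hrN
        obtain ⟨k, hk⟩ := IsPGroup.iff_card.1 hN2
        rw [hk] at hrN
        have := hr.dvd_of_dvd_pow hrN
        have h5 := (Nat.prime_dvd_prime_iff_eq hr Nat.prime_two).1 this
        simpa using h5)
      have hQ := fun Q : Sylow 2 (G ⧸ N) => ih _ hcard hirr' Q rfl
      exact sylow_normal_of_quotient N hN2 hQ P
    · have h3 : Nat.card (P : Subgroup G) = 1 := by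
        obtain ⟨k, hk⟩ := IsPGroup.iff_card.1 P.isPGroup'
        have h4 : k = 0 := by
          by_contra hne
          apply h2
          calc 2 ∣ 2 ^ k := dvd_pow_self 2 hne
            _ = Nat.card (P : Subgroup G) := hk.symm
            _ ∣ Nat.card G := Subgroup.card_subgroup_dvd_card _
        rw [hk, h4, pow_zero]
      rw [Subgroup.eq_bot_of_card_eq _ h3]
      exact Subgroup.normal_bot

end Cfsg.Agent.S4027
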