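import Cfsg.Statements.S3861
import Mathlib
import Cfsg.Agent.S4027
import Cfsg.Agent.S4032
-- import your own Cfsg.Agent.* helpers here

set_option autoImplicit false
open Cfsg

namespace Cfsg.Agent.S3861

section Aux

open Cfsg.Agent.Lib.Coprime.SchurZassenhaus
open scoped Pointwise

variable {G : Type*} [Group G]

theorem real_free_quotient [Finite G] (N : Subgroup G) [N.Normal] (hN : IsPGroup 2 N)
    (hreal : ∀ x : G, x ≠ 1 → Odd (orderOf x) → ¬ IsConj x x⁻¹) :
    ∀ y : G ⧸ N, y ≠ 1 → Odd (orderOf y) → ¬ IsConj y y⁻¹ := by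
  intro y hy1 hyo hconj
  have hcop : Nat.Coprime (Nat.card N) (orderOf y) := by
    obtain ⟨k, hk⟩ := IsPGroup.iff_card.mp hN
    rw [hk]
    exact Nat.Coprime.pow_left _ (Nat.coprime_two_left.mpr hyo)
  obtain ⟨x, hxy, hxo⟩ := Cfsg.Agent.S4032.exists_lift N y hcop
  have hx1 : x ≠ 1 := by
    rintro rfl
    apply hy1
    rw [← hxy]
    rfl
  obtain ⟨gb, hgb⟩ := isConj_iff.mp hconj
  obtain ⟨g, rfl⟩ := QuotientGroup.mk_surjective gb
  apply hreal x hx1 (by rwa [hxo])
  set A : Subgroup G := Subgroup.zpowers x with hA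
  set L : Subgroup G := A ⊔ N with hL
  have hxL : x ∈ L := Subgroup.mem_sup_left (Subgroup.mem_zpowers x)
  have hAL : A ≤ L := le_sup_left
  have hNL : N ≤ L := le_sup_right
  have hcardA : Nat.card A = orderOf x := Nat.card_zpowers x
  have hgxq : ((g * x * g⁻¹ : G) : G ⧸ N) = y⁻¹ := by
    rw [← hgb, ← hxy]
    rfl
  have hgxL : g * x * g⁻¹ ∈ L := by
    have h2 : ((x⁻¹ : G) : G ⧸ N) = ((g * x * g⁻¹ : G) : G ⧸ N) := by
      rw [hgxq, QuotientGroup.mk_inv, hxy]
    have h3 : (x⁻¹)⁻¹ * (g * x * g⁻¹) ∈ N := QuotientGroup.eq.1 h2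
    have h4 : g * x * g⁻¹ = x⁻¹ * ((x⁻¹)⁻¹ * (g * x * g⁻¹)) := by group
    rw [h4]
    exact L.mul_mem (L.inv_mem hxL) (hNL h3)
  set B : Subgroup G := MulAut.conj g • A with hB
  have hBL : B ≤ L := by
    intro w hw
    rw [hB, mem_conj_smul_iff] at hw
    obtain ⟨j, hj⟩ := Subgroup.mem_zpowers_iff.1 hw
    have h1 : w = (g * x * g⁻¹) ^ j := by
      rw [conj_zpow, hj]
      group
    rw [h1]
    exact L.zpow_mem hgxL j
  have hcardB : Nat.card B = Nat.card A := card_conj_smul g A
  have hcopNA : Nat.Coprime (Nat.card N) (Nat.card A) := by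
    rw [hcardA, hxo]; exact hcop
  have hdisj : A ⊓ N = ⊥ := by
    rw [inf_comm]
    exact disjoint_of_coprime_card hcopNA
  have hcardL : Nat.card L = Nat.card N * Nat.card A := card_sup_of_disjoint N A hdisj
  have hNn : (N.subgroupOf L).Normal := inferInstance
  have hsolv : Group.IsSolvable (A.subgroupOf L) := by
    apply Group.isSolvable_of_comm
    rintro ⟨⟨a, ha⟩, ha'⟩ ⟨⟨b, hb⟩, hb'⟩
    have ha2 : a ∈ Subgroup.zpowers x := Subgroup.mem_subgroupOf.1 ha'
    have hb2 : b ∈ Subgroup.zpowers x := Subgroup.mem_subgroupOf.1 hb'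
    obtain ⟨i, rfl⟩ := ha2
    obtain ⟨j, rfl⟩ := hb2
    apply Subtype.ext
    apply Subtype.ext
    exact ((Commute.refl x).zpow_zpow i j).eq
  obtain ⟨h, hh⟩ := conj_of_card (N.subgroupOf L) (A.subgroupOf L) (B.subgroupOf L) (Or.inr hsolv)
    (by rw [card_subgroupOf_of_le hNL, card_subgroupOf_of_le hAL, hcardL])
    (by rw [card_subgroupOf_of_le hBL, card_subgroupOf_of_le hAL, hcardB])
    (by rw [card_subgroupOf_of_le hNL, card_subgroupOf_of_le hAL]; exact hcopNA)
  have hconjh : MulAut.conj (h : G) • A = B := conj_of_subgroupOf hAL hBL h hh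
  -- the element `g x g⁻¹` lies in `B`
  have hgxB : g * x * g⁻¹ ∈ B := by
    rw [hB, mem_conj_smul_iff]
    have : g⁻¹ * (g * x * g⁻¹) * g = x := by group
    rw [this]
    exact Subgroup.mem_zpowers x
  rw [← hconjh, mem_conj_smul_iff] at hgxB
  obtain ⟨j, hj⟩ := Subgroup.mem_zpowers_iff.1 hgxB
  -- `h` maps into `⟨y⟩`
  have hmem : (h : G) ∈ ((A ⊔ N : Subgroup G) : Set G) := h.2
  rw [Subgroup.mul_normal] at hmem
  obtain ⟨a₁, ha₁, z, hz, haz⟩ := Set.mem_mul.1 hmem
  obtain ⟨i, rfl⟩ := ha₁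
  have hzq : ((z : G) : G ⧸ N) = 1 := (QuotientGroup.eq_one_iff z).2 hz
  have hhq : (((h : G)) : G ⧸ N) = y ^ i := by
    rw [← haz, QuotientGroup.mk_mul, hzq, mul_one, QuotientGroup.mk_zpow, hxy]
  -- the image of `x ^ j`
  have hjq : ((x ^ j : G) : G ⧸ N) = y⁻¹ := by
    rw [hj]
    have e : (((h : G)⁻¹ * (g * x * g⁻¹) * (h : G) : G) : G ⧸ N)
        = ((h : G) : G ⧸ N)⁻¹ * ((g * x * g⁻¹ : G) : G ⧸ N) * ((h : G) : G ⧸ N) := rfl
    rw [e, hgxq, hhq]
    have hc : Commute (y ^ i) y⁻¹ := ((Commute.refl y).zpow_left i).inv_right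
    rw [mul_assoc, ← hc.eq]
    group
  have hjx : x ^ j * x ∈ N := by
    rw [← QuotientGroup.eq_one_iff, QuotientGroup.mk_mul, hjq, hxy]
    group
  have hjA : x ^ j * x ∈ A := A.mul_mem (Subgroup.zpow_mem _ (Subgroup.mem_zpowers x) j) (Subgroup.mem_zpowers x)
  have hj1 : x ^ j * x = 1 := by
    have : x ^ j * x ∈ A ⊓ N := ⟨hjA, hjx⟩
    rw [hdisj] at this
    exact this
  have hjinv : x ^ j = x⁻¹ := eq_inv_of_mul_eq_one_left hj1
  rw [hjinv] at hj
  refine isConj_iff.mpr ⟨(h : G)⁻¹ * g, ?_⟩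
  rw [hj]
  group

end Aux

/-- A finite group G has no non-identity element of odd order that is conjugate to its inverse if and only if the Sylow 2-subgroups of G are normal. -/
theorem result {G : Type*} [Group G] [Finite G] (P : Sylow 2 G) : (∀ x : G, x ≠ 1 → Odd (orderOf x) → ¬ IsConj x x⁻¹) ↔ (P : Subgroup G).Normal := by
  have f2 : Fact (Nat.Prime 2) := ⟨Nat.prime_two⟩
  constructor
  · intro hreal
    -- strong induction on the order
    induction hn : Nat.card G using Nat.strong_induction_on generalizing G with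
    | _ n ih =>
      by_cases h2 : 2 ∣ Nat.card G
      · obtain ⟨a, ha⟩ := exists_prime_orderOf_dvd_card' (G := G) 2 h2
        have hinv : ∀ z a : G, z ≠ 1 → ¬ 2 ∣ orderOf z → orderOf a = 2 → a * z * a⁻¹ = z⁻¹ → False := by
          intro z a hz hoz _ hazi
          apply hreal z hz (Nat.odd_iff.mpr (Nat.two_dvd_ne_zero.mp hoz))
          exact isConj_iff.mpr ⟨a, hazi⟩
        obtain ⟨N, hNn, hN2, haN⟩ := Cfsg.Agent.S4027.exists_normal_two_subgroup hinv ha
        have := hNn
        have hN1 : N ≠ ⊥ := by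
          rintro rfl
          rw [Subgroup.mem_bot] at haN
          rw [haN, orderOf_one] at ha
          omega
        have hcard : Nat.card (G ⧸ N) < n := by
          rw [← hn]
          have h3 := Subgroup.card_eq_card_quotient_mul_card_subgroup N
          have h4 : 1 < Nat.card N := by
            have h5 : Nat.card N ≠ 1 := fun h => hN1 (Subgroup.eq_bot_of_card_eq _ h)
            have h6 : 0 < Nat.card N := Nat.card_pos
            omega
          have h7 : 0 < Nat.card (G ⧸ N) := Nat.card_pos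
          nlinarith
        have hreal' := real_free_quotient N hN2 hreal
        have hQ := fun Q : Sylow 2 (G ⧸ N) => ih _ hcard Q hreal' rfl
        exact Cfsg.Agent.S4027.sylow_normal_of_quotient N hN2 hQ P
      · have h3 : Nat.card (P : Subgroup G) = 1 := by
          obtain ⟨k, hk⟩ := IsPGroup.iff_card.1 P.isPGroup'
          have h4 : k = 0 := by
            by_contra hne
            apply h2
            calc 2 ∣ 2 ^ k := dvd_pow_self 2 hne
              _ = Nat.card (P : Subgroup G) := hk.symm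
              _ ∣ Nat.card G := Subgroup.card_subgroup_dvd_card _
          rw [hk, h4, pow_zero]
        rw [Subgroup.eq_bot_of_card_eq _ h3]
        exact Subgroup.normal_bot
  · intro hP x hx1 hxo hconj
    obtain ⟨g, hg⟩ := isConj_iff.mp hconj
    have hodd : Odd (Nat.card (G ⧸ (P : Subgroup G))) := by
      rw [Nat.odd_iff, ← Nat.two_dvd_ne_zero, ← Subgroup.index_eq_card]
      exact P.not_dvd_index
    obtain ⟨m, hm⟩ := hodd
    set gb : G ⧸ (P : Subgroup G) := (g : G ⧸ (P : Subgroup G)) with hgb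
    set y : G ⧸ (P : Subgroup G) := (x : G ⧸ (P : Subgroup G)) with hy
    have h1 : gb * y * gb⁻¹ = y⁻¹ := by
      have : ((g * x * g⁻¹ : G) : G ⧸ (P : Subgroup G)) = ((x⁻¹ : G) : G ⧸ (P : Subgroup G)) := by rw [hg]
      exact this
    have hc2 : Commute (gb ^ 2) y := by
      have e : gb ^ 2 * y = y * gb ^ 2 := by
        have h2 : gb * y = y⁻¹ * gb := by
          rw [← h1]
          group
        have h3 : gb * y⁻¹ = y * gb := by
          have h4 : gb * y⁻¹ * gb⁻¹ = y := by
            have := congrArg (fun z => z⁻¹) h1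
            simpa [mul_assoc] using this
          calc gb * y⁻¹ = (gb * y⁻¹ * gb⁻¹) * gb := by group
            _ = y * gb := by rw [h4]
        calc gb ^ 2 * y = gb * (gb * y) := by rw [sq, mul_assoc]
          _ = gb * (y⁻¹ * gb) := by rw [h2]
          _ = (gb * y⁻¹) * gb := by rw [mul_assoc]
          _ = (y * gb) * gb := by rw [h3]
          _ = y * gb ^ 2 := by rw [sq, mul_assoc]
      exact e
    have hpow : gb ^ (2 * m + 1) = 1 := by
      rw [← hm]
      exact pow_card_eq_one'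
    have hgc : gb = (gb ^ 2 ^ 1) ^ 0 * ((gb ^ 2) ^ m)⁻¹ := by
      have : gb * (gb ^ 2) ^ m = 1 := by
        rw [← pow_mul, ← pow_succ', ← hpow]
      simpa using eq_inv_of_mul_eq_one_left this
    have hcomm : Commute gb y := by
      have h5 : Commute ((gb ^ 2) ^ m)⁻¹ y := (hc2.pow_left m).inv_left
      rw [hgc]
      simpa using h5
    have h6 : y = y⁻¹ := by
      rw [← h1, hcomm.eq]
      group
    have h7 : y ^ 2 = 1 := by
      rw [sq]
      nth_rw 1 [h6]
      simp
    have h8 : orderOf y ∣ orderOf x := orderOf_map_dvd (QuotientGroup.mk' (P : Subgroup G)) x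
    have h9 : orderOf y ∣ 2 := orderOf_dvd_of_pow_eq_one h7
    have h10 : orderOf y = 1 := by
      rcases (Nat.dvd_prime Nat.prime_two).mp h9 with h | h
      · exact h
      · exfalso
        rw [h] at h8
        exact (Nat.not_even_iff_odd.mpr hxo) (even_iff_two_dvd.mpr h8)
    have h11 : x ∈ (P : Subgroup G) := by
      rw [← QuotientGroup.eq_one_iff]
      exact orderOf_eq_one_iff.mp h10
    obtain ⟨k, hk⟩ := P.2 ⟨x, h11⟩
    have hk' : x ^ 2 ^ k = 1 := congrArg Subtype.val hk
    have h12 : orderOf x ∣ 2 ^ k := orderOf_dvd_of_pow_eq_one hk'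
    have h13 : Nat.Coprime (orderOf x) (2 ^ k) :=
      Nat.Coprime.pow_right _ (Nat.coprime_two_right.mpr hxo)
    have h14 : orderOf x = 1 := Nat.Coprime.eq_one_of_dvd h13 h12
    exact hx1 (orderOf_eq_one_iff.mp h14)

end Cfsg.Agent.S3861
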