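import Cfsg.Statements.S3863
import Mathlib

set_option autoImplicit false
open Cfsg

namespace Cfsg.Agent.S3863

theorem conj_pow_aux {G : Type*} [Group G] (g x : G) (h : g * x * g⁻¹ = x⁻¹) (n : ℕ) :
    g ^ n * x * (g ^ n)⁻¹ = if Even n then x else x⁻¹ := by
  have h' : g * x⁻¹ * g⁻¹ = x := by
    have : g * x⁻¹ * g⁻¹ = (g * x * g⁻¹)⁻¹ := by group
    rw [this, h, inv_inv]
  induction n with
  | zero => simp
  | succ n ih =>
    have : g ^ (n + 1) * x * (g ^ (n + 1))⁻¹ = g * (g ^ n * x * (g ^ n)⁻¹) * g⁻¹ := by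
      rw [pow_succ']; group
    rw [this, ih]
    by_cases hn : Even n
    · have hn' : ¬ Even (n + 1) := by simpa [Nat.even_add_one] using hn
      simp [hn, hn', h]
    · have hn' : Even (n + 1) := by
        rw [Nat.even_add_one]; exact hn
      simp [hn, hn', h']

/-- Let x be an element of the finite group G that is conjugate to its inverse. Then some 2-element conjugates x to its inverse; if the conjugacy class of x has odd size then x ^ 2 = 1; and x lies in, and is conjugate to its inverse inside, every normal subgroup of odd index. -/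
theorem result {G : Type*} [Group G] [Finite G] (x : G) (hx : IsConj x x⁻¹) : (∃ t : G, (∃ j : ℕ, orderOf t = 2 ^ j) ∧ t * x * t⁻¹ = x⁻¹) ∧ (Odd (Subgroup.centralizer ({x} : Set G)).index → x ^ 2 = 1) ∧ ∀ (N : Subgroup G) [N.Normal], Odd N.index → ∃ hxN : x ∈ N, IsConj (⟨x, hxN⟩ : N) (⟨x, hxN⟩ : N)⁻¹ := by
  obtain ⟨g, hg⟩ := isConj_iff.mp hx
  have hpart : ∃ t : G, (∃ j : ℕ, orderOf t = 2 ^ j) ∧ t * x * t⁻¹ = x⁻¹ := by
    have hne : orderOf g ≠ 0 := (orderOf_pos g).ne'
    obtain ⟨k, m, hm, hkm⟩ := Nat.exists_eq_two_pow_mul_odd hne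
    refine ⟨g ^ m, ⟨k, ?_⟩, ?_⟩
    · have hmne : m ≠ 0 := by rintro rfl; simp at hm
      rw [orderOf_pow_of_dvd hmne (by rw [hkm]; exact Dvd.intro_left _ rfl), hkm]
      exact Nat.mul_div_cancel _ (Nat.pos_of_ne_zero hmne)
    · rw [conj_pow_aux g x hg m, if_neg (by simpa using hm)]
  refine ⟨hpart, ?_, ?_⟩
  · intro hodd
    by_contra hne
    set C := Subgroup.centralizer ({x} : Set G) with hC
    have hgC : g ∉ C := by
      intro hgC
      rw [hC, Subgroup.mem_centralizer_singleton_iff] at hgC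
      apply hne
      have : g * x * g⁻¹ = x := by rw [hgC]; group
      rw [hg] at this
      rw [pow_two]
      nth_rewrite 1 [← this]
      simp
    have hg2 : g ^ 2 ∈ C := by
      rw [hC, Subgroup.mem_centralizer_singleton_iff]
      have h2 := conj_pow_aux g x hg 2
      rw [if_pos (by decide)] at h2
      rw [mul_inv_eq_iff_eq_mul] at h2
      exact h2
    have hg' : g⁻¹ * x * g = x⁻¹ := by
      have : x = g⁻¹ * x⁻¹ * g := by rw [← hg]; group
      calc g⁻¹ * x * g = (g⁻¹ * x⁻¹ * g)⁻¹ := by group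
        _ = x⁻¹ := by rw [← this]
    have hmem : ∀ y : G, y ∈ C ↔ y * x = x * y := by
      intro y
      rw [hC, Subgroup.mem_centralizer_singleton_iff]
    have hgN : g ∈ Subgroup.normalizer (C : Set G) := by
      rw [Subgroup.mem_normalizer_iff]
      intro y
      rw [hmem, hmem]
      have key : (g * y * g⁻¹) * x = x * (g * y * g⁻¹) ↔ y * x⁻¹ = x⁻¹ * y := by
        constructor
        · intro h
          have h3 : g⁻¹ * ((g * y * g⁻¹) * x) * g = g⁻¹ * (x * (g * y * g⁻¹)) * g := by rw [h]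
          have h4 : g⁻¹ * ((g * y * g⁻¹) * x) * g = y * (g⁻¹ * x * g) := by group
          have h5 : g⁻¹ * (x * (g * y * g⁻¹)) * g = (g⁻¹ * x * g) * y := by group
          rw [h4, h5, hg'] at h3
          exact h3
        · intro h
          have h3 : g * (y * (g⁻¹ * x * g)) * g⁻¹ = g * ((g⁻¹ * x * g) * y) * g⁻¹ := by
            rw [hg', h]
          have h4 : g * (y * (g⁻¹ * x * g)) * g⁻¹ = (g * y * g⁻¹) * x := by group
          have h5 : g * ((g⁻¹ * x * g) * y) * g⁻¹ = x * (g * y * g⁻¹) := by group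
          rw [h4, h5] at h3
          exact h3
      rw [key]
      exact (Commute.inv_right_iff (a := y) (b := x)).symm
    set N := Subgroup.normalizer (C : Set G) with hN
    have hCN : C ≤ N := Subgroup.le_normalizer
    have : (C.subgroupOf N).Normal := Subgroup.normal_in_normalizer
    let gb : N ⧸ C.subgroupOf N := QuotientGroup.mk ⟨g, hgN⟩
    have hgb2 : gb ^ 2 = 1 := by
      change ((QuotientGroup.mk (⟨g, hgN⟩ ^ 2 : N)) : N ⧸ C.subgroupOf N) = 1
      rw [QuotientGroup.eq_one_iff, Subgroup.mem_subgroupOf]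
      simpa using hg2
    have hgb1 : gb ≠ 1 := by
      intro h
      have h3 : (⟨g, hgN⟩ : N) ∈ C.subgroupOf N := (QuotientGroup.eq_one_iff _).mp h
      rw [Subgroup.mem_subgroupOf] at h3
      exact hgC h3
    have hord : orderOf gb = 2 := by
      have : Fact (Nat.Prime 2) := ⟨Nat.prime_two⟩
      exact orderOf_eq_prime hgb2 hgb1
    have h2 : 2 ∣ Nat.card (N ⧸ C.subgroupOf N) := hord ▸ orderOf_dvd_natCard gb
    have h3 : C.relIndex N * N.index = C.index := Subgroup.relIndex_mul_index hCN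
    have h4 : 2 ∣ C.index := by
      rw [← h3]
      exact Dvd.dvd.mul_right h2 _
    rw [← Nat.not_even_iff_odd, even_iff_two_dvd] at hodd
    exact hodd h4
  · intro N _ hodd
    obtain ⟨t, ⟨j, hj⟩, ht⟩ := hpart
    have hcard : Odd (Nat.card (G ⧸ N)) := hodd
    have hodd' : ∀ y : G ⧸ N, y ^ 2 = 1 → y = 1 := by
      intro y hy
      have h1 : orderOf y ∣ 2 := orderOf_dvd_of_pow_eq_one hy
      have h2 : orderOf y ∣ Nat.card (G ⧸ N) := orderOf_dvd_natCard y
      have h3 : Nat.Coprime 2 (Nat.card (G ⧸ N)) := by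
        exact (Nat.coprime_two_left).mpr hcard
      have h4 : orderOf y = 1 := Nat.eq_one_of_dvd_coprimes h3 h1 h2
      exact orderOf_eq_one_iff.mp h4
    have ht1 : (t : G ⧸ N) = 1 := by
      have h1 : orderOf (t : G ⧸ N) ∣ 2 ^ j := by
        rw [← hj]
        exact orderOf_map_dvd (QuotientGroup.mk' N) t
      have h2 : orderOf (t : G ⧸ N) ∣ Nat.card (G ⧸ N) := orderOf_dvd_natCard _
      have h3 : Nat.Coprime (2 ^ j) (Nat.card (G ⧸ N)) :=
        Nat.Coprime.pow_left _ ((Nat.coprime_two_left).mpr hcard)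
      have h4 : orderOf (t : G ⧸ N) = 1 := Nat.eq_one_of_dvd_coprimes h3 h1 h2
      exact orderOf_eq_one_iff.mp h4
    have htN : t ∈ N := (QuotientGroup.eq_one_iff _).mp ht1
    have hxb : (x : G ⧸ N) ^ 2 = 1 := by
      have h1 := congrArg (QuotientGroup.mk' N) ht
      simp only [map_mul, map_inv, QuotientGroup.mk'_apply, ht1, one_mul, inv_one, mul_one] at h1
      rw [pow_two]
      nth_rewrite 1 [h1]
      simp
    have hxN : x ∈ N := (QuotientGroup.eq_one_iff _).mp (hodd' _ hxb)
    refine ⟨hxN, isConj_iff.mpr ⟨⟨t, htN⟩, ?_⟩⟩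
    apply Subtype.ext
    simpa using ht

end Cfsg.Agent.S3863
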