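import Cfsg.Statements.S3779
import Cfsg.Agent.Lib.HigmanLie.Eigen
import Cfsg.Agent.S0033

set_option autoImplicit false
open Cfsg

namespace Cfsg.Agent.S3779

/-- Let G be a finite group with an automorphism of prime order p fixing only the identity. Then G is nilpotent; if p = 2 then G is abelian, if p = 3 then G has class at most 2, and in general the class of G is at most ξ = 1 + (p−1) + (p−1)² + ⋯ + (p−1)^(n−1) with n = 2^(p−1) − 1 (the Higman–Kreknin–Kostrikin bound). -/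
theorem result {G : Type*} [Group G] [Finite G] {p : ℕ} (hp : p.Prime) (α : MulAut G) (hα : orderOf α = p) (hfpf : ∀ g : G, α g = g → g = 1) : (p = 2 → (⊤ : Subgroup G).lowerCentralSeries 1 = ⊥) ∧ (p = 3 → (⊤ : Subgroup G).lowerCentralSeries 2 = ⊥) ∧ (⊤ : Subgroup G).lowerCentralSeries (Finset.sum (Finset.range (2 ^ (p - 1) - 1)) (fun i => (p - 1) ^ i)) = ⊥ := by
  haveI : Fact p.Prime := ⟨hp⟩
  have hnil : Group.IsNilpotent G := Cfsg.Agent.S0033.result α hfpf p hp hα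
  have hpow : α ^ p = 1 := hα ▸ pow_orderOf_eq_one α
  have hcop : Nat.Coprime (Nat.card G) p := by
    have hH : IsPGroup p (Subgroup.zpowers α) :=
      IsPGroup.of_card (n := 1) (by rw [Nat.card_zpowers, hα, pow_one])
    have hmod := hH.card_modEq_card_fixedPoints G
    have hfix : Nat.card (MulAction.fixedPoints (Subgroup.zpowers α) G) = 1 := by
      rw [Nat.card_eq_one_iff_unique]
      refine ⟨⟨?_⟩, ⟨⟨1, ?_⟩⟩⟩
      · rintro ⟨x, hx⟩ ⟨y, hy⟩
        have h1 : x = 1 := hfpf x (hx ⟨α, Subgroup.mem_zpowers α⟩)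
        have h2 : y = 1 := hfpf y (hy ⟨α, Subgroup.mem_zpowers α⟩)
        exact Subtype.ext (h1.trans h2.symm)
      · rintro ⟨h, _⟩
        exact map_one _
    rw [hfix] at hmod
    have := hmod.gcd_eq
    simpa [Nat.Coprime] using this
  have h3 := Cfsg.Agent.Lib.HigmanLie.Eigen.lcsL_eq_bot (p := p)
    (Cfsg.Agent.Lib.HigmanLie.AssocLie.αL α) (Cfsg.Agent.Lib.HigmanLie.AssocLie.αL_lie α)
    (Cfsg.Agent.Lib.HigmanLie.AssocLie.αL_fix α hfpf)
    (Cfsg.Agent.Lib.HigmanLie.AssocLie.αL_iterate α hpow) (Nat.card G)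
    Cfsg.Agent.Lib.HigmanLie.AssocLie.card_smul_LL hcop
  have h4 := Cfsg.Agent.Lib.HigmanLie.AssocLie.lcs_eq_bot_of_lcsL hnil h3
  refine ⟨?_, ?_, h4⟩
  · intro h2
    subst h2
    simpa using h4
  · intro h32
    have h5 := Cfsg.Agent.Lib.HigmanLie.Eigen.lcsL_two_eq_bot (p := p) h32
      (Cfsg.Agent.Lib.HigmanLie.AssocLie.αL α) (Cfsg.Agent.Lib.HigmanLie.AssocLie.αL_lie α)
      (Cfsg.Agent.Lib.HigmanLie.AssocLie.αL_fix α hfpf)
      (Cfsg.Agent.Lib.HigmanLie.AssocLie.αL_iterate α hpow) (Nat.card G)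
      Cfsg.Agent.Lib.HigmanLie.AssocLie.card_smul_LL hcop
    exact Cfsg.Agent.Lib.HigmanLie.AssocLie.lcs_eq_bot_of_lcsL hnil h5

end Cfsg.Agent.S3779
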