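import Cfsg.Statements.S1483
import Cfsg.Agent.Lib.OddLocal.CNMinSimple
-- import your own Cfsg.Agent.* helpers here

set_option autoImplicit false
open Cfsg

namespace Cfsg.Agent.S1483

open Cfsg.Agent.Lib.OddLocal.CNMinSimple

/-- A Hall subgroup contains a Sylow subgroup for each prime dividing its order. -/
theorem exists_sylow_le {G : Type*} [Group G] [Finite G] {r : ℕ} [hr : Fact r.Prime] {H : Subgroup G}
    (hcop : (Nat.card H).Coprime H.index) (hd : r ∣ Nat.card H) :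
    ∃ P : Sylow r G, (P : Subgroup G) ≤ H := by
  classical
  obtain ⟨Q⟩ := (inferInstance : Nonempty (Sylow r H))
  obtain ⟨P, hP⟩ := (Q.isPGroup'.map H.subtype).exists_le_sylow
  refine ⟨P, ?_⟩
  have hri : ¬ r ∣ H.index := by
    intro h
    have := Nat.dvd_gcd hd h
    rw [hcop] at this
    exact hr.out.one_lt.ne' (Nat.dvd_one.1 this)
  have hcard : Nat.card P = Nat.card (((Q : Subgroup H).map H.subtype : Subgroup G)) := by
    rw [Subgroup.card_map_of_injective H.subtype_injective, Sylow.card_eq_multiplicity,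
      Sylow.card_eq_multiplicity]
    congr 1
    rw [← Subgroup.card_mul_index H, Nat.factorization_mul Nat.card_pos.ne' (Subgroup.index_ne_zero_of_finite)]
    simp [Nat.factorization_eq_zero_of_not_dvd hri]
  have h1 := Subgroup.eq_of_le_of_card_ge hP hcard.le
  rw [← h1]
  exact Subgroup.map_subtype_le _

/-- Two maximal nilpotent subgroups are conjugate or have coprime orders. -/
theorem conj_or_coprime {G : Type*} [Group G] [Finite G] (hG : Cfsg.IsMinSimpleOddOrder G)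
    (hCN : Cfsg.IsCNGroup G) {H₁ H₂ : Subgroup G} (h₁ : MaxNil H₁) (h₂ : MaxNil H₂) :
    (∃ g : G, H₂ = H₁.map (MulAut.conj g).toMonoidHom) ∨ (Nat.card H₁).Coprime (Nat.card H₂) := by
  classical
  by_cases hc : (Nat.card H₁).Coprime (Nat.card H₂)
  · exact Or.inr hc
  left
  obtain ⟨r, hr, hr₁, hr₂⟩ := Nat.Prime.not_coprime_iff_dvd.1 hc
  haveI : Fact r.Prime := ⟨hr⟩
  obtain ⟨P₁, hP₁⟩ := exists_sylow_le (Cfsg.Agent.S1477.result hCN H₁ h₁.nil h₁.max).1 hr₁
  obtain ⟨P₂, hP₂⟩ := exists_sylow_le (Cfsg.Agent.S1477.result hCN H₂ h₂.nil h₂.max).1 hr₂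
  obtain ⟨g, hg⟩ := MulAction.exists_smul_eq G P₁ P₂
  refine ⟨g, (eq_of_inf_ne_bot hG hCN (h₁.conj g) h₂ ?_).symm⟩
  have hle : (P₂ : Subgroup G) ≤ H₁.map (MulAut.conj g).toMonoidHom ⊓ H₂ := by
    refine le_inf ?_ hP₂
    rw [← hg, Sylow.coe_subgroup_smul]
    rintro _ ⟨x, hx, rfl⟩
    exact ⟨x, hP₁ hx, rfl⟩
  intro hb
  rw [hb, le_bot_iff] at hle
  have hd : r ∣ Nat.card G := hr₂.trans (Subgroup.card_subgroup_dvd_card H₂)
  exact P₂.ne_bot_of_dvd_card hd hle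


/-- Let G be a minimal simple group of odd order in which every non-identity element has nilpotent centralizer. Then any two nilpotent subgroups each contained in no larger nilpotent subgroup are either conjugate or of coprime orders; and for primes p, q, r: if some elements x, y ≠ 1 of p-power and q-power order commute, and some elements y', z ≠ 1 of q-power and r-power order commute, then some elements of p-power and r-power order, both ≠ 1, commute. -/
theorem result {G : Type*} [Group G] [Finite G] (hG : Cfsg.IsMinSimpleOddOrder G) (hCN : Cfsg.IsCNGroup G) :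
    (∀ H₁ H₂ : Subgroup G, (Group.IsNilpotent ↥H₁ ∧ ∀ L : Subgroup G, Group.IsNilpotent L → H₁ ≤ L → L = H₁) → (Group.IsNilpotent ↥H₂ ∧ ∀ L : Subgroup G, Group.IsNilpotent L → H₂ ≤ L → L = H₂) → (∃ g : G, H₂ = H₁.map (MulAut.conj g).toMonoidHom) ∨ (Nat.card H₁).Coprime (Nat.card H₂)) ∧
      ∀ (p q r : ℕ), p.Prime → q.Prime → r.Prime → ∀ (x y y' z : G), x ≠ 1 → y ≠ 1 → y' ≠ 1 → z ≠ 1 →
        IsPGroup p (Subgroup.zpowers x) → IsPGroup q (Subgroup.zpowers y) → IsPGroup q (Subgroup.zpowers y') → IsPGroup r (Subgroup.zpowers z) →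
        x * y = y * x → y' * z = z * y' →
        ∃ x' z' : G, x' ≠ 1 ∧ z' ≠ 1 ∧ IsPGroup p (Subgroup.zpowers x') ∧ IsPGroup r (Subgroup.zpowers z') ∧ x' * z' = z' * x' := by
  classical
  refine ⟨fun H₁ H₂ h₁ h₂ => conj_or_coprime hG hCN ⟨h₁.1, h₁.2⟩ ⟨h₂.1, h₂.2⟩, ?_⟩
  intro p q r hp hq hr x y y' z hx hy hy' hz hxp hyq hy'q hzr hxy hy'z
  haveI : Fact p.Prime := ⟨hp⟩
  haveI : Fact q.Prime := ⟨hq⟩
  haveI : Fact r.Prime := ⟨hr⟩
  by_cases hpr : p = r
  · subst hpr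
    exact ⟨z, z, hz, hz, hzr, hzr, rfl⟩
  obtain ⟨H₁, hle₁, hH₁⟩ := exists_maxNil (hCN y hy)
  obtain ⟨H₂, hle₂, hH₂⟩ := exists_maxNil (hCN y' hy')
  have hmem : ∀ {u v : G}, u * v = v * u → u ∈ Subgroup.centralizer ({v} : Set G) := fun h =>
    Subgroup.mem_centralizer_singleton_iff.2 h
  have hxH₁ : x ∈ H₁ := hle₁ (hmem hxy)
  have hyH₁ : y ∈ H₁ := hle₁ (hmem rfl)
  have hy'H₂ : y' ∈ H₂ := hle₂ (hmem rfl)
  have hzH₂ : z ∈ H₂ := hle₂ (hmem hy'z.symm)
  have hdvd : ∀ {u : G} {H : Subgroup G}, u ≠ 1 → u ∈ H → IsPGroup q (Subgroup.zpowers u) →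
      q ∣ Nat.card H := by
    intro u H hu huH hup
    have h1 : orderOf u ∣ Nat.card H := Subgroup.orderOf_dvd_natCard H huH
    obtain ⟨n, hn⟩ := IsPGroup.iff_card.1 hup
    rw [Nat.card_zpowers] at hn
    have hn0 : n ≠ 0 := by
      rintro rfl
      rw [pow_zero] at hn
      exact hu (orderOf_eq_one_iff.1 hn)
    exact (dvd_trans (dvd_pow_self q hn0) (hn ▸ dvd_rfl)).trans h1
  have hnc : ¬ (Nat.card H₁).Coprime (Nat.card H₂) := by
    intro hc
    have h1 := Nat.dvd_gcd (hdvd hy hyH₁ hyq) (hdvd hy' hy'H₂ hy'q)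
    rw [hc] at h1
    exact hq.one_lt.ne' (Nat.dvd_one.1 h1)
  obtain ⟨g, hg⟩ := (conj_or_coprime hG hCN hH₁ hH₂).resolve_right hnc
  have hxg : g * x * g⁻¹ ∈ H₂ := by
    rw [hg]
    exact ⟨x, hxH₁, rfl⟩
  obtain ⟨k, hk⟩ := hxp ⟨x, Subgroup.mem_zpowers x⟩
  have hk' : x ^ p ^ k = 1 := by simpa using congrArg Subtype.val hk
  have hk'' : (g * x * g⁻¹) ^ p ^ k = 1 := by
    rw [conj_pow, hk']
    simp
  refine ⟨g * x * g⁻¹, z, ?_, hz, Cfsg.Agent.Lib.OddLocal.CNQuot.isPGroup_zpowers_iff hk'', hzr, ?_⟩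
  · intro h
    apply hx
    have : x = g⁻¹ * (g * x * g⁻¹) * g := by group
    rw [this, h]
    group
  · have h1 : (orderOf (g * x * g⁻¹)).Coprime (orderOf z) := by
      obtain ⟨i, hi⟩ := Cfsg.Agent.Lib.OddLocal.ThreeStep.exists_orderOf_eq hk''
      obtain ⟨j, hj⟩ := IsPGroup.iff_card.1 hzr
      rw [Nat.card_zpowers] at hj
      rw [hi, hj]
      exact Nat.Coprime.pow _ _ ((Nat.coprime_primes hp hr).2 hpr)
    exact (Cfsg.Agent.Lib.OddLocal.CN.commute_of_coprime' hH₂.nil hxg hzH₂ h1).eq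

end Cfsg.Agent.S1483
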