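import Cfsg.Statements.S1484
import Cfsg.Agent.Lib.OddLocal.CNMinSimple
import Cfsg.Agent.S1483
-- import your own Cfsg.Agent.* helpers here

set_option autoImplicit false
open Cfsg

namespace Cfsg.Agent.S1484

open Cfsg.Agent.Lib.OddLocal.CNMinSimple


/-- Let G be a minimal simple group of odd order in which every non-identity element has nilpotent centralizer, and M₁, …, M_k maximal subgroups, pairwise non-conjugate, such that every maximal subgroup is conjugate to some M_i. Let H_i be the largest normal nilpotent Hall subgroup of M_i. Then the orders of the H_i are pairwise coprime, their product is the order of G, and every element of G is conjugate to an element of some H_i. -/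
theorem result {G : Type*} [Group G] [Finite G] (hG : Cfsg.IsMinSimpleOddOrder G) (hCN : Cfsg.IsCNGroup G) (k : ℕ) (Mrep : Fin k → Subgroup G) (hmax : ∀ i, IsCoatom (Mrep i))
    (hnc : ∀ i j, i ≠ j → ∀ g : G, Mrep j ≠ (Mrep i).map (MulAut.conj g).toMonoidHom) (hall : ∀ M : Subgroup G, IsCoatom M → ∃ i, ∃ g : G, M = (Mrep i).map (MulAut.conj g).toMonoidHom) :
    (∀ i j, i ≠ j → (Nat.card (Cfsg.fittingHallOf (Mrep i))).Coprime (Nat.card (Cfsg.fittingHallOf (Mrep j)))) ∧
      ∏ i, Nat.card (Cfsg.fittingHallOf (Mrep i)) = Nat.card G ∧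
      ∀ x : G, ∃ i, ∃ g : G, g * x * g⁻¹ ∈ Cfsg.fittingHallOf (Mrep i) := by
  classical
  haveI := simple_nontrivial hG
  -- the subgroups `H i`
  have hstr : ∀ i, MaxNil (Cfsg.fittingHallOf (Mrep i)) ∧
      Mrep i = Subgroup.normalizer (Cfsg.fittingHallOf (Mrep i) : Set G) := fun i => by
    obtain ⟨-, -, -, -, -, -, h1, h2⟩ := coatom_struct hG hCN (hmax i)
    exact ⟨h1, h2⟩
  have hnormconj : ∀ i (g : G), Subgroup.normalizer (((Cfsg.fittingHallOf (Mrep i)).map
      (MulAut.conj g).toMonoidHom : Subgroup G) : Set G) = (Mrep i).map (MulAut.conj g).toMonoidHom := by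
    intro i g
    rw [← Subgroup.map_equiv_normalizer_eq, ← (hstr i).2]
  -- every maximal nilpotent subgroup is conjugate to some `H i`
  have hconjH : ∀ H : Subgroup G, MaxNil H → ∃ i, ∃ g : G,
      H = (Cfsg.fittingHallOf (Mrep i)).map (MulAut.conj g).toMonoidHom := by
    intro H hH
    obtain ⟨hM, -⟩ := maxNil_struct hG hCN hH
    obtain ⟨i, g, hg⟩ := hall _ hM
    refine ⟨i, g, ?_⟩
    -- the conjugate of `H i` is normal in `N(H)`, so it equals `H`
    have h1 := (hstr i).1.conj g
    have hnorm : Subgroup.normalizer (((Cfsg.fittingHallOf (Mrep i)).map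
        (MulAut.conj g).toMonoidHom : Subgroup G) : Set G) = Subgroup.normalizer (H : Set G) := by
      rw [hg]
      exact hnormconj i g
    have hH_le : H ≤ Subgroup.normalizer (((Cfsg.fittingHallOf (Mrep i)).map
        (MulAut.conj g).toMonoidHom : Subgroup G) : Set G) := by
      rw [hnorm]
      exact Subgroup.le_normalizer
    -- if they are different, they generate a larger nilpotent normal subgroup of `N(H)`
    by_contra hne
    have hinf : H ⊓ (Cfsg.fittingHallOf (Mrep i)).map (MulAut.conj g).toMonoidHom = ⊥ := by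
      by_contra hne2
      exact hne (eq_of_inf_ne_bot hG hCN hH h1 hne2)
    -- elements commute
    set X := (Cfsg.fittingHallOf (Mrep i)).map (MulAut.conj g).toMonoidHom with hX
    have hX_le : X ≤ Subgroup.normalizer (H : Set G) := by
      rw [← hnorm]
      exact Subgroup.le_normalizer
    obtain ⟨h, hh, hh1⟩ := (Subgroup.bot_or_exists_ne_one H).resolve_left hH.ne_bot
    obtain ⟨t, ht, ht1⟩ := (Subgroup.bot_or_exists_ne_one X).resolve_left h1.ne_bot
    have h5 : h * t * h⁻¹ * t⁻¹ ∈ H ⊓ X := by
      refine ⟨?_, ?_⟩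
      · have h6 : t * h⁻¹ * t⁻¹ ∈ H := (Subgroup.mem_normalizer_iff.1 (hX_le ht) h⁻¹).1 (H.inv_mem hh)
        have e : h * t * h⁻¹ * t⁻¹ = h * (t * h⁻¹ * t⁻¹) := by group
        rw [e]
        exact H.mul_mem hh h6
      · have h6 : h * t * h⁻¹ ∈ X := (Subgroup.mem_normalizer_iff.1 (hH_le hh) t).1 ht
        exact X.mul_mem h6 (X.inv_mem ht)
    rw [hinf, Subgroup.mem_bot] at h5
    have h6 : h * t = t * h := by
      calc h * t = h * t * h⁻¹ * t⁻¹ * (t * h) := by group
        _ = t * h := by rw [h5, one_mul]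
    have h7 : t ∈ H := centralizer_le hG hCN hH hh hh1
      (Subgroup.mem_centralizer_singleton_iff.2 h6.symm)
    have h8 : t ∈ H ⊓ X := ⟨h7, ht⟩
    rw [hinf, Subgroup.mem_bot] at h8
    exact ht1 h8
  -- coprimality
  have hcop : ∀ i j, i ≠ j → (Nat.card (Cfsg.fittingHallOf (Mrep i))).Coprime
      (Nat.card (Cfsg.fittingHallOf (Mrep j))) := by
    intro i j hij
    rcases Cfsg.Agent.S1483.conj_or_coprime hG hCN (hstr i).1 (hstr j).1 with ⟨g, hg⟩ | h
    · exfalso
      apply hnc i j hij g
      rw [(hstr j).2, hg]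
      exact hnormconj i g
    · exact h
  refine ⟨hcop, ?_, ?_⟩
  · apply Nat.dvd_antisymm
    · apply Finset.prod_dvd_of_isRelPrime
      · intro i _ j _ hij
        exact Nat.coprime_iff_isRelPrime.1 (hcop i j hij)
      · intro i _
        exact Subgroup.card_subgroup_dvd_card _
    · rw [Nat.dvd_iff_prime_pow_dvd_dvd]
      intro r m hr hrm
      by_cases hm : m = 0
      · subst hm
        simp
      haveI : Fact r.Prime := ⟨hr⟩
      have hrG : r ∣ Nat.card G := (dvd_pow_self r hm).trans hrm
      obtain ⟨P⟩ := (inferInstance : Nonempty (Sylow r G))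
      obtain ⟨H, hPH, hH⟩ := exists_maxNil (X := (P : Subgroup G)) P.isPGroup'.isNilpotent
      obtain ⟨i, g, hg⟩ := hconjH H hH
      have hrH : r ∣ Nat.card H := by
        have h1 : Nat.card P ∣ Nat.card H := Subgroup.card_dvd_of_le hPH
        refine dvd_trans ?_ h1
        obtain ⟨n, hn⟩ := IsPGroup.iff_card.1 P.isPGroup'
        rw [hn]
        refine dvd_pow_self r ?_
        rintro rfl
        rw [pow_zero] at hn
        exact P.ne_bot_of_dvd_card hrG (Subgroup.eq_bot_of_card_eq _ hn)
      have hcopH := (Cfsg.Agent.S1477.result hCN H hH.nil hH.max).1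
      have hri : Nat.Coprime r H.index := by
        rw [Nat.Prime.coprime_iff_not_dvd hr]
        intro h
        have := Nat.dvd_gcd hrH h
        rw [hcopH] at this
        exact hr.one_lt.ne' (Nat.dvd_one.1 this)
      have h3 : r ^ m ∣ Nat.card H := by
        rw [← Subgroup.card_mul_index H] at hrm
        exact (hri.pow_left m).dvd_of_dvd_mul_right hrm
      have h4 : Nat.card H = Nat.card (Cfsg.fittingHallOf (Mrep i)) := by
        rw [hg]
        exact Subgroup.card_map_of_injective (MulAut.conj g).injective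
      rw [h4] at h3
      exact h3.trans (Finset.dvd_prod_of_mem _ (Finset.mem_univ i))
  · intro x
    by_cases hx : x = 1
    · obtain ⟨M, hM⟩ : ∃ M : Subgroup G, IsCoatom M := by
        obtain ⟨M, hM, -⟩ := (eq_top_or_exists_le_coatom (⊥ : Subgroup G)).resolve_left bot_ne_top
        exact ⟨M, hM⟩
      obtain ⟨i, -⟩ := hall M hM
      exact ⟨i, 1, by simp [hx, Subgroup.one_mem]⟩
    obtain ⟨H, hle, hH⟩ := exists_maxNil (hCN x hx)
    have hxH : x ∈ H := hle (Subgroup.mem_centralizer_singleton_iff.2 rfl)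
    obtain ⟨i, g, hg⟩ := hconjH H hH
    rw [hg] at hxH
    obtain ⟨y, hy, rfl⟩ := hxH
    refine ⟨i, g⁻¹, ?_⟩
    have : g⁻¹ * ((MulAut.conj g).toMonoidHom y) * g⁻¹⁻¹ = y := by
      simp [mul_assoc]
    rw [this]
    exact hy

end Cfsg.Agent.S1484
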