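import Cfsg.Statements.S0183
import Cfsg.Agent.S1484
import Cfsg.Agent.S1526
import Cfsg.Agent.S1473
import Cfsg.Agent.Lib.OddLocal.CNMinSimple

set_option autoImplicit false
open Cfsg

namespace Cfsg.Agent.S0183

open Cfsg.Agent.Lib.OddLocal.CNMinSimple

universe u

/-- There is no minimal simple CN-group of odd order. -/
theorem no_minSimple {G : Type u} [Group G] [Finite G] (hG : Cfsg.IsMinSimpleOddOrder G) (hCN : Cfsg.IsCNGroup G) :
    False := by
  classical
  haveI := simple_nontrivial hG
  -- conjugacy classes of maximal subgroups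
  let T := {M : Subgroup G // IsCoatom M}
  let r : T → T → Prop := fun M M' => ∃ g : G, M'.1 = M.1.map (MulAut.conj g).toMonoidHom
  have hrefl : ∀ M, r M M := fun M => by
    refine ⟨1, ?_⟩
    have h : (MulAut.conj (1 : G)).toMonoidHom = MonoidHom.id G := by
      ext x
      simp
    rw [h, Subgroup.map_id]
  have hconjinv : ∀ (M : Subgroup G) (g : G),
      (M.map (MulAut.conj g).toMonoidHom).map (MulAut.conj g⁻¹).toMonoidHom = M := by
    intro M g
    rw [Subgroup.map_map]
    have h3 : ((MulAut.conj g⁻¹).toMonoidHom.comp (MulAut.conj g).toMonoidHom) = MonoidHom.id G := by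
      ext x
      simp [mul_assoc]
    rw [h3, Subgroup.map_id]
  have hsymm : ∀ M M', r M M' → r M' M := by
    rintro M M' ⟨g, hg⟩
    exact ⟨g⁻¹, by rw [hg, hconjinv]⟩
  have htrans : ∀ M M' M'', r M M' → r M' M'' → r M M'' := by
    rintro M M' M'' ⟨g, hg⟩ ⟨h, hh⟩
    refine ⟨h * g, ?_⟩
    rw [hh, hg, Subgroup.map_map]
    congr 1
    ext x
    simp [mul_assoc]
  let s : Setoid T := ⟨r, ⟨hrefl, fun {a b} => hsymm a b, fun {a b c} => htrans a b c⟩⟩
  let Q := Quotient s
  haveI : Fintype T := Fintype.ofFinite _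
  haveI : Fintype Q := Fintype.ofFinite _
  let e := Fintype.equivFin Q
  let Mrep : Fin (Fintype.card Q) → Subgroup G := fun i => (Quotient.out (e.symm i)).1
  have hmax : ∀ i, IsCoatom (Mrep i) := fun i => (Quotient.out (e.symm i)).2
  have hnc : ∀ i j, i ≠ j → ∀ g : G, Mrep j ≠ (Mrep i).map (MulAut.conj g).toMonoidHom := by
    intro i j hij g h
    apply hij
    have h1 : s (Quotient.out (e.symm i)) (Quotient.out (e.symm j)) := ⟨g, h⟩
    have h2 : (⟦Quotient.out (e.symm i)⟧ : Q) = ⟦Quotient.out (e.symm j)⟧ := Quotient.sound h1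
    rw [Quotient.out_eq, Quotient.out_eq] at h2
    exact e.symm.injective h2
  have hall : ∀ M : Subgroup G, IsCoatom M → ∃ i, ∃ g : G, M = (Mrep i).map (MulAut.conj g).toMonoidHom := by
    intro M hM
    let M' : T := ⟨M, hM⟩
    refine ⟨e ⟦M'⟧, ?_⟩
    have h1 : (⟦Quotient.out (e.symm (e ⟦M'⟧))⟧ : Q) = ⟦M'⟧ := by
      rw [Quotient.out_eq, Equiv.symm_apply_apply]
    exact Quotient.exact h1
  obtain ⟨hcop, hprod, hcover⟩ := Cfsg.Agent.S1484.result hG hCN _ Mrep hmax hnc hall
  have hstruct := fun i => coatom_struct hG hCN (hmax i)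
  choose E hE1 hE2 hF1 hF2 hE3 hMaxNil hMN using hstruct
  have hle : ∀ i, Cfsg.fittingHallOf (Mrep i) ≤ Mrep i := fun i => Subgroup.map_subtype_le _
  have hlt : ∀ i, Cfsg.fittingHallOf (Mrep i) < Mrep i := by
    intro i
    refine lt_of_le_of_ne (hle i) ?_
    intro h
    apply hF2 i
    rw [eq_top_iff]
    intro x _
    have hx : (x : G) ∈ Cfsg.fittingHallOf (Mrep i) := by
      rw [h]
      exact x.2
    obtain ⟨y, hy, hyx⟩ := Subgroup.mem_map.mp hx
    have : y = x := Subtype.ext hyx
    rwa [← this]
  have hcardle : 2 ≤ Fintype.card (Fin (Fintype.card Q)) := by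
    rw [Fintype.card_fin]
    by_contra hlt2
    have hc : Fintype.card Q = 0 ∨ Fintype.card Q = 1 := by omega
    rcases hc with h0 | h1
    · -- no maximal subgroups
      obtain ⟨M, hM, -⟩ := (eq_top_or_exists_le_coatom (⊥ : Subgroup G)).resolve_left bot_ne_top
      obtain ⟨i, -⟩ := hall M hM
      have := i.2
      omega
    · obtain ⟨M, hM, -⟩ := (eq_top_or_exists_le_coatom (⊥ : Subgroup G)).resolve_left bot_ne_top
      obtain ⟨i, -⟩ := hall M hM
      have huniq : Finset.univ = ({i} : Finset (Fin (Fintype.card Q))) := by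
        ext j
        simp only [Finset.mem_univ, Finset.mem_singleton, true_iff]
        have := i.2
        have := j.2
        apply Fin.ext
        omega
      rw [huniq, Finset.prod_singleton] at hprod
      have htop : Cfsg.fittingHallOf (Mrep i) = ⊤ := by
        refine Subgroup.eq_top_of_card_eq _ hprod
      have h2 := hlt i
      rw [htop] at h2
      exact not_top_lt h2
  refine Cfsg.Agent.S1526.result hG.1 hcardle Mrep (fun i => Cfsg.fittingHallOf (Mrep i)) hlt ?_ ?_ ?_ ?_ ?_ ?_
  · intro i
    exact (hMaxNil i).ne_bot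
  · intro i x hx h hh
    obtain ⟨y, hy, rfl⟩ := Subgroup.mem_map.mp hh
    haveI : (Cfsg.fittingHall (Mrep i)).Normal := Cfsg.fittingHall_normal _
    exact Subgroup.mem_map.mpr ⟨⟨x, hx⟩ * y * ⟨x, hx⟩⁻¹, Subgroup.Normal.conj_mem inferInstance y hy _, rfl⟩
  · intro i h hh hh1
    exact inf_le_right.trans (centralizer_le hG hCN (hMaxNil i) hh hh1)
  · exact hcop
  · intro i
    refine ⟨?_, (hMN i).symm⟩
    intro g hg x hx hgx
    have h1 : (Cfsg.fittingHallOf (Mrep i)).map (MulAut.conj g).toMonoidHom ≠ Cfsg.fittingHallOf (Mrep i) := by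
      intro h
      exact hg (mem_normalizer_of_map_conj_eq h)
    have h2 := ti hG hCN (hMaxNil i) g h1
    have h3 : g * x * g⁻¹ ∈ Cfsg.fittingHallOf (Mrep i) ⊓
        (Cfsg.fittingHallOf (Mrep i)).map (MulAut.conj g).toMonoidHom :=
      Subgroup.mem_inf.mpr ⟨hgx, Subgroup.mem_map.mpr ⟨x, hx, rfl⟩⟩
    rw [h2, Subgroup.mem_bot] at h3
    have h4 : x = g⁻¹ * (g * x * g⁻¹) * g := by group
    rw [h4, h3]
    group
  · intro x _
    obtain ⟨i, g, hg⟩ := hcover x
    exact ⟨i, g, hg⟩

/-- The CN-theorem, by induction on the order. -/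
theorem cn_aux : ∀ (n : ℕ) (G : Type u) [Group G] [Finite G], Nat.card G = n → Odd (Nat.card G) →
    Cfsg.IsCNGroup G → Group.IsSolvable G := by
  intro n
  induction n using Nat.strong_induction_on with
  | _ n ih =>
    intro G _ _ hn hodd hCN
    by_contra hns
    have hproper : ∀ H : Subgroup G, H ≠ ⊤ → Group.IsSolvable H := by
      intro H hH
      refine ih (Nat.card H) ?_ H rfl (Odd.of_dvd_nat hodd (Subgroup.card_subgroup_dvd_card H))
        (Cfsg.Agent.S1478.isCN_subgroup hCN H)
      rw [← hn]
      exact lt_of_le_of_ne (Subgroup.card_le_card_group H) (fun h => hH (Subgroup.eq_top_of_card_eq H h))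
    have hnontriv : Nontrivial G := by
      by_contra h
      rw [not_nontrivial_iff_subsingleton] at h
      exact hns inferInstance
    have hnormal : ∀ N : Subgroup G, N.Normal → N = ⊥ ∨ N = ⊤ := by
      intro N hN
      by_contra hcon
      push Not at hcon
      obtain ⟨h1, h2⟩ := hcon
      haveI := hN
      have hsolN := hproper N h2
      have hq : Group.IsSolvable (G ⧸ N) := by
        refine ih (Nat.card (G ⧸ N)) ?_ (G ⧸ N) rfl ?_ (Cfsg.Agent.S1473.result hCN N hsolN)
        · rw [← hn]
          have h3 := Subgroup.card_mul_index N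
          rw [Subgroup.index_eq_card] at h3
          have h4 : 1 < Nat.card N := by
            have h5 : Nat.card N ≠ 1 := fun h => h1 ((Subgroup.eq_bot_iff_card N).mpr h)
            have h6 : 0 < Nat.card N := Nat.card_pos
            omega
          have h7 : 0 < Nat.card (G ⧸ N) := Nat.card_pos
          nlinarith
        · have h3 : Nat.card (G ⧸ N) ∣ Nat.card G := by
            rw [← Subgroup.index_eq_card]
            exact Subgroup.index_dvd_card N
          exact Odd.of_dvd_nat hodd h3
      apply hns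
      exact Group.isSolvable_of_ker_le_range N.subtype (QuotientGroup.mk' N) (by simp)
    have hsimple : IsSimpleGroup G := ⟨hnormal⟩
    have hnc : ¬ IsMulCommutative G := by
      intro h
      exact hns (Group.isSolvable_of_comm fun a b => h.is_comm.comm a b)
    exact no_minSimple ⟨hodd, hsimple, hnc, hproper⟩ hCN

/-- The CN-Theorem for odd order: a finite group of odd order in which every non-identity element has a nilpotent centralizer (a CN-group) is solvable. -/
theorem result {G : Type*} [Group G] [Finite G] (hodd : Odd (Nat.card G)) (hCN : Cfsg.IsCNGroup G) : Group.IsSolvable G := by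
  exact cn_aux _ G rfl hodd hCN

end Cfsg.Agent.S0183
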