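import Cfsg.Statements.S0740
import Mathlib

set_option autoImplicit false
open Cfsg

namespace Cfsg.Agent.S0740

open MulAction

variable {G Ω : Type*} [Group G] [MulAction G Ω]

theorem exists_moved [FaithfulSMul G Ω] {t : G} (ht : t ≠ 1) : ∃ x : Ω, t • x ≠ x := by
  by_contra hall
  push Not at hall
  exact ht (FaithfulSMul.eq_of_smul_eq_smul (α := Ω) (fun x => by rw [one_smul]; exact hall x))

theorem conj_swap [FaithfulSMul G Ω] (h2 : MulAction.IsMultiplyPretransitive G Ω 2) {a b : Ω} (hab : a ≠ b)
    {t : G} (ht1 : t ≠ 1) (ht2 : orderOf t = 2) :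
    ∃ s : G, orderOf s = 2 ∧ s • a = b ∧ s • b = a ∧
      Nat.card (MulAction.fixedBy Ω s) = Nat.card (MulAction.fixedBy Ω t) := by
  obtain ⟨x, hx⟩ := exists_moved (Ω := Ω) ht1
  have httx : t • t • x = x := by
    rw [smul_smul, ← pow_two, ← ht2, pow_orderOf_eq_one, one_smul]
  rw [MulAction.is_two_pretransitive_iff] at h2
  obtain ⟨g, hg1, hg2⟩ := h2 (Ne.symm hx) hab
  refine ⟨g * t * g⁻¹, ?_, ?_, ?_, ?_⟩
  · rw [← ht2]; exact (MulAut.conj g).orderOf_eq t
  · simp only [mul_smul, ← hg1]
    simp [hg2]
  · simp only [mul_smul, ← hg2]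
    simp [httx, hg1]
  · apply Nat.card_congr
    refine
      { toFun := fun y => ⟨g⁻¹ • y.1, ?_⟩
        invFun := fun y => ⟨g • y.1, ?_⟩
        left_inv := fun y => by simp
        right_inv := fun y => by simp }
    · have := y.2
      simp only [MulAction.mem_fixedBy, mul_smul] at this ⊢
      rw [← smul_left_cancel_iff g]
      simpa using this
    · have := y.2
      simp only [MulAction.mem_fixedBy, mul_smul] at this ⊢
      simp [this]

theorem card_fixedBy_parity [Fintype Ω] {t : G} (ht2 : orderOf t = 2) :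
    (Nat.card (MulAction.fixedBy Ω t) + Fintype.card Ω) % 2 = 0 := by
  classical
  have hpg : IsPGroup 2 (Subgroup.zpowers t) := by
    apply IsPGroup.of_card (n := 1)
    rw [Nat.card_zpowers, ht2, pow_one]
  have := Fact.mk Nat.prime_two
  have h := hpg.card_modEq_card_fixedPoints Ω
  have hfix : MulAction.fixedPoints (Subgroup.zpowers t) Ω = MulAction.fixedBy Ω t := by
    ext x
    simp only [MulAction.mem_fixedPoints, MulAction.mem_fixedBy]
    constructor
    · intro h
      exact h ⟨t, Subgroup.mem_zpowers t⟩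
    · rintro h ⟨u, k, rfl⟩
      show t ^ k • x = x
      have := MulAction.mem_stabilizer_iff.mpr h
      exact (MulAction.stabilizer G x).zpow_mem this k |> MulAction.mem_stabilizer_iff.mp
  rw [Nat.card_eq_fintype_card] at h
  rw [hfix, Nat.ModEq] at h
  omega

/-- In a finite Zassenhaus group any two points `a ≠ b` are swapped by an involution; every such involution has exactly one fixed point when the degree is odd and 0 or 2 fixed points when the degree is even; and if the two-point stabiliser has even order, some such involution has exactly 2 fixed points. -/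
theorem result {G Ω : Type*} [Group G] [Finite G] [MulAction G Ω] [Fintype Ω] (hZ : Cfsg.IsZassenhausGroup G Ω) {a b : Ω} (hab : a ≠ b) : (∃ s : G, orderOf s = 2 ∧ s • a = b ∧ s • b = a) ∧ (∀ s : G, orderOf s = 2 → s • a = b → s • b = a → (Odd (Fintype.card Ω) → Nat.card (MulAction.fixedBy Ω s) = 1) ∧ (Even (Fintype.card Ω) → Nat.card (MulAction.fixedBy Ω s) = 0 ∨ Nat.card (MulAction.fixedBy Ω s) = 2)) ∧ (Even (Fintype.card Ω) → Even (Nat.card ↥(MulAction.stabilizer G a ⊓ MulAction.stabilizer G b)) → ∃ s : G, orderOf s = 2 ∧ s • a = b ∧ s • b = a ∧ Nat.card (MulAction.fixedBy Ω s) = 2) := by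
  classical
  obtain ⟨hfaith, h2, h3, ⟨g₀, hg₀, c, d, hcd, hg₀c, hg₀d⟩, hnoreg⟩ := hZ
  have _ := hfaith
  -- at most two fixed points
  have hle2 : ∀ s : G, s ≠ 1 → Nat.card (MulAction.fixedBy Ω s) ≤ 2 := by
    intro s hs
    by_contra hcon
    push Not at hcon
    rw [Nat.card_eq_fintype_card] at hcon
    have hc : 2 < (Finset.univ : Finset (MulAction.fixedBy Ω s)).card := by simpa using hcon
    obtain ⟨x, -, y, -, z, -, hxy, hxz, hyz⟩ := Finset.two_lt_card.mp hc
    exact hs (h3 s x.1 y.1 z.1 (fun h => hxy (Subtype.ext h)) (fun h => hyz (Subtype.ext h))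
      (fun h => hxz (Subtype.ext h)) x.2 y.2 z.2)
  -- `|G|` is even
  have hcard3 : 2 ≤ Fintype.card Ω := by
    have : 1 < Fintype.card Ω := Fintype.one_lt_card_iff.mpr ⟨a, b, hab⟩
    omega
  -- an involution exists: use the parity of the number of ordered pairs
  have hinvol : ∃ t : G, orderOf t = 2 := by
    -- `G` acts transitively on ordered pairs of distinct points, an even number of them
    have hdvd : 2 ∣ Nat.card G := by
      -- element swapping `a, b` has even order
      rw [MulAction.is_two_pretransitive_iff] at h2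
      obtain ⟨g, hg1, hg2⟩ := h2 hab (Ne.symm hab)
      have hodd : ∀ k : ℕ, (g ^ (2 * k + 1)) • a = b := by
        intro k
        induction k with
        | zero => simpa using hg1
        | succ k ih =>
          have : g ^ (2 * (k + 1) + 1) = g * g * g ^ (2 * k + 1) := by
            rw [show 2 * (k + 1) + 1 = 1 + 1 + (2 * k + 1) by ring, pow_add, pow_add, pow_one]
          rw [this, mul_smul, mul_smul, ih, hg2, hg1]
      have hdvd' : 2 ∣ orderOf g := by
        by_contra hnd
        have hodd' : Odd (orderOf g) := by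
          rw [← Nat.not_even_iff_odd]
          exact fun h => hnd h.two_dvd
        obtain ⟨k, hk⟩ := hodd'
        have := hodd k
        rw [← hk, pow_orderOf_eq_one, one_smul] at this
        exact hab this
      exact hdvd'.trans (orderOf_dvd_natCard g)
    have := Fact.mk Nat.prime_two
    exact exists_prime_orderOf_dvd_card' 2 hdvd
  obtain ⟨t₀, ht₀⟩ := hinvol
  have ht₀1 : t₀ ≠ 1 := by
    intro h
    rw [h, orderOf_one] at ht₀
    omega
  refine ⟨?_, ?_, ?_⟩
  · obtain ⟨s, h1, h2', h3', -⟩ := conj_swap h2 hab ht₀1 ht₀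
    exact ⟨s, h1, h2', h3'⟩
  · intro s hs _ _
    have hs1 : s ≠ 1 := by
      intro h
      rw [h, orderOf_one] at hs
      omega
    have hp := card_fixedBy_parity (Ω := Ω) hs
    have hl := hle2 s hs1
    refine ⟨fun hodd => ?_, fun heven => ?_⟩
    · obtain ⟨k, hk⟩ := hodd
      omega
    · obtain ⟨k, hk⟩ := heven
      omega
  · intro heven hd
    have hdvd : 2 ∣ Nat.card ↥(MulAction.stabilizer G a ⊓ MulAction.stabilizer G b) := hd.two_dvd
    have := Fact.mk Nat.prime_two
    obtain ⟨z, hz⟩ := exists_prime_orderOf_dvd_card' 2 hdvd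
    have hz' : orderOf (z : G) = 2 := by
      rw [Subgroup.orderOf_coe]; exact hz
    have hz1 : (z : G) ≠ 1 := by
      intro h
      rw [h, orderOf_one] at hz'
      omega
    obtain ⟨s, h1, h2', h3', h4⟩ := conj_swap h2 hab hz1 hz'
    refine ⟨s, h1, h2', h3', ?_⟩
    rw [h4]
    have hl := hle2 (z : G) hz1
    have hp := card_fixedBy_parity (Ω := Ω) hz'
    have hge : 2 ≤ Nat.card (MulAction.fixedBy Ω (z : G)) := by
      rw [Nat.card_eq_fintype_card]
      have hc : 1 < Fintype.card (MulAction.fixedBy Ω (z : G)) := by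
        apply Fintype.one_lt_card_iff.mpr
        refine ⟨⟨a, ?_⟩, ⟨b, ?_⟩, ?_⟩
        · exact z.2.1
        · exact z.2.2
        · intro h; exact hab (congrArg Subtype.val h)
      omega
    omega

end Cfsg.Agent.S0740
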