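import Cfsg.Statements.S0731
import Cfsg.Agent.Lib.Zass.AbFinal

set_option autoImplicit false
open Cfsg

namespace Cfsg.Agent.S0731

/-- A finite Zassenhaus group whose point stabiliser has an abelian regular normal subgroup on the remaining points is sharply triply transitive or isomorphic to `PSL(2, F)` for a finite field `F` of odd characteristic. -/
theorem result {G Ω : Type*} [Group G] [Finite G] [MulAction G Ω] [Finite Ω] (hZ : Cfsg.IsZassenhausGroup G Ω) (x : Ω) (F : Subgroup G) (hFle : F ≤ MulAction.stabilizer G x) (hFn : (F.subgroupOf (MulAction.stabilizer G x)).Normal) (hFab : IsMulCommutative F) (hreg : ∀ y z : Ω, y ≠ x → z ≠ x → ∃! u : F, (u : G) • y = z) : (MulAction.IsMultiplyPretransitive G Ω 3 ∧ ∀ t : Fin 3 ↪ Ω, MulAction.stabilizer G t = ⊥) ∨ ∃ (K : Type) (_ : Field K) (_ : Fintype K), ringChar K ≠ 2 ∧ Nonempty (G ≃* Matrix.ProjectiveSpecialLinearGroup (Fin 2) K) := by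
  classical
  have _ : Fintype Ω := Fintype.ofFinite Ω
  have _ : Fintype G := Fintype.ofFinite G
  obtain ⟨b, hbx, -⟩ := Cfsg.Agent.Lib.Zass.Basic.exists_third hZ x x
  have hab : x ≠ b := Ne.symm hbx
  have hreg' : ∀ y, y ≠ x → ∃! u : F, (u : G) • b = y := fun y hy => hreg b y hbx hy
  have hcard := Cfsg.Agent.Lib.Zass.RootPSL.card_regular hab hFle hreg'
  have D : Cfsg.Agent.Lib.Zass.Infl.Data x b F :=
    { hZ := hZ
      hab := hab
      hHa := hFle
      hHcard := hcard
      hHfix := by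
        intro u hu hu1 c hc
        by_contra hcx
        have h1 := (hreg c c hcx hcx).unique (y₁ := ⟨u, hu⟩) (y₂ := 1) hc (by simp)
        exact hu1 (congrArg Subtype.val h1) }
  have hFeq := Cfsg.Agent.Lib.Zass.AbFinal.eq_kernelAt D
  have hcomm : ∀ u ∈ F, ∀ v ∈ F, u * v = v * u := by
    intro u hu v hv
    have := hFab.is_comm.comm ⟨u, hu⟩ ⟨v, hv⟩
    exact congrArg Subtype.val this
  have hFn' : ∀ g : G, g • x = x → ∀ u ∈ F, g * u * g⁻¹ ∈ F := by
    intro g hg u hu
    have hu' : (⟨u, hFle hu⟩ : MulAction.stabilizer G x) ∈ F.subgroupOf (MulAction.stabilizer G x) := hu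
    exact hFn.conj_mem _ hu' ⟨g, hg⟩
  obtain ⟨R, hR⟩ := Cfsg.Agent.Lib.Zass.NoSharp.card_E_dvd hZ hab
  simp only [Cfsg.Agent.Lib.Zass.Stab.E] at hR
  have hd0 : 0 < Nat.card ↥(MulAction.stabilizer G x ⊓ MulAction.stabilizer G b) := Nat.card_pos
  obtain ⟨c, hca, hcb⟩ := Cfsg.Agent.Lib.Zass.Basic.exists_third hZ x b
  have hΩ3 : 3 ≤ Fintype.card Ω := by
    have : ({x, b, c} : Finset Ω).card = 3 := by
      rw [Finset.card_eq_three]
      exact ⟨x, b, c, hab, Ne.symm hca, Ne.symm hcb, rfl⟩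
    rw [← this]
    exact Finset.card_le_univ _
  have hR0 : R ≠ 0 := by
    rintro rfl
    omega
  have hfirst : R = 1 → (MulAction.IsMultiplyPretransitive G Ω 3 ∧ ∀ t : Fin 3 ↪ Ω, MulAction.stabilizer G t = ⊥) := by
    rintro rfl
    apply Cfsg.Agent.Lib.Zass.AbFinal.sharp3_of_eq hZ hab
    simp only [Cfsg.Agent.Lib.Zass.Stab.E]
    omega
  rcases Nat.even_or_odd (Nat.card ↥(MulAction.stabilizer G x ⊓ MulAction.stabilizer G b)) with heven | hodd
  · have h41 := Cfsg.Agent.S0741.result hZ hab heven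
    have hR2 : R ≤ 2 := by
      by_contra hcon
      push Not at hcon
      have : Nat.card ↥(MulAction.stabilizer G x ⊓ MulAction.stabilizer G b) * 3 ≤
          Nat.card ↥(MulAction.stabilizer G x ⊓ MulAction.stabilizer G b) * R :=
        Nat.mul_le_mul_left _ hcon
      omega
    by_cases hR1 : R = 1
    · exact Or.inl (hfirst hR1)
    have hR22 : R = 2 := by omega
    subst hR22
    obtain ⟨K, i1, i2, h1, -, h3⟩ := Cfsg.Agent.Lib.Zass.RootPSL.psl_even hZ hab F hcomm hFle hFn' hreg'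
      heven (by omega)
    exact Or.inr ⟨K, i1, i2, h1, h3⟩
  · have hs := Cfsg.Agent.Lib.Zass.AbFinal.simple_of_odd_abelian hZ hab hodd (by
      rw [← hFeq]
      exact hcomm)
    have hC := Cfsg.Agent.Lib.Zass.Inv.Ctx.of_simple hZ hab hodd
    have hb := Cfsg.Agent.Lib.Zass.AbKernel.two_bound D hC hcomm
    simp only [Cfsg.Agent.Lib.Zass.Stab.E] at hb
    have hR2 : R ≤ 2 := by
      by_contra hcon
      push Not at hcon
      have : Nat.card ↥(MulAction.stabilizer G x ⊓ MulAction.stabilizer G b) * 3 ≤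
          Nat.card ↥(MulAction.stabilizer G x ⊓ MulAction.stabilizer G b) * R :=
        Nat.mul_le_mul_left _ hcon
      omega
    by_cases hR1 : R = 1
    · exact Or.inl (hfirst hR1)
    have hR22 : R = 2 := by omega
    subst hR22
    have hsw : ∀ s : G, s • x = b → s • b = x → s * s = 1 := by
      intro s h1 h2
      obtain ⟨s₀, hs₀, hs₀a, hs₀b⟩ := Cfsg.Agent.Lib.Zass.Inv.exists_swap hC hab
      have hmem : s₀⁻¹ * s ∈ Cfsg.Agent.Lib.Zass.Stab.E (G := G) x b := by
        constructor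
        · show (s₀⁻¹ * s) • x = x
          rw [mul_smul, h1, inv_smul_eq_iff, hs₀a]
        · show (s₀⁻¹ * s) • b = b
          rw [mul_smul, h2, inv_smul_eq_iff, hs₀b]
      have h3 := (Cfsg.Agent.Lib.Zass.Inv.invol_mul_mem hC hab hs₀ hs₀a hmem).1
      have h4 : s₀ * (s₀⁻¹ * s) = s := by group
      rw [h4] at h3
      exact Cfsg.Agent.Lib.Zass.Inv.invol_mul_self h3
    obtain ⟨K, i1, i2, h1, -, h3⟩ := Cfsg.Agent.Lib.Zass.RootPSL.psl_odd hZ hab F hcomm hFle hFn' hreg'
      hodd (by omega) hsw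
    exact Or.inr ⟨K, i1, i2, h1, h3⟩

end Cfsg.Agent.S0731
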