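import Cfsg.Statements.S0738
import Cfsg.Agent.Lib.Zass.Basic
import Mathlib

set_option autoImplicit false
set_option linter.style.haveILetI false
open Cfsg

namespace Cfsg.Agent.S0738

open Cfsg.Agent.Lib.Zass.Basic MulAction

/-- Let a finite Zassenhaus group of degree `n + 1` have two-point stabilisers of order `d` with `2d ≥ n - 1`. Then a normal subgroup of a point stabiliser acting regularly on the remaining points is elementary abelian, and the degree is a prime power plus one. -/
theorem result {G Ω : Type*} [Group G] [Finite G] [MulAction G Ω] [Fintype Ω] (hZ : Cfsg.IsZassenhausGroup G Ω) {a b : Ω} (hab : a ≠ b) (hd : Fintype.card Ω - 2 ≤ 2 * Nat.card ↥(MulAction.stabilizer G a ⊓ MulAction.stabilizer G b)) (F : Subgroup G) (hFle : F ≤ MulAction.stabilizer G a) (hFn : (F.subgroupOf (MulAction.stabilizer G a)).Normal) (hreg : ∀ y z : Ω, y ≠ a → z ≠ a → ∃! u : F, (u : G) • y = z) : IsMulCommutative F ∧ ∃ p f : ℕ, p.Prime ∧ (∀ u ∈ F, u ^ p = 1) ∧ Fintype.card Ω = p ^ f + 1 := by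
  classical
  set H := MulAction.stabilizer G a ⊓ MulAction.stabilizer G b with hH
  have hba : b ≠ a := Ne.symm hab
  -- `H` normalises `F`
  have hconj : ∀ h ∈ H, ∀ u ∈ F, h * u * h⁻¹ ∈ F := by
    intro h hh u hu
    have := hFn.conj_mem ⟨u, hFle hu⟩ (Subgroup.mem_subgroupOf.mpr hu) ⟨h, hh.1⟩
    exact Subgroup.mem_subgroupOf.mp this
  have hconj' : ∀ h ∈ H, ∀ u ∈ F, h⁻¹ * u * h ∈ F := by
    intro h hh u hu
    have := hconj h⁻¹ (H.inv_mem hh) u hu
    simpa using this
  -- the order of `F`
  have hFcard : Nat.card F + 1 = Fintype.card Ω := by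
    let f : F → {x : Ω // x ≠ a} := fun u => ⟨(u : G) • b, by
      intro h
      apply hba
      have hu : (u : G) • a = a := hFle u.2
      have : (u : G) • b = (u : G) • a := by rw [h, hu]
      exact smul_left_cancel _ this⟩
    have hf : Function.Bijective f := by
      constructor
      · intro u v huv
        have h1 : (u : G) • b = (v : G) • b := congrArg Subtype.val huv
        exact (hreg b _ hba (by
          intro h
          apply hba
          have hv : (v : G) • a = a := hFle v.2
          have : (v : G) • b = (v : G) • a := by rw [h, hv]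
          exact smul_left_cancel _ this)).unique h1 rfl
      · rintro ⟨z, hz⟩
        obtain ⟨u, hu, -⟩ := hreg b z hba hz
        exact ⟨u, Subtype.ext hu⟩
    have h1 := Nat.card_eq_of_bijective f hf
    rw [h1, Nat.card_eq_fintype_card, Fintype.card_subtype_compl, Fintype.card_subtype_eq]
    have : 0 < Fintype.card Ω := Fintype.card_pos_iff.mpr ⟨a⟩
    omega
  have hthird := exists_third hZ a b
  have hΩ3 : 3 ≤ Fintype.card Ω := by
    obtain ⟨c, hca, hcb⟩ := hthird
    have : ({a, b, c} : Finset Ω).card = 3 := by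
      rw [Finset.card_eq_three]
      exact ⟨a, b, c, hab, Ne.symm hca, Ne.symm hcb, rfl⟩
    rw [← this]
    exact Finset.card_le_univ _
  set n := Nat.card F with hn
  set d := Nat.card ↥H with hdd
  have hn2 : 2 ≤ n := by omega
  have hnd : n - 1 ≤ 2 * d := by
    have : Fintype.card Ω - 2 = n - 1 := by omega
    omega
  -- non-identity elements of `F` move `b`
  have hmove : ∀ u ∈ F, u ≠ 1 → u • b ≠ b := by
    intro u hu hu1 hb
    have h1 : (⟨u, hu⟩ : F) = 1 := by
      have h2 := (hreg b b hba hba).unique (y₁ := ⟨u, hu⟩) (y₂ := 1) hb (by simp)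
      exact h2
    exact hu1 (congrArg Subtype.val h1)
  -- injectivity of the conjugation action of `H`
  have hinj : ∀ u ∈ F, u ≠ 1 → Function.Injective (fun h : H => (h : G) * u * (h : G)⁻¹) := by
    intro u hu hu1 h k hhk
    have hhk' : (h : G) * u * (h : G)⁻¹ = (k : G) * u * (k : G)⁻¹ := hhk
    have hcomm : ((k : G)⁻¹ * (h : G)) * u = u * ((k : G)⁻¹ * (h : G)) := by
      calc ((k : G)⁻¹ * (h : G)) * u = (k : G)⁻¹ * ((h : G) * u * (h : G)⁻¹) * (h : G) := by group
        _ = (k : G)⁻¹ * ((k : G) * u * (k : G)⁻¹) * (h : G) := by rw [hhk']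
        _ = u * ((k : G)⁻¹ * (h : G)) := by group
    have hw : (k : G)⁻¹ * (h : G) ∈ H := H.mul_mem (H.inv_mem k.2) h.2
    have hwa : ((k : G)⁻¹ * (h : G)) • a = a := hw.1
    have hwb : ((k : G)⁻¹ * (h : G)) • b = b := hw.2
    have hub := hmove u hu hu1
    have hua : u • b ≠ a := by
      intro h'
      apply hba
      have hu' : u • a = a := hFle hu
      have : u • b = u • a := by rw [h', hu']
      exact smul_left_cancel _ this
    have hwc : ((k : G)⁻¹ * (h : G)) • (u • b) = u • b := by
      rw [← mul_smul, hcomm, mul_smul, hwb]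
    have := fix3 hZ hab (Ne.symm hub) (Ne.symm hua) hwa hwb hwc
    apply Subtype.ext
    exact (inv_mul_eq_one.mp this).symm
  -- invariant subsets have at least `d` elements
  have hbound : ∀ S : Set G, (∀ x ∈ S, x ∈ F ∧ x ≠ 1) → (∀ h ∈ H, ∀ x ∈ S, h * x * h⁻¹ ∈ S) →
      S.Nonempty → d ≤ S.ncard := by
    rintro S hS hinv ⟨u, hu⟩
    obtain ⟨huF, hu1⟩ := hS u hu
    let f : H → S := fun h => ⟨(h : G) * u * (h : G)⁻¹, hinv h h.2 u hu⟩
    have hf : Function.Injective f := by
      intro h k hhk
      exact hinj u huF hu1 (congrArg Subtype.val hhk)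
    exact Nat.card_le_card_of_injective f hf
  -- no proper invariant subgroups
  have hK : ∀ U : Subgroup G, U ≤ F → (∀ h ∈ H, ∀ x ∈ U, h * x * h⁻¹ ∈ U) → U ≠ ⊥ → U = F := by
    intro U hUF hinv hU
    obtain ⟨⟨u, hu⟩, hu1'⟩ := Subgroup.ne_bot_iff_exists_ne_one.mp hU
    have hu1 : u ≠ 1 := fun h => hu1' (Subtype.ext h)
    have hS := hbound ((U : Set G) \ {1}) (fun x hx => ⟨hUF hx.1, hx.2⟩)
      (fun h hh x hx => ⟨hinv h hh x hx.1, by
        intro h1
        apply hx.2
        have h2 : h * x * h⁻¹ = 1 := h1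
        have : x = h⁻¹ * (h * x * h⁻¹) * h := by group
        rw [this, h2]
        simp⟩) ⟨u, hu, hu1⟩
    have hncard : ((U : Set G) \ {1}).ncard = Nat.card U - 1 := by
      rw [Set.ncard_sdiff_singleton_of_mem (U.one_mem)]
      rfl
    have hdvd : Nat.card U ∣ n := Subgroup.card_dvd_of_le hUF
    by_contra hne
    have hlt : Nat.card U ≠ n := fun h => hne (Subgroup.eq_of_le_of_card_ge hUF (by omega))
    obtain ⟨k, hk⟩ := hdvd
    have hUpos : 0 < Nat.card U := Nat.card_pos
    have hk2 : 2 ≤ k := by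
      rcases k with _ | _ | k
      · omega
      · omega
      · omega
    have h2U : 2 * Nat.card U ≤ n := by
      rw [hk]
      nlinarith
    omega
  -- the elements of order `p`
  let A : ℕ → Set G := fun p => {x | x ∈ F ∧ x ≠ 1 ∧ x ^ p = 1}
  have hAbound : ∀ p : ℕ, p.Prime → p ∣ n → d ≤ (A p).ncard := by
    intro p hp hpn
    have := Fact.mk hp
    obtain ⟨x, hx⟩ := exists_prime_orderOf_dvd_card' p hpn
    have hx1 : (x : G) ≠ 1 := by
      intro h
      have : x = 1 := Subtype.ext h
      rw [this, orderOf_one] at hx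
      exact hp.one_lt.ne hx
    have hxp : (x : G) ^ p = 1 := by
      have := pow_orderOf_eq_one x
      rw [hx] at this
      exact congrArg Subtype.val this
    apply hbound
    · rintro y ⟨h1, h2, -⟩
      exact ⟨h1, h2⟩
    · rintro h hh y ⟨h1, h2, h3⟩
      refine ⟨hconj h hh y h1, ?_, ?_⟩
      · intro h4
        apply h2
        have : y = h⁻¹ * (h * y * h⁻¹) * h := by group
        rw [this, h4]
        simp
      · rw [conj_pow, h3]
        simp
    · exact ⟨x, x.2, hx1, hxp⟩
  -- uniqueness of the prime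
  have hprime : ∀ p q : ℕ, p.Prime → q.Prime → p ∣ n → q ∣ n → p = q := by
    intro p q hp hq hpn hqn
    by_contra hpq
    have hcop : Nat.Coprime p q := (Nat.coprime_primes hp hq).mpr hpq
    have hAp := hAbound p hp hpn
    have hAq := hAbound q hq hqn
    -- disjointness
    have hdisj : Disjoint (A p) (A q) := by
      rw [Set.disjoint_left]
      rintro x ⟨_, hx1, hxp⟩ ⟨_, _, hxq⟩
      apply hx1
      have h1 := orderOf_dvd_of_pow_eq_one hxp
      have h2 := orderOf_dvd_of_pow_eq_one hxq
      have h3 := Nat.dvd_gcd h1 h2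
      rw [hcop] at h3
      exact orderOf_eq_one_iff.mp (Nat.dvd_one.mp h3)
    -- the total count
    have hsub : A p ∪ A q ⊆ (F : Set G) \ {1} := by
      rintro x (⟨h1, h2, -⟩ | ⟨h1, h2, -⟩)
      · exact ⟨h1, h2⟩
      · exact ⟨h1, h2⟩
    have hFminus : ((F : Set G) \ {1}).ncard = n - 1 := by
      rw [Set.ncard_sdiff_singleton_of_mem (F.one_mem)]
      rfl
    have hunion : (A p ∪ A q).ncard = (A p).ncard + (A q).ncard :=
      Set.ncard_union_eq hdisj (Set.toFinite _) (Set.toFinite _)
    have hle := Set.ncard_le_ncard hsub (Set.toFinite _)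
    have heq : A p ∪ A q = (F : Set G) \ {1} :=
      Set.eq_of_subset_of_ncard_le hsub (by omega) (Set.toFinite _)
    have hAq2 : (A q).ncard = d := by omega
    have h2d : n - 1 = 2 * d := by omega
    -- an element of order `p`
    have := Fact.mk hp
    obtain ⟨x, hx⟩ := exists_prime_orderOf_dvd_card' p hpn
    have hxp : (x : G) ^ p = 1 := by
      have := pow_orderOf_eq_one x
      rw [hx] at this
      exact congrArg Subtype.val this
    have hx1 : (x : G) ≠ 1 := by
      intro h
      have : x = 1 := Subtype.ext h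
      rw [this, orderOf_one] at hx
      exact hp.one_lt.ne hx
    -- conjugation by `x` on `A q` has no fixed points
    let f : Function.End (A q) := fun y => ⟨(x : G) * y.1 * (x : G)⁻¹, by
      obtain ⟨y, h1, h2, h3⟩ := y
      refine ⟨F.mul_mem (F.mul_mem x.2 h1) (F.inv_mem x.2), ?_, ?_⟩
      · intro h4
        apply h2
        have : y = (x : G)⁻¹ * ((x : G) * y * (x : G)⁻¹) * (x : G) := by group
        rw [this, h4]
        simp
      · rw [conj_pow, h3]
        simp⟩
    have hfpow : ∀ k : ℕ, ∀ y : A q, ((f ^ k) y : G) = (x : G) ^ k * y.1 * ((x : G) ^ k)⁻¹ := by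
      intro k
      induction k with
      | zero =>
        intro y
        have h0 : (f ^ 0) y = y := rfl
        rw [h0]
        simp
      | succ k ih =>
        intro y
        have h0 : (f ^ (k + 1)) y = f ((f ^ k) y) := by
          rw [pow_succ']
          rfl
        rw [h0]
        show (x : G) * ((f ^ k) y : G) * (x : G)⁻¹ = _
        rw [ih y]
        group
    have hfp : f ^ p ^ 1 = 1 := by
      rw [pow_one]
      funext y
      apply Subtype.ext
      rw [hfpow p y, hxp]
      have h1 : ((1 : Function.End (A q)) y : G) = y.1 := rfl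
      rw [h1]
      simp
    have _ : Fintype (A q) := Fintype.ofFinite _
    have hmod := Equiv.Perm.card_fixedPoints_modEq (p := p) (n := 1) (f := f) hfp
    have hnofix : Fintype.card (Function.fixedPoints f) = 0 := by
      rw [Fintype.card_eq_zero_iff]
      constructor
      rintro ⟨y, hy⟩
      have hyfix : (x : G) * y.1 * (x : G)⁻¹ = y.1 := congrArg Subtype.val hy
      have hcomm : (x : G) * y.1 = y.1 * (x : G) := by
        calc (x : G) * y.1 = ((x : G) * y.1 * (x : G)⁻¹) * (x : G) := by group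
          _ = y.1 * (x : G) := by rw [hyfix]
      obtain ⟨y', hyF, hy1, hyq⟩ := y
      -- the product `x y'` has neither order
      have hmem : (x : G) * y' ∈ (F : Set G) \ {1} := by
        refine ⟨F.mul_mem x.2 hyF, ?_⟩
        intro h1
        have h2 : (x : G) = y'⁻¹ := eq_inv_of_mul_eq_one_left h1
        have h3 : y' ^ p = 1 := by
          have : (x : G)⁻¹ = y' := by rw [h2, inv_inv]
          rw [← this, inv_pow, hxp, inv_one]
        apply hy1
        have h4 := orderOf_dvd_of_pow_eq_one h3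
        have h5 := orderOf_dvd_of_pow_eq_one hyq
        have h6 := Nat.dvd_gcd h4 h5
        rw [hcop] at h6
        exact orderOf_eq_one_iff.mp (Nat.dvd_one.mp h6)
      rw [← heq] at hmem
      have hc : Commute (x : G) y' := hcomm
      rcases hmem with ⟨_, _, h⟩ | ⟨_, _, h⟩
      · rw [hc.mul_pow, hxp, one_mul] at h
        apply hy1
        have h4 := orderOf_dvd_of_pow_eq_one h
        have h5 := orderOf_dvd_of_pow_eq_one hyq
        have h6 := Nat.dvd_gcd h4 h5
        rw [hcop] at h6
        exact orderOf_eq_one_iff.mp (Nat.dvd_one.mp h6)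
      · rw [hc.mul_pow, hyq, mul_one] at h
        apply hx1
        have h4 := orderOf_dvd_of_pow_eq_one hxp
        have h5 := orderOf_dvd_of_pow_eq_one h
        have h6 := Nat.dvd_gcd h4 h5
        rw [hcop] at h6
        exact orderOf_eq_one_iff.mp (Nat.dvd_one.mp h6)
    have hcardAq : Fintype.card (A q) = d := by
      rw [← hAq2, ← Nat.card_eq_fintype_card]
      rfl
    rw [hnofix, hcardAq] at hmod
    have hpd : p ∣ d := (Nat.modEq_zero_iff_dvd).mp hmod
    have hp1 : p ∣ n - 1 := by
      rw [h2d]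
      exact Dvd.dvd.mul_left hpd 2
    have : p ∣ 1 := by
      have h1 : n = (n - 1) + 1 := by omega
      rw [h1] at hpn
      exact (Nat.dvd_add_right hp1).mp hpn
    exact hp.one_lt.ne' (Nat.dvd_one.mp this)
  -- `F` is a `p`-group
  set p := n.minFac with hp
  have hpp : p.Prime := Nat.minFac_prime (by omega)
  have hpn : p ∣ n := Nat.minFac_dvd n
  have := Fact.mk hpp
  have hnpow : n = p ^ n.primeFactorsList.length :=
    Nat.eq_prime_pow_of_unique_prime_dvd (by omega) (fun {q} hq hqn => hprime q p hq hpp hqn hpn)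
  have hPG : IsPGroup p F := IsPGroup.of_card hnpow
  -- `F` is abelian
  have hFne : Nontrivial F := by
    apply Finite.one_lt_card_iff_nontrivial.mp
    omega
  have hcenter : Nontrivial (Subgroup.center F) := hPG.center_nontrivial
  let Z : Subgroup G := (Subgroup.center F).map F.subtype
  have hZF : Z ≤ F := by
    rintro _ ⟨z, _, rfl⟩
    exact z.2
  have hZinv : ∀ h ∈ H, ∀ x ∈ Z, h * x * h⁻¹ ∈ Z := by
    rintro h hh _ ⟨z, hz, rfl⟩
    refine ⟨⟨h * z.1 * h⁻¹, hconj h hh z.1 z.2⟩, ?_, rfl⟩
    have hz : z ∈ Subgroup.center F := hz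
    show _ ∈ Subgroup.center F
    rw [Subgroup.mem_center_iff] at hz ⊢
    rintro ⟨w, hw⟩
    apply Subtype.ext
    have h1 := hz ⟨h⁻¹ * w * h, hconj' h hh w hw⟩
    have h2 : (h⁻¹ * w * h) * z.1 = z.1 * (h⁻¹ * w * h) := congrArg Subtype.val h1
    show w * (h * z.1 * h⁻¹) = h * z.1 * h⁻¹ * w
    calc w * (h * z.1 * h⁻¹) = h * ((h⁻¹ * w * h) * z.1) * h⁻¹ := by group
      _ = h * (z.1 * (h⁻¹ * w * h)) * h⁻¹ := by rw [h2]
      _ = h * z.1 * h⁻¹ * w := by group
  have hZne : Z ≠ ⊥ := by
    obtain ⟨z, hz1⟩ := exists_ne (1 : Subgroup.center F)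
    rw [Ne, Subgroup.eq_bot_iff_forall]
    push Not
    refine ⟨(z.1 : G), ⟨z.1, z.2, rfl⟩, ?_⟩
    intro h
    apply hz1
    exact Subtype.ext (Subtype.ext h)
  have hZeq : Z = F := hK Z hZF hZinv hZne
  have hcomm : ∀ u ∈ F, ∀ v ∈ F, u * v = v * u := by
    intro u hu v hv
    rw [← hZeq] at hu
    obtain ⟨z, hz, rfl⟩ := hu
    have := (Subgroup.mem_center_iff.mp hz) ⟨v, hv⟩
    exact (congrArg Subtype.val this).symm
  refine ⟨⟨⟨fun u v => Subtype.ext (hcomm u u.2 v v.2)⟩⟩, p, n.primeFactorsList.length, hpp, ?_, ?_⟩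
  · -- exponent `p`
    let U : Subgroup G :=
      { carrier := {x | x ∈ F ∧ x ^ p = 1}
        mul_mem' := by
          rintro x y ⟨hx, hx'⟩ ⟨hy, hy'⟩
          refine ⟨F.mul_mem hx hy, ?_⟩
          have hc : Commute x y := hcomm x hx y hy
          rw [hc.mul_pow, hx', hy', one_mul]
        one_mem' := ⟨F.one_mem, one_pow _⟩
        inv_mem' := by
          rintro x ⟨hx, hx'⟩
          exact ⟨F.inv_mem hx, by rw [inv_pow, hx', inv_one]⟩ }
    have hUF : U ≤ F := fun x hx => hx.1
    have hUinv : ∀ h ∈ H, ∀ x ∈ U, h * x * h⁻¹ ∈ U := by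
      rintro h hh x ⟨hx, hx'⟩
      exact ⟨hconj h hh x hx, by rw [conj_pow, hx']; simp⟩
    have hUne : U ≠ ⊥ := by
      obtain ⟨x, hx⟩ := exists_prime_orderOf_dvd_card' p hpn
      rw [Ne, Subgroup.eq_bot_iff_forall]
      push Not
      refine ⟨(x : G), ⟨x.2, ?_⟩, ?_⟩
      · have := pow_orderOf_eq_one x
        rw [hx] at this
        exact congrArg Subtype.val this
      · intro h
        have : x = 1 := Subtype.ext h
        rw [this, orderOf_one] at hx
        exact hpp.one_lt.ne hx
    have hUeq := hK U hUF hUinv hUne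
    intro u hu
    rw [← hUeq] at hu
    exact hu.2
  · rw [← hnpow]
    omega

end Cfsg.Agent.S0738
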