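import Cfsg.Statements.S0741
import Cfsg.Agent.Lib.Zass.Basic
import Mathlib

set_option autoImplicit false
open Cfsg

namespace Cfsg.Agent.S0741

open Cfsg.Agent.Lib.Zass.Basic

/-- If the two-point stabilisers of a finite Zassenhaus group of degree `n + 1` have even order `d`, then `2d ≥ n - 1`. -/
theorem result {G Ω : Type*} [Group G] [Finite G] [MulAction G Ω] [Fintype Ω] (hZ : Cfsg.IsZassenhausGroup G Ω) {a b : Ω} (hab : a ≠ b) (heven : Even (Nat.card ↥(MulAction.stabilizer G a ⊓ MulAction.stabilizer G b))) : Fintype.card Ω - 2 ≤ 2 * Nat.card ↥(MulAction.stabilizer G a ⊓ MulAction.stabilizer G b) := by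
  classical
  -- the involution in `H`
  have hdvd : 2 ∣ Nat.card ↥(MulAction.stabilizer G a ⊓ MulAction.stabilizer G b) := heven.two_dvd
  have := Fact.mk Nat.prime_two
  obtain ⟨z₀, hz₀⟩ := exists_prime_orderOf_dvd_card' 2 hdvd
  set z : G := (z₀ : G) with hzdef
  have hzord : orderOf z = 2 := by rw [hzdef, Subgroup.orderOf_coe, hz₀]
  have hz1 : z ≠ 1 := by
    intro h
    rw [h, orderOf_one] at hzord
    omega
  have hz2 : z * z = 1 := by
    have := pow_orderOf_eq_one z
    rwa [hzord, pow_two] at this
  have hza : z • a = a := z₀.2.1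
  have hzb : z • b = b := z₀.2.2
  have hzz : ∀ x : Ω, z • z • x = x := fun x => by rw [← mul_smul, hz2, one_smul]
  have hzfix : ∀ x : Ω, z • x = x → x = a ∨ x = b := by
    intro x hx
    by_contra hcon
    push Not at hcon
    exact hz1 (fix3 hZ hab (Ne.symm hcon.2) (Ne.symm hcon.1) hza hzb hx)
  -- the involutions `u x`
  let P := {x : Ω // x ≠ a ∧ x ≠ b}
  let S := {g : G // g • a = b ∧ g • b = a}
  have hex : ∀ x : P, ∃ u : S, (u : G) • (x : Ω) = x ∧ (u : G) ≠ 1 := by
    rintro ⟨x, hxa, hxb⟩
    have hzx : z • x ≠ x := fun h => (hzfix x h).elim hxa hxb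
    have hya : z • x ≠ a := fun h => hxa (by rw [← hzz x, h, hza])
    have hyb : z • x ≠ b := fun h => hxb (by rw [← hzz x, h, hzb])
    obtain ⟨g, hg1, hg2⟩ := trans2 hZ hab (Ne.symm hzx)
    set u : G := g * z * g⁻¹ with hu
    have hu1 : u ≠ 1 := by
      intro h
      apply hz1
      have : z = g⁻¹ * u * g := by rw [hu]; group
      rw [this, h]; group
    have hu2 : u * u = 1 := by
      calc u * u = g * (z * z) * g⁻¹ := by rw [hu]; group
        _ = 1 := by rw [hz2]; group
    have hux : u • x = x := by
      rw [hu]; simp only [mul_smul]; rw [← hg1]; simp [hza]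
    have huy : u • (z • x) = z • x := by
      rw [hu]; simp only [mul_smul]; rw [← hg2]; simp [hzb]
    -- `z` commutes with `u`
    set v : G := z * u * z⁻¹ with hv
    have hzinv : z⁻¹ = z := inv_eq_of_mul_eq_one_left hz2
    have hv1 : v ≠ 1 := by
      intro h
      apply hu1
      have : u = z⁻¹ * v * z := by rw [hv]; group
      rw [this, h]; group
    have hv2 : v * v = 1 := by
      calc v * v = z * (u * u) * z⁻¹ := by rw [hv]; group
        _ = 1 := by rw [hu2]; group
    have hvx : v • x = x := by
      rw [hv]; simp only [mul_smul]; rw [hzinv, huy, hzz]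
    have hvy : v • (z • x) = z • x := by
      rw [hv]; simp only [mul_smul]; rw [hzinv, hzz, hux]
    have huv : u = v := unique_involution hZ (Ne.symm hzx) hux huy hvx hvy hu1 hu2 hv1 hv2
    have hcomm : ∀ w : Ω, z • u • w = u • z • w := by
      intro w
      have : z * u = u * z := by
        calc z * u = v * z := by rw [hv]; group
          _ = u * z := by rw [← huv]
      have h2 := congrArg (fun k : G => k • w) this
      simpa [mul_smul] using h2
    have hua : u • a ≠ a := by
      intro h
      exact hu1 (fix3 hZ (Ne.symm hxa) (Ne.symm hzx) (Ne.symm hya) h hux huy)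
    have hub : u • b ≠ b := by
      intro h
      exact hu1 (fix3 hZ (Ne.symm hxb) (Ne.symm hzx) (Ne.symm hyb) h hux huy)
    have hua' : u • a = b := by
      have h1 : z • (u • a) = u • a := by rw [hcomm, hza]
      exact (hzfix _ h1).resolve_left hua
    have hub' : u • b = a := by
      have h1 : z • (u • b) = u • b := by rw [hcomm, hzb]
      exact (hzfix _ h1).resolve_right hub
    exact ⟨⟨u, hua', hub'⟩, hux, hu1⟩
  choose f hfx hf1 using hex
  have _ : Fintype S := Fintype.ofFinite S
  -- the count
  have hle : Fintype.card P ≤ 2 * Fintype.card S := by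
    have hfib : ∀ u ∈ (Finset.univ : Finset S),
        (Finset.univ.filter (fun x : P => f x = u)).card ≤ 2 := by
      intro u _
      by_contra hcon
      push Not at hcon
      obtain ⟨x, hx, y, hy, w, hw, hxy, hxw, hyw⟩ := Finset.two_lt_card.mp hcon
      simp only [Finset.mem_filter, Finset.mem_univ, true_and] at hx hy hw
      have h1 := hfx x
      have h2 := hfx y
      have h3 := hfx w
      rw [hx] at h1
      rw [hy] at h2
      rw [hw] at h3
      have hu1 : (u : G) ≠ 1 := by
        have := hf1 x
        rwa [hx] at this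
      exact hu1 (fix3 hZ (fun h => hxy (Subtype.ext h)) (fun h => hyw (Subtype.ext h))
        (fun h => hxw (Subtype.ext h)) h1 h2 h3)
    have := Finset.card_le_mul_card_image_of_maps_to (s := (Finset.univ : Finset P))
      (t := (Finset.univ : Finset S)) (f := f) (fun x _ => Finset.mem_univ _) 2 hfib
    simpa using this
  have hP : Fintype.card P = Fintype.card Ω - 2 := by
    have : (Finset.univ.filter (fun x : Ω => x ≠ a ∧ x ≠ b)) = Finset.univ \ {a, b} := by
      ext x
      simp
    rw [Fintype.card_subtype, this, Finset.card_sdiff_of_subset (Finset.subset_univ _),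
      Finset.card_univ, Finset.card_pair hab]
  obtain ⟨s₀, hs₁, hs₂⟩ := trans2 hZ hab (Ne.symm hab)
  have hS : Fintype.card S = Nat.card ↥(MulAction.stabilizer G a ⊓ MulAction.stabilizer G b) := by
    rw [← Nat.card_eq_fintype_card]
    apply Nat.card_congr
    refine
      { toFun := fun g => ⟨s₀⁻¹ * g.1, ?_, ?_⟩
        invFun := fun h => ⟨s₀ * h.1, ?_, ?_⟩
        left_inv := fun g => by simp
        right_inv := fun h => by simp }
    · show (s₀⁻¹ * g.1) • a = a
      rw [mul_smul, g.2.1, inv_smul_eq_iff, hs₁]
    · show (s₀⁻¹ * g.1) • b = b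
      rw [mul_smul, g.2.2, inv_smul_eq_iff, hs₂]
    · have : (h.1 : G) • a = a := h.2.1
      rw [mul_smul, this, hs₁]
    · have : (h.1 : G) • b = b := h.2.2
      rw [mul_smul, this, hs₂]
  rw [← hP, ← hS]
  exact hle

end Cfsg.Agent.S0741
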