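import Cfsg.Statements.S0344
import Cfsg.Agent.Lib.Zass.NoSharp

set_option autoImplicit false
open Cfsg

namespace Cfsg.Agent.S0344

/-- A finite simple Zassenhaus group with a two-point stabiliser of even order is isomorphic to `PSL₂(F)` for a finite
field `F` with more than three elements. -/
theorem result {G Ω : Type*} [Group G] [Finite G] [MulAction G Ω] [Finite Ω]
    (hZ : Cfsg.IsZassenhausGroup G Ω) [IsSimpleGroup G]
    {a b : Ω} (hab : a ≠ b) (heven : Even (Nat.card ↥(MulAction.stabilizer G a ⊓ MulAction.stabilizer G b))) :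
    ∃ (F : Type) (_ : Field F) (_ : Fintype F), 3 < Fintype.card F ∧ Nonempty (G ≃* Matrix.ProjectiveSpecialLinearGroup (Fin 2) F) := by
  classical
  let _ := Fintype.ofFinite Ω
  have hn := Cfsg.Agent.Lib.Zass.NoSharp.two_of_even_simple hZ hab heven
  set F : Subgroup G := Cfsg.Agent.Lib.Zass.Basic.kernelAt a b with hF
  have hFle : F ≤ MulAction.stabilizer G a := Cfsg.Agent.Lib.Zass.Basic.kernelAt_le a b
  have hFn := Cfsg.Agent.Lib.Zass.Basic.kernelAt_normal (G := G) a b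
  have hreg : ∀ y z : Ω, y ≠ a → z ≠ a → ∃! u : F, (u : G) • y = z :=
    fun y z hy hz => Cfsg.Agent.Lib.Zass.Basic.kernelAt_regular hZ hab hy hz
  obtain ⟨hcomm, p, f, hp, hexp, hcard⟩ := Cfsg.Agent.S0738.result hZ hab (by
    have := hn
    simp only [Cfsg.Agent.Lib.Zass.Stab.E] at this
    omega) F hFle hFn hreg
  have hcomm' : ∀ x ∈ F, ∀ y ∈ F, x * y = y * x := by
    intro x hx y hy
    have := hcomm.is_comm.comm ⟨x, hx⟩ ⟨y, hy⟩
    exact congrArg Subtype.val this
  have hFn' : ∀ g : G, g • a = a → ∀ u ∈ F, g * u * g⁻¹ ∈ F := by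
    intro g hg u hu
    have hu' : (⟨u, hFle hu⟩ : MulAction.stabilizer G a) ∈ F.subgroupOf (MulAction.stabilizer G a) := hu
    exact hFn.conj_mem _ hu' ⟨g, hg⟩
  obtain ⟨K, i1, i2, h1, h2, h3⟩ := Cfsg.Agent.Lib.Zass.RootPSL.psl_even hZ hab F hcomm' hFle hFn'
    (fun y hy => hreg b y (Ne.symm hab) hy) heven hn
  have hcardF := Cfsg.Agent.Lib.Zass.RootPSL.card_regular hab hFle (fun y hy => hreg b y (Ne.symm hab) hy)
  refine ⟨K, i1, i2, ?_, h3⟩
  rw [h2]
  have hd0 : 0 < Nat.card ↥(MulAction.stabilizer G a ⊓ MulAction.stabilizer G b) := Nat.card_pos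
  obtain ⟨k, hk⟩ := heven
  simp only [Cfsg.Agent.Lib.Zass.Stab.E] at hn
  omega

end Cfsg.Agent.S0344
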