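import Cfsg.Statements.S0118
import Cfsg.Agent.Lib.ZJStrong.ZJe

set_option autoImplicit false
open Cfsg

namespace Cfsg.Agent.S0118

universe u

section helpers

open Cfsg.Agent.Lib.ZJ.QdSection Cfsg.Agent.Lib.ZJ.QdControl

variable {p : ℕ} [hpf : Fact p.Prime]

/-- The upper left block. -/
def bl (M : qd p) : Matrix (Fin 2) (Fin 2) (ZMod p) := !![mat M 0 0, mat M 0 1; mat M 1 0, mat M 1 1]

lemma bl_det (M : qd p) : (bl M).det = 1 := by
  obtain ⟨h1, h2, h3⟩ := (mem_qd_iff _).1 M.2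
  have hdet := (M : Matrix.SpecialLinearGroup (Fin 3) (ZMod p)).2
  rw [Matrix.det_fin_three, h1, h2, h3] at hdet
  rw [bl, Matrix.det_fin_two_of]
  linear_combination hdet

lemma bl_mul (M N : qd p) : bl (M * N) = bl M * bl N := by
  obtain ⟨h1, h2, h3⟩ := (mem_qd_iff _).1 N.2
  have e0 : ∀ i, mat (M * N) i 0 = mat M i 0 * mat N 0 0 + mat M i 1 * mat N 1 0 := by
    intro i
    rw [mat_mul, Matrix.mul_apply, Fin.sum_univ_three]
    have h1' : mat N 2 0 = 0 := h1
    rw [h1', mul_zero, add_zero]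
  have e1 : ∀ i, mat (M * N) i 1 = mat M i 0 * mat N 0 1 + mat M i 1 * mat N 1 1 := by
    intro i
    rw [mat_mul, Matrix.mul_apply, Fin.sum_univ_three]
    have h2' : mat N 2 1 = 0 := h2
    rw [h2', mul_zero, add_zero]
  ext i j
  fin_cases i <;> fin_cases j <;>
    simp [bl, Matrix.mul_apply, Fin.sum_univ_two, e0, e1]

/-- The projection of `qd p` onto `SL₂(p)`. -/
def toSL2 : qd p →* Matrix.SpecialLinearGroup (Fin 2) (ZMod p) where
  toFun M := ⟨bl M, bl_det M⟩
  map_one' := by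
    apply Subtype.ext
    ext i j
    fin_cases i <;> fin_cases j <;> simp [bl, mat]
  map_mul' := by
    intro M N
    exact Subtype.ext (bl_mul M N)

lemma toSL2_surjective : Function.Surjective (toSL2 (p := p)) := by
  intro A
  refine ⟨blk A, ?_⟩
  apply Subtype.ext
  change bl (blk A) = _
  rw [bl, mat_blkHom]
  ext i j
  fin_cases i <;> fin_cases j <;> simp

lemma not_involves_of_free {G : Type u} [Group G]
    (hfree : ¬ ∃ (H K : Subgroup G) (hK : (K.subgroupOf H).Normal),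
        Nonempty ((H ⧸ K.subgroupOf H) ≃* Matrix.SpecialLinearGroup (Fin 2) (ZMod p))) :
    ¬ Involves (qd p) G := by
  intro h
  obtain ⟨H, f, hf⟩ := involves_iff.1 h
  let h₂ : H →* Matrix.SpecialLinearGroup (Fin 2) (ZMod p) := toSL2.comp f
  have hs : Function.Surjective h₂ := toSL2_surjective.comp hf
  have hR : (h₂.ker.map H.subtype).subgroupOf H = h₂.ker := by
    rw [Subgroup.subgroupOf, Subgroup.comap_map_eq_self_of_injective H.subtype_injective]
  have hN : ((h₂.ker.map H.subtype).subgroupOf H).Normal := by rw [hR]; infer_instance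
  refine hfree ⟨H, h₂.ker.map H.subtype, hN, ⟨?_⟩⟩
  exact (QuotientGroup.quotientMulEquivOfEq hR).trans (QuotientGroup.quotientKerEquivOfSurjective h₂ hs)

end helpers

/-- Glauberman's ZJ-Theorem, in the case of groups with no section isomorphic to SL(2,p), p odd: conjugation of subsets of a Sylow p-subgroup P inside P is always induced from the normalizer of Z(J(P)). -/
theorem result {G : Type*} [Group G] [Finite G] {p : ℕ} [Fact p.Prime] (hp : p ≠ 2) (hfree : ¬ ∃ (H K : Subgroup G) (hK : (K.subgroupOf H).Normal), Nonempty ((H ⧸ K.subgroupOf H) ≃* Matrix.SpecialLinearGroup (Fin 2) (ZMod p))) (P : Sylow p G) (A : Set G) (hA : A ⊆ (P : Set G)) (g : G) (hAg : (fun a => g⁻¹ * a * g) '' A ⊆ (P : Set G)) : ∃ n ∈ Subgroup.normalizer (Cfsg.centerThompsonOf p (P : Subgroup G) : Set G), ∀ a ∈ A, n⁻¹ * a * n = g⁻¹ * a * g := by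
  have hnot := not_involves_of_free (p := p) hfree
  have hinv : ∀ a ∈ A, g⁻¹ * a * g⁻¹⁻¹ ∈ (P : Subgroup G) := by
    intro a ha
    rw [inv_inv]
    exact hAg ⟨a, ha, rfl⟩
  obtain ⟨m, hm, hma⟩ := Cfsg.Agent.Lib.ZJ.Main.csf_set
    (Cfsg.Agent.Lib.ZJStrong.ZJe.csf_zje hp hnot) P A hA g⁻¹ hinv
  rw [Cfsg.Agent.Lib.ZJStrong.ZJe.Wf_WZJe _ P.isPGroup'] at hm
  refine ⟨m⁻¹, ?_, fun a ha => ?_⟩
  · rw [Cfsg.Agent.Lib.PLocal.Thompson.centerThompsonOf_eq]
    exact inv_mem hm
  · have h := hma a ha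
    rw [inv_inv] at h
    rw [inv_inv, h]

end Cfsg.Agent.S0118
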