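import Cfsg.Statements.S0932
import Cfsg.Agent.Lib.BlockT.CharSum

set_option autoImplicit false
open Cfsg

namespace Cfsg.Agent.S0932

/-- Let H be a subgroup of the finite group G and ξ a character of H. For every g ∈ G, the sum of ξ h / ξ 1 over the elements h ∈ H that are conjugate in G to g equals the central character at g of the character of G induced from ξ (class size times value divided by degree). -/
theorem result {G : Type*} [Group G] [Fintype G] (H : Subgroup G) (ξ : H → ℂ) (hξ : Cfsg.IsCharacter H ξ) (g : G) : Cfsg.inducedCentralChar H ξ g = Cfsg.centralChar (Cfsg.indFun H ξ) g := by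
  classical
  let _ : Fintype {y : G // IsConj g y} := Fintype.ofFinite _
  unfold Cfsg.inducedCentralChar Cfsg.centralChar
  rw [Cfsg.Agent.Lib.BlockT.CharSum.finsum_subgroup_isConj_eq H (fun h => ξ h / ξ 1) g]
  have h1 : ∀ y : {y : G // IsConj g y}, Cfsg.extendByZero H (fun h => ξ h / ξ 1) y
      = Cfsg.extendByZero H ξ y / ξ 1 := by
    intro y
    by_cases hy : (y : G) ∈ H
    · rw [Cfsg.Agent.Lib.Char.Induced.extendByZero_of_mem H _ hy, Cfsg.Agent.Lib.Char.Induced.extendByZero_of_mem H _ hy]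
    · rw [Cfsg.Agent.Lib.Char.Induced.extendByZero_of_not_mem H _ hy, Cfsg.Agent.Lib.Char.Induced.extendByZero_of_not_mem H _ hy]
      simp
  rw [Finset.sum_congr rfl (fun y _ => h1 y), ← Finset.sum_div, Cfsg.Agent.Lib.Char.Induced.indFun_one,
    Cfsg.Agent.Lib.Char.Induced.indFun_apply, Cfsg.Agent.Lib.BlockT.CharSum.sum_conj_eq]
  set S := ∑ y : {y : G // IsConj g y}, Cfsg.extendByZero H ξ y
  set C := Subgroup.centralizer ({g} : Set G)
  have hG : (Nat.card G : ℂ) = (Nat.card C : ℂ) * (C.index : ℂ) := by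
    rw [← Nat.cast_mul, Subgroup.card_mul_index]
  have hG2 : (Nat.card G : ℂ) = (Nat.card H : ℂ) * (H.index : ℂ) := by
    rw [← Nat.cast_mul, Subgroup.card_mul_index]
  have hH : (Nat.card H : ℂ) ≠ 0 := Cfsg.Agent.Lib.Char.Induced.card_subgroup_ne_zero H
  have hHi : (H.index : ℂ) ≠ 0 := Cfsg.Agent.Lib.Char.Induced.index_ne_zero' H
  have e : (C.index : ℂ) * ((Nat.card H : ℂ)⁻¹ * ((Nat.card C : ℂ) * S)) = (H.index : ℂ) * S := by
    field_simp
    rw [mul_comm (C.index : ℂ), ← hG, hG2]
    ring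
  rw [e]
  by_cases h0 : ξ 1 = 0
  · simp [h0]
  · field_simp

end Cfsg.Agent.S0932
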