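import Cfsg.Statements.S0941
import Cfsg.Agent.Lib.BlockT.Inflate2
import Cfsg.Agent.Lib.Transfer.Basic

set_option autoImplicit false
open Cfsg

open Cfsg.Agent.Lib.BlockT.Inflate Cfsg.Agent.Lib.BlockT.Inflate2 Cfsg.Agent.Lib.Char.Basic Cfsg.Agent.Lib.Char.Linear

namespace Cfsg.Agent.S0941

/-- Let P be a normal p-subgroup of the finite group G such that the index of C_G(P) is a power of p, and fix a maximal ideal M of the algebraic integers containing p. Then (i) two irreducible characters of G ⧸ P lie in the same block if and only if their inflations to G do, and (ii) every block of G contains the inflation of some irreducible character of G ⧸ P; so inflation induces a bijection between the blocks of G ⧸ P and the blocks of G. -/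
theorem result {G : Type*} [Group G] [Finite G] (p : ℕ) [Fact p.Prime] (M : Ideal Cfsg.AlgInt) (hM : Cfsg.IsPModular p M) (P : Subgroup G) [P.Normal] (hP : IsPGroup p P) (hC : ∃ k : ℕ, (Subgroup.centralizer (P : Set G)).index = p ^ k) : (∀ χ ψ : Cfsg.IrrCharacter (G ⧸ P), Cfsg.SameBlock M (χ : G ⧸ P → ℂ) (ψ : G ⧸ P → ℂ) ↔ Cfsg.SameBlock M ((χ : G ⧸ P → ℂ) ∘ QuotientGroup.mk) ((ψ : G ⧸ P → ℂ) ∘ QuotientGroup.mk)) ∧ ∀ B : Set (Cfsg.IrrCharacter G), Cfsg.IsPBlock M B → ∃ χ : Cfsg.IrrCharacter (G ⧸ P), ∃ θ ∈ B, (θ : G → ℂ) = (χ : G ⧸ P → ℂ) ∘ QuotientGroup.mk := by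
  classical
  cases nonempty_fintype G
  haveI := Cfsg.Agent.Lib.Blocks.Local.isPrime_of_pModular hM
  letI : Fintype P := Fintype.ofFinite P
  letI : Fintype (G ⧸ P) := Fintype.ofFinite _
  have hN : P.Normal := ‹P.Normal›
  have hsurj : Function.Surjective (QuotientGroup.mk' P) := QuotientGroup.mk'_surjective P
  refine ⟨fun χ ψ => ⟨fun h => sameBlock_comp (QuotientGroup.mk' P) hsurj
    (isClassFunction_of_isIrrCharacter χ.2) (isClassFunction_of_isIrrCharacter ψ.2) h, fun h => ?_⟩, ?_⟩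
  · apply sameBlock_of_regular hM
    intro w hw
    obtain ⟨y, rfl⟩ := QuotientGroup.mk_surjective w
    obtain ⟨a, b, hab, -, ha, -, ⟨k, hk⟩, hb⟩ := Cfsg.Agent.Lib.Transfer.Basic.exists_pPart_decomp (p := p) y
    have hb' : ¬ p ∣ orderOf b := (Nat.Prime.coprime_iff_not_dvd hM.1).mp hb.symm
    have hma : (QuotientGroup.mk a : G ⧸ P) = 1 := by
      obtain ⟨n, rfl⟩ := Subgroup.mem_zpowers_iff.mp ha
      have h1 : orderOf (QuotientGroup.mk (y ^ n) : G ⧸ P) ∣ p ^ k := by
        apply orderOf_dvd_of_pow_eq_one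
        rw [← QuotientGroup.mk_pow, hk, QuotientGroup.mk_one]
      have h2 : orderOf (QuotientGroup.mk (y ^ n) : G ⧸ P) ∣ orderOf (QuotientGroup.mk y : G ⧸ P) := by
        rw [QuotientGroup.mk_zpow]
        exact orderOf_dvd_of_pow_eq_one (by
          rw [← zpow_natCast, ← zpow_mul, mul_comm, zpow_mul, zpow_natCast, pow_orderOf_eq_one, one_zpow])
      have hcop : (p ^ k).Coprime (orderOf (QuotientGroup.mk y : G ⧸ P)) :=
        Nat.Coprime.pow_left k ((Nat.Prime.coprime_iff_not_dvd hM.1).mpr hw)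
      have h3 := Nat.Coprime.eq_one_of_dvd (Nat.Coprime.coprime_dvd_left h1 hcop) h2
      exact orderOf_eq_one_iff.mp h3
    have hmy : (QuotientGroup.mk y : G ⧸ P) = QuotientGroup.mk b := by
      rw [hab, QuotientGroup.mk_mul, hma, one_mul]
    rw [hmy]
    have hidx := index_centralizer_mk hM.1 hN hP hC hb'
    have hc : ∀ φ : G ⧸ P → ℂ, Cfsg.centralChar φ (QuotientGroup.mk b) = Cfsg.centralChar (φ ∘ QuotientGroup.mk) b := by
      intro φ
      rw [Cfsg.centralChar, Cfsg.centralChar, hidx]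
      simp
    rw [hc, hc]
    exact h b
  · intro B hB
    obtain ⟨θ, hθ, htriv⟩ := exists_trivial_mem_block hM hN hP hB
    have hker : ∀ k ∈ (QuotientGroup.mk' P).ker, (θ : G → ℂ) k = (θ : G → ℂ) 1 := by
      intro k hk
      rw [QuotientGroup.ker_mk'] at hk
      exact htriv ⟨k, hk⟩
    obtain ⟨φ, hφ, hθφ⟩ := isIrrCharacter_descend (QuotientGroup.mk' P) hsurj θ.2 hker
    exact ⟨⟨φ, hφ⟩, θ, hθ, hθφ⟩

end Cfsg.Agent.S0941
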