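import Cfsg.Statements.S4701
import Cfsg.Agent.S0999
import Cfsg.Agent.Lib.BrauerOrder.Bound
import Cfsg.Agent.Lib.BrauerP.Main
import Cfsg.Agent.Lib.AltSpec.Section
-- import your own Cfsg.Agent.* helpers here

set_option autoImplicit false
open Cfsg

namespace Cfsg.Agent.S4701

/-- A perfect group with a normal Sylow subgroup of prime order does not exist. -/
theorem false_of_normal {Γ : Type*} [Group Γ] [Finite Γ] {p : ℕ} [hp : Fact p.Prime]
    (hperf : commutator Γ = ⊤) (Q : Subgroup Γ) (hQ : Q.Normal) (hcard : Nat.card Q = p)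
    (hp2 : ¬ p ^ 2 ∣ Nat.card Γ) : False := by
  classical
  have hfac : (Nat.card Γ).factorization p = 1 := by
    have h1 : p ∣ Nat.card Γ := by
      rw [← hcard]
      exact Subgroup.card_subgroup_dvd_card _
    have h2 : 1 ≤ (Nat.card Γ).factorization p :=
      (hp.out.dvd_iff_one_le_factorization Nat.card_pos.ne').mp h1
    have h3 : ¬ 2 ≤ (Nat.card Γ).factorization p := by
      intro h
      exact hp2 ((hp.out.pow_dvd_iff_le_factorization Nat.card_pos.ne').mpr h)
    omega
  let S : Sylow p Γ := Sylow.ofCard Q (by rw [hfac, pow_one, hcard])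
  have hS : (S : Subgroup Γ) = Q := rfl
  have hcyc : IsCyclic Q := isCyclic_of_prime_card hcard
  have hcomm : ∀ φ ψ : MulAut Q, φ * ψ = ψ * φ := by
    intro φ ψ
    obtain ⟨m, hm⟩ := MonoidHom.map_cyclic φ.toMonoidHom
    obtain ⟨n, hn⟩ := MonoidHom.map_cyclic ψ.toMonoidHom
    ext y
    have h1 : ∀ z, φ z = z ^ m := hm
    have h2 : ∀ z, ψ z = z ^ n := hn
    show ((φ (ψ y) : Q) : Γ) = ((ψ (φ y) : Q) : Γ)
    rw [h1, h2, h1, h2, ← zpow_mul, ← zpow_mul, mul_comm]
  let c : Γ →* MulAut Q := MulAut.conjNormal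
  have hker : commutator Γ ≤ c.ker := by
    rw [commutator_def, Subgroup.commutator_le]
    intro a _ b _
    rw [MonoidHom.mem_ker, map_commutatorElement, commutatorElement_eq_one_iff_mul_comm]
    exact hcomm _ _
  rw [hperf] at hker
  refine Cfsg.Agent.Lib.BrauerP.Main.not_normalizer_le hperf S hcard ?_
  intro g _
  rw [hS, Subgroup.mem_centralizer_iff]
  intro y hy
  have h3 : c g = 1 := hker (Subgroup.mem_top g)
  have h4 := congrArg (fun φ : MulAut Q => ((φ ⟨y, hy⟩ : Q) : Γ)) h3
  simp only [c, MulAut.conjNormal_apply, MulAut.one_apply] at h4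
  have h5 : g * y * g⁻¹ = y := h4
  calc y * g = g * y * g⁻¹ * g := by rw [h5]
    _ = g * y := by group

/-- `PSL₂` over a field of characteristic two is `SL₂`. -/
theorem psl_iso (F : Type*) [Field F] [Fintype F] (h2 : (2 : F) = 0) :
    Nonempty (Matrix.ProjectiveSpecialLinearGroup (Fin 2) F ≃* Matrix.SpecialLinearGroup (Fin 2) F) := by
  classical
  have hc : Subgroup.center (Matrix.SpecialLinearGroup (Fin 2) F) = ⊥ := by
    rw [eq_bot_iff]
    intro A hA
    obtain ⟨r, hr, hrA⟩ := Matrix.SpecialLinearGroup.mem_center_iff.mp hA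
    have hr2 : r ^ 2 = 1 := by simpa using hr
    have h3 : (r - 1) ^ 2 = 0 := by
      have : (r - 1) ^ 2 = r ^ 2 + 1 - 2 * r := by ring
      rw [this, hr2, h2, zero_mul, sub_zero]
      calc (1 : F) + 1 = 2 := by norm_num
        _ = 0 := h2
    have h4 : r = 1 := sub_eq_zero.mp (pow_eq_zero_iff (by norm_num) |>.mp h3)
    rw [Subgroup.mem_bot]
    ext i j
    have := congrFun (congrFun hrA i) j
    simpa [h4] using this.symm
  exact ⟨(QuotientGroup.quotientMulEquivOfEq hc).trans QuotientGroup.quotientBot⟩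

/-- A perfect nontrivial group does not have prime order. -/
theorem perfect_card_ne_prime {Γ : Type*} [Group Γ] [Finite Γ] {q : ℕ} (hq : q.Prime)
    (hperf : commutator Γ = ⊤) (hc : Nat.card Γ = q) : False := by
  haveI : Fact q.Prime := ⟨hq⟩
  have hcyc : IsCyclic Γ := isCyclic_of_prime_card hc
  letI : CommGroup Γ := IsCyclic.commGroup
  have hbot : commutator Γ = ⊥ := by
    rw [commutator_def, Subgroup.commutator_eq_bot_iff_le_centralizer]
    intro x _
    rw [Subgroup.mem_centralizer_iff]
    intro y _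
    exact mul_comm _ _
  rw [hperf] at hbot
  have h1 : Nat.card Γ = 1 := by
    have : Nat.card (⊤ : Subgroup Γ) = Nat.card (⊥ : Subgroup Γ) := by rw [hbot]
    simpa using this
  rw [hc] at h1
  exact hq.one_lt.ne' h1

/-- Let G be a finite perfect group and p a prime dividing the order of G with p^3 larger than the order of G. Suppose a Sylow p-subgroup of G is not normal and G has no normal subgroup of order 2. Then p > 3 and G is isomorphic to PSL(2, p), or to SL(2, 2^m) with p = 2^m + 1. -/
theorem result {G : Type*} [Group G] [Finite G] (hperf : commutator G = ⊤) (p : ℕ) [Fact p.Prime] (hdvd : p ∣ Nat.card G) (hbig : Nat.card G < p ^ 3) (P : Sylow p G) (hP : ¬ (P : Subgroup G).Normal) (h2 : ∀ N : Subgroup G, N.Normal → Nat.card N ≠ 2) : (∃ (F : Type) (_ : Field F) (_ : Fintype F), Fintype.card F = p ∧ 3 < p ∧ Nonempty (G ≃* Matrix.ProjectiveSpecialLinearGroup (Fin 2) F)) ∨ (∃ (m : ℕ) (F : Type) (_ : Field F) (_ : Fintype F), Fintype.card F = 2 ^ m ∧ p = 2 ^ m + 1 ∧ 3 < p ∧ Nonempty (G ≃* Matrix.SpecialLinearGroup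 (Fin 2) F)) := by
  classical
  have hp := (Fact.out : p.Prime)
  let _ : Fintype G := Fintype.ofFinite G
  have hGpos : 0 < Nat.card G := Nat.card_pos
  -- `p ^ 2 ∤ |G|`
  have hp2 : ¬ p ^ 2 ∣ Nat.card G := by
    intro h2
    have hcp := P.card_eq_multiplicity
    obtain ⟨k, hk⟩ := IsPGroup.iff_card.mp P.isPGroup'
    have hdvd2 : p ^ 2 ∣ Nat.card P := by
      have := Sylow.pow_dvd_card_of_pow_dvd_card (p := p) (G := G) P h2
      exact this
    have hle := Subgroup.card_mul_index (P : Subgroup G)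
    have h3 : Nat.card P ≥ p ^ 2 := Nat.le_of_dvd Nat.card_pos hdvd2
    have hidx : (P : Subgroup G).index < p := by
      by_contra hc
      push Not at hc
      have : p ^ 3 ≤ Nat.card G := by
        calc p ^ 3 = p ^ 2 * p := by ring
          _ ≤ Nat.card P * (P : Subgroup G).index := Nat.mul_le_mul h3 hc
          _ = Nat.card G := hle
      omega
    have hs1 : Nat.card (Sylow p G) ≡ 1 [MOD p] := card_sylow_modEq_one p G
    have hs2 : Nat.card (Sylow p G) ∣ (P : Subgroup G).index := Sylow.card_dvd_index P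
    have hidx0 : (P : Subgroup G).index ≠ 0 := Subgroup.index_ne_zero_of_finite
    have hs3 : Nat.card (Sylow p G) ≤ (P : Subgroup G).index := Nat.le_of_dvd (Nat.pos_of_ne_zero hidx0) hs2
    have hs4 : Nat.card (Sylow p G) = 1 := by
      have h5 : Nat.card (Sylow p G) % p = 1 % p := hs1
      rw [Nat.mod_eq_of_lt (lt_of_le_of_lt hs3 hidx), Nat.mod_eq_of_lt hp.one_lt] at h5
      exact h5
    have : Subsingleton (Sylow p G) := (Nat.card_eq_one_iff_unique.mp hs4).1
    exact hP (Sylow.normal_of_subsingleton P)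
  -- the simple section
  obtain ⟨H, N₀, hHn, hN₀n, hmap, hpN, hpH, hne, hN, hsimple⟩ :=
    Cfsg.Agent.Lib.AltSpec.exists_simple_section hp hdvd hp2
  have hcardH : Nat.card H = Nat.card (H ⧸ N₀) * Nat.card N₀ := by
    rw [Subgroup.card_eq_card_quotient_mul_card_subgroup N₀]
  have hcardG : Nat.card G = Nat.card H * H.index := (Subgroup.card_mul_index H).symm
  have hpS : p ∣ Nat.card (H ⧸ N₀) := by
    rw [hcardH] at hpH
    exact (hp.dvd_mul.mp hpH).resolve_right hpN
  have hp2S : ¬ p ^ 2 ∣ Nat.card (H ⧸ N₀) := by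
    intro h
    apply hp2
    rw [hcardG, hcardH]
    exact Dvd.dvd.mul_right (Dvd.dvd.mul_right h _) _
  have hperfQ : ∀ (K : Subgroup G) [K.Normal], commutator (G ⧸ K) = ⊤ := by
    intro K _
    have h := Subgroup.map_commutator (⊤ : Subgroup G) ⊤ (QuotientGroup.mk' K)
    rw [Subgroup.map_top_of_surjective _ (QuotientGroup.mk'_surjective K)] at h
    rw [commutator_def, ← h, ← commutator_def, hperf, Subgroup.map_top_of_surjective _ (QuotientGroup.mk'_surjective K)]
  haveI := hN
  -- the section is not abelian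
  have hna : ¬ IsMulCommutative (H ⧸ N₀) := by
    intro hcomm
    letI : CommGroup (H ⧸ N₀) := { (inferInstance : Group (H ⧸ N₀)) with mul_comm := hcomm.is_comm.comm }
    have hcS : Nat.card (H ⧸ N₀) = p := by
      have hpr : (Nat.card (H ⧸ N₀)).Prime := by
        haveI : IsSimpleGroup (H ⧸ N₀) := hsimple
        exact (IsSimpleGroup.prime_card)
      exact ((Nat.prime_dvd_prime_iff_eq hp hpr).mp hpS).symm
    haveI := hmap
    let φ := QuotientGroup.mk' (N₀.map H.subtype)
    have hker : (φ.comp H.subtype).ker = N₀ := by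
      ext y
      rw [MonoidHom.mem_ker, MonoidHom.comp_apply]
      show ((y : G) : G ⧸ N₀.map H.subtype) = 1 ↔ _
      rw [QuotientGroup.eq_one_iff]
      constructor
      · rintro ⟨z, hz, hzy⟩
        have : z = y := Subtype.ext hzy
        rwa [← this]
      · intro hy
        exact ⟨y, hy, rfl⟩
    have hQcard : Nat.card (H.map φ) = p := by
      have h1 := Subgroup.index_ker (φ.comp H.subtype)
      rw [hker] at h1
      have h2' : (φ.comp H.subtype).range = H.map φ := by
        rw [MonoidHom.range_comp, Subgroup.range_subtype]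
      rw [h2'] at h1
      rw [← h1, Subgroup.index_eq_card, hcS]
    refine false_of_normal (hperfQ (N₀.map H.subtype)) (H.map φ) (hHn.map φ (QuotientGroup.mk'_surjective _)) hQcard ?_
    intro h
    apply hp2
    have h3 : Nat.card G = Nat.card (G ⧸ N₀.map H.subtype) * Nat.card (N₀.map H.subtype) :=
      Subgroup.card_eq_card_quotient_mul_card_subgroup _
    rw [h3]
    exact Dvd.dvd.mul_right h _
  -- the bound
  letI : Fintype (H ⧸ N₀) := Fintype.ofFinite _
  obtain ⟨y, hy⟩ := exists_prime_orderOf_dvd_card' (G := H ⧸ N₀) p hpS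
  have hzp : Nat.card (Subgroup.zpowers y) = p := by rw [Nat.card_zpowers, hy]
  have hge := Cfsg.Agent.Lib.BrauerOrder.Bound.card_ge (G := H ⧸ N₀) (P := Subgroup.zpowers y) hna hzp hp2S
  have hSp : p ≤ Nat.card (H ⧸ N₀) := Nat.le_of_dvd Nat.card_pos hpS
  have hSc : Nat.card G = Nat.card (H ⧸ N₀) * (Nat.card N₀ * H.index) := by
    rw [hcardG, hcardH]; ring
  have hNpos : 0 < Nat.card N₀ := Nat.card_pos
  have hIpos : 0 < H.index := Nat.pos_of_ne_zero Subgroup.index_ne_zero_of_finite
  have hm : Nat.card N₀ * H.index < 3 := by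
    by_contra hc
    push Not at hc
    have h1 : Nat.card (H ⧸ N₀) * 3 ≤ Nat.card G := by
      rw [hSc]
      exact Nat.mul_le_mul_left _ hc
    have h2 : p ^ 3 = p * p ^ 2 := by ring
    omega
  -- `H` is everything
  have hHtop : H.index = 1 := by
    by_contra hc
    have h2 : H.index = 2 := by
      have h3 : H.index ≤ 2 := by nlinarith
      omega
    exact perfect_card_ne_prime Nat.prime_two (hperfQ H) h2
  have hNone : Nat.card N₀ = 1 := by
    rw [hHtop, mul_one] at hm
    by_contra hc
    have h22 : Nat.card N₀ = 2 := by omega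
    apply h2 (N₀.map H.subtype) hmap
    rw [Subgroup.card_map_of_injective H.subtype_injective]
    exact h22
  have hHeq : H = ⊤ := Subgroup.index_eq_one.mp hHtop
  have hNbot : N₀ = ⊥ := (Subgroup.eq_bot_iff_card N₀).mpr hNone
  subst hHeq
  subst hNbot
  have hG : IsSimpleGroup G := by
    haveI := hsimple
    have e : ((⊤ : Subgroup G) ⧸ (⊥ : Subgroup (⊤ : Subgroup G))) ≃* G :=
      (QuotientGroup.quotientBot).trans Subgroup.topEquiv
    exact e.symm.isSimpleGroup
  have hncyc : ¬ IsCyclic G := by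
    intro hc
    letI : CommGroup G := IsCyclic.commGroup
    have hbot : commutator G = ⊥ := by
      rw [commutator_def, Subgroup.commutator_eq_bot_iff_le_centralizer]
      intro x _
      rw [Subgroup.mem_centralizer_iff]
      intro y _
      exact mul_comm _ _
    rw [hperf] at hbot
    have h1 : Nat.card G = 1 := by
      have : Nat.card (⊤ : Subgroup G) = Nat.card (⊥ : Subgroup G) := by rw [hbot]
      simpa using this
    rw [h1] at hdvd
    exact hp.one_lt.ne' (Nat.dvd_one.mp hdvd)
  rcases Cfsg.Agent.S0999.result hncyc p hp hdvd hbig with h | ⟨m, F, hF, hFt, hcF, hpm, h3p, ⟨e⟩⟩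
  · exact Or.inl h
  · letI := hF
    letI := hFt
    refine Or.inr ⟨m, F, hF, hFt, hcF, hpm, h3p, ?_⟩
    have h20 : (2 : F) = 0 := by
      have hm : m ≠ 0 := by
        rintro rfl
        omega
      have h1 : ((Fintype.card F : ℕ) : F) = 0 := Nat.cast_card_eq_zero F
      rw [hcF] at h1
      push_cast at h1
      exact pow_eq_zero_iff hm |>.mp h1
    obtain ⟨e2⟩ := psl_iso F h20
    exact ⟨e.trans e2⟩

end Cfsg.Agent.S4701
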