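import Cfsg.Statements.S1230
import Cfsg.Agent.Lib.StrongEmb.Mobius
import Cfsg.Agent.Lib.StrongEmb.FieldOf
import Cfsg.Agent.Lib.StrongEmb.ElemCent3
import Cfsg.Agent.Lib.Classical.SLBasic

set_option autoImplicit false
open Cfsg

namespace Cfsg.Agent.S1230

open scoped MatrixGroups
open Cfsg.Agent.Lib.StrongEmb Cfsg.Agent.Lib.StrongEmb.ElemCent Cfsg.Agent.Lib.StrongEmb.ElemCent2 Cfsg.Agent.Lib.StrongEmb.ElemCent3

/-- Let G be a finite group with a Sylow 2-subgroup T that is neither cyclic nor normal, such that the centralizer of every involution is an elementary abelian 2-group. Then G ≅ PSL(2,F) for a finite field F with |F| = |T|. -/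
theorem result {G : Type*} [Group G] [Finite G] (T : Sylow 2 G) (hnc : ¬ IsCyclic (T : Subgroup G)) (hnn : ¬ (T : Subgroup G).Normal) (hC : ∀ t : G, orderOf t = 2 → IsMulCommutative (Subgroup.centralizer ({t} : Set G)) ∧ ∀ c ∈ Subgroup.centralizer ({t} : Set G), c ^ 2 = 1) : ∃ (F : Type) (_ : Field F) (_ : Fintype F), Fintype.card F = Nat.card T ∧ Nonempty (G ≃* Matrix.ProjectiveSpecialLinearGroup (Fin 2) F) := by
  classical
  have hC' : ElemCentHyp G := hC
  haveI : Fact (Nat.Prime 2) := ⟨Nat.prime_two⟩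
  obtain ⟨u, hu, huH⟩ := exists_involution_outside hC' T hnc hnn
  have hne := sylow_ne_bot T hnc
  obtain ⟨hcomm, hexp⟩ := sylow_structure hC' T hne
  obtain ⟨z, hzT, hz, -⟩ := even_card_sylow_of_ne_bot T hne
  letI instA : CommGroup (T : Subgroup G) :=
    { (inferInstance : Group (T : Subgroup G)) with
      mul_comm := fun a b => Subtype.ext (hcomm a a.2 b b.2) }
  letI instM : CommGroup (Dd T u) :=
    { (inferInstance : Group (Dd T u)) with
      mul_comm := fun a b => Subtype.ext (D_comm hC' T hnc hnn hu huH a.2 b.2) }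
  let φ : (Dd T u) →* MulAut (T : Subgroup G) :=
    (T : Subgroup G).normalizerMonoidHom.comp (Subgroup.inclusion inf_le_left)
  have hφ : ∀ (d : Dd T u) (x : (T : Subgroup G)), ((φ d x : (T : Subgroup G)) : G) = (d : G) * x * (d : G)⁻¹ :=
    fun d x => rfl
  let e' : (T : Subgroup G) := ⟨z, hzT⟩
  have hz1 : z ≠ 1 := by
    rintro rfl
    simp at hz
  have he' : e' ≠ 1 := fun h => hz1 (congrArg Subtype.val h)
  -- regularity
  have hR : FieldOf.Reg φ e' := by
    refine ⟨he', ?_⟩
    let f : (Dd T u) → {x : (T : Subgroup G) // x ≠ 1} := fun d =>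
      ⟨φ d e', FieldOf.Reg.smul_ne_one d he'⟩
    have hfinj : Function.Injective f := by
      intro a b hab
      have h1 : (a : G) * z * (a : G)⁻¹ = (b : G) * z * (b : G)⁻¹ := by
        have := congrArg (fun x : {x : (T : Subgroup G) // x ≠ 1} => ((x : (T : Subgroup G)) : G)) hab
        exact this
      have h2 : (b : G)⁻¹ * a ∈ Subgroup.centralizer ({z} : Set G) := by
        rw [mem_centralizer_singleton]
        have h3 : (b : G)⁻¹ * ((a : G) * z * (a : G)⁻¹) * a = (b : G)⁻¹ * ((b : G) * z * (b : G)⁻¹) * a := by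
          rw [h1]
        calc (b : G)⁻¹ * a * z = (b : G)⁻¹ * ((a : G) * z * (a : G)⁻¹) * a := by group
          _ = (b : G)⁻¹ * ((b : G) * z * (b : G)⁻¹) * a := h3
          _ = z * ((b : G)⁻¹ * a) := by group
      rw [centralizer_eq hC' T hz hzT] at h2
      have h3 := D_inf_T hC' T hnc hnn huH ((Dd T u).mul_mem ((Dd T u).inv_mem b.2) a.2) h2
      apply Subtype.ext
      exact (inv_mul_eq_one.1 h3).symm
    have hcard : Nat.card {x : (T : Subgroup G) // x ≠ 1} ≤ Nat.card (Dd T u) := by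
      have h1 := card_D hC' T hnc hnn hu huH
      haveI : Fintype (T : Subgroup G) := Fintype.ofFinite _
      have h2 : Nat.card {x : (T : Subgroup G) // x ≠ 1} = Nat.card (T : Subgroup G) - 1 := by
        rw [Nat.card_eq_fintype_card, Nat.card_eq_fintype_card, Fintype.card_subtype_compl,
          Fintype.card_subtype_eq]
      omega
    have hfbij := hfinj.bijective_of_nat_card_le hcard
    intro x hx
    obtain ⟨d, hd⟩ := hfbij.2 ⟨x, hx⟩
    refine ⟨d, congrArg Subtype.val hd, ?_⟩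
    intro d' hd'
    apply hfinj
    rw [hd]
    exact Subtype.ext hd'
  -- the field
  letI F : Field (Additive (T : Subgroup G)) := hR.field
  obtain ⟨n, hn⟩ := IsPGroup.iff_card.1 T.isPGroup'
  have hn0 : n ≠ 0 := by
    rintro rfl
    rw [pow_zero] at hn
    exact hne (Subgroup.eq_bot_of_card_eq _ hn)
  letI : Fintype (GaloisField 2 n) := Fintype.ofFinite _
  letI : Fintype (Additive (T : Subgroup G)) := Fintype.ofFinite _
  have hcardK : Fintype.card (GaloisField 2 n) = Nat.card T := by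
    rw [← Nat.card_eq_fintype_card, GaloisField.card _ _ hn0, ← hn]
  have hcardA : Fintype.card (Additive (T : Subgroup G)) = Nat.card T := by
    rw [← Nat.card_eq_fintype_card]
    rfl
  let e₀ : GaloisField 2 n ≃+* Additive (T : Subgroup G) :=
    FiniteField.ringEquivOfCardEq (hcardK.trans hcardA.symm)
  let ψ : GaloisField 2 n → G := fun a => (((e₀ a).toMul : (T : Subgroup G)) : G)
  have hψT : ∀ a, ψ a ∈ (T : Subgroup G) := fun a => ((e₀ a).toMul).2
  have hψadd : ∀ a b, ψ (a + b) = ψ a * ψ b := by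
    intro a b
    have h1 : e₀ (a + b) = e₀ a + e₀ b := map_add e₀ a b
    change (((e₀ (a + b)).toMul : (T : Subgroup G)) : G) = _
    rw [h1]
    rfl
  have hψmul : ∀ a b, ((e₀ (a * b)).toMul : (T : Subgroup G)) = hR.mulA (e₀ a).toMul (e₀ b).toMul := by
    intro a b
    have h1 : e₀ (a * b) = e₀ a * e₀ b := map_mul e₀ a b
    rw [h1]
    rfl
  have hψsurj : ∀ t ∈ (T : Subgroup G), ∃ a, ψ a = t := by
    intro t ht
    refine ⟨e₀.symm (Additive.ofMul ⟨t, ht⟩), ?_⟩
    change (((e₀ (e₀.symm (Additive.ofMul ⟨t, ht⟩))).toMul : (T : Subgroup G)) : G) = t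
    rw [RingEquiv.apply_symm_apply]
    rfl
  have hψ0 : ∀ a, ψ a = 1 → a = 0 := by
    intro a ha
    have h1 : e₀ a = 0 := by
      apply Additive.toMul.injective
      apply Subtype.ext
      exact ha
    simpa using h1
  have hdleft : ∀ d ∈ Dd T u, ∃ a, a ≠ 0 ∧ ∀ b, d * ψ b * d⁻¹ = ψ (a * b) := by
    intro d hd
    refine ⟨e₀.symm (Additive.ofMul (φ ⟨d, hd⟩ e')), ?_, ?_⟩
    · intro h1
      have h2 := congrArg e₀ h1
      rw [RingEquiv.apply_symm_apply, map_zero] at h2
      have h3 : φ ⟨d, hd⟩ e' = 1 := congrArg Additive.toMul h2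
      exact FieldOf.Reg.smul_ne_one _ he' h3
    · intro b
      change _ = (((e₀ (_ * b)).toMul : (T : Subgroup G)) : G)
      rw [hψmul, RingEquiv.apply_symm_apply]
      change _ = ((hR.mulA (φ ⟨d, hd⟩ e') (e₀ b).toMul : (T : Subgroup G)) : G)
      rw [hR.mulA_smul]
      rfl
  have hdright : ∀ a, a ≠ 0 → ∃ d ∈ Dd T u, ∀ b, d * ψ b * d⁻¹ = ψ (a * b) := by
    intro a ha
    have h1 : (e₀ a).toMul ≠ 1 := by
      intro h2
      apply ha
      have h3 : e₀ a = 0 := congrArg Additive.ofMul h2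
      simpa using h3
    obtain ⟨d, hd⟩ := hR.exists_smul h1
    refine ⟨d, d.2, ?_⟩
    intro b
    change _ = (((e₀ (a * b)).toMul : (T : Subgroup G)) : G)
    rw [hψmul, ← hd, hR.mulA_smul]
    rfl
  have hu2 : u * u = 1 := by
    rw [← sq, ← hu]
    exact pow_orderOf_eq_one u
  have hH1 : ∀ x ∈ Nm T, x • (QuotientGroup.mk 1 : G ⧸ Nm T) = QuotientGroup.mk 1 := by
    intro x hx
    change (QuotientGroup.mk (x * 1) : G ⧸ Nm T) = QuotientGroup.mk 1
    rw [mul_one, QuotientGroup.eq]
    simpa using (Nm T).inv_mem hx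
  have hψH : ∀ a, ψ a ∈ Nm T := fun a => Subgroup.le_normalizer (hψT a)
  have hreg0 : ∀ a, ψ a • (QuotientGroup.mk u : G ⧸ Nm T) = QuotientGroup.mk u → a = 0 := by
    intro a ha
    apply hψ0
    have hmemD : ψ a ∈ Dd T u := mem_D_iff.2 ⟨hH1 _ (hψH a), ha⟩
    exact D_inf_T hC' T hnc hnn huH hmemD (hψT a)
  have htwo : (2 : GaloisField 2 n) = 0 := by
    apply hψ0
    rw [← one_add_one_eq_two, hψadd, ← sq]
    exact hexp _ (hψT 1)
  have hData : Mobius.Data (Nm T) (Dd T u) u ψ :=
    { two := htwo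
      hu := huH
      uu := hu2
      add := hψadd
      memH := hψH
      reg0 := hreg0
      surj := fun z hz => by
        obtain ⟨t, ht, htz⟩ := exists_mem_smul hC' T hnc hnn hu huH hz
        obtain ⟨a, rfl⟩ := hψsurj t ht
        exact ⟨a, htz⟩
      DH := inf_le_left
      Dfix := fun d hd => (mem_D_iff.1 hd).2
      dt := fun h hh => by
        obtain ⟨d, hd, t, ht, rfl⟩ := exists_dt hC' T hnc hnn hu huH hh
        obtain ⟨a, rfl⟩ := hψsurj t ht
        exact ⟨d, hd, a, rfl⟩
      dleft := hdleft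
      dright := hdright
      inv := fun d hd => D_inverted hC' T hnc hnn hu huH hd
      faithful := fun g hg => by
        have hne1 : ψ 1 • (QuotientGroup.mk u : G ⧸ Nm T) ≠ QuotientGroup.mk 1 := by
          intro h1
          have h2 : (ψ 1)⁻¹ • (ψ 1 • (QuotientGroup.mk u : G ⧸ Nm T)) = (ψ 1)⁻¹ • QuotientGroup.mk 1 := by
            rw [h1]
          rw [inv_smul_smul, hH1 _ ((Nm T).inv_mem (hψH 1))] at h2
          exact mk_one_ne_mk huH h2.symm
        have hne2 : ψ 1 • (QuotientGroup.mk u : G ⧸ Nm T) ≠ QuotientGroup.mk u := by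
          intro h1
          exact one_ne_zero (hreg0 1 h1)
        exact eq_one_of_three_fix hC' T hnc hnn (mk_one_ne_mk huH) hne1.symm hne2.symm (hg _) (hg _) (hg _)
      cardH := by
        rw [hcardK]
        exact card_Nm hC' T hnc hnn hu huH }
  obtain ⟨E⟩ := hData.nonempty_equiv
  have hcen : Nat.card (Subgroup.center (SL(2, GaloisField 2 n))) = 1 := by
    rw [Cfsg.Agent.Lib.Classical.SLBasic.card_center_sl, hcardK, Fintype.card_fin]
    have h1 : Nat.card T = 2 ^ n := hn
    rw [h1]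
    obtain ⟨k, rfl⟩ : ∃ k, n = k + 1 := ⟨n - 1, by omega⟩
    have h2 : Odd (2 ^ (k + 1) - 1) := by
      apply Nat.Even.sub_odd
      · exact Nat.one_le_two_pow
      · exact ⟨2 ^ k, by ring⟩
      · exact odd_one
    exact (Nat.coprime_two_right.2 h2)
  have hcen' : Subgroup.center (SL(2, GaloisField 2 n)) = ⊥ := Subgroup.eq_bot_of_card_eq _ hcen
  refine ⟨GaloisField 2 n, inferInstance, inferInstance, hcardK, ⟨E.trans ?_⟩⟩
  exact (QuotientGroup.quotientBot.symm).trans (QuotientGroup.quotientMulEquivOfEq hcen'.symm)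

end Cfsg.Agent.S1230
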