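import Cfsg.Statements.S3331
import Cfsg.Agent.Lib.FT3.TopB

set_option autoImplicit false
open Cfsg

namespace Cfsg.Agent.S3331

/-- Let G be a finite group containing a subgroup X of order 3 with C_G(X) = X. Then one of the following holds: G has a nilpotent normal subgroup N of order prime to 3 with G/N of order 3 or isomorphic to Sym(3); or G has an elementary abelian normal 2-subgroup N with G/N isomorphic to the alternating group of degree 5; or G is isomorphic to PSL(2,7). -/
theorem result {G : Type*} [Group G] [Finite G]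
    (X : Subgroup G) (hX : Nat.card X = 3) (hC : Subgroup.centralizer (X : Set G) = X) :
    (∃ (N : Subgroup G) (hN : N.Normal), Group.IsNilpotent N ∧ (Nat.card N).Coprime 3 ∧
        (Nat.card (G ⧸ N) = 3 ∨ Nonempty (G ⧸ N ≃* Equiv.Perm (Fin 3)))) ∨
    (∃ (N : Subgroup G) (hN : N.Normal), IsMulCommutative N ∧ (∀ n ∈ N, n ^ 2 = 1) ∧
        Nonempty (G ⧸ N ≃* alternatingGroup (Fin 5))) ∨
    Nonempty (G ≃* Matrix.ProjectiveSpecialLinearGroup (Fin 2) (ZMod 7)) := by
  classical
  haveI : Fact (Nat.Prime 3) := ⟨Nat.prime_three⟩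
  haveI : Fact (Nat.Prime 7) := ⟨by norm_num⟩
  -- a generator
  haveI : Nontrivial X := by
    rw [← Finite.one_lt_card_iff_nontrivial, hX]; norm_num
  obtain ⟨y, hy⟩ := exists_ne (1 : X)
  set x : G := (y : G) with hx
  have hxX : x ∈ X := y.2
  have hx1 : x ≠ 1 := fun e => hy (Subtype.ext e)
  have hx3 : x ^ 3 = 1 := by
    have h1 : y ^ 3 = 1 := by rw [← hX]; exact pow_card_eq_one'
    exact congrArg Subtype.val h1
  have hord : orderOf x = 3 := orderOf_eq_prime hx3 hx1
  have hXz : X = Subgroup.zpowers x := by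
    symm
    apply Subgroup.eq_of_le_of_card_ge (Subgroup.zpowers_le.mpr hxX)
    rw [hX, Nat.card_zpowers, hord]
  have hsc : Cfsg.Agent.Lib.FT3.Base.SC x := by
    refine ⟨hx3, hx1, ?_⟩
    intro g hg
    have hgX : g ∈ X := by
      rw [← hC, Subgroup.mem_centralizer_iff]
      intro h hh
      rw [hXz] at hh
      obtain ⟨k, rfl⟩ := hh
      have : Commute g x := hg
      exact (this.zpow_right k).eq.symm
    rw [hXz] at hgX
    obtain ⟨k, rfl⟩ := hgX
    have hk : x ^ k = x ^ (k % 3) := by
      conv_lhs => rw [← Int.mul_ediv_add_emod k 3, zpow_add, zpow_mul]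
      have : x ^ (3 : ℤ) = 1 := by exact_mod_cast hx3
      rw [this, one_zpow, one_mul]
    have h0 : 0 ≤ k % 3 := Int.emod_nonneg _ (by norm_num)
    have h1 : k % 3 < 3 := Int.emod_lt_of_pos _ (by norm_num)
    simp only
    rw [hk]
    generalize k % 3 = j at *
    interval_cases j
    · left; simp
    · right; left; simp
    · right; right
      have : x ^ (2 : ℤ) = x * x := by
        rw [zpow_two]
      rw [this]
      exact eq_inv_of_mul_eq_one_left (by
        have := hx3
        rwa [pow_three, ← mul_assoc] at this)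
  rcases Cfsg.Agent.Lib.FT3.TopB.conc_all _ G x rfl hsc with h | ⟨h, _⟩ | ⟨⟨hs, hc⟩, _⟩
  · exact Or.inl h
  · exact Or.inr (Or.inl h)
  · right; right
    haveI := hs
    exact Cfsg.Agent.S0495.result hc (by simp [ZMod.card])

end Cfsg.Agent.S3331
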