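import Cfsg.Statements.S4143
import Mathlib
-- import your own Cfsg.Agent.* helpers here

set_option autoImplicit false
open Cfsg

namespace Cfsg.Agent.S4143

universe u

section

variable {p : ℕ} [hpf : Fact p.Prime]

theorem comm_of_card {Y : Type*} [Group Y] (k : ℕ) (hk : k ≤ 2) (hY : Nat.card Y = p ^ k) (a b : Y) :
    a * b = b * a := by
  have hp : p.Prime := hpf.out
  interval_cases k
  · have h1 : Nat.card Y = 1 := by simpa using hY
    haveI := (Nat.card_eq_one_iff_unique.1 h1).1
    exact Subsingleton.elim _ _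
  · have h1 : Nat.card Y = p := by simpa using hY
    haveI : Fact (Nat.card Y).Prime := ⟨h1 ▸ hp⟩
    haveI : IsCyclic Y := isCyclic_of_prime_card rfl
    exact mul_comm' a b
  · have := IsPGroup.isMulCommutative_of_card_eq_prime_sq (p := p) hY
    exact this.is_comm.comm a b

/-- Counting lemma. -/
theorem card_le_of_map {X W : Type*} [Group X] [Finite X] [Finite W] (T : Set X) (g : T → W) (K : Subgroup X)
    (hg : ∀ t t' : T, g t = g t' → (t : X)⁻¹ * t' ∈ K) :
    Nat.card T ≤ Nat.card W * Nat.card K := by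
  classical
  haveI : Fintype W := Fintype.ofFinite W
  haveI : Fintype T := Fintype.ofFinite T
  have h1 : Nat.card T = ∑ w : W, Nat.card {t : T // g t = w} := by
    rw [Nat.card_eq_fintype_card, ← Fintype.card_congr (Equiv.sigmaFiberEquiv g), Fintype.card_sigma]
    apply Finset.sum_congr rfl
    intro b _
    rw [Nat.card_eq_fintype_card]
  rw [h1, Nat.card_eq_fintype_card (α := W), ← smul_eq_mul, ← Finset.card_univ, ← Finset.sum_const]
  apply Finset.sum_le_sum
  intro w _
  by_cases hne : Nonempty {t : T // g t = w}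
  · obtain ⟨t0⟩ := hne
    refine Nat.card_le_card_of_injective (fun t : {t : T // g t = w} => (⟨(t0.1 : X)⁻¹ * t.1, hg _ _ (t0.2.trans t.2.symm)⟩ : K)) ?_
    intro t t' h
    have h2 : (t0.1 : X)⁻¹ * t.1 = (t0.1 : X)⁻¹ * t'.1 := congrArg Subtype.val h
    exact Subtype.ext (Subtype.ext (mul_left_cancel h2))
  · have : IsEmpty {t : T // g t = w} := not_nonempty_iff.1 hne
    rw [Nat.card_of_isEmpty]
    exact Nat.zero_le _

theorem card_inf_mul {G : Type*} [Group G] [Finite G] (N : Subgroup G) [N.Normal]
    (Q : Subgroup G) :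
    Nat.card (Q.map (QuotientGroup.mk' N)) * Nat.card ↥(Q ⊓ N) = Nat.card Q := by
  classical
  let φ := (QuotientGroup.mk' N).subgroupMap Q
  have hφ : Function.Surjective φ := (QuotientGroup.mk' N).subgroupMap_surjective Q
  have h1 := Subgroup.card_eq_card_quotient_mul_card_subgroup φ.ker
  have h2 : Nat.card (Q ⧸ φ.ker) = Nat.card (Q.map (QuotientGroup.mk' N)) :=
    Nat.card_congr (QuotientGroup.quotientKerEquivOfSurjective φ hφ).toEquiv
  have h3 : Nat.card φ.ker = Nat.card ↥(Q ⊓ N) := by
    apply Nat.card_congr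
    refine
      { toFun := fun x => ⟨x.1.1, x.1.2, ?_⟩
        invFun := fun x => ⟨⟨x.1, x.2.1⟩, ?_⟩
        left_inv := fun x => by ext; rfl
        right_inv := fun x => by ext; rfl }
    · have h4 : φ x.1 = 1 := x.2
      have h5 : (QuotientGroup.mk' N) x.1.1 = 1 := congrArg Subtype.val h4
      exact (QuotientGroup.eq_one_iff _).1 h5
    · rw [MonoidHom.mem_ker]
      apply Subtype.ext
      exact (QuotientGroup.eq_one_iff _).2 x.2.2
  rw [h1, h2, h3]

theorem center_eq_top_of_mem {X : Type*} [Group X] {a : X} (ha : a ∈ Subgroup.center X) :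
    Subgroup.centralizer ({a} : Set X) = ⊤ := by
  rw [eq_top_iff]
  intro y _
  rw [Subgroup.mem_centralizer_singleton_iff]
  exact (Subgroup.mem_center_iff.1 ha y)

/-- A `p`-group with an element with centralizer of order `p²` has maximal class. -/
theorem class_of_centralizer : ∀ (m : ℕ) (X : Type u) [Group X] [Finite X], Nat.card X = p ^ (m + 2) →
    ∀ a : X, Nat.card (Subgroup.centralizer ({a} : Set X)) = p ^ 2 →
    Group.nilpotencyClass X = m + 1 := by
  have hp : p.Prime := hpf.out
  intro m
  induction m with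
  | zero =>
    intro X _ _ hX a ha
    have hc := comm_of_card (p := p) (Y := X) 2 le_rfl hX
    have hXp : IsPGroup p X := IsPGroup.of_card hX
    haveI : Group.IsNilpotent X := hXp.isNilpotent
    have h1 : Group.nilpotencyClass X ≤ 1 :=
      Group.IsNilpotent.nilpotencyClass_le_one_iff.2 ⟨⟨hc⟩⟩
    have h2 : Group.nilpotencyClass X ≠ 0 := by
      intro h0
      have h3 := Group.nilpotencyClass_zero_iff_subsingleton.1 h0
      have h4 : Nat.card X = 1 := Nat.card_of_subsingleton (1 : X)
      rw [hX] at h4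
      have := Nat.one_lt_pow (n := 0 + 2) (by norm_num) hp.one_lt
      omega
    simp only [zero_add]
    omega
  | succ m ih =>
    intro X _ _ hX a ha
    have hXp : IsPGroup p X := IsPGroup.of_card hX
    haveI : Group.IsNilpotent X := hXp.isNilpotent
    have hX1 : 1 < Nat.card X := by
      rw [hX]
      exact Nat.one_lt_pow (by omega) hp.one_lt
    haveI : Nontrivial X := Finite.one_lt_card_iff_nontrivial.1 hX1
    haveI hcn : Nontrivial (Subgroup.center X) := hXp.center_nontrivial
    have hpow : ∀ i j : ℕ, p ^ i = p ^ j → i = j := fun i j h => Nat.pow_right_injective hp.two_le h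
    have hat : a ∉ Subgroup.center X := by
      intro hac
      have h1 := center_eq_top_of_mem hac
      rw [h1, Subgroup.card_top, hX] at ha
      have := hpow _ _ ha
      omega
    have hZle : Subgroup.center X ≤ Subgroup.centralizer ({a} : Set X) := by
      intro z hz
      rw [Subgroup.mem_centralizer_singleton_iff]
      exact (Subgroup.mem_center_iff.1 hz a).symm
    have haC : a ∈ Subgroup.centralizer ({a} : Set X) := by
      rw [Subgroup.mem_centralizer_singleton_iff]
    have hZcard : Nat.card (Subgroup.center X) = p := by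
      have h1 : Nat.card (Subgroup.center X) ∣ p ^ 2 := ha ▸ Subgroup.card_dvd_of_le hZle
      obtain ⟨k, hk, hk2⟩ := (Nat.dvd_prime_pow hp).1 h1
      have hk0 : k ≠ 0 := by
        rintro rfl
        have h2 : 1 < Nat.card (Subgroup.center X) := Finite.one_lt_card_iff_nontrivial.2 hcn
        rw [pow_zero] at hk2
        omega
      have hk1 : k ≠ 2 := by
        rintro rfl
        have h2 : Subgroup.center X = Subgroup.centralizer ({a} : Set X) :=
          Subgroup.eq_of_le_of_card_ge hZle (by rw [ha, hk2])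
        exact hat (h2 ▸ haC)
      have hk3 : k = 1 := by omega
      rw [hk2, hk3, pow_one]
    let f := QuotientGroup.mk' (Subgroup.center X)
    have hf : Function.Surjective f := QuotientGroup.mk'_surjective _
    have hbar : Nat.card (X ⧸ Subgroup.center X) = p ^ (m + 2) := by
      have h1 := Subgroup.card_eq_card_quotient_mul_card_subgroup (Subgroup.center X)
      rw [hZcard, hX, show m + 1 + 2 = (m + 2) + 1 by omega, pow_succ] at h1
      exact (Nat.eq_of_mul_eq_mul_right hp.pos h1).symm
    have hbarp : IsPGroup p (X ⧸ Subgroup.center X) := IsPGroup.of_card hbar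
    let b := f a
    have hb1 : b ≠ 1 := by
      intro h
      exact hat ((QuotientGroup.eq_one_iff a).1 h)
    set U := (Subgroup.centralizer ({b} : Set (X ⧸ Subgroup.center X))).comap f with hU
    have hUmap : U.map f = Subgroup.centralizer ({b} : Set (X ⧸ Subgroup.center X)) :=
      Subgroup.map_comap_eq_self_of_surjective hf _
    have hZU : Subgroup.center X ≤ U := by
      intro z hz
      rw [hU, Subgroup.mem_comap, Subgroup.mem_centralizer_singleton_iff]
      have : f z = 1 := (QuotientGroup.eq_one_iff z).2 hz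
      rw [this]
      simp
    have hUZ : U ⊓ Subgroup.center X = Subgroup.center X := inf_eq_right.2 hZU
    have h1 := card_inf_mul (Subgroup.center X) U
    rw [hUZ, hZcard, show U.map (QuotientGroup.mk' (Subgroup.center X)) = Subgroup.centralizer ({b} : Set (X ⧸ Subgroup.center X)) from hUmap] at h1
    have hcomm : ∀ u : U, (u : X) * a * (u : X)⁻¹ * a⁻¹ ∈ Subgroup.center X := by
      intro u
      have h2 : f u * b = b * f u := Subgroup.mem_centralizer_singleton_iff.1 u.2
      have h3 : f ((u : X) * a * (u : X)⁻¹ * a⁻¹) = 1 := by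
        simp only [map_mul, map_inv]
        show f u * b * (f u)⁻¹ * b⁻¹ = 1
        rw [h2]; group
      exact (QuotientGroup.eq_one_iff _).1 h3
    have h2 := card_le_of_map (U : Set X) (fun u : (U : Set X) =>
      (⟨_, hcomm u⟩ : Subgroup.center X)) (Subgroup.centralizer ({a} : Set X)) (by
        intro t t' h
        have h3 : (t : X) * a * (t : X)⁻¹ * a⁻¹ = (t' : X) * a * (t' : X)⁻¹ * a⁻¹ := congrArg Subtype.val h
        rw [Subgroup.mem_centralizer_singleton_iff]
        have h4 : (t : X) * a * (t : X)⁻¹ = (t' : X) * a * (t' : X)⁻¹ := mul_right_cancel h3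
        have h5 : (t' : X) * a = (t : X) * a * (t : X)⁻¹ * t' := by
          rw [h4]; group
        calc (t : X)⁻¹ * t' * a = (t : X)⁻¹ * ((t' : X) * a) := by group
          _ = (t : X)⁻¹ * ((t : X) * a * (t : X)⁻¹ * t') := by rw [h5]
          _ = _ := by group)
    have h3 : Nat.card U = Nat.card (U : Set X) := rfl
    rw [← h3, ha, hZcard, ← h1] at h2
    have h4 : Nat.card (Subgroup.centralizer ({b} : Set (X ⧸ Subgroup.center X))) ≤ p ^ 2 := by
      rw [mul_comm] at h2
      exact Nat.le_of_mul_le_mul_left h2 hp.pos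
    have h5 : Nat.card (Subgroup.centralizer ({b} : Set (X ⧸ Subgroup.center X))) ∣ p ^ (m + 2) :=
      hbar ▸ Subgroup.card_subgroup_dvd_card _
    obtain ⟨k, -, hk⟩ := (Nat.dvd_prime_pow hp).1 h5
    have hk2 : k ≤ 2 := by
      rw [hk] at h4
      exact (Nat.pow_le_pow_iff_right hp.one_lt).1 h4
    have hbC : b ∈ Subgroup.centralizer ({b} : Set (X ⧸ Subgroup.center X)) := by
      rw [Subgroup.mem_centralizer_singleton_iff]
    have hk0 : k ≠ 0 := by
      rintro rfl
      rw [pow_zero] at hk
      have h6 := (Subgroup.card_eq_one.1 hk)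
      rw [h6] at hbC
      exact hb1 hbC
    have hbar1 : 1 < Nat.card (X ⧸ Subgroup.center X) := by
      rw [hbar]
      exact Nat.one_lt_pow (by omega) hp.one_lt
    haveI : Nontrivial (X ⧸ Subgroup.center X) := Finite.one_lt_card_iff_nontrivial.1 hbar1
    haveI hcn2 : Nontrivial (Subgroup.center (X ⧸ Subgroup.center X)) := hbarp.center_nontrivial
    have hk1 : k ≠ 1 := by
      rintro rfl
      rw [pow_one] at hk
      have hZ2 : Subgroup.center (X ⧸ Subgroup.center X) ≤ Subgroup.centralizer ({b} : Set (X ⧸ Subgroup.center X)) := by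
        intro z hz
        rw [Subgroup.mem_centralizer_singleton_iff]
        exact (Subgroup.mem_center_iff.1 hz b).symm
      have h6 : Nat.card (Subgroup.center (X ⧸ Subgroup.center X)) ∣ p := hk ▸ Subgroup.card_dvd_of_le hZ2
      have h7 : 1 < Nat.card (Subgroup.center (X ⧸ Subgroup.center X)) := Finite.one_lt_card_iff_nontrivial.2 hcn2
      have h8 : Nat.card (Subgroup.center (X ⧸ Subgroup.center X)) = p :=
        ((Nat.dvd_prime hp).1 h6).resolve_left (by omega)
      have h9 : Subgroup.center (X ⧸ Subgroup.center X) = Subgroup.centralizer ({b} : Set (X ⧸ Subgroup.center X)) :=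
        Subgroup.eq_of_le_of_card_ge hZ2 (by rw [hk, h8])
      have h10 := center_eq_top_of_mem (h9 ▸ hbC)
      rw [h10, Subgroup.card_top, hbar] at hk
      have := hpow (m + 2) 1 (by rw [hk, pow_one])
      omega
    have hk3 : k = 2 := by omega
    rw [hk3] at hk
    have h6 := ih (X ⧸ Subgroup.center X) hbar b hk
    rw [Group.nilpotencyClass_eq_quotient_center_plus_one, h6]

/-- A self-centralizing subgroup of order `p²` provides an element with centralizer of order `p²`. -/
theorem exists_elt {Y : Type*} [Group Y] [Finite Y] (hY : IsPGroup p Y) [Nontrivial Y] (A : Subgroup Y)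
    (hA : Nat.card A = p ^ 2) (hC : Subgroup.centralizer (A : Set Y) ≤ A) :
    ∃ a : Y, Nat.card (Subgroup.centralizer ({a} : Set Y)) = p ^ 2 := by
  classical
  have hp : p.Prime := hpf.out
  have hcomm := comm_of_card (p := p) (Y := A) 2 le_rfl hA
  have hZA : Subgroup.center Y ≤ A := by
    intro z hz
    apply hC
    rw [Subgroup.mem_centralizer_iff]
    intro c _
    exact Subgroup.mem_center_iff.1 hz c
  by_cases h : A ≤ Subgroup.center Y
  · refine ⟨1, ?_⟩
    have h1 : (⊤ : Subgroup Y) ≤ A := by
      refine le_trans ?_ hC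
      intro y _
      rw [Subgroup.mem_centralizer_iff]
      intro c hc
      exact (Subgroup.mem_center_iff.1 (h hc) y).symm
    have h2 : A = ⊤ := top_le_iff.1 h1
    have h3 : Subgroup.centralizer ({(1 : Y)} : Set Y) = ⊤ := center_eq_top_of_mem (Subgroup.one_mem _)
    rw [h3, ← hA, h2]
  · obtain ⟨a, haA, hac⟩ := SetLike.not_le_iff_exists.1 h
    refine ⟨a, ?_⟩
    rw [← hA]
    suffices hCA : Subgroup.centralizer ({a} : Set Y) = A by rw [hCA]
    apply le_antisymm _ ?_
    · intro y hy
      have hy' := Subgroup.mem_centralizer_singleton_iff.1 hy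
      apply hC
      rw [Subgroup.mem_centralizer_iff]
      intro c hc
      -- the subgroup A ⊓ C(y)
      set D := A ⊓ Subgroup.centralizer ({y} : Set Y) with hD
      have hZD : Subgroup.center Y ≤ D := le_inf hZA (by
        intro z hz
        rw [Subgroup.mem_centralizer_singleton_iff]
        exact (Subgroup.mem_center_iff.1 hz y).symm)
      have haD : a ∈ D := ⟨haA, Subgroup.mem_centralizer_singleton_iff.2 hy'.symm⟩
      have hcZ : 1 < Nat.card (Subgroup.center Y) := Finite.one_lt_card_iff_nontrivial.2 hY.center_nontrivial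
      have hDA : D = A := by
        have h1 : Nat.card D ∣ p ^ 2 := hA ▸ Subgroup.card_dvd_of_le inf_le_left
        obtain ⟨k, hk, hk2⟩ := (Nat.dvd_prime_pow hp).1 h1
        have h2 : Nat.card (Subgroup.center Y) ∣ Nat.card D := Subgroup.card_dvd_of_le hZD
        have h3 : Nat.card (Subgroup.center Y) ≠ Nat.card D := by
          intro h4
          have h5 : Subgroup.center Y = D := Subgroup.eq_of_le_of_card_ge hZD h4.ge
          exact hac (h5 ▸ haD)
        have hk3 : k = 2 := by
          by_contra hne
          have hk4 : k ≤ 1 := by omega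
          rw [hk2] at h2 h3
          obtain ⟨j, hj, hj2⟩ := (Nat.dvd_prime_pow hp).1 h2
          rw [hj2] at h3 hcZ
          have hj0 : j ≠ 0 := by
            rintro rfl
            rw [pow_zero] at hcZ
            omega
          have hjk : j = k := by omega
          exact h3 (by rw [hjk])
        apply Subgroup.eq_of_le_of_card_ge inf_le_left
        rw [hA, hk2, hk3]
      have hcD : c ∈ D := hDA ▸ hc
      have h4 := Subgroup.mem_centralizer_singleton_iff.1 hcD.2
      exact h4
    · intro c hc
      rw [Subgroup.mem_centralizer_singleton_iff]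
      have := hcomm ⟨c, hc⟩ ⟨a, haA⟩
      exact congrArg Subtype.val this

end



/-- Let X be a finite p-group of order p^n containing a non-abelian subgroup B of order p³ with C_X(B) ≤ B. Then X has nilpotency class n − 1 (maximal class). -/
theorem result {X : Type*} [Group X] [Finite X] {p : ℕ} [Fact p.Prime] (n : ℕ) (hX : Nat.card X = p ^ n)
    (B : Subgroup X) (hB : Nat.card B = p ^ 3) (hBna : ¬ IsMulCommutative B) (hC : Subgroup.centralizer (B : Set X) ≤ B) :
    Group.nilpotencyClass X = n - 1 := by
  classical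
  have hp : p.Prime := Fact.out
  have hXp : IsPGroup p X := IsPGroup.of_card hX
  haveI : Group.IsNilpotent X := hXp.isNilpotent
  have hBp : IsPGroup p B := IsPGroup.of_card hB
  have hpow : ∀ i j : ℕ, p ^ i = p ^ j → i = j := fun i j h => Nat.pow_right_injective hp.two_le h
  -- n ≥ 3
  have hn3 : 3 ≤ n := by
    have h1 : p ^ 3 ∣ p ^ n := by rw [← hB, ← hX]; exact Subgroup.card_subgroup_dvd_card B
    exact (Nat.pow_dvd_pow_iff_le_right hp.one_lt).1 h1
  obtain ⟨m, rfl⟩ : ∃ m, n = m + 3 := ⟨n - 3, by omega⟩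
  have hX1 : 1 < Nat.card X := by
    rw [hX]; exact Nat.one_lt_pow (by omega) hp.one_lt
  haveI : Nontrivial X := Finite.one_lt_card_iff_nontrivial.1 hX1
  haveI : Nontrivial B := by
    rw [← Finite.one_lt_card_iff_nontrivial, hB]
    exact Nat.one_lt_pow (by omega) hp.one_lt
  haveI hcB : Nontrivial (Subgroup.center B) := hBp.center_nontrivial
  haveI hcX : Nontrivial (Subgroup.center X) := hXp.center_nontrivial
  -- the center of B has order p
  have hZB : Nat.card (Subgroup.center B) = p := by
    have h1 : Nat.card (Subgroup.center B) ∣ p ^ 3 := hB ▸ Subgroup.card_subgroup_dvd_card _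
    obtain ⟨k, hk, hk2⟩ := (Nat.dvd_prime_pow hp).1 h1
    have hk0 : k ≠ 0 := by
      rintro rfl
      have h2 : 1 < Nat.card (Subgroup.center B) := Finite.one_lt_card_iff_nontrivial.2 hcB
      rw [pow_zero] at hk2
      omega
    have hk3 : k ≠ 3 := by
      rintro rfl
      apply hBna
      have h2 : Subgroup.center B = ⊤ := Subgroup.eq_top_of_card_eq _ (by rw [hk2, hB])
      refine ⟨⟨fun a b => ?_⟩⟩
      have h3 : a ∈ Subgroup.center B := h2 ▸ Subgroup.mem_top a
      exact (Subgroup.mem_center_iff.1 h3 b).symm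
    have hk2' : k ≠ 2 := by
      rintro rfl
      apply hBna
      have h2 : Nat.card (B ⧸ Subgroup.center B) = p := by
        have h3 := Subgroup.card_eq_card_quotient_mul_card_subgroup (Subgroup.center B)
        rw [hB, hk2, show p ^ 3 = p * p ^ 2 by ring] at h3
        exact (Nat.eq_of_mul_eq_mul_right (pow_pos hp.pos 2) h3).symm
      haveI : Fact (Nat.card (B ⧸ Subgroup.center B)).Prime := ⟨h2 ▸ hp⟩
      haveI : IsCyclic (B ⧸ Subgroup.center B) := isCyclic_of_prime_card rfl
      refine ⟨⟨commutative_of_cyclic_center_quotient (QuotientGroup.mk' (Subgroup.center B)) ?_⟩⟩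
      rw [QuotientGroup.ker_mk']
    have hk1 : k = 1 := by omega
    rw [hk2, hk1, pow_one]
  -- C_X(B) = Z(B)
  have hCB : ∀ x : X, x ∈ Subgroup.centralizer (B : Set X) → ∃ hx : x ∈ B, (⟨x, hx⟩ : B) ∈ Subgroup.center B := by
    intro x hx
    refine ⟨hC hx, ?_⟩
    rw [Subgroup.mem_center_iff]
    intro c
    apply Subtype.ext
    exact Subgroup.mem_centralizer_iff.1 hx c c.2
  have hCcard : Nat.card (Subgroup.centralizer (B : Set X)) = p := by
    rw [← hZB]
    apply Nat.card_congr
    exact
      { toFun := fun x => ⟨⟨x.1, hC x.2⟩, (hCB x.1 x.2).2⟩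
        invFun := fun c => ⟨c.1.1, by
          rw [Subgroup.mem_centralizer_iff]
          intro y hy
          exact congrArg Subtype.val (Subgroup.mem_center_iff.1 c.2 ⟨y, hy⟩)⟩
        left_inv := fun x => by ext; rfl
        right_inv := fun c => by ext; rfl }
  have hZX_le : Subgroup.center X ≤ Subgroup.centralizer (B : Set X) := by
    intro z hz
    rw [Subgroup.mem_centralizer_iff]
    intro c _
    exact Subgroup.mem_center_iff.1 hz c
  have hZcard : Nat.card (Subgroup.center X) = p := by
    have h1 : Nat.card (Subgroup.center X) ∣ p := hCcard ▸ Subgroup.card_dvd_of_le hZX_le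
    have h2 : 1 < Nat.card (Subgroup.center X) := Finite.one_lt_card_iff_nontrivial.2 hcX
    exact ((Nat.dvd_prime hp).1 h1).resolve_left (by omega)
  have hZX : Subgroup.center X = Subgroup.centralizer (B : Set X) :=
    Subgroup.eq_of_le_of_card_ge hZX_le (by rw [hZcard, hCcard])
  have hZB_le : Subgroup.center X ≤ B := hZX_le.trans hC
  -- B/Z is abelian
  have hquot : ∀ t ∈ B, ∀ b ∈ B, t * b * t⁻¹ * b⁻¹ ∈ Subgroup.center X := by
    intro t ht b hb
    have h1 : Nat.card (B ⧸ Subgroup.center B) = p ^ 2 := by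
      have h3 := Subgroup.card_eq_card_quotient_mul_card_subgroup (Subgroup.center B)
      rw [hB, hZB, pow_succ] at h3
      exact (Nat.eq_of_mul_eq_mul_right hp.pos h3).symm
    have h2 := comm_of_card (p := p) (Y := B ⧸ Subgroup.center B) 2 le_rfl h1
      (QuotientGroup.mk (⟨b, hb⟩⁻¹)) (QuotientGroup.mk (⟨t, ht⟩⁻¹))
    rw [← QuotientGroup.mk_mul, ← QuotientGroup.mk_mul, QuotientGroup.eq] at h2
    rw [hZX, Subgroup.mem_centralizer_iff]
    intro c hc
    obtain ⟨W, hW⟩ : ∃ W : B, W = (⟨b, hb⟩⁻¹ * ⟨t, ht⟩⁻¹ : B)⁻¹ * (⟨t, ht⟩⁻¹ * ⟨b, hb⟩⁻¹) := ⟨_, rfl⟩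
    rw [← hW] at h2
    have h4 := Subgroup.mem_center_iff.1 h2 ⟨c, hc⟩
    have h5 : c * (W : X) = (W : X) * c := congrArg Subtype.val h4
    have h6 : (W : X) = t * b * t⁻¹ * b⁻¹ := by
      rw [hW]
      simp only [Subgroup.coe_mul, Subgroup.coe_inv, mul_inv_rev, inv_inv]
      group
    rw [h6] at h5
    exact h5
  -- two non-commuting elements of B
  obtain ⟨b1, b2, hb12⟩ : ∃ b1 b2 : B, b1 * b2 ≠ b2 * b1 := by
    by_contra hcon
    push_neg at hcon
    exact hBna ⟨⟨hcon⟩⟩
  have hK : ∀ y : X, y * b1 = b1 * y → y * b2 = b2 * y → y ∈ Subgroup.centralizer (B : Set X) := by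
    intro y h1 h2
    set D := B ⊓ Subgroup.centralizer ({y} : Set X) with hD
    have hb1D : (b1 : X) ∈ D := ⟨b1.2, Subgroup.mem_centralizer_singleton_iff.2 h1.symm⟩
    have hb2D : (b2 : X) ∈ D := ⟨b2.2, Subgroup.mem_centralizer_singleton_iff.2 h2.symm⟩
    have h3 : Nat.card D ∣ p ^ 3 := hB ▸ Subgroup.card_dvd_of_le inf_le_left
    obtain ⟨k, hk, hk2⟩ := (Nat.dvd_prime_pow hp).1 h3
    have hk3 : k = 3 := by
      by_contra hne
      have h4 := comm_of_card (p := p) (Y := D) k (by omega) hk2 ⟨_, hb1D⟩ ⟨_, hb2D⟩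
      apply hb12
      apply Subtype.ext
      exact congrArg (fun z : D => (z : X)) h4
    have hDB : D = B := Subgroup.eq_of_le_of_card_ge inf_le_left (by rw [hB, hk2, hk3])
    rw [Subgroup.mem_centralizer_iff]
    intro c hc
    have hcD : c ∈ D := hDB ▸ hc
    exact Subgroup.mem_centralizer_singleton_iff.1 hcD.2
  -- the set T
  let T : Set X := {t | ∀ b ∈ B, t * b * t⁻¹ * b⁻¹ ∈ Subgroup.center X}
  have hBT : (B : Set X) ⊆ T := fun t ht b hb => hquot t ht b hb
  have hTcard : Nat.card T ≤ p ^ 3 := by
    have h1 := card_le_of_map T (fun t : T =>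
      ((⟨_, t.2 b1 b1.2⟩, ⟨_, t.2 b2 b2.2⟩) : Subgroup.center X × Subgroup.center X))
      (Subgroup.centralizer (B : Set X)) (by
        intro t t' h
        have h2 := congrArg (fun z : Subgroup.center X × Subgroup.center X => (z.1 : X)) h
        have h3 := congrArg (fun z : Subgroup.center X × Subgroup.center X => (z.2 : X)) h
        simp only at h2 h3
        have hgen : ∀ b : X, (t : X) * b * (t : X)⁻¹ * b⁻¹ = (t' : X) * b * (t' : X)⁻¹ * b⁻¹ →
            (t : X)⁻¹ * t' * b = b * ((t : X)⁻¹ * t') := by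
          intro b hb
          have h4 : (t : X) * b * (t : X)⁻¹ = (t' : X) * b * (t' : X)⁻¹ := mul_right_cancel hb
          have h5 : (t' : X) * b = (t : X) * b * (t : X)⁻¹ * t' := by
            rw [h4]; group
          calc (t : X)⁻¹ * t' * b = (t : X)⁻¹ * ((t' : X) * b) := by group
            _ = (t : X)⁻¹ * ((t : X) * b * (t : X)⁻¹ * t') := by rw [h5]
            _ = _ := by group
        exact hK _ (hgen _ h2) (hgen _ h3))
    rw [Nat.card_prod, hZcard, hCcard] at h1
    calc Nat.card T ≤ p * p * p := h1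
      _ = p ^ 3 := by ring
  have hTB : T = (B : Set X) := by
    symm
    apply Set.eq_of_subset_of_ncard_le hBT
    rw [← Nat.card_coe_set_eq, ← Nat.card_coe_set_eq]
    show _ ≤ Nat.card B
    rw [hB]
    exact hTcard
  -- the quotient
  let f := QuotientGroup.mk' (Subgroup.center X)
  have hf : Function.Surjective f := QuotientGroup.mk'_surjective _
  have hbar : Nat.card (X ⧸ Subgroup.center X) = p ^ (m + 2) := by
    have h1 := Subgroup.card_eq_card_quotient_mul_card_subgroup (Subgroup.center X)
    rw [hZcard, hX, show m + 3 = (m + 2) + 1 by omega, pow_succ] at h1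
    exact (Nat.eq_of_mul_eq_mul_right hp.pos h1).symm
  have hBbar : Nat.card (B.map f) = p ^ 2 := by
    have h1 := card_inf_mul (Subgroup.center X) B
    rw [inf_eq_right.2 hZB_le, hZcard, hB, pow_succ] at h1
    exact Nat.eq_of_mul_eq_mul_right hp.pos h1
  have hcent : Subgroup.centralizer ((B.map f : Subgroup _) : Set (X ⧸ Subgroup.center X)) ≤ B.map f := by
    intro x hx
    obtain ⟨x, rfl⟩ := hf x
    have hxT : x ∈ T := by
      intro b hb
      have h1 := Subgroup.mem_centralizer_iff.1 hx (f b) ⟨b, hb, rfl⟩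
      have h2 : f (x * b * x⁻¹ * b⁻¹) = 1 := by
        simp only [map_mul, map_inv]
        rw [← h1]; group
      exact (QuotientGroup.eq_one_iff _).1 h2
    rw [hTB] at hxT
    exact ⟨x, hxT, rfl⟩
  haveI : Nontrivial (X ⧸ Subgroup.center X) := by
    rw [← Finite.one_lt_card_iff_nontrivial, hbar]
    exact Nat.one_lt_pow (by omega) hp.one_lt
  obtain ⟨a, ha⟩ := exists_elt (IsPGroup.of_card hbar) (B.map f) hBbar hcent
  have h6 := class_of_centralizer m (X ⧸ Subgroup.center X) hbar a ha
  rw [Group.nilpotencyClass_eq_quotient_center_plus_one, h6]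
  omega

end Cfsg.Agent.S4143
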