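import Cfsg.Statements.S4399
import Cfsg.Agent.Lib.PGroups.MaximalClass
import Cfsg.Agent.Lib.PGroups.Presentations

set_option autoImplicit false
open Cfsg

namespace Cfsg.Agent.S4399



/-- Let S be a finite 2-group whose commutator quotient S/[S,S] is a Klein four-group (order 4 and exponent 2). Then S itself has order 4, or S is dihedral of order at least 8, semidihedral of order at least 16 (order 2^(k+4) with an element a of order 2^(k+3) and an involution b with b a b⁻¹ = a^(2^(k+2)−1)), or generalized quaternion of order at least 8. -/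
theorem result {S : Type*} [Group S] [Finite S] (h2 : IsPGroup 2 S) (hab : Nat.card (Abelianization S) = 4)
    (hexp : ∀ x : Abelianization S, x ^ 2 = 1) :
    Nat.card S = 4 ∨
    ((∃ k : ℕ, Nonempty (S ≃* DihedralGroup (2 ^ (k + 2)))) ∨
      (∃ k : ℕ, Nat.card S = 2 ^ (k + 4) ∧ ∃ a b : S, orderOf a = 2 ^ (k + 3) ∧ orderOf b = 2 ∧ b * a * b⁻¹ = a ^ (2 ^ (k + 2) - 1)) ∨
      (∃ k : ℕ, Nonempty (S ≃* QuaternionGroup (2 ^ (k + 1))))) := by
  classical
  obtain ⟨n, hn⟩ := h2.exists_card_eq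
  have h4 : (commutator S).index = 4 := hab
  have hdvd : (commutator S).index ∣ Nat.card S := Subgroup.index_dvd_card _
  rw [h4, hn] at hdvd
  have hn2 : 2 ≤ n := by
    have : (2 : ℕ) ^ 2 ∣ 2 ^ n := by simpa using hdvd
    exact (Nat.pow_dvd_pow_iff_le_right (by norm_num : 1 < 2)).mp this
  by_cases hn3 : n = 2
  · left
    rw [hn, hn3]
    norm_num
  right
  obtain ⟨k, rfl⟩ : ∃ k, n = k + 3 := ⟨n - 3, by omega⟩
  obtain ⟨a, y, r, s, hao, hidx, hy, hr, hr3, hr1, hy2, hs⟩ :=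
    Cfsg.Agent.Lib.PGroups.MaximalClass.exists_structure (by omega) hn h4
  simp only [show k + 3 - 1 = k + 2 by omega, show k + 3 - 2 = k + 1 by omega] at hao hr1 hs
  have ha1 : a ^ (2 : ℤ) ^ (k + 2) = 1 := by
    have : ((2 : ℤ) ^ (k + 2)) = ((2 ^ (k + 2) : ℕ) : ℤ) := by push_cast; rfl
    rw [this, zpow_natCast, ← hao, pow_orderOf_eq_one]
  -- the powers
  have hpar : ∀ t : ℤ, a ^ ((2 : ℤ) ^ (k + 1) * t) = 1 ∨ a ^ ((2 : ℤ) ^ (k + 1) * t) = a ^ (2 : ℤ) ^ (k + 1) := by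
    intro t
    rcases Int.emod_two_eq_zero_or_one t with h | h
    · left
      obtain ⟨u, rfl⟩ : ∃ u, t = 2 * u := ⟨t / 2, by omega⟩
      have : (2 : ℤ) ^ (k + 1) * (2 * u) = (2 : ℤ) ^ (k + 2) * u := by ring
      rw [this, zpow_mul, ha1, one_zpow]
    · right
      obtain ⟨u, rfl⟩ : ∃ u, t = 2 * u + 1 := ⟨t / 2, by omega⟩
      have : (2 : ℤ) ^ (k + 1) * (2 * u + 1) = (2 : ℤ) ^ (k + 2) * u + (2 : ℤ) ^ (k + 1) := by ring
      rw [this, zpow_add, zpow_mul, ha1, one_zpow, one_mul]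
  obtain ⟨t, ht⟩ := hr1
  obtain ⟨u, hu⟩ := hs
  have hypow : y ^ 2 = 1 ∨ y ^ 2 = a ^ (2 : ℤ) ^ (k + 1) := by
    rw [hy2, hu]
    exact hpar u
  have hinv : a ^ r = a⁻¹ ∨ (a ^ r = a ^ ((2 : ℤ) ^ (k + 1) - 1) ∧ 1 ≤ k) := by
    have h1 : a ^ r = a ^ (r + 1) * a⁻¹ := by
      rw [zpow_add, zpow_one]
      group
    have h1' : r + 1 = (2 : ℤ) ^ (k + 1) * t := ht
    rcases hpar t with h2 | h2
    · left
      rw [h1, h1', h2, one_mul]
    · right
      have h3 : a ^ r = a ^ ((2 : ℤ) ^ (k + 1) - 1) := by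
        rw [h1, h1', h2, zpow_sub, zpow_one]
      refine ⟨h3, ?_⟩
      by_contra hk
      have hk0 : k = 0 := by omega
      subst hk0
      -- `a ^ r = a`, contradiction with `r % 4 = 3`, order 4
      have h4' : (4 : ℤ) ∣ r - 1 := by
        have h5 : a ^ (r - 1) = 1 := by
          rw [zpow_sub, zpow_one, h3]
          simp
        have h6 := orderOf_dvd_iff_zpow_eq_one.mpr h5
        rw [hao] at h6
        simpa using h6
      omega
  have hai : ((2 ^ (k + 1) : ℕ) : ℤ) = (2 : ℤ) ^ (k + 1) := by push_cast; rfl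
  have hyne : ∀ b : S, b ∉ Subgroup.zpowers a → b ≠ 1 := fun b hb h => hb (h ▸ one_mem _)
  rcases hinv with h1 | ⟨h1, hk⟩
  · rw [h1] at hr
    rcases hypow with h2 | h2
    · left
      refine ⟨k, ?_⟩
      obtain ⟨e⟩ := Cfsg.Agent.Lib.PGroups.Presentations.nonempty_dihedral_equiv (m := 2 ^ (k + 2))
        (a := a) (y := y) hao h2 hr hy (by rw [hn]; ring)
      exact ⟨e.symm⟩
    · right; right
      refine ⟨k, ?_⟩
      have h3 : y ^ 2 = a ^ (2 ^ (k + 1)) := by
        rw [h2, ← hai, zpow_natCast]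
      obtain ⟨e⟩ := Cfsg.Agent.Lib.PGroups.Presentations.nonempty_quaternion_equiv (m := 2 ^ (k + 1))
        (a := a) (y := y) (by rw [hao]; ring) h3 hr hy (by rw [hn]; ring)
      exact ⟨e.symm⟩
  · right; left
    obtain ⟨l, rfl⟩ : ∃ l, k = l + 1 := ⟨k - 1, by omega⟩
    rw [h1] at hr
    have hr' : y * a * y⁻¹ = a ^ (2 ^ (l + 2) - 1) := by
      rw [hr, ← hai]
      have : (((2 ^ (l + 1 + 1) : ℕ) : ℤ) - 1) = ((2 ^ (l + 2) - 1 : ℕ) : ℤ) := by
        rw [Nat.cast_sub (Nat.one_le_two_pow)]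
        rfl
      rw [this, zpow_natCast]
    have hao' : orderOf a = 2 ^ (l + 3) := hao
    refine ⟨l, hn, a, ?_⟩
    rcases hypow with h2 | h2
    · exact ⟨y, hao', orderOf_eq_prime h2 (hyne y hy), hr'⟩
    · refine ⟨y * a, hao', ?_, ?_⟩
      · have hb : y * a ∉ Subgroup.zpowers a := fun h => hy (by
          have := mul_mem h (inv_mem (Subgroup.mem_zpowers a))
          simpa using this)
        apply orderOf_eq_prime _ (hyne _ hb)
        have h3 : y ^ 2 = a ^ (2 ^ (l + 2)) := by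
          rw [h2, ← hai, zpow_natCast]
        have h4 : (y * a) ^ 2 = (y * a * y⁻¹) * y ^ 2 * a := by
          rw [pow_two, pow_two]
          group
        rw [h4, hr', h3, ← pow_add, ← pow_succ]
        have h5 : 2 ^ (l + 2) - 1 + 2 ^ (l + 2) + 1 = 2 ^ (l + 3) := by
          have : 1 ≤ 2 ^ (l + 2) := Nat.one_le_two_pow
          rw [pow_succ 2 (l + 2)]
          omega
        rw [h5, ← hao', pow_orderOf_eq_one]
      · rw [← hr']
        group

end Cfsg.Agent.S4399
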