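import Cfsg.Statements.S3021
import Cfsg.Agent.Lib.HSubgroup.Basic

set_option autoImplicit false
open Cfsg

namespace Cfsg.Agent.S3021

open Subgroup

/-- In a finite `p`-group `T`, `H` with `T ⊓ N(H) = H` (H ≤ T) is all of `T`. -/
theorem eq_of_inf_normalizer {G : Type*} [Group G] [Finite G] {p : ℕ} [Fact p.Prime]
    {H T : Subgroup G} (hT : IsPGroup p T) (hHT : H ≤ T)
    (h : T ⊓ normalizer (H : Set G) = H) : T = H := by
  classical
  have hnil : Group.IsNilpotent T := IsPGroup.isNilpotent hT
  have hnc := Group.normalizerCondition_of_isNilpotent (G := T)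
  by_contra hne
  have hlt : H.subgroupOf T < ⊤ := by
    rw [lt_top_iff_ne_top]
    intro h'
    apply hne
    rw [Subgroup.subgroupOf_eq_top] at h'
    exact le_antisymm h' hHT
  have h1 := hnc _ hlt
  obtain ⟨⟨y, hyT⟩, hy, hyn⟩ := SetLike.exists_of_lt h1
  have hy' : y ∈ normalizer (H : Set G) := by
    rw [mem_normalizer_iff] at hy ⊢
    intro z
    by_cases hz : z ∈ T
    · have := hy ⟨z, hz⟩
      simpa [Subgroup.mem_subgroupOf] using this
    · have hzH : z ∉ H := fun h => hz (hHT h)
      constructor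
      · intro h; exact absurd h hzH
      · intro h'
        have : z = y⁻¹ * (y * z * y⁻¹) * y := by group
        rw [this] at hz
        exact absurd (T.mul_mem (T.mul_mem (T.inv_mem hyT) (hHT h')) hyT) hz
  have : y ∈ H := by
    rw [← h]; exact ⟨hyT, hy'⟩
  exact hyn (by simpa [Subgroup.mem_subgroupOf] using this)

/-- Let G be a finite group, p a prime and H a p-subgroup of G that is extremely closed (for every g, the subgroup generated by H and g H g⁻¹ meets N_G(H) exactly in H). Then every p-subgroup Q of G containing H has N_G(Q) ≤ N_G(H); in particular every Sylow p-subgroup P of G containing H normalizes H, and H is strongly closed in P with respect to G. -/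
theorem result {G : Type*} [Group G] [Finite G] {p : ℕ} [Fact p.Prime] (H : Subgroup G) (hHp : IsPGroup p H) (hcl : Cfsg.IsExtremelyClosed H) : (∀ Q : Subgroup G, IsPGroup p Q → H ≤ Q → Subgroup.normalizer (Q : Set G) ≤ Subgroup.normalizer (H : Set G)) ∧ ∀ P : Sylow p G, H ≤ (P : Subgroup G) → (P : Subgroup G) ≤ Subgroup.normalizer (H : Set G) ∧ Cfsg.IsStronglyClosed H (P : Subgroup G) := by
  refine ⟨?_, ?_⟩
  · intro Q hQ hHQ g hg
    have hgQ : ∀ x ∈ Q, g * x * g⁻¹ ∈ Q := fun x hx => (mem_normalizer_iff.mp hg x).mp hx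
    have hle : H ⊔ H.map (MulAut.conj g).toMonoidHom ≤ Q := by
      refine sup_le hHQ ?_
      rintro _ ⟨x, hx, rfl⟩
      exact hgQ x (hHQ hx)
    have hT := eq_of_inf_normalizer (p := p) (hQ.to_le hle) le_sup_left (hcl g)
    have : H.map (MulAut.conj g).toMonoidHom ≤ H := le_sup_right.trans (le_of_eq hT)
    exact Cfsg.Agent.Lib.HSubgroup.Basic.mem_normalizer_of_conj_le (fun x hx => this ⟨x, hx, rfl⟩)
  · intro P hP
    have hPn : (P : Subgroup G) ≤ normalizer (H : Set G) := by
      intro g hg
      have hle : H ⊔ H.map (MulAut.conj g).toMonoidHom ≤ P := by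
        refine sup_le hP ?_
        rintro _ ⟨x, hx, rfl⟩
        exact P.1.mul_mem (P.1.mul_mem hg (hP hx)) (P.1.inv_mem hg)
      have hT := eq_of_inf_normalizer (p := p) (P.isPGroup'.to_le hle) le_sup_left (hcl g)
      have : H.map (MulAut.conj g).toMonoidHom ≤ H := le_sup_right.trans (le_of_eq hT)
      exact Cfsg.Agent.Lib.HSubgroup.Basic.mem_normalizer_of_conj_le (fun x hx => this ⟨x, hx, rfl⟩)
    refine ⟨hPn, hP, ?_⟩
    intro x hx g hy
    rw [← hcl g]
    exact ⟨mem_sup_right ⟨x, hx, rfl⟩, hPn hy⟩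

end Cfsg.Agent.S3021
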