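import Cfsg.Statements.S3020
import Cfsg.Agent.S3021
import Cfsg.Agent.Lib.Core.Basic
import Cfsg.Agent.Lib.Transfer.Basic

set_option autoImplicit false
open Cfsg

namespace Cfsg.Agent.S3020

open Subgroup Cfsg.Agent.Lib.Core.Basic

/-- Let G be a finite group, p a prime and H an abelian p-subgroup of G that is extremely closed (for every g, the subgroup generated by H and g H g⁻¹ meets N_G(H) exactly in H). Then for every g ∈ G, the subgroup T generated by H and g H g⁻¹ is the product of H with O_{p'}(T), and H meets O_{p'}(T) trivially; that is, O_{p'}(T) is a normal p-complement of H in T. -/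
theorem result {G : Type*} [Group G] [Finite G] {p : ℕ} [Fact p.Prime] (H : Subgroup G) (hHp : IsPGroup p H) (hHab : IsMulCommutative H) (hcl : Cfsg.IsExtremelyClosed H) (g : G) (T : Subgroup G) (hT : T = H ⊔ H.map (MulAut.conj g).toMonoidHom) : H ⊔ (Cfsg.pPrimeCore p ↥T).map T.subtype = T ∧ H ⊓ (Cfsg.pPrimeCore p ↥T).map T.subtype = ⊥ := by
  classical
  subst hT
  set T : Subgroup G := H ⊔ H.map (MulAut.conj g).toMonoidHom with hTdef
  have hclT : T ⊓ normalizer (H : Set G) = H := hcl g
  have hHT : H ≤ T := le_sup_left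
  set H' : Subgroup ↥T := H.subgroupOf T with hH'
  have hH'p : IsPGroup p H' := by
    intro x
    obtain ⟨k, hk⟩ := hHp ⟨((x : ↥T) : G), x.2⟩
    refine ⟨k, ?_⟩
    apply Subtype.ext
    apply Subtype.ext
    have := congrArg Subtype.val hk
    simpa using this
  -- elements of `T` normalizing `H'`
  have hnorm : ∀ y : ↥T, y ∈ normalizer (H' : Set ↥T) → (y : G) ∈ H := by
    intro y hy
    have hy' : (y : G) ∈ normalizer (H : Set G) := by
      refine Cfsg.Agent.Lib.HSubgroup.Basic.mem_normalizer_of_conj_le ?_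
      intro x hx
      have h1 : (⟨x, hHT hx⟩ : ↥T) ∈ H' := by simpa [hH', Subgroup.mem_subgroupOf] using hx
      have h2 := (mem_normalizer_iff.mp hy _).mp h1
      simpa [hH', Subgroup.mem_subgroupOf] using h2
    rw [← hclT]
    exact ⟨y.2, hy'⟩
  obtain ⟨P, hP⟩ := hH'p.exists_le_sylow
  have hPeq : (P : Subgroup ↥T) = H' := by
    apply Cfsg.Agent.S3021.eq_of_inf_normalizer (p := p) P.isPGroup' hP
    apply le_antisymm
    · rintro y ⟨-, hy⟩
      have := hnorm y hy
      simpa [hH', Subgroup.mem_subgroupOf] using this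
    · intro y hy
      refine ⟨hP hy, ?_⟩
      exact Subgroup.le_normalizer hy
  have hcent : normalizer ((P : Subgroup ↥T) : Set ↥T) ≤ centralizer ((P : Subgroup ↥T) : Set ↥T) := by
    rw [hPeq]
    intro y hy
    rw [mem_centralizer_iff]
    intro z hz
    have hy1 := hnorm y hy
    have hz1 : (z : G) ∈ H := by simpa [hH', Subgroup.mem_subgroupOf] using hz
    apply Subtype.ext
    have := hHab.is_comm.comm ⟨(z : G), hz1⟩ ⟨(y : G), hy1⟩
    simpa using congrArg Subtype.val this
  have hcomp := MonoidHom.ker_transferSylow_isComplement' P hcent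
  set K := (MonoidHom.transferSylow P hcent).ker with hK
  have hKn : K.Normal := MonoidHom.normal_ker _
  have hKc : (Nat.card K).Coprime p := Cfsg.Agent.Lib.Transfer.Basic.coprime_card_of_isComplement' hcomp
  have hKle : K ≤ pPrimeCore p ↥T := le_pPrimeCore hKn hKc
  have hsup : H' ⊔ pPrimeCore p ↥T = ⊤ := by
    apply top_le_iff.mp
    rw [← hcomp.sup_eq_top, sup_comm, hPeq]
    exact sup_le_sup_left hKle _
  have hmapH : H'.map T.subtype = H := by
    rw [hH', Subgroup.subgroupOf_map_subtype]
    exact inf_eq_left.mpr hHT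
  constructor
  · have := congrArg (Subgroup.map T.subtype) hsup
    rw [Subgroup.map_sup, hmapH] at this
    rw [this] 
    rw [← MonoidHom.range_eq_map, Subgroup.range_subtype]
  · apply inf_eq_bot_of_isPGroup_of_coprime hHp
    have : Nat.card ((pPrimeCore p ↥T).map T.subtype) = Nat.card (pPrimeCore p ↥T) :=
      Nat.card_congr (Subgroup.equivMapOfInjective _ _ T.subtype_injective).symm.toEquiv
    rw [this]
    exact pPrimeCore_coprime

end Cfsg.Agent.S3020
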