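import Cfsg.Statements.S4464
import Cfsg.Agent.Lib.CharDeg.SmallDegree

set_option autoImplicit false
open Cfsg

namespace Cfsg.Agent.S4464

/-- Let p be a prime and G a finite group all of whose irreducible character degrees are less than p. Then G has a normal abelian Sylow p-subgroup. -/
theorem result {G : Type*} [Group G] [Finite G] (p : ℕ) (hp : p.Prime) (hb : ∀ χ : Cfsg.IrrCharacter G, Cfsg.charDegree (χ : G → ℂ) < p) : ∃ P : Subgroup G, P.Normal ∧ (∀ x ∈ P, ∀ y ∈ P, x * y = y * x) ∧ IsPGroup p P ∧ ¬ p ∣ P.index := by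
  classical
  haveI : Fact p.Prime := ⟨hp⟩
  cases nonempty_fintype G
  open Cfsg.Agent.Lib.CharDeg.SmallDegree MulAction in
  have hcard : Nat.card (Sylow p G) = 1 := by
    let P₀ : Sylow p G := default
    refine card_eq_one_of_deg_lt hp.pos hb (Sylow p G) P₀ ?_
    intro y hy
    have hle : (P₀ : Subgroup G) ≤ stabilizer G P₀ := by
      rw [Sylow.stabilizer_eq_normalizer]
      exact Subgroup.le_normalizer
    have hPp : IsPGroup p (P₀ : Subgroup G) := P₀.isPGroup'
    obtain ⟨n, hn⟩ := hPp.card_orbit y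
    have hn0 : n ≠ 0 := by
      rintro rfl
      apply hy
      have hfix : y ∈ fixedPoints (P₀ : Subgroup G) (Sylow p G) := by
        intro u
        have h1 : Nat.card (orbit (P₀ : Subgroup G) y) = 1 := by simpa using hn
        have h2 : Subsingleton (orbit (P₀ : Subgroup G) y) :=
          (Nat.card_eq_one_iff_unique.mp h1).1
        have h3 := h2.elim ⟨u • y, mem_orbit _ u⟩ ⟨y, mem_orbit_self y⟩
        exact congrArg Subtype.val h3
      have h1 : (P₀ : Subgroup G) ≤ y := hPp.sylow_mem_fixedPoints_iff.mp hfix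
      exact Sylow.ext (P₀.is_maximal' y.isPGroup' h1)
    have hsub : orbit (P₀ : Subgroup G) y ⊆ orbit (stabilizer G P₀) y := by
      rintro _ ⟨u, rfl⟩
      exact ⟨⟨u, hle u.2⟩, rfl⟩
    calc p ≤ p ^ n := Nat.le_self_pow hn0 p
      _ = Nat.card (orbit (P₀ : Subgroup G) y) := hn.symm
      _ ≤ Nat.card (orbit (stabilizer G P₀) y) := by
        simp only [Nat.card_coe_set_eq]
        exact Set.ncard_le_ncard hsub (Set.toFinite _)
  have hsub : Subsingleton (Sylow p G) := (Nat.card_eq_one_iff_unique.mp hcard).1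
  let P₀ : Sylow p G := default
  refine ⟨P₀, Sylow.normal_of_subsingleton P₀, ?_, P₀.isPGroup', P₀.not_dvd_index⟩
  intro x hx y hy
  have := Cfsg.Agent.Lib.CharDeg.SmallDegree.comm_of_deg_lt hp hb P₀.isPGroup' ⟨x, hx⟩ ⟨y, hy⟩
  exact congrArg Subtype.val this

end Cfsg.Agent.S4464
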