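import Cfsg.Statements.S4458
import Cfsg.Agent.Lib.Char.TwoDeg.Main
import Cfsg.Agent.Lib.Char.TaketaCard
import Cfsg.Agent.Lib.Char.Monomial

set_option autoImplicit false
open Cfsg

namespace Cfsg.Agent.S4458

/-- If a finite group has exactly two irreducible character degrees, 1 and m with m ≠ 1, then its commutator subgroup is abelian. -/
theorem result {G : Type*} [Group G] [Finite G] (m : ℕ) (hcd : ∀ χ : Cfsg.IrrCharacter G, Cfsg.charDegree (χ : G → ℂ) = 1 ∨ Cfsg.charDegree (χ : G → ℂ) = m) (hm : ∃ χ : Cfsg.IrrCharacter G, Cfsg.charDegree (χ : G → ℂ) = m) (hm1 : m ≠ 1) : ∀ a ∈ commutator G, ∀ b ∈ commutator G, a * b = b * a := by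
  classical
  letI := Fintype.ofFinite G
  rcases Cfsg.Agent.Lib.Char.TwoDeg.Main.main hcd hm hm1 with ⟨A, h1, h2, h3, h4⟩ | ⟨p, e, hp, he, P, A, h1, h2, h3, h4, h5, h6, hnil⟩
  · exact fun a ha b hb => h2 a (h4 ha) b (h4 hb)
  · have hbot := Cfsg.Agent.Lib.Char.TaketaCard.derivedSeries_card_eq_bot (G := G)
      (fun χ hχ => Cfsg.Agent.Lib.Char.Monomial.monomial_of_nilpotent χ hχ) {1, m} (by
        intro χ hχ d hd
        rcases hcd ⟨χ, hχ⟩ with h7 | h7
        · have h8 := Cfsg.Agent.Lib.Char.Degree.charDegree_natCast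
            (Cfsg.Agent.Lib.Char.Basic.isCharacter_of_isIrrCharacter hχ)
          simp only at h7
          rw [h7, hd] at h8
          have h9 : 1 = d := by exact_mod_cast h8
          simp [← h9]
        · have h8 := Cfsg.Agent.Lib.Char.Degree.charDegree_natCast
            (Cfsg.Agent.Lib.Char.Basic.isCharacter_of_isIrrCharacter hχ)
          simp only at h7
          rw [h7, hd] at h8
          have h9 : m = d := by exact_mod_cast h8
          simp [← h9])
    rw [Finset.card_pair hm1.symm, derivedSeries_succ] at hbot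
    intro a ha b hb
    have h7 : a * b * a⁻¹ * b⁻¹ ∈ (⊥ : Subgroup G) := by
      rw [← hbot]
      exact Subgroup.commutator_mem_commutator (by simpa using ha) (by simpa using hb)
    rw [Subgroup.mem_bot] at h7
    have h8 : a * b = (a * b * a⁻¹ * b⁻¹) * (b * a) := by group
    rw [h8, h7, one_mul]

end Cfsg.Agent.S4458
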