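import Cfsg.Statements.S2616
import Cfsg.Agent.Lib.Orth.Std

set_option autoImplicit false
open Cfsg

namespace Cfsg.Agent.S2616

/-- Standard bases of a non-degenerate quadratic space of even dimension 2m over a finite field: either there is a hyperbolic basis e_i, f_i (Q(e_i) = Q(f_i) = 0, B(e_i, f_j) = δ_ij, the e's pairwise orthogonal and the f's pairwise orthogonal, B the polar form), or there is an elliptic basis: hyperbolic pairs e_i, f_i for i < m − 1 together with x, y orthogonal to them with Q(x) = 1, B(x, y) = 1, Q(y) = ζ where t² + t + ζ has no root in the field. -/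
theorem result {F V : Type*} [Field F] [Finite F] [AddCommGroup V] [Module F V] [FiniteDimensional F V] {m : ℕ} (hm : 1 ≤ m) (hV : Module.finrank F V = 2 * m) (Q : QuadraticForm F V) (hQ : (QuadraticMap.polarBilin Q).Nondegenerate) : (∃ b : Module.Basis (Fin m ⊕ Fin m) F V, (∀ i, Q (b (Sum.inl i)) = 0 ∧ Q (b (Sum.inr i)) = 0) ∧ (∀ i j, QuadraticMap.polar ⇑Q (b (Sum.inl i)) (b (Sum.inr j)) = if i = j then 1 else 0) ∧ (∀ i j, QuadraticMap.polar ⇑Q (b (Sum.inl i)) (b (Sum.inl j)) = 0 ∧ QuadraticMap.polar ⇑Q (b (Sum.inr i)) (b (Sum.inr j)) = 0)) ∨ (∃ (b : Module.Basis ((Fin (m - 1) ⊕ Fin (m - 1)) ⊕ Fin 2) F V) (ζ : F), (∀ t : F, t ^ 2 + t + ζ ≠ 0) ∧ (∀ i, Q (b (Sum.inl (Sum.inl i))) = 0 ∧ Q (b (Sum.inl (Sum.inr i))) = 0) ∧ (∀ i j, QuadraticMap.polar ⇑Q (b (Sum.inl (Sum.inl i))) (b (Sum.inl (Sum.inr j))) = if i = j then 1 else 0) ∧ (∀ i j, QuadraticMap.polar ⇑Q (b (Sum.inl (Sum.inl i))) (b (Sum.inl (Sum.inl j))) = 0 ∧ QuadraticMap.polar ⇑Q (b (Sum.inl (Sum.inr i)))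 (b (Sum.inl (Sum.inr j))) = 0) ∧ (∀ i (k : Fin 2), QuadraticMap.polar ⇑Q (b (Sum.inl (Sum.inl i))) (b (Sum.inr k)) = 0 ∧ QuadraticMap.polar ⇑Q (b (Sum.inl (Sum.inr i))) (b (Sum.inr k)) = 0) ∧ Q (b (Sum.inr 0)) = 1 ∧ QuadraticMap.polar ⇑Q (b (Sum.inr 0)) (b (Sum.inr 1)) = 1 ∧ Q (b (Sum.inr 1)) = ζ) := by
  classical
  open Cfsg.Agent.Lib.Orth.Std in
  obtain ⟨k, e, f, W, hf, hW1, hW2, hW3, hW4⟩ := exists_std _ V Q hQ hV
  have hle := finrank_aniso_le hQ hW2 hW4
  have hW0 : Module.finrank F W = 0 ∨ Module.finrank F W = 2 := by omega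
  rcases hW0 with h0 | h2
  · left
    have hk : k = m := by omega
    subst hk
    have hcard : Fintype.card (Fin k ⊕ Fin k) = Module.finrank F V := by
      simp [hV]
      omega
    haveI : Nonempty (Fin k ⊕ Fin k) := ⟨Sum.inl ⟨0, hm⟩⟩
    let b := basisOfLinearIndependentOfCardEqFinrank (li_fam hf) hcard
    have hb : ⇑b = Sum.elim e f := coe_basisOfLinearIndependentOfCardEqFinrank (li_fam hf) hcard
    refine ⟨b, ?_, ?_, ?_⟩
    · intro i
      rw [hb]
      exact ⟨hf.qe i, hf.qf i⟩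
    · intro i j
      rw [hb]
      exact hf.ef i j
    · intro i j
      rw [hb]
      exact ⟨hf.ee i j, hf.ff i j⟩
  · right
    have hk : m = k + 1 := by omega
    subst hk
    obtain ⟨x, hxW, y, hyW, hQx, hxy, hroot, hli⟩ := exists_elliptic_pair hQ hW2 hW4 h2
    have hli2 : LinearIndependent F (Sum.elim (Sum.elim e f) ![x, y]) := by
      apply LinearIndependent.sum_type (li_fam hf) hli
      rw [Submodule.disjoint_def]
      intro z hz1 hz2
      have hzW : z ∈ W := by
        have h1 : Submodule.span F (Set.range ![x, y]) ≤ W := by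
          rw [Submodule.span_le]
          rintro _ ⟨i, rfl⟩
          fin_cases i
          · exact hxW
          · exact hyW
        exact h1 hz2
      exact eq_zero_of_mem_span hf hz1 (hW1 z hzW)
    have hcard : Fintype.card ((Fin k ⊕ Fin k) ⊕ Fin 2) = Module.finrank F V := by
      simp [hV]
      omega
    let b := basisOfLinearIndependentOfCardEqFinrank hli2 hcard
    have hb : ⇑b = Sum.elim (Sum.elim e f) ![x, y] := coe_basisOfLinearIndependentOfCardEqFinrank hli2 hcard
    refine ⟨b, Q y, hroot, ?_, ?_, ?_, ?_, ?_, ?_, ?_⟩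
    · intro i
      rw [hb]
      exact ⟨hf.qe i, hf.qf i⟩
    · intro i j
      rw [hb]
      exact hf.ef i j
    · intro i j
      rw [hb]
      exact ⟨hf.ee i j, hf.ff i j⟩
    · intro i l
      rw [hb]
      have hl : ![x, y] l ∈ W := by
        fin_cases l
        · exact hxW
        · exact hyW
      have := hW1 _ hl i
      constructor
      · rw [QuadraticMap.polar_comm]
        exact this.1
      · rw [QuadraticMap.polar_comm]
        exact this.2
    · rw [hb]
      exact hQx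
    · rw [hb]
      exact hxy
    · rw [hb]
      rfl

end Cfsg.Agent.S2616
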