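import Cfsg.Statements.S4033
import Mathlib
import Cfsg.Agent.Lib.FGStruct.TwoRegD
-- import your own Cfsg.Agent.* helpers here

set_option autoImplicit false
open Cfsg

namespace Cfsg.Agent.S4033


open Subgroup Cfsg.Agent.Lib.FGStruct.NMBasic Cfsg.Agent.Lib.FGStruct.TwoRegB
  Cfsg.Agent.Lib.FGStruct.TwoRegD
open Cfsg.Agent.Lib.ClassGraph.Basic (cs)

/-- Second alternative: all primary elements for primes other than `p`, `q` are central. -/
theorem second_alt {G : Type*} [Group G] [Finite G] {p q : ℕ} [hp : Fact p.Prime] [hq : Fact q.Prime]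
    (hqp : q ≠ p) (hB : ∀ (r : ℕ) (y : G), r.Prime → r ≠ p → r ≠ q → PE r y → y ∈ center G) :
    ∃ (P : Sylow p G) (Q : Sylow q G) (A : Subgroup G), A ≤ Subgroup.center G ∧
      Nat.card ↥((P : Subgroup G) ⊔ (Q : Subgroup G)) = Nat.card P * Nat.card Q ∧
      ((P : Subgroup G) ⊔ (Q : Subgroup G)).Normal ∧
      ((P : Subgroup G) ⊔ (Q : Subgroup G)) ⊓ A = ⊥ ∧
      ((P : Subgroup G) ⊔ (Q : Subgroup G)) ⊔ A = ⊤ := by
  classical
  have hp' : p.Prime := hp.out
  have hq' : q.Prime := hq.out
  have hppq : p ∣ p * q := dvd_mul_right _ _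
  have hqpq : q ∣ p * q := dvd_mul_left _ _
  let A : Subgroup G :=
    { carrier := {g | g ∈ center G ∧ (orderOf g).Coprime (p * q)}
      mul_mem' := by
        rintro a b ⟨ha, ha'⟩ ⟨hb, hb'⟩
        refine ⟨mul_mem ha hb, ?_⟩
        have hc : Commute a b := (mem_center_iff.1 ha b).symm
        exact Nat.Coprime.coprime_dvd_left hc.orderOf_mul_dvd_mul_orderOf
          (Nat.Coprime.mul_left ha' hb')
      one_mem' := ⟨one_mem _, by simp⟩
      inv_mem' := by
        rintro a ⟨ha, ha'⟩
        exact ⟨inv_mem ha, by rwa [orderOf_inv]⟩ }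
  have hAz : A ≤ center G := fun g hg => hg.1
  haveI hAn : A.Normal := by
    constructor
    intro n hn g
    have : g * n * g⁻¹ = n := by
      rw [(mem_center_iff.1 (hAz hn) g)]
      group
    rw [this]
    exact hn
  -- elements of order prime to `pq` lie in `A`
  have hmemA : ∀ g : G, (orderOf g).Coprime (p * q) → g ∈ A := by
    intro g hg
    refine ⟨?_, hg⟩
    apply mem_of_primary
    intro s hs c hc hcs
    by_cases hsp : s = p
    · subst hsp
      have h1 : (orderOf c).Coprime s :=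
        Nat.Coprime.coprime_dvd_left (orderOf_dvd_of_mem_zpowers hc)
          (Nat.Coprime.coprime_dvd_right hppq hg)
      rw [hcs.eq_one_of_coprime h1]
      exact one_mem _
    by_cases hsq : s = q
    · subst hsq
      have h1 : (orderOf c).Coprime s :=
        Nat.Coprime.coprime_dvd_left (orderOf_dvd_of_mem_zpowers hc)
          (Nat.Coprime.coprime_dvd_right hqpq hg)
      rw [hcs.eq_one_of_coprime h1]
      exact one_mem _
    exact hB s c hs hsp hsq hcs
  have hAcard : ∀ r : ℕ, r.Prime → r ∣ Nat.card A → r ≠ p ∧ r ≠ q := by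
    intro r hr hd
    haveI : Fact r.Prime := ⟨hr⟩
    obtain ⟨x, hx⟩ := exists_prime_orderOf_dvd_card' r hd
    have h1 : (orderOf (x : G)).Coprime (p * q) := x.2.2
    rw [Subgroup.orderOf_coe, hx] at h1
    constructor
    · rintro rfl
      have := Nat.Coprime.coprime_dvd_right hppq h1
      rw [Nat.coprime_self] at this
      exact hr.one_lt.ne' this
    · rintro rfl
      have := Nat.Coprime.coprime_dvd_right hqpq h1
      rw [Nat.coprime_self] at this
      exact hr.one_lt.ne' this
  have hAidx : ∀ r : ℕ, r.Prime → r ≠ p → r ≠ q → ¬ r ∣ A.index := by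
    intro r hr hrp hrq hd
    haveI : Fact r.Prime := ⟨hr⟩
    let R : Sylow r G := default
    have hRA : (R : Subgroup G) ≤ A := by
      intro g hg
      apply hmemA
      have h1 : PE r g := PE.of_mem R.isPGroup' hg
      apply h1.coprime hr
      intro h2
      rcases (Nat.Prime.dvd_mul hr).1 h2 with h3 | h3
      · exact hrp ((Nat.prime_dvd_prime_iff_eq hr hp').1 h3)
      · exact hrq ((Nat.prime_dvd_prime_iff_eq hr hq').1 h3)
    exact R.not_dvd_index (hd.trans (Subgroup.index_dvd_of_le hRA))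
  have hcop : Nat.Coprime (Nat.card A) A.index := by
    apply Nat.coprime_of_dvd
    intro r hr h1 h2
    obtain ⟨a, b⟩ := hAcard r hr h1
    exact hAidx r hr a b h2
  obtain ⟨K, hK⟩ := Subgroup.exists_right_complement'_of_coprime hcop
  have hsup : A ⊔ K = ⊤ := hK.sup_eq_top
  have hdisj : Disjoint A K := hK.disjoint
  have hKidx : K.index = Nat.card A := hK.index_eq_card
  have hcard : Nat.card A * Nat.card K = Nat.card G := hK.card_mul_card
  have hKcard : Nat.card K = A.index := by
    have h1 := A.card_mul_index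
    rw [← hcard] at h1
    exact (Nat.eq_of_mul_eq_mul_left Nat.card_pos h1).symm
  haveI hKn : K.Normal := by
    constructor
    intro k hk g
    have hg : g ∈ ((A ⊔ K : Subgroup G) : Set G) := by rw [hsup]; trivial
    rw [Subgroup.normal_mul] at hg
    obtain ⟨a, ha, k', hk', rfl⟩ := Set.mem_mul.1 hg
    have e : a * k' * k * (a * k')⁻¹ = k' * k * k'⁻¹ := by
      have h1 : a * (k' * k * k'⁻¹) = (k' * k * k'⁻¹) * a := (mem_center_iff.1 (hAz ha) _).symm
      calc a * k' * k * (a * k')⁻¹ = a * (k' * k * k'⁻¹) * a⁻¹ := by group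
        _ = (k' * k * k'⁻¹) * a * a⁻¹ := by rw [h1]
        _ = k' * k * k'⁻¹ := by group
    rw [e]
    exact K.mul_mem (K.mul_mem hk' hk) (K.inv_mem hk')
  -- Sylow subgroups
  let P₀ : Sylow p K := default
  let Q₀ : Sylow q K := default
  have hpA : ¬ p ∣ K.index := by
    rw [hKidx]
    intro hd
    exact (hAcard p hp' hd).1 rfl
  have hqA : ¬ q ∣ K.index := by
    rw [hKidx]
    intro hd
    exact (hAcard q hq' hd).2 rfl
  have hP1 : IsPGroup p ((P₀ : Subgroup K).map K.subtype) := P₀.isPGroup'.map _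
  have hP2 : ¬ p ∣ ((P₀ : Subgroup K).map K.subtype).index := by
    rw [Subgroup.index_map_subtype]
    intro hd
    rcases (Nat.Prime.dvd_mul hp').1 hd with h | h
    · exact P₀.not_dvd_index h
    · exact hpA h
  have hQ1 : IsPGroup q ((Q₀ : Subgroup K).map K.subtype) := Q₀.isPGroup'.map _
  have hQ2 : ¬ q ∣ ((Q₀ : Subgroup K).map K.subtype).index := by
    rw [Subgroup.index_map_subtype]
    intro hd
    rcases (Nat.Prime.dvd_mul hq').1 hd with h | h
    · exact Q₀.not_dvd_index h
    · exact hqA h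
  let P : Sylow p G := hP1.toSylow hP2
  let Q : Sylow q G := hQ1.toSylow hQ2
  have hPK : (P : Subgroup G) ≤ K := by
    show (P₀ : Subgroup K).map K.subtype ≤ K
    rintro _ ⟨y, -, rfl⟩
    exact y.2
  have hQK : (Q : Subgroup G) ≤ K := by
    show (Q₀ : Subgroup K).map K.subtype ≤ K
    rintro _ ⟨y, -, rfl⟩
    exact y.2
  have hPc : Nat.card P = Nat.card P₀ :=
    (Nat.card_congr ((P₀ : Subgroup K).equivMapOfInjective _ K.subtype_injective).toEquiv).symm
  have hQc : Nat.card Q = Nat.card Q₀ :=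
    (Nat.card_congr ((Q₀ : Subgroup K).equivMapOfInjective _ K.subtype_injective).toEquiv).symm
  have hPQcop : Nat.Coprime (Nat.card P) (Nat.card Q) :=
    IsPGroup.coprime_card_of_ne p q hqp.symm _ _ P.isPGroup' Q.isPGroup'
  -- order of `K`
  have hKprime : ∀ r : ℕ, r.Prime → r ∣ Nat.card K → r = p ∨ r = q := by
    intro r hr hd
    by_contra hcon
    push Not at hcon
    rw [hKcard] at hd
    exact hAidx r hr hcon.1 hcon.2 hd
  have hcK : Nat.card P * Nat.card Q = Nat.card K := by
    have hP3 := (P₀ : Subgroup K).card_mul_index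
    have hQ3 := (Q₀ : Subgroup K).card_mul_index
    rw [← hPc] at hP3
    rw [← hQc] at hQ3
    have hQd : Nat.card Q ∣ (P₀ : Subgroup K).index := by
      have h1 : Nat.card Q ∣ Nat.card P * (P₀ : Subgroup K).index := by
        rw [hP3, ← hQ3]
        exact dvd_mul_right _ _
      exact hPQcop.symm.dvd_of_dvd_mul_left h1
    obtain ⟨e, he⟩ := hQd
    have he1 : e = 1 := by
      by_contra hne
      obtain ⟨r, hr, hre⟩ := Nat.exists_prime_and_dvd hne
      have hrK : r ∣ Nat.card K := by
        rw [← hP3, he]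
        exact hre.trans (Dvd.intro_left _ (by rw [mul_comm]) |>.trans (dvd_mul_left _ _))
      rcases hKprime r hr hrK with rfl | rfl
      · apply P₀.not_dvd_index
        rw [he]
        exact hre.trans (dvd_mul_left _ _)
      · apply Q₀.not_dvd_index
        have h1 : Nat.card Q * (Q₀ : Subgroup K).index = Nat.card Q * (Nat.card P * e) := by
          rw [hQ3, ← hP3, he]
          ring
        have h2 := Nat.eq_of_mul_eq_mul_left Nat.card_pos h1
        rw [h2]
        exact hre.trans (dvd_mul_left _ _)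
    rw [he, he1, mul_one] at hP3
    exact hP3
  have hLK : (P : Subgroup G) ⊔ (Q : Subgroup G) = K := by
    apply le_antisymm (sup_le hPK hQK)
    intro g hg
    have hmul : (P : Subgroup G) ⊔ (Q : Subgroup G) ≤ K := sup_le hPK hQK
    set L := (P : Subgroup G) ⊔ (Q : Subgroup G) with hL
    have h1 : Nat.card P ∣ Nat.card L := Subgroup.card_dvd_of_le le_sup_left
    have h2 : Nat.card Q ∣ Nat.card L := Subgroup.card_dvd_of_le le_sup_right
    have h3 : Nat.card K ∣ Nat.card L := by
      rw [← hcK]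
      exact hPQcop.mul_dvd_of_dvd_of_dvd h1 h2
    have h4 : L = K := Subgroup.eq_of_le_of_card_ge hmul
      (Nat.le_of_dvd Nat.card_pos h3)
    rw [h4]
    exact hg
  refine ⟨P, Q, A, hAz, ?_, ?_, ?_, ?_⟩
  · rw [hLK, hcK]
  · rw [hLK]
    exact hKn
  · rw [hLK, inf_comm]
    exact hdisj.eq_bot
  · rw [hLK, sup_comm]
    exact hsup



/-- Let G be a finite group and p a prime, and suppose the conjugacy classes of p-regular elements of G (elements of order prime to p) have exactly two distinct sizes. Then either G has an abelian p-complement (an abelian subgroup of order prime to p and p-power index), or there are a prime q ≠ p, a Sylow p-subgroup P, a Sylow q-subgroup Q and a central subgroup A such that PQ is a normal subgroup of order #P·#Q and G is the internal direct product PQ × A. -/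
theorem result {G : Type*} [Group G] [Finite G] {p : ℕ} (hp : p.Prime)
    (h2 : Set.ncard (Set.range fun x : {x : G // (orderOf x).Coprime p} => (ConjClasses.mk (x : G)).carrier.ncard) = 2) :
    (∃ H : Subgroup G, IsMulCommutative H ∧ ¬ p ∣ Nat.card H ∧ ∃ k : ℕ, H.index = p ^ k) ∨
    (∃ (q : ℕ) (_ : Fact q.Prime) (P : Sylow p G) (Q : Sylow q G) (A : Subgroup G), q ≠ p ∧
        A ≤ Subgroup.center G ∧ Nat.card ↥((P : Subgroup G) ⊔ (Q : Subgroup G)) = Nat.card P * Nat.card Q ∧
        ((P : Subgroup G) ⊔ (Q : Subgroup G)).Normal ∧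
        ((P : Subgroup G) ⊔ (Q : Subgroup G)) ⊓ A = ⊥ ∧ ((P : Subgroup G) ⊔ (Q : Subgroup G)) ⊔ A = ⊤) := by
  classical
  haveI hpf : Fact p.Prime := ⟨hp⟩
  set S : Set ℕ := Set.range fun x : {x : G // (orderOf x).Coprime p} =>
    (ConjClasses.mk (x : G)).carrier.ncard with hS
  have hmem : ∀ x : G, (orderOf x).Coprime p → cs x ∈ S := by
    intro x hx
    exact ⟨⟨x, hx⟩, Cfsg.Agent.Lib.ClassPow.ncard_carrier x⟩
  have hS' : ∀ n ∈ S, ∃ x : G, (orderOf x).Coprime p ∧ cs x = n := by
    rintro _ ⟨x, rfl⟩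
    exact ⟨x, x.2, (Cfsg.Agent.Lib.ClassPow.ncard_carrier _).symm⟩
  have hone : 1 ∈ S := by
    have h1 := hmem 1 (by simp)
    have h2 : cs (1 : G) = 1 := Cfsg.Agent.Lib.ClassGraph.Basic.cs_eq_one_iff.2 (one_mem _)
    rwa [h2] at h1
  obtain ⟨m, hm1, hmS, hall⟩ : ∃ m, m ≠ 1 ∧ m ∈ S ∧ ∀ n ∈ S, n = 1 ∨ n = m := by
    obtain ⟨a, b, hab, hSeq⟩ := Set.ncard_eq_two.1 h2
    rw [hSeq] at hone ⊢
    rcases hone with rfl | rfl
    · exact ⟨b, hab.symm, Or.inr rfl, fun n hn => hn⟩
    · refine ⟨a, hab, Or.inl rfl, fun n hn => ?_⟩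
      rcases hn with rfl | rfl
      · exact Or.inr rfl
      · exact Or.inl rfl
  have hm0 : m ≠ 0 := by
    obtain ⟨x, -, rfl⟩ := hS' m hmS
    exact Subgroup.index_ne_zero_of_finite
  have hcs : ∀ x : G, (orderOf x).Coprime p → x ∉ center G → cs x = m := by
    intro x hx hxz
    rcases hall _ (hmem x hx) with h1 | h1
    · exact absurd (Cfsg.Agent.Lib.ClassGraph.Basic.cs_eq_one_iff.1 h1) hxz
    · exact h1
  by_cases hA : ∀ r : ℕ, r.Prime → r ≠ p → ¬ r ∣ m
  · left
    apply Cfsg.Agent.Lib.ClassPow.RegPow.exists_complement hp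
    intro x hx
    rcases hall _ (hmem x hx) with h1 | h1
    · exact ⟨0, by simpa using h1⟩
    · refine ⟨_, h1.trans (Nat.eq_prime_pow_of_unique_prime_dvd hm0 ?_)⟩
      intro d hd hdm
      by_contra hdp
      exact hA d hd hdp hdm
  · push Not at hA
    obtain ⟨q, hq, hqp, hqm⟩ := hA
    haveI hqf : Fact q.Prime := ⟨hq⟩
    by_cases hB : ∀ (r : ℕ) (y : G), r.Prime → r ≠ p → r ≠ q → PE r y → y ∈ center G
    · right
      obtain ⟨P, Q, A, h1, h2, h3, h4, h5⟩ := second_alt hqp hB
      exact ⟨q, hqf, P, Q, A, hqp, h1, h2, h3, h4, h5⟩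
    · exfalso
      push Not at hB
      obtain ⟨r, y, hr, hrp, hrq, hy, hyz⟩ := hB
      -- `Q` is not central
      let Q : Sylow q G := default
      have hQnc : ¬ (Q : Subgroup G) ≤ center G := by
        intro hle
        have hle' : (Q : Subgroup G) ≤ C y := fun c hc => mem_C_symm.1 (C_of_center (hle hc))
        exact not_dvd_cs_of_sylow_le Q hle' ((hcs y (reg_of_PE hr hrp hp hy) hyz) ▸ hqm)
      obtain ⟨c, hc, hcz⟩ := Set.not_subset.1 hQnc
      have hcq : PE q c := PE.of_mem Q.isPGroup' hc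
      have hCfg : Cfg p m G := by
        refine ⟨hcs, ?_⟩
        intro s _
        by_cases hsq : s = q
        · subst hsq
          exact ⟨r, y, hr, hrq, hrp, hy, hyz⟩
        · exact ⟨q, c, hq, fun h => hsq h.symm, hqp, hcq, hcz⟩
      obtain ⟨z, hzQ, hzz, hzQ2⟩ := exists_second_center Q hQnc
      refine no_q hCfg hp hqp hqm ?_
      intro r₂ hr₂ hr₂p hr₂q hr₂m
      haveI : Fact r₂.Prime := ⟨hr₂⟩
      exact no_second_prime hCfg hp hqp hqm Q hzQ hzz hzQ2 hr₂p hr₂q hr₂m

end Cfsg.Agent.S4033
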