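import Mathlib
import Cfsg.Agent.Lib.Blocks.BrauerFeit

set_option linter.style.haveILetI false
set_option linter.unusedSectionVars false
set_option autoImplicit false

namespace Cfsg.Agent.S4710

open Cfsg
open Cfsg.Agent.Lib.Blocks.Local Cfsg.Agent.Lib.Blocks.Central Cfsg.Agent.Lib.Blocks.RegPart
open Cfsg.Agent.Lib.Blocks.RegPart2 Cfsg.Agent.Lib.Blocks.BrauerFeit
open Cfsg.Agent.Lib.BlockP.Defect
open scoped ComplexConjugate

universe u

section
variable {G : Type u} [Group G] [Fintype G] {M : Ideal AlgInt} {p : ℕ}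
  [hMp : M.IsPrime] [Fact p.Prime] [Fintype (IrrCharacter G)]

theorem height_eq {B : Set (IrrCharacter G)} {ψ : IrrCharacter G} (hψ : ψ ∈ B) :
    (charDegree (ψ : G → ℂ)).factorization p = minExp p B + blockHeight p B (ψ : G → ℂ) := by
  have := minExp_le p hψ
  change _ = _ + ((charDegree (ψ : G → ℂ)).factorization p - minExp p B)
  omega

/-- The row of a character `ψ` of positive height, divided by the `p`-part of the degree. -/
theorem exists_row (hM : IsPModular p M) {B : Set (IrrCharacter G)} (hB : IsPBlock M B)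
    {ψ : IrrCharacter G} (hψ : ψ ∈ B) (hpos : 0 < blockHeight p B (ψ : G → ℂ)) :
    blockHeight p B (ψ : G → ℂ) ≤ blockDefect p B ∧
    ∃ x : IrrCharacter G → ℤ,
      ∑ i, (x i) ^ 2 = (p : ℤ) ^ (blockDefect p B - blockHeight p B (ψ : G → ℂ)) * x ψ ∧
      (∀ χ ∈ B, blockHeight p B (χ : G → ℂ) = 0 → x χ ≠ 0) ∧ (p : ℤ) ∣ x ψ := by
  classical
  have hp : p.Prime := Fact.out
  have hp0 : (0 : ℤ) < p := by exact_mod_cast hp.pos
  obtain ⟨m, hm, hm0, hs⟩ := exists_int_comb hM hB hψ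
  have hsq := sum_sq_eq hm hs
  have hv := height_eq (p := p) hψ
  have had := minExp_add_blockDefect (p := p) hψ
  have hle : (charDegree (ψ : G → ℂ)).factorization p ≤ (Nat.card G).factorization p :=
    (Nat.factorization_le_iff_dvd (Cfsg.Agent.Lib.Blocks.Heights.charDegree_ne_zero_irr ψ)
      Nat.card_pos.ne').mpr (Cfsg.Agent.Lib.Char.Degree.charDegree_dvd_card ψ.2) p
  refine ⟨by omega, ?_⟩
  set v := (charDegree (ψ : G → ℂ)).factorization p with hvdef
  have hdvd : ∀ i, (p : ℤ) ^ v ∣ m i := by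
    intro i
    obtain ⟨n, hn, -, h1, -⟩ := exists_regInt (p := p) hM ψ i
    have : n = m i := by
      have h2 := hm i
      rw [hn] at h2
      exact_mod_cast h2
    rw [← this]
    exact h1
  choose x hx using hdvd
  have hpv : (0 : ℤ) < (p : ℤ) ^ v := pow_pos hp0 _
  refine ⟨x, ?_, ?_, ?_⟩
  · have h1 : (p : ℤ) ^ (2 * v) * ∑ i, (x i) ^ 2 =
        (p : ℤ) ^ (2 * v) * ((p : ℤ) ^ (blockDefect p B - blockHeight p B (ψ : G → ℂ)) * x ψ) := by
      have h2 : ∑ i, (m i) ^ 2 = (p : ℤ) ^ (2 * v) * ∑ i, (x i) ^ 2 := by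
        rw [Finset.mul_sum]
        refine Fintype.sum_congr _ _ fun i => ?_
        rw [hx i]
        ring
      rw [← h2, hsq, hx ψ]
      have h3 : (Nat.card G).factorization p = v + (blockDefect p B - blockHeight p B (ψ : G → ℂ)) := by
        omega
      rw [h3]
      push_cast
      ring
    exact mul_left_cancel₀ (pow_pos hp0 _).ne' h1
  · intro χ hχ hh
    obtain ⟨n, hn, hn0, -⟩ := ((height_zero_iff hM hB hχ).2.mp hh) ψ hψ
    have h1 := classInner_regF_symm (p := p) ψ χ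
    rw [hn, hm χ] at h1
    simp only [map_intCast] at h1
    have h2 : m χ = n := by exact_mod_cast h1
    intro h3
    apply hn0
    rw [← h2, hx χ, h3, mul_zero]
  · have hno : ¬ (blockHeight p B (ψ : G → ℂ) = 0) := by omega
    rw [(height_zero_iff hM hB hψ).1] at hno
    push Not at hno
    by_cases h0 : m ψ = 0
    · have h3 : x ψ = 0 := by
        have := hx ψ
        rw [h0] at this
        exact (mul_eq_zero.mp this.symm).resolve_left hpv.ne'
      rw [h3]
      exact dvd_zero _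
    · have h1 : padicValInt p (m ψ) ≠ v := hno ψ hψ (m ψ) (hm ψ) h0
      have h2 : v ≤ padicValInt p (m ψ) :=
        (padicValInt_dvd_iff _ _).mp ⟨x ψ, hx ψ⟩ |>.resolve_left h0
      have h3 : (p : ℤ) ^ (v + 1) ∣ m ψ :=
        (pow_dvd_pow _ (by omega)).trans (padicValInt_dvd (m ψ))
      rw [pow_succ] at h3
      rw [hx ψ] at h3
      exact (mul_dvd_mul_iff_left hpv.ne').mp h3

open Classical in
/-- The height bound and the count of height zero characters. -/
theorem row_bounds (hM : IsPModular p M) {B : Set (IrrCharacter G)} (hB : IsPBlock M B)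
    {ψ : IrrCharacter G} (hψ : ψ ∈ B) (hpos : 0 < blockHeight p B (ψ : G → ℂ)) :
    blockHeight p B (ψ : G → ℂ) + 2 ≤ blockDefect p B ∧
    4 * ∑ i : IrrCharacter G, (if i ∈ B ∧ blockHeight p B (i : G → ℂ) = 0 then (1 : ℤ) else 0) ≤
      (p : ℤ) ^ (2 * blockDefect p B - 2) := by
  classical
  have hp : p.Prime := Fact.out
  have hp0 : (0 : ℤ) < p := by exact_mod_cast hp.pos
  have hp2 : (2 : ℤ) ≤ p := by exact_mod_cast hp.two_le
  obtain ⟨hle, x, hsum, hne, hdv⟩ := exists_row hM hB hψ hpos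
  obtain ⟨χ₀, hχ₀, hχe⟩ := exists_minExp p (isPBlock_nonempty hB)
  have hht : blockHeight p B (χ₀ : G → ℂ) = 0 := by
    change (charDegree (χ₀ : G → ℂ)).factorization p - minExp p B = 0
    omega
  have hχ₀ne : χ₀ ≠ ψ := by
    rintro rfl
    omega
  set d := blockDefect p B with hd
  set h := blockHeight p B (ψ : G → ℂ) with hhdef
  set L : ℤ := (p : ℤ) ^ (d - h) with hL
  have hL0 : 0 < L := pow_pos hp0 _
  have hsplit : ∑ i, (x i) ^ 2 = (x ψ) ^ 2 + ∑ i ∈ Finset.univ.erase ψ, (x i) ^ 2 :=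
    (Finset.add_sum_erase _ (fun i => (x i) ^ 2) (Finset.mem_univ ψ)).symm
  have hχ₀sq : 1 ≤ (x χ₀) ^ 2 := by
    have := hne χ₀ hχ₀ hht
    have h1 : 0 < (x χ₀) ^ 2 := by positivity
    omega
  have hrest : (x χ₀) ^ 2 ≤ ∑ i ∈ Finset.univ.erase ψ, (x i) ^ 2 :=
    Finset.single_le_sum (f := fun i => (x i) ^ 2) (fun i _ => sq_nonneg _)
      (Finset.mem_erase.mpr ⟨hχ₀ne, Finset.mem_univ _⟩)
  have hcount : ∑ i : IrrCharacter G,
      (if i ∈ B ∧ blockHeight p B (i : G → ℂ) = 0 then (1 : ℤ) else 0) ≤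
      ∑ i ∈ Finset.univ.erase ψ, (x i) ^ 2 := by
    rw [← Finset.add_sum_erase _ _ (Finset.mem_univ ψ)]
    have h1 : ¬ (ψ ∈ B ∧ blockHeight p B (ψ : G → ℂ) = 0) := by
      rintro ⟨-, h2⟩
      omega
    rw [if_neg h1, zero_add]
    refine Finset.sum_le_sum fun i _ => ?_
    split_ifs with hi
    · have := hne i hi.1 hi.2
      have h1 : 0 < (x i) ^ 2 := by positivity
      omega
    · exact sq_nonneg _
  -- positivity of `x ψ`
  have hxpos : 0 < x ψ := by
    have h1 : 0 < L * x ψ := by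
      rw [← hsum, hsplit]
      nlinarith [sq_nonneg (x ψ)]
    exact (pos_iff_pos_of_mul_pos h1).mp hL0
  have hxp : (p : ℤ) ≤ x ψ := Int.le_of_dvd hxpos hdv
  have hxL : x ψ ≤ L := by
    by_contra hcon
    push Not at hcon
    have h1 : (x ψ) ^ 2 + ∑ i ∈ Finset.univ.erase ψ, (x i) ^ 2 = L * x ψ := by
      rw [← hsplit, hsum]
    nlinarith
  have hgt : x ψ < L := by
    rcases hxL.lt_or_eq with h1 | h1
    · exact h1
    · exfalso
      have h2 : (x ψ) ^ 2 + ∑ i ∈ Finset.univ.erase ψ, (x i) ^ 2 = L * x ψ := by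
        rw [← hsplit, hsum]
      rw [h1] at h2
      nlinarith
  have hdh : 2 ≤ d - h := by
    by_contra hcon
    have h1 : d - h ≤ 1 := by omega
    have h2 : L ≤ (p : ℤ) ^ 1 := pow_le_pow_right₀ (by omega) h1
    rw [pow_one] at h2
    omega
  refine ⟨by omega, ?_⟩
  have h2 : ∑ i ∈ Finset.univ.erase ψ, (x i) ^ 2 = x ψ * (L - x ψ) := by
    have h1 : (x ψ) ^ 2 + ∑ i ∈ Finset.univ.erase ψ, (x i) ^ 2 = L * x ψ := by
      rw [← hsplit, hsum]
    linarith
  have h3 : 4 * (x ψ * (L - x ψ)) ≤ L ^ 2 := by nlinarith [sq_nonneg (L - 2 * x ψ)]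
  have h4 : L ^ 2 ≤ (p : ℤ) ^ (2 * d - 2) := by
    rw [hL, ← pow_mul]
    exact pow_le_pow_right₀ (by omega) (by omega)
  rw [h2] at hcount
  linarith

open Classical in
/-- The count of positive height characters. -/
theorem count_pos (hM : IsPModular p M) {B : Set (IrrCharacter G)} (hB : IsPBlock M B)
    (hd : 1 ≤ blockDefect p B) :
    4 * ∑ i : IrrCharacter G, (if i ∈ B ∧ ¬ blockHeight p B (i : G → ℂ) = 0 then (1 : ℤ) else 0) ≤
      (p : ℤ) ^ (2 * blockDefect p B - 2) := by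
  classical
  have hp : p.Prime := Fact.out
  have hp0 : (0 : ℤ) < p := by exact_mod_cast hp.pos
  have hp2 : (2 : ℤ) ≤ p := by exact_mod_cast hp.two_le
  have hmain := four_mul_sum_le hM hB
  obtain ⟨χ₀, hχ₀, hχe⟩ := exists_minExp p (isPBlock_nonempty hB)
  have hht : blockHeight p B (χ₀ : G → ℂ) = 0 := by
    change (charDegree (χ₀ : G → ℂ)).factorization p - minExp p B = 0
    omega
  set S : ℤ := ∑ i : IrrCharacter G, (if i ∈ B ∧ ¬ blockHeight p B (i : G → ℂ) = 0 then (1 : ℤ) else 0)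
    with hS
  have h1 : (p : ℤ) ^ 2 * S + 1 ≤ ∑ ψ : IrrCharacter G,
      (if ψ ∈ B then (p : ℤ) ^ (2 * blockHeight p B (ψ : G → ℂ)) else 0) := by
    rw [← Finset.add_sum_erase _ _ (Finset.mem_univ χ₀), if_pos hχ₀, hht, mul_zero, pow_zero,
      add_comm]
    refine add_le_add_right ?_ _
    rw [hS, ← Finset.add_sum_erase _ _ (Finset.mem_univ χ₀)]
    have h2 : ¬ (χ₀ ∈ B ∧ ¬ blockHeight p B (χ₀ : G → ℂ) = 0) := by
      rintro ⟨-, h3⟩
      exact h3 hht
    rw [if_neg h2, zero_add, Finset.mul_sum]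
    refine Finset.sum_le_sum fun i _ => ?_
    by_cases hi : i ∈ B
    · rw [if_pos hi]
      by_cases hi0 : blockHeight p B (i : G → ℂ) = 0
      · rw [if_neg (by tauto)]
        rw [mul_zero]
        positivity
      · rw [if_pos ⟨hi, hi0⟩, mul_one]
        exact pow_le_pow_right₀ (by omega) (by omega)
    · rw [if_neg hi, if_neg (by tauto), mul_zero]
  have h2 : ((4 * ∑ ψ : IrrCharacter G, (if ψ ∈ B then p ^ (2 * blockHeight p B (ψ : G → ℂ)) else 0) : ℕ) : ℤ)
      ≤ ((p ^ (2 * blockDefect p B) + 4 : ℕ) : ℤ) := by exact_mod_cast hmain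
  push_cast at h2
  have h3 : (4 : ℤ) * ((p : ℤ) ^ 2 * S) ≤ (p : ℤ) ^ (2 * blockDefect p B) := by linarith
  have h4 : (p : ℤ) ^ (2 * blockDefect p B) = (p : ℤ) ^ 2 * (p : ℤ) ^ (2 * blockDefect p B - 2) := by
    rw [← pow_add]
    congr 1
    omega
  rw [h4] at h3
  have h5 : (0 : ℤ) < (p : ℤ) ^ 2 := by positivity
  have h6 : (p : ℤ) ^ 2 * (4 * S) ≤ (p : ℤ) ^ 2 * (p : ℤ) ^ (2 * blockDefect p B - 2) := by
    calc (p : ℤ) ^ 2 * (4 * S) = 4 * ((p : ℤ) ^ 2 * S) := by ring
      _ ≤ _ := h3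
  exact le_of_mul_le_mul_left h6 h5

end

/-- Let p be a prime, M a maximal ideal of the algebraic integers containing p, and B a p-block of defect d of the finite group G containing k irreducible characters. If B contains a character of positive height then 2k ≤ p^(2d − 2); and every character in B has height 0 when d ≤ 1 and height at most d − 2 when d ≥ 2. -/
theorem result {G : Type*} [Group G] [Finite G] (p : ℕ) [Fact p.Prime] (M : Ideal Cfsg.AlgInt) (hM : Cfsg.IsPModular p M) (B : Set (Cfsg.IrrCharacter G)) (hB : Cfsg.IsPBlock M B) (d : ℕ) (hd : Cfsg.blockDefect p B = d) : ((∃ χ ∈ B, 0 < Cfsg.blockHeight p B (χ : G → ℂ)) → 2 * Nat.card B ≤ p ^ (2 * d - 2)) ∧ ∀ χ ∈ B, (d ≤ 1 → Cfsg.blockHeight p B (χ : G → ℂ) = 0) ∧ (2 ≤ d → Cfsg.blockHeight p B (χ : G → ℂ) ≤ d - 2) := by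
  classical
  haveI := Fintype.ofFinite G
  haveI := Cfsg.Agent.Lib.Char.Ortho.finite_irrCharacter (G := G)
  haveI := Fintype.ofFinite (IrrCharacter G)
  haveI := isPrime_of_pModular hM
  subst hd
  constructor
  · rintro ⟨ψ, hψ, hpos⟩
    obtain ⟨h1, h2⟩ := row_bounds hM hB hψ hpos
    have h3 := count_pos hM hB (by omega)
    have h4 : (Nat.card B : ℤ) =
        ∑ i : IrrCharacter G, (if i ∈ B ∧ blockHeight p B (i : G → ℂ) = 0 then (1 : ℤ) else 0) +
        ∑ i : IrrCharacter G, (if i ∈ B ∧ ¬ blockHeight p B (i : G → ℂ) = 0 then (1 : ℤ) else 0) := by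
      rw [Nat.card_eq_fintype_card, Fintype.card_subtype, Finset.card_filter, ← Finset.sum_add_distrib]
      push_cast
      refine Fintype.sum_congr _ _ fun i => ?_
      by_cases hi : i ∈ B <;> by_cases hi0 : blockHeight p B (i : G → ℂ) = 0 <;> simp [hi, hi0]
    have h5 : ((2 * Nat.card B : ℕ) : ℤ) ≤ ((p ^ (2 * blockDefect p B - 2) : ℕ) : ℤ) := by
      push_cast
      rw [h4]
      linarith
    exact_mod_cast h5
  · intro χ hχ
    by_cases h0 : blockHeight p B (χ : G → ℂ) = 0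
    · exact ⟨fun _ => h0, fun _ => by omega⟩
    · obtain ⟨h1, -⟩ := row_bounds hM hB hχ (Nat.pos_of_ne_zero h0)
      exact ⟨fun h => by omega, fun _ => by omega⟩

end Cfsg.Agent.S4710
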