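import Cfsg.Statements.S2756
import Cfsg.Agent.Lib.ZJ.InvNormalSylow

set_option autoImplicit false
open Cfsg

namespace Cfsg.Agent.S2756

/-- For a finite group G the following are equivalent: (a) G has a normal Sylow 2-subgroup; (b) for every odd prime q dividing the order of G and every Sylow q-subgroup T, the normalizer of Z(J(T)) has a normal Sylow 2-subgroup; (c) for every odd prime q and every Sylow q-subgroup T, no nonidentity element of T is inverted by an element of the normalizer of Z(J(T)). Here J(T) is the Thompson subgroup generated by the abelian subgroups of T of largest order. Stated as the two equivalences (a) ⇔ (b) and (a) ⇔ (c). -/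
theorem result {G : Type*} [Group G] [Finite G] : ((∀ P : Sylow 2 G, (P : Subgroup G).Normal) ↔ ∀ (q : ℕ) [Fact q.Prime], q ≠ 2 → q ∣ Nat.card G → ∀ T : Sylow q G, ∀ P : Sylow 2 ↥(Subgroup.normalizer (Cfsg.centerThompsonAOf (T : Subgroup G) : Set G)), (P : Subgroup ↥(Subgroup.normalizer (Cfsg.centerThompsonAOf (T : Subgroup G) : Set G))).Normal) ∧ ((∀ P : Sylow 2 G, (P : Subgroup G).Normal) ↔ ∀ (q : ℕ) [Fact q.Prime], q ≠ 2 → ∀ T : Sylow q G, ∀ x ∈ (T : Subgroup G), x ≠ 1 → ∀ g ∈ Subgroup.normalizer (Cfsg.centerThompsonAOf (T : Subgroup G) : Set G), g * x * g⁻¹ ≠ x⁻¹) := by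
  classical
  have hac : (∀ P : Sylow 2 G, (P : Subgroup G).Normal) → ∀ (q : ℕ) [Fact q.Prime], q ≠ 2 →
      ∀ T : Sylow q G, ∀ x ∈ (T : Subgroup G), x ≠ 1 →
      ∀ g ∈ Subgroup.normalizer (Cfsg.centerThompsonAOf (T : Subgroup G) : Set G),
        g * x * g⁻¹ ≠ x⁻¹ := by
    intro h q _ hq T x hx hx1 g _
    obtain ⟨k, hk⟩ := T.isPGroup' ⟨x, hx⟩
    exact Cfsg.Agent.Lib.ZJ.InvNormalSylow.invFree_of_sylow_normal h hq x g
      ⟨k, by simpa [Subtype.ext_iff] using hk⟩ hx1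
  have hca : (∀ (q : ℕ) [Fact q.Prime], q ≠ 2 → ∀ T : Sylow q G, ∀ x ∈ (T : Subgroup G), x ≠ 1 →
      ∀ g ∈ Subgroup.normalizer (Cfsg.centerThompsonAOf (T : Subgroup G) : Set G),
        g * x * g⁻¹ ≠ x⁻¹) → ∀ P : Sylow 2 G, (P : Subgroup G).Normal := by
    intro h P
    refine Cfsg.Agent.Lib.ZJ.InvNormalSylow.normal_sylow_two_of_invFree ?_ P
    intro q _ hq
    exact Cfsg.Agent.Lib.ZJ.InvMain.invFree_of_invFree_normalizer hq
      (fun T => Cfsg.Agent.Lib.ZJ.InvNormalSylow.invFreeS_of_c T (h q hq T))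
  have hab : (∀ P : Sylow 2 G, (P : Subgroup G).Normal) → ∀ (q : ℕ) [Fact q.Prime], q ≠ 2 →
      q ∣ Nat.card G → ∀ T : Sylow q G,
      ∀ P : Sylow 2 ↥(Subgroup.normalizer (Cfsg.centerThompsonAOf (T : Subgroup G) : Set G)),
      (P : Subgroup ↥(Subgroup.normalizer (Cfsg.centerThompsonAOf (T : Subgroup G) : Set G))).Normal :=
    fun h q _ hq _ T P => Cfsg.Agent.Lib.ZJ.InvNormalSylow.sylow_subgroup_normal h _ P
  have hbc : (∀ (q : ℕ) [Fact q.Prime], q ≠ 2 → q ∣ Nat.card G → ∀ T : Sylow q G,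
      ∀ P : Sylow 2 ↥(Subgroup.normalizer (Cfsg.centerThompsonAOf (T : Subgroup G) : Set G)),
      (P : Subgroup ↥(Subgroup.normalizer (Cfsg.centerThompsonAOf (T : Subgroup G) : Set G))).Normal) →
      ∀ (q : ℕ) [Fact q.Prime], q ≠ 2 → ∀ T : Sylow q G, ∀ x ∈ (T : Subgroup G), x ≠ 1 →
      ∀ g ∈ Subgroup.normalizer (Cfsg.centerThompsonAOf (T : Subgroup G) : Set G),
        g * x * g⁻¹ ≠ x⁻¹ := by
    intro h q _ hq T x hx hx1 g hg hinv
    obtain ⟨k, hk⟩ := T.isPGroup' ⟨x, hx⟩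
    have hk' : x ^ q ^ k = 1 := by simpa [Subtype.ext_iff] using hk
    have hqd : q ∣ Nat.card G := by
      obtain ⟨j, -, hj⟩ := (Nat.dvd_prime_pow (Fact.out : q.Prime)).1 (orderOf_dvd_of_pow_eq_one hk')
      have hj0 : j ≠ 0 := by
        rintro rfl
        rw [pow_zero] at hj
        exact hx1 (orderOf_eq_one_iff.1 hj)
      have h1 : q ∣ orderOf x := by
        rw [hj]
        exact dvd_pow_self q hj0
      exact h1.trans (orderOf_dvd_natCard x)
    have hN := h q hq hqd T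
    have hTH : (T : Subgroup G) ≤
        Subgroup.normalizer (Cfsg.centerThompsonAOf (T : Subgroup G) : Set G) := by
      have h1 := (Cfsg.Agent.Lib.ZJ.Reduction.le_NN (T : Subgroup G)).trans
        (Cfsg.Agent.Lib.ZJ.Main.NN_le_NN_Wf (W := Cfsg.Agent.Lib.ZJ.QdControl.WZJ)
          Cfsg.Agent.Lib.ZJ.QdControl.isCharP_WZJ (T : Subgroup G) T.isPGroup')
      rwa [Cfsg.Agent.Lib.ZJ.QdControl.Wf_WZJ] at h1
    refine Cfsg.Agent.Lib.ZJ.InvNormalSylow.invFree_of_sylow_normal hN hq ⟨x, hTH hx⟩ ⟨g, hg⟩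
      ⟨k, Subtype.ext hk'⟩ ?_ (Subtype.ext hinv)
    intro h0
    exact hx1 (congrArg Subtype.val h0)
  exact ⟨⟨hab, fun h => hca (hbc h)⟩, ⟨hac, hca⟩⟩

end Cfsg.Agent.S2756
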