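import Mathlib
import Cfsg.Statements.S0256
import Cfsg.Agent.Lib.Classical.AltIso
import Cfsg.Agent.Lib.Classical.FieldTransfer
import Cfsg.Agent.Lib.Classical.Transvections
import Cfsg.Agent.Lib.Classical.SLBasic
-- import your own Cfsg.Agent.* helpers here

set_option autoImplicit false
open Cfsg

namespace Cfsg.Agent.S0256

open scoped Pointwise MatrixGroups
open Matrix

/-- Matrices over the field with two elements, on which `SL₄` acts by congruence. -/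
def Mat := Matrix (Fin 4) (Fin 4) (ZMod 2)

instance : DecidableEq Mat := inferInstanceAs (DecidableEq (Matrix (Fin 4) (Fin 4) (ZMod 2)))

abbrev G₂ := Matrix.SpecialLinearGroup (Fin 4) (ZMod 2)

/-- Congruence. -/
def cong (g : G₂) (A : Matrix (Fin 4) (Fin 4) (ZMod 2)) : Matrix (Fin 4) (Fin 4) (ZMod 2) :=
  (g : Matrix (Fin 4) (Fin 4) (ZMod 2)) * A * (g : Matrix (Fin 4) (Fin 4) (ZMod 2))ᵀ

lemma cong_one (A : Matrix (Fin 4) (Fin 4) (ZMod 2)) : cong 1 A = A := by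
  simp [cong]

lemma cong_mul (g h : G₂) (A : Matrix (Fin 4) (Fin 4) (ZMod 2)) : cong (g * h) A = cong g (cong h A) := by
  simp [cong, Matrix.mul_assoc, Matrix.transpose_mul]

instance actionMat : MulAction G₂ Mat where
  smul g A := cong g A
  one_smul A := cong_one A
  mul_smul g h A := cong_mul g h A

lemma smul_def (g : G₂) (A : Mat) : g • A = cong g A := rfl

/-- The eight heptads of non-degenerate alternating forms. -/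
def H : Fin 8 → Finset Mat
  | 0 => {!![0, 0, 0, 1; 0, 0, 1, 0; 0, 1, 0, 0; 1, 0, 0, 0], !![0, 0, 1, 0; 0, 0, 1, 1; 1, 1, 0, 1; 0, 1, 1, 0], !![0, 0, 1, 1; 0, 0, 0, 1; 1, 0, 0, 0; 1, 1, 0, 0], !![0, 1, 0, 0; 1, 0, 1, 0; 0, 1, 0, 1; 0, 0, 1, 0], !![0, 1, 0, 1; 1, 0, 0, 1; 0, 0, 0, 1; 1, 1, 1, 0], !![0, 1, 1, 0; 1, 0, 1, 1; 1, 1, 0, 0; 0, 1, 0, 0], !![0, 1, 1, 1; 1, 0, 0, 0; 1, 0, 0, 1; 1, 0, 1, 0]}
  | 1 => {!![0, 0, 0, 1; 0, 0, 1, 0; 0, 1, 0, 1; 1, 0, 1, 0], !![0, 0, 1, 0; 0, 0, 1, 1; 1, 1, 0, 0; 0, 1, 0, 0], !![0, 0, 1, 1; 0, 0, 0, 1; 1, 0, 0, 0; 1, 1, 0, 0], !![0, 1, 0, 0; 1, 0, 0, 1; 0, 0, 0, 1; 0, 1, 1, 0], !![0, 1, 0, 1; 1, 0, 1, 0; 0, 1, 0, 0; 1, 0, 0, 0], !![0, 1, 1, 0; 1, 0, 0, 0; 1, 0, 0, 1; 0, 0, 1, 0], !![0, 1, 1, 1; 1, 0, 1, 1; 1, 1, 0, 1; 1, 1, 1, 0]}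
  | 2 => {!![0, 0, 0, 1; 0, 0, 1, 1; 0, 1, 0, 1; 1, 1, 1, 0], !![0, 0, 1, 0; 0, 0, 0, 1; 1, 0, 0, 1; 0, 1, 1, 0], !![0, 0, 1, 1; 0, 0, 1, 0; 1, 1, 0, 1; 1, 0, 1, 0], !![0, 1, 0, 0; 1, 0, 0, 0; 0, 0, 0, 1; 0, 0, 1, 0], !![0, 1, 0, 1; 1, 0, 1, 0; 0, 1, 0, 0; 1, 0, 0, 0], !![0, 1, 1, 0; 1, 0, 1, 1; 1, 1, 0, 0; 0, 1, 0, 0], !![0, 1, 1, 1; 1, 0, 0, 1; 1, 0, 0, 0; 1, 1, 0, 0]}
  | 3 => {!![0, 0, 0, 1; 0, 0, 1, 0; 0, 1, 0, 0; 1, 0, 0, 0], !![0, 0, 1, 0; 0, 0, 1, 1; 1, 1, 0, 0; 0, 1, 0, 0], !![0, 0, 1, 1; 0, 0, 0, 1; 1, 0, 0, 1; 1, 1, 1, 0], !![0, 1, 0, 0; 1, 0, 1, 1; 0, 1, 0, 1; 0, 1, 1, 0], !![0, 1, 0, 1; 1, 0, 0, 0; 0, 0, 0, 1; 1, 0, 1, 0], !![0, 1, 1, 0; 1, 0, 1, 0; 1, 1, 0, 1; 0, 0, 1, 0], !![0, 1, 1, 1; 1, 0, 0, 1; 1, 0, 0, 0; 1, 1, 0, 0]}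
  | 4 => {!![0, 0, 0, 1; 0, 0, 1, 1; 0, 1, 0, 1; 1, 1, 1, 0], !![0, 0, 1, 0; 0, 0, 0, 1; 1, 0, 0, 0; 0, 1, 0, 0], !![0, 0, 1, 1; 0, 0, 1, 0; 1, 1, 0, 0; 1, 0, 0, 0], !![0, 1, 0, 0; 1, 0, 0, 1; 0, 0, 0, 1; 0, 1, 1, 0], !![0, 1, 0, 1; 1, 0, 1, 1; 0, 1, 0, 0; 1, 1, 0, 0], !![0, 1, 1, 0; 1, 0, 1, 0; 1, 1, 0, 1; 0, 0, 1, 0], !![0, 1, 1, 1; 1, 0, 0, 0; 1, 0, 0, 1; 1, 0, 1, 0]}
  | 5 => {!![0, 0, 0, 1; 0, 0, 1, 1; 0, 1, 0, 0; 1, 1, 0, 0], !![0, 0, 1, 0; 0, 0, 0, 1; 1, 0, 0, 0; 0, 1, 0, 0], !![0, 0, 1, 1; 0, 0, 1, 0; 1, 1, 0, 1; 1, 0, 1, 0], !![0, 1, 0, 0; 1, 0, 1, 1; 0, 1, 0, 1; 0, 1, 1, 0], !![0, 1, 0, 1; 1, 0, 0, 1; 0, 0, 0, 1; 1, 1, 1, 0], !![0, 1, 1, 0; 1, 0, 0, 0; 1, 0, 0, 1; 0, 0, 1, 0], !![0, 1, 1, 1; 1, 0, 1, 0; 1, 1, 0, 0; 1, 0, 0, 0]}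
  | 6 => {!![0, 0, 0, 1; 0, 0, 1, 1; 0, 1, 0, 0; 1, 1, 0, 0], !![0, 0, 1, 0; 0, 0, 0, 1; 1, 0, 0, 1; 0, 1, 1, 0], !![0, 0, 1, 1; 0, 0, 1, 0; 1, 1, 0, 0; 1, 0, 0, 0], !![0, 1, 0, 0; 1, 0, 1, 0; 0, 1, 0, 1; 0, 0, 1, 0], !![0, 1, 0, 1; 1, 0, 0, 0; 0, 0, 0, 1; 1, 0, 1, 0], !![0, 1, 1, 0; 1, 0, 0, 1; 1, 0, 0, 0; 0, 1, 0, 0], !![0, 1, 1, 1; 1, 0, 1, 1; 1, 1, 0, 1; 1, 1, 1, 0]}
  | 7 => {!![0, 0, 0, 1; 0, 0, 1, 0; 0, 1, 0, 1; 1, 0, 1, 0], !![0, 0, 1, 0; 0, 0, 1, 1; 1, 1, 0, 1; 0, 1, 1, 0], !![0, 0, 1, 1; 0, 0, 0, 1; 1, 0, 0, 1; 1, 1, 1, 0], !![0, 1, 0, 0; 1, 0, 0, 0; 0, 0, 0, 1; 0, 0, 1, 0], !![0, 1, 0, 1; 1, 0, 1, 1; 0, 1, 0, 0; 1, 1, 0, 0], !![0, 1, 1, 0; 1, 0, 0, 1; 1, 0, 0, 0; 0, 1, 0, 0], !![0, 1, 1, 1; 1, 0, 1, 0; 1, 1, 0, 0; 1, 0, 0, 0]}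

set_option maxRecDepth 100000 in
lemma H_inj : Function.Injective H := by decide +kernel

set_option maxRecDepth 100000 in
lemma H_tv : ∀ (i j : Fin 4) (hij : i ≠ j) (a : ZMod 2) (k : Fin 8), ∃ l,
    (H k).image (fun A => (SpecialLinearGroup.transvection hij a : G₂) • A) = H l := by decide +kernel

set_option maxRecDepth 100000 in
lemma H_move : (H 0).image (fun A => (SpecialLinearGroup.transvection (show (0 : Fin 4) ≠ 1 by decide) (1 : ZMod 2) : G₂) • A) ≠ H 0 := by decide +kernel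

lemma H_act (g : G₂) : ∀ k : Fin 8, ∃ l, g • H k = H l := by
  refine Cfsg.Agent.Lib.Classical.Transvections.transvection_induction (fun g => ∀ k : Fin 8, ∃ l, g • H k = H l) g ?_ ?_
  · intro i j hij a k
    obtain ⟨l, hl⟩ := H_tv i j hij a k
    exact ⟨l, hl⟩
  · intro A B hA hB k
    obtain ⟨l, hl⟩ := hB k
    obtain ⟨l', hl'⟩ := hA l
    exact ⟨l', by rw [mul_smul, hl, hl']⟩

/-- The set of heptads, as a sub-action. -/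
def X : SubMulAction G₂ (Finset Mat) where
  carrier := Set.range H
  smul_mem' g T hT := by
    obtain ⟨k, rfl⟩ := hT
    obtain ⟨l, hl⟩ := H_act g k
    exact ⟨l, hl.symm⟩

lemma card_X : Nat.card X = 8 := by
  have : Nat.card (Set.range H) = Nat.card (Fin 8) := Nat.card_range_of_injective H_inj
  rw [Nat.card_eq_fintype_card (α := Fin 8), Fintype.card_fin] at this
  exact this

/-- The permutation representation of `SL₄(2)` on the eight heptads. -/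
def φ : G₂ →* Equiv.Perm X := MulAction.toPermHom G₂ X

lemma center_eq_bot : Subgroup.center G₂ = ⊥ := by
  have h := Cfsg.Agent.Lib.Classical.SLBasic.card_center_sl (F := ZMod 2) (ι := Fin 4)
  apply Subgroup.eq_bot_of_card_eq
  rw [h]
  simp [ZMod.card]

/-- The representation of `PSL₄(2)`. -/
def ψ : Matrix.ProjectiveSpecialLinearGroup (Fin 4) (ZMod 2) →* Equiv.Perm X :=
  QuotientGroup.lift _ φ (by rw [center_eq_bot]; exact bot_le)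

lemma ψ_inj : Function.Injective ψ := by
  have hs : IsSimpleGroup (Matrix.ProjectiveSpecialLinearGroup (Fin 4) (ZMod 2)) :=
    Cfsg.Agent.Lib.Classical.Transvections.psl_isSimpleGroup (by simp)
  rcases hs.eq_bot_or_eq_top_of_normal ψ.ker inferInstance with h | h
  · exact (MonoidHom.ker_eq_bot_iff _).mp h
  · exfalso
    have hmem : ((SpecialLinearGroup.transvection (show (0 : Fin 4) ≠ 1 by decide) (1 : ZMod 2) : G₂) :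
        Matrix.ProjectiveSpecialLinearGroup (Fin 4) (ZMod 2)) ∈ ψ.ker := by rw [h]; trivial
    have h1 : φ (SpecialLinearGroup.transvection (show (0 : Fin 4) ≠ 1 by decide) (1 : ZMod 2) : G₂) = 1 := hmem
    let x : X := ⟨H 0, ⟨0, rfl⟩⟩
    have h2 := congrArg (fun p : Equiv.Perm X => ((p x : X) : Finset Mat)) h1
    exact H_move h2

lemma card_psl : 2 * Nat.card (Matrix.ProjectiveSpecialLinearGroup (Fin 4) (ZMod 2)) = Nat.factorial 8 := by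
  have h1 := Cfsg.Agent.Lib.Classical.SLBasic.card_gl_eq_gcd_mul_card_psl (F := ZMod 2) (ι := Fin 4)
  have h2 := Matrix.card_GL_field (𝔽 := ZMod 2) 4
  have h3 : ∏ i : Fin 4, (Fintype.card (ZMod 2) ^ 4 - Fintype.card (ZMod 2) ^ (i : ℕ)) = 20160 := by
    rw [ZMod.card]; decide
  rw [h2, h3, ZMod.card, Fintype.card_fin] at h1
  have h4 : Nat.gcd 4 (2 - 1) = 1 := by norm_num
  rw [h4] at h1
  have : Nat.factorial 8 = 40320 := rfl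
  omega

instance : Finite X := (Set.finite_range H).to_subtype

theorem main : Nonempty (Matrix.ProjectiveSpecialLinearGroup (Fin 4) (ZMod 2) ≃* alternatingGroup (Fin 8)) :=
  Cfsg.Agent.Lib.Classical.AltIso.mulEquiv_alt_of_injective ψ ψ_inj card_X card_psl (by norm_num)

/-- PSL_4(2) is isomorphic to A_8. -/
theorem result {F : Type*} [Field F] [Fintype F] (hF : Fintype.card F = 2) : Nonempty (Matrix.ProjectiveSpecialLinearGroup (Fin 4) F ≃* alternatingGroup (Fin 8)) := by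
  have hp : Nat.Prime 2 := by norm_num
  let e : ZMod 2 ≃+* F := ZMod.ringEquivOfPrime F hp hF
  obtain ⟨E⟩ := main
  exact ⟨(Cfsg.Agent.Lib.Classical.FieldTransfer.pslCongr e).symm.trans E⟩

end Cfsg.Agent.S0256
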