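import Cfsg.Statements.S0073
import Mathlib.Tactic

set_option autoImplicit false
open Cfsg

namespace Cfsg.Agent.S0073

/-- Arithmetic at the heart of the count: a q-group, q > p, acting nontrivially on a group of order
`p` or `p²`. -/
theorem action_key {P Q : Type*} [Group P] [Group Q] [Finite P] [Finite Q] {p q a : ℕ}
    [Fact p.Prime] [hqp : Fact q.Prime] (hq : p < q) (hP : Nat.card P = p ^ a) (ha : a ≤ 2)
    (hQ : IsPGroup q Q) (φ : Q →* MulAut P) (hφ : φ ≠ 1) : p = 2 ∧ q = 3 ∧ a = 2 := by
  have hp : p.Prime := Fact.out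
  have hqq : q.Prime := Fact.out
  let _ := MulDistribMulAction.compHom P φ
  have hmod := hQ.card_modEq_card_fixedPoints P
  let F := FixedPoints.subgroup Q P
  have hFcard : Nat.card (MulAction.fixedPoints Q P) = Nat.card F := rfl
  rw [hFcard, hP] at hmod
  have hFdvd : Nat.card F ∣ p ^ a := by
    rw [← hP]; exact Subgroup.card_subgroup_dvd_card F
  obtain ⟨k, hk, hk2⟩ := (Nat.dvd_prime_pow hp).1 hFdvd
  have hFne : F ≠ ⊤ := by
    intro hF
    apply hφ
    ext g x
    have hx : x ∈ F := by rw [hF]; trivial
    exact (FixedPoints.mem_subgroup Q P x).1 hx g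
  have hka : k < a := by
    refine lt_of_le_of_ne hk ?_
    rintro rfl
    apply hFne
    apply Subgroup.eq_top_of_card_eq
    rw [hk2, hP]
  rw [hk2] at hmod
  have hp1 : 1 < p := hp.one_lt
  have hnq1 : ¬ q ∣ p - 1 := by
    intro h
    have := Nat.le_of_dvd (by omega) h
    omega
  have hnq2 : ¬ q ∣ p := by
    intro h
    have := Nat.le_of_dvd (by omega) h
    omega
  have hsub : q ∣ p ^ a - p ^ k := (Nat.modEq_iff_dvd' (Nat.pow_le_pow_right hp.pos hk)).1 hmod.symm
  interval_cases a <;> interval_cases k
  · -- a = 1, k = 0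
    simp only [pow_one, pow_zero] at hsub
    exact (hnq1 hsub).elim
  · -- a = 2, k = 0
    simp only [pow_zero] at hsub
    have h2 : p ^ 2 - 1 = (p - 1) * (p + 1) := by
      obtain ⟨m, rfl⟩ : ∃ m, p = m + 1 := ⟨p - 1, by omega⟩
      simp only [Nat.add_sub_cancel]
      have : (m + 1) ^ 2 = m * (m + 1 + 1) + 1 := by ring
      omega
    rw [h2] at hsub
    rcases (hqq.dvd_mul).1 hsub with h | h
    · exact (hnq1 h).elim
    · have h3 := Nat.le_of_dvd (by omega) h
      have h4 : q = p + 1 := by omega
      subst h4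
      -- p and p+1 are both primes
      have h5 : p = 2 := by
        rcases hp.eq_two_or_odd' with h | h
        · exact h
        · exfalso
          have h6 : Even (p + 1) := h.add_one
          have h7 := hqq.even_iff.1 h6
          omega
      subst h5
      exact ⟨rfl, rfl, rfl⟩
  · -- a = 2, k = 1
    simp only [pow_one] at hsub
    have h2 : p ^ 2 - p = p * (p - 1) := by
      obtain ⟨m, rfl⟩ : ∃ m, p = m + 1 := ⟨p - 1, by omega⟩
      simp only [Nat.add_sub_cancel]
      have : (m + 1) ^ 2 = (m + 1) * m + (m + 1) := by ring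
      omega
    rw [h2] at hsub
    rcases (hqq.dvd_mul).1 hsub with h | h
    · exact (hnq2 h).elim
    · exact (hnq1 h).elim

theorem exists_coprime_factors (n q : ℕ) (hn0 : n ≠ 0) (hq : q.Prime) (hqn : q ∣ n)
    (hc : n ≠ q ^ n.factorization q) : ∃ u v : ℕ, u * v = n ∧ Nat.Coprime u v ∧ 1 < u ∧ 1 < v := by
  refine ⟨q ^ n.factorization q, n / q ^ n.factorization q, Nat.mul_div_cancel' (Nat.ordProj_dvd n q),
    (Nat.coprime_ordCompl hq hn0).pow_left _, ?_, ?_⟩
  · apply Nat.one_lt_pow
    · have h1 : 0 < n.factorization q := hq.factorization_pos_of_dvd hn0 hqn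
      omega
    · exact hq.one_lt
  · have huv : q ^ n.factorization q * (n / q ^ n.factorization q) = n :=
      Nat.mul_div_cancel' (Nat.ordProj_dvd n q)
    generalize n / q ^ n.factorization q = v at huv ⊢
    have hv0 : v ≠ 0 := by
      rintro rfl
      rw [mul_zero] at huv
      exact hn0 huv.symm
    by_contra hv
    have : v = 1 := by omega
    rw [this, mul_one] at huv
    exact hc huv.symm

/-- An element outside a subgroup has a prime-power order power outside that subgroup. -/
theorem exists_prime_pow_power {G : Type*} [Group G] [Finite G] (C : Subgroup G) (x : G)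
    (hx : x ∉ C) : ∃ (y : G) (q k : ℕ), q.Prime ∧ orderOf y = q ^ k ∧ y ∈ Subgroup.zpowers x ∧ y ∉ C := by
  induction hn : orderOf x using Nat.strong_induction_on generalizing x with
  | _ n ih =>
    have hn0 : n ≠ 0 := by
      rw [← hn]; exact (orderOf_pos x).ne'
    have hn1 : n ≠ 1 := by
      rintro rfl
      rw [orderOf_eq_one_iff] at hn
      exact hx (hn ▸ C.one_mem)
    have hq : n.minFac.Prime := Nat.minFac_prime hn1
    by_cases hc : n = n.minFac ^ (n.factorization n.minFac)
    · exact ⟨x, n.minFac, n.factorization n.minFac, hq, hn.trans hc, Subgroup.mem_zpowers x, hx⟩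
    · obtain ⟨u, v, huv, hcop, hu1, hv1⟩ := exists_coprime_factors n n.minFac hn0 hq (Nat.minFac_dvd n) hc
      have hou : orderOf (x ^ u) = v := by
        rw [orderOf_pow_of_dvd (by omega) (by rw [hn, ← huv]; exact Dvd.intro _ rfl), hn, ← huv,
          Nat.mul_div_cancel_left _ (by omega)]
      have hov : orderOf (x ^ v) = u := by
        rw [orderOf_pow_of_dvd (by omega) (by rw [hn, ← huv]; exact Dvd.intro_left _ rfl), hn, ← huv,
          Nat.mul_div_cancel _ (by omega)]
      -- Bezout
      have hbez : ∃ a b : ℤ, (u : ℤ) * a + (v : ℤ) * b = 1 := by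
        refine ⟨Nat.gcdA u v, Nat.gcdB u v, ?_⟩
        have := Nat.gcd_eq_gcd_ab u v
        rw [hcop] at this
        simpa using this.symm
      obtain ⟨a, b, hab⟩ := hbez
      have hxeq : x = (x ^ u) ^ a * (x ^ v) ^ b := by
        rw [← zpow_natCast, ← zpow_natCast, ← zpow_mul, ← zpow_mul, ← zpow_add, hab, zpow_one]
      by_cases hux : x ^ u ∈ C
      · have hvx : x ^ v ∉ C := by
          intro hvx
          apply hx
          rw [hxeq]
          exact C.mul_mem (C.zpow_mem hux _) (C.zpow_mem hvx _)
        obtain ⟨y, q', k, hq', hk, hy, hyC⟩ := ih u (by rw [← huv]; nlinarith) (x ^ v) hvx hov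
        refine ⟨y, q', k, hq', hk, ?_, hyC⟩
        exact (Subgroup.zpowers_le.2 (Subgroup.npow_mem_zpowers x v)) hy
      · obtain ⟨y, q', k, hq', hk, hy, hyC⟩ := ih v (by rw [← huv]; nlinarith) (x ^ u) hux hou
        refine ⟨y, q', k, hq', hk, ?_, hyC⟩
        exact (Subgroup.zpowers_le.2 (Subgroup.npow_mem_zpowers x u)) hy

/-- For a finite non-abelian simple group, either the cube of the least prime divisor of the order divides the order, or 12 does. -/
theorem result {G : Type*} [Group G] [Finite G] [IsSimpleGroup G] (hG : ∃ x y : G, x * y ≠ y * x) : (Nat.card G).minFac ^ 3 ∣ Nat.card G ∨ 12 ∣ Nat.card G := by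
  classical
  obtain ⟨x0, y0, hxy⟩ := hG
  have hn1 : Nat.card G ≠ 1 := by
    intro h
    have := (Nat.card_eq_one_iff_unique.1 h).1
    exact hxy (Subsingleton.elim _ _)
  have hp : (Nat.card G).minFac.Prime := Nat.minFac_prime hn1
  generalize hpdef : (Nat.card G).minFac = p at hp ⊢
  have : Fact p.Prime := ⟨hp⟩
  have hdvd : p ∣ Nat.card G := hpdef ▸ Nat.minFac_dvd _
  by_contra hcon
  push Not at hcon
  obtain ⟨h3, h12⟩ := hcon
  let P : Sylow p G := default
  obtain ⟨a, ha⟩ := P.2.exists_card_eq
  have hPdvd : Nat.card P ∣ Nat.card G := Subgroup.card_subgroup_dvd_card _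
  have ha2 : a ≤ 2 := by
    by_contra hcon
    apply h3
    have h4 : p ^ 3 ∣ p ^ a := pow_dvd_pow _ (by omega)
    rw [ha] at hPdvd
    exact h4.trans hPdvd
  have hne := P.ne_bot_of_dvd_card hdvd
  have ha1 : 1 ≤ a := by
    by_contra hcon
    have : a = 0 := by omega
    subst this
    apply hne
    rw [pow_zero] at ha
    exact Subgroup.eq_bot_of_card_eq _ ha
  have hab : ∀ a b : (P : Subgroup G), a * b = b * a := by
    have hcases : a = 1 ∨ a = 2 := by omega
    rcases hcases with rfl | rfl
    · rw [pow_one] at ha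
      have := isCyclic_of_prime_card ha
      exact mul_comm' 
    · have := IsPGroup.isMulCommutative_of_card_eq_prime_sq ha
      exact mul_comm'
  have hclaim : Subgroup.normalizer (P : Set G) ≤ Subgroup.centralizer (P : Set G) := by
    intro x hx
    by_contra hxC
    obtain ⟨y, q, k, hq, hk, hy, hyC⟩ := exists_prime_pow_power _ x hxC
    have : Fact q.Prime := ⟨hq⟩
    have hyN : Subgroup.zpowers y ≤ Subgroup.normalizer (P : Set G) :=
      Subgroup.zpowers_le.2 ((Subgroup.zpowers_le.2 hx) hy)
    have hZp : IsPGroup q (Subgroup.zpowers y) :=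
      IsPGroup.of_card (n := k) (by rw [Nat.card_zpowers, hk])
    have hqp : q ≠ p := by
      rintro rfl
      have h1 := hZp.inf_normalizer_sylow P
      have h2 : y ∈ Subgroup.zpowers y ⊓ (P : Subgroup G) := by
        rw [← h1]
        exact ⟨Subgroup.mem_zpowers y, hyN (Subgroup.mem_zpowers y)⟩
      apply hyC
      rw [Subgroup.mem_centralizer_iff]
      intro z hz
      have := hab ⟨z, hz⟩ ⟨y, h2.2⟩
      exact congrArg Subtype.val this
    have hqdvd : q ∣ Nat.card G := by
      have hk0 : k ≠ 0 := by
        rintro rfl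
        rw [pow_zero, orderOf_eq_one_iff] at hk
        rw [hk] at hyC
        exact hyC (Subgroup.one_mem _)
      have h1 : q ∣ orderOf y := by
        rw [hk]; exact dvd_pow_self _ hk0
      exact h1.trans (orderOf_dvd_natCard y)
    have hpq : p < q := by
      have := Nat.minFac_le_of_dvd hq.two_le hqdvd
      rw [hpdef] at this
      omega
    let φ : Subgroup.zpowers y →* MulAut (P : Subgroup G) :=
      (P : Subgroup G).normalizerMonoidHom.comp (Subgroup.inclusion hyN)
    have hφ : φ ≠ 1 := by
      intro h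
      apply hyC
      rw [Subgroup.mem_centralizer_iff]
      intro z hz
      have h2 := DFunLike.congr_fun h ⟨y, Subgroup.mem_zpowers y⟩
      have h3 := DFunLike.congr_fun h2 ⟨z, hz⟩
      have h4 : y * z * y⁻¹ = z := congrArg Subtype.val h3
      calc z * y = (y * z * y⁻¹) * y := by rw [h4]
        _ = y * z := by group
    obtain ⟨hp2, hq3, ha2'⟩ := action_key hpq ha ha2 hZp φ hφ
    subst hp2 hq3 ha2'
    apply h12
    rw [ha] at hPdvd
    have : Nat.Coprime 3 (2 ^ 2) := by norm_num
    have h5 := Nat.Coprime.mul_dvd_of_dvd_of_dvd this hqdvd hPdvd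
    simpa using h5
  have hcompl := MonoidHom.ker_transferSylow_isComplement' P hclaim
  have hnorm := (MonoidHom.transferSylow P hclaim).normal_ker
  rcases hnorm.eq_bot_or_eq_top with h | h
  · rw [h] at hcompl
    have h1 : (P : Subgroup G) = ⊤ := by
      have := hcompl.sup_eq_top
      simpa using this
    apply hxy
    have := hab ⟨x0, by rw [h1]; trivial⟩ ⟨y0, by rw [h1]; trivial⟩
    exact congrArg Subtype.val this
  · rw [h] at hcompl
    have h1 : (P : Subgroup G) = ⊥ := by
      have := hcompl.disjoint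
      simpa using this
    exact hne h1

end Cfsg.Agent.S0073
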