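import Cfsg.Statements.S3224
import Cfsg.Agent.Lib.PGroups.MaximalClass
import Cfsg.Agent.Lib.PGroups.Presentations

set_option autoImplicit false
open Cfsg

namespace Cfsg.Agent.S3224

open Subgroup Cfsg.Agent.Lib.PGroups.MaximalClass Cfsg.Agent.Lib.PGroups.LowerCentral
  Cfsg.Agent.Lib.PGroups.CyclicNormal Cfsg.Agent.Lib.PGroups.Presentations

/-- A finite 2-group containing an involution whose centralizer has order 4 is dihedral, quasi-dihedral (semidihedral), or of order 4. -/
theorem result {S : Type*} [Group S] [Finite S] (hS : IsPGroup 2 S)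
    (x : S) (hx : orderOf x = 2) (hC : Nat.card ↥(Subgroup.centralizer ({x} : Set S)) = 4) :
    (∃ n : ℕ, Nonempty (S ≃* DihedralGroup n)) ∨ Cfsg.IsQuasiDihedral S ∨ Nat.card S = 4 := by
  classical
  haveI : Fact (Nat.Prime 2) := ⟨Nat.prime_two⟩
  obtain ⟨n, hn⟩ := IsPGroup.iff_card.mp hS
  set A := Subgroup.centralizer ({x} : Set S) with hAdef
  have hA : Nat.card A = 2 ^ 2 := by rw [hC]; norm_num
  have hxA : x ∈ A := by
    rw [hAdef, Subgroup.mem_centralizer_iff]
    intro h hh
    rw [Set.mem_singleton_iff.mp hh]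
  have hAcomm : ∀ u ∈ A, ∀ v ∈ A, u * v = v * u := by
    have hcomm := IsPGroup.commutative_of_card_eq_prime_sq (p := 2) (G := A) hA
    intro u hu v hv
    have := hcomm ⟨u, hu⟩ ⟨v, hv⟩
    exact congrArg Subtype.val this
  have hAc : Subgroup.centralizer (A : Set S) = A := by
    apply le_antisymm
    · intro g hg
      rw [Subgroup.mem_centralizer_iff] at hg
      rw [hAdef, Subgroup.mem_centralizer_iff]
      intro h hh
      rw [Set.mem_singleton_iff.mp hh]
      exact hg x hxA
    · intro g hg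
      rw [Subgroup.mem_centralizer_iff]
      intro h hh
      exact hAcomm h hh g hg
  by_cases hn3 : n < 3
  · -- small case
    right; right
    have h1 : (2 : ℕ) ^ 2 ∣ 2 ^ n := by
      rw [← hA, ← hn]
      exact Subgroup.card_subgroup_dvd_card A
    have h2 : 2 ≤ n := (Nat.pow_dvd_pow_iff_le_right (by norm_num)).mp h1
    have h3 : n = 2 := by omega
    rw [hn, h3]; norm_num
  have hn3' : 3 ≤ n := by omega
  have hc := class_of_self_centralizing n hn A hA hAc
  have hidx := index_commutator_of_maximal_class hS hn3' hn hc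
  obtain ⟨a, y, r, s, hao, hidx, hy, hr, hr3, hr1, hy2, hs⟩ :=
    exists_structure hn3' hn (by rw [hidx]; norm_num)
  obtain ⟨m, rfl⟩ : ∃ m, n = m + 3 := ⟨n - 3, by omega⟩
  simp only [show m + 3 - 1 = m + 2 by omega, show m + 3 - 2 = m + 1 by omega] at *
  obtain ⟨k, hk⟩ := hr1
  obtain ⟨l, hl⟩ := hs
  have hpos : NeZero (2 ^ (m + 2)) := ⟨by positivity⟩
  set z : S := a ^ ((2 : ℤ) ^ (m + 1)) with hz
  have hz2 : z * z = 1 := by
    rw [hz, ← zpow_add, zpow_eq_one_iff_dvd hao]
    exact ⟨1, by ring⟩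
  have hzne : z ≠ 1 := by
    intro h
    rw [hz, zpow_eq_one_iff_dvd hao, pow_succ (2 : ℤ) (m + 1)] at h
    have h2 : (2 : ℤ) ^ (m + 1) * 2 ≤ 2 ^ (m + 1) := Int.le_of_dvd (by positivity) h
    have h3 : (0 : ℤ) < 2 ^ (m + 1) := by positivity
    omega
  have hzpow : ∀ t : ℤ, a ^ ((2 : ℤ) ^ (m + 1) * t) = z ^ t := by
    intro t; rw [hz, zpow_mul]
  have hzev : ∀ t : ℤ, z ^ (2 * t) = 1 := by
    intro t
    rw [zpow_mul, show z ^ (2 : ℤ) = z * z by rw [zpow_two], hz2, one_zpow]
  have hzod : ∀ t : ℤ, z ^ (2 * t + 1) = z := by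
    intro t
    rw [zpow_add, hzev, one_mul, zpow_one]
  have hform : ∀ g : S, g ∈ zpowers a ∨ g * y ∈ zpowers a := by
    intro g
    by_cases hg : g ∈ zpowers a
    · exact Or.inl hg
    · exact Or.inr ((mul_mem_iff_of_index_two hidx).mpr (iff_of_false hg hy))
  have hcardS : Nat.card S = 2 * 2 ^ (m + 2) := by rw [hn]; ring
  rcases Int.even_or_odd' k with ⟨k', hk' | hk'⟩
  · -- `y a y⁻¹ = a⁻¹`
    have hyinv : y * a * y⁻¹ = a⁻¹ := by
      rw [hr, ← zpow_neg_one, zpow_eq_zpow_iff_dvd hao]
      refine ⟨k', ?_⟩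
      rw [sub_neg_eq_add, hk, hk', pow_succ (2 : ℤ) (m + 1)]
      ring
    rcases Int.even_or_odd' l with ⟨l', hl' | hl'⟩
    · -- dihedral
      left
      have hy1 : y ^ 2 = 1 := by
        rw [hy2, zpow_eq_one_iff_dvd hao]
        refine ⟨l', ?_⟩
        rw [hl, hl', pow_succ (2 : ℤ) (m + 1)]
        ring
      obtain ⟨e⟩ := nonempty_dihedral_equiv hao hy1 hyinv hy hcardS
      exact ⟨2 ^ (m + 2), ⟨e.symm⟩⟩
    · -- generalized quaternion: impossible
      exfalso
      have hy1 : y ^ 2 = z := by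
        rw [hy2, hl, hzpow, hl', hzod]
      -- `x` lies in `⟨a⟩`
      have hxa : x ∈ zpowers a := by
        rcases hform x with h | h
        · exact h
        · exfalso
          obtain ⟨i, hi⟩ := mem_zpowers_iff.mp h
          have hxe : x = a ^ i * y⁻¹ := by rw [hi]; group
          have hx2 : x ^ 2 = 1 := by rw [← hx]; exact pow_orderOf_eq_one x
          have h4 : y⁻¹ * a ^ i * y = a ^ (-i) := by
            have h5 : y * a ^ (-i) * y⁻¹ = a ^ (r * (-i)) := conj_zpow_of hr _
            have h6 : y * a * y⁻¹ = a ^ (-1 : ℤ) := by rw [hyinv, zpow_neg_one]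
            have h7 : y * a ^ i * y⁻¹ = a ^ (-1 * i) := conj_zpow_of h6 i
            have h8 : y * a ^ (-i) * y⁻¹ = a ^ i := by
              have h9 : y * a ^ (-i) * y⁻¹ = a ^ (-1 * (-i)) := conj_zpow_of h6 (-i)
              rw [h9]; congr 1; ring
            rw [← h8]; group
          have h5 : x ^ 2 = y⁻¹ ^ 2 := by
            rw [hxe, pow_two]
            calc a ^ i * y⁻¹ * (a ^ i * y⁻¹) = a ^ i * (y⁻¹ * a ^ i * y) * y⁻¹ * y⁻¹ := by group
              _ = y⁻¹ ^ 2 := by rw [h4]; group
          rw [hx2, inv_pow, hy1] at h5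
          exact hzne (inv_eq_one.mp h5.symm)
      -- `x = z`
      have hxz : x = z := by
        obtain ⟨i, hi⟩ := mem_zpowers_iff.mp hxa
        have hx2 : x ^ 2 = 1 := by rw [← hx]; exact pow_orderOf_eq_one x
        have h3 : a ^ (i * 2) = 1 := by
          rw [zpow_mul, hi]; exact_mod_cast hx2
        rw [zpow_eq_one_iff_dvd hao, pow_succ (2 : ℤ) (m + 1)] at h3
        have h4 : (2 : ℤ) ^ (m + 1) ∣ i :=
          (mul_dvd_mul_iff_right (by norm_num)).mp h3
        obtain ⟨j, rfl⟩ := h4
        rw [hzpow] at hi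
        rcases Int.even_or_odd' j with ⟨j', hj | hj⟩
        · exfalso
          rw [hj, hzev] at hi
          rw [← hi] at hx
          simp at hx
        · rw [hj, hzod] at hi
          exact hi.symm
      -- then the centraliser of `x` is everything
      have hzy : y * z = z * y := by
        have h6 : y * z * y⁻¹ = z⁻¹ := by
          rw [hz, ← conj_zpow, hyinv, inv_zpow]
        have h7 : z⁻¹ = z := inv_eq_of_mul_eq_one_left hz2
        calc y * z = (y * z * y⁻¹) * y := by group
          _ = z * y := by rw [h6, h7]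
      have hall : ∀ g : S, g ∈ A := by
        have haz : ∀ g ∈ zpowers a, g ∈ A := by
          intro g hg
          rw [hAdef, Subgroup.mem_centralizer_iff]
          intro h hh
          rw [Set.mem_singleton_iff.mp hh, hxz]
          obtain ⟨i, rfl⟩ := mem_zpowers_iff.mp hg
          rw [hz, ← zpow_add, ← zpow_add, add_comm]
        have hyA : y ∈ A := by
          rw [hAdef, Subgroup.mem_centralizer_iff]
          intro h hh
          rw [Set.mem_singleton_iff.mp hh, hxz]
          exact hzy.symm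
        intro g
        rcases hform g with h | h
        · exact haz g h
        · have h3 : g = (g * y) * y⁻¹ := by group
          rw [h3]
          exact A.mul_mem (haz _ h) (A.inv_mem hyA)
      have h3 : A = ⊤ := by
        rw [eq_top_iff]; intro g _; exact hall g
      rw [h3, Subgroup.card_top, hn] at hA
      have : (2 : ℕ) ^ 3 ≤ 2 ^ (m + 3) := Nat.pow_le_pow_right (by norm_num) (by omega)
      norm_num at hA this
      omega
  · -- semidihedral
    right; left
    have hm : 1 ≤ m := by
      by_contra hm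
      have hm0 : m = 0 := by omega
      rw [hm0, hk'] at hk
      norm_num at hk
      omega
    obtain ⟨m', rfl⟩ : ∃ m', m = m' + 1 := ⟨m - 1, by omega⟩
    have hrr : a ^ r = a ^ (2 ^ (m' + 1 + 2 - 1) - 1 : ℕ) := by
      rw [← zpow_natCast, zpow_eq_zpow_iff_dvd hao]
      have h2 : 1 ≤ 2 ^ (m' + 1 + 2 - 1) := Nat.one_le_two_pow
      rw [Nat.cast_sub h2]
      push_cast
      refine ⟨k', ?_⟩
      have hr' : r = 2 ^ (m' + 1 + 1) * k - 1 := by linarith
      rw [hr', hk', pow_succ (2 : ℤ) (m' + 1 + 1)]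
      ring
    refine ⟨m' + 1 + 2, by omega, ?_⟩
    rw [hn]
    have hz3 : (y * a) ^ 2 = z ^ (k + l) := by
      have h3 : y * a * y = a ^ r * y ^ 2 := by
        rw [← hr, pow_two]; group
      rw [pow_two]
      calc y * a * (y * a) = (y * a * y) * a := by group
        _ = a ^ r * y ^ 2 * a := by rw [h3]
        _ = a ^ r * a ^ s * a := by rw [hy2]
        _ = a ^ (r + s + 1) := by
            rw [zpow_add, zpow_add, zpow_one]
        _ = z ^ (k + l) := by
            rw [← hzpow]; congr 1; rw [hl]; linarith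
    rcases Int.even_or_odd' l with ⟨l', hl' | hl'⟩
    · refine ⟨by ring_nf, a, y, hao, ?_, ?_⟩
      · apply orderOf_eq_prime
        · rw [hy2, zpow_eq_one_iff_dvd hao]
          refine ⟨l', ?_⟩
          rw [hl, hl', pow_succ (2 : ℤ) (m' + 1 + 1)]
          ring
        · rintro rfl
          exact hy (one_mem _)
      · rw [hr, hrr]
    · refine ⟨by ring_nf, a, y * a, hao, ?_, ?_⟩
      · apply orderOf_eq_prime
        · rw [hz3, hk', hl', show 2 * k' + 1 + (2 * l' + 1) = 2 * (k' + l' + 1) by ring, hzev]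
        · intro h
          apply hy
          have : y = a⁻¹ := eq_inv_of_mul_eq_one_left h
          rw [this]
          exact inv_mem (mem_zpowers a)
      · have : y * a * a * (y * a)⁻¹ = y * a * y⁻¹ := by group
        rw [this, hr, hrr]

end Cfsg.Agent.S3224
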