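import Cfsg.Statements.S0347
import Cfsg.Agent.Lib.Suz.Setup

set_option autoImplicit false
open Cfsg

namespace Cfsg.Agent.S0347

/-- If in a finite simple Zassenhaus group the stabiliser of a point `x` has a normal `2`-subgroup `U` which is
non-abelian and acts regularly on the points other than `x`, then the group is simple of Suzuki order (order-level
predicate `IsSuzuki`). -/
theorem result {G Ω : Type*} [Group G] [Finite G] [MulAction G Ω] [Finite Ω]
    (hZ : Cfsg.IsZassenhausGroup G Ω) [IsSimpleGroup G]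
    (x : Ω) (U : Subgroup G) (hUle : U ≤ MulAction.stabilizer G x) (hUn : (U.subgroupOf (MulAction.stabilizer G x)).Normal)
    (hU2 : IsPGroup 2 U) (hUna : ∃ u v : U, u * v ≠ v * u)
    (hreg : ∀ y z : Ω, y ≠ x → z ≠ x → ∃! u : U, (u : G) • y = z) :
    Cfsg.IsSuzuki G := by
  classical
  letI : Fintype G := Fintype.ofFinite G
  letI : Fintype Ω := Fintype.ofFinite Ω
  obtain ⟨b, hb, -⟩ := Cfsg.Agent.Lib.Zass.Basic.exists_third hZ x x
  have hy : Cfsg.Agent.Lib.Suz.Setup.Hyp G x b U :=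
    { hZ := hZ
      hab := Ne.symm hb
      Qa := hUle
      Qn := fun h hh u hu => by
        have := hUn.conj_mem ⟨u, hUle hu⟩ (Subgroup.mem_subgroupOf.2 hu) ⟨h, hh⟩
        exact Subgroup.mem_subgroupOf.1 this
      Q2 := hU2
      Qna := by
        obtain ⟨u, v, huv⟩ := hUna
        exact ⟨u, u.2, v, v.2, fun h => huv (Subtype.ext h)⟩
      hreg := hreg }
  obtain ⟨m, hm, hN, hH, hsq⟩ := Cfsg.Agent.Lib.Suz.Setup.main_thm hy
  obtain ⟨l, rfl⟩ := Cfsg.Agent.Lib.Suz.Setup.exists_odd_of_isSquare hsq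
  refine ⟨inferInstance, l, by omega, ?_⟩
  have h1 := Cfsg.Agent.Lib.Zass.InvCount.card_G hZ (Ne.symm hb)
  have h2 := Cfsg.Agent.Lib.Suz.Setup.Qcard hy
  set q := 2 ^ (2 * l + 1) with hq
  have h3 : Fintype.card Ω - 1 = Nat.card U := by omega
  rw [h3, ← h2, hN] at h1
  have h4 : Nat.card ↥(MulAction.stabilizer G x ⊓ MulAction.stabilizer G b : Subgroup G) = q - 1 := by
    have : Nat.card ↥(MulAction.stabilizer G x ⊓ MulAction.stabilizer G b : Subgroup G) + 1 = q := hH
    omega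
  have h5 : Nat.card ↥(Cfsg.Agent.Lib.Zass.Stab.E (G := G) x b) = q - 1 := h4
  rw [h5] at h1
  rw [h1]
  ring

end Cfsg.Agent.S0347
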