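import Cfsg.Statements.S1293
import Cfsg.Agent.S1268
import Cfsg.Agent.Lib.Signal.PComp
import Cfsg.Agent.Lib.Signal.MainLemma
import Cfsg.Agent.Lib.Coprime.Quotient

set_option autoImplicit false
open Cfsg

namespace Cfsg.Agent.S1293

open Subgroup Cfsg Cfsg.Agent.Lib.Components.Basic Cfsg.Agent.Lib.Core.Basic


/-- Let G be finite with L_{p'}(G) = 1, and H = N_G(P) for a nontrivial p-subgroup P. Then L_{p'}(H) = 1 and O_{p'}(H) ≤ O_{p'}(G). -/
theorem result {G : Type*} [Group G] [Finite G] (p : ℕ) [Fact p.Prime] (hL : Cfsg.pLayer p G = ⊥) (P : Subgroup G) (hP : IsPGroup p ↥P) (hP1 : P ≠ ⊥) : Cfsg.pLayer p ↥(Subgroup.normalizer (P : Set G)) = ⊥ ∧ (Cfsg.pPrimeCore p ↥(Subgroup.normalizer (P : Set G))).map (Subgroup.normalizer (P : Set G)).subtype ≤ Cfsg.pPrimeCore p G := by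
  have hp : p.Prime := Fact.out
  set O := pPrimeCore p G with hO
  set π := QuotientGroup.mk' O with hπ
  set Q := G ⧸ O with hQdef
  have hπs : Function.Surjective π := QuotientGroup.mk'_surjective _
  have hQO : pPrimeCore p Q = ⊥ := pPrimeCore_quotient_eq_bot
  have hE : layer Q = ⊥ := by
    have h1 := Cfsg.Agent.Lib.Signal.PComp.map_pLayer (X := G) hp
    rw [hL, Subgroup.map_bot] at h1
    exact h1.symm
  have hFit : fittingSubgroup Q ≤ pCore p Q := by
    apply le_pCore fittingSubgroup_normal
    exact Cfsg.Agent.Lib.CharP.Basic.isPGroup_of_nilpotent_subnormal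
      (fun q hq hqp => Cfsg.Agent.Lib.Signal.MainLemma.pCore_eq_bot_of_ne hQO hq hqp)
      (fittingSubgroup_normal).isSubnormal fittingSubgroup_isNilpotent
  have hFs : generalizedFittingSubgroup Q = pCore p Q := by
    rw [generalizedFittingSubgroup, hE, bot_sup_eq]
    exact le_antisymm hFit (pCore_le_fittingSubgroup p)
  have hPbar : IsPGroup p (P.map π) := hP.map π
  have hFN := Cfsg.Agent.S1268.result p hFs (P.map π) hPbar
  set Nb := normalizer ((P.map π : Subgroup Q) : Set Q) with hNb
  -- no components in `N̄`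
  have hno : ∀ K : Subgroup Nb, ¬ IsComponent K := by
    intro K hK
    have h1 : K ≤ pCore p Nb := by
      rw [← hFN]
      exact (le_layer_of_isComponent hK).trans layer_le_generalizedFitting
    have h2 : IsPGroup p K := (pCore_isPGroup (p := p) (G := Nb)).to_le h1
    exact quasisimple_not_nilpotent hK.2 h2.isNilpotent
  have hNO : pPrimeCore p Nb = ⊥ := by
    have h1 : centralizer (pCore p Nb : Set Nb) ≤ pCore p Nb :=
      Cfsg.Agent.Lib.CharP.Basic.charP_of_generalizedFitting_eq hFN
    have h2 : pPrimeCore p Nb ≤ centralizer (pCore p Nb : Set Nb) := by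
      have h3 := commutator_pCore_pPrimeCore (p := p) (G := Nb)
      rw [commutator_comm, commutator_eq_bot_iff_le_centralizer] at h3
      exact h3
    have h3 : pCore p Nb ⊓ pPrimeCore p Nb = ⊥ :=
      inf_eq_bot_of_isPGroup_of_coprime pCore_isPGroup pPrimeCore_coprime
    rw [eq_bot_iff, ← h3]
    exact le_inf (h2.trans h1) le_rfl
  -- the map from `H` to `N̄`
  have hNmap : Nb = (normalizer (P : Set G)).map π :=
    Cfsg.Agent.Lib.Coprime.Quotient.normalizer_map_mk_eq O pPrimeCore_coprime P hP
  set H := normalizer (P : Set G) with hH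
  have hfm : ∀ h : H, π h ∈ Nb := fun h => by rw [hNmap]; exact ⟨h, h.2, rfl⟩
  let f : H →* Nb := (π.comp H.subtype).codRestrict Nb hfm
  have hfs : Function.Surjective f := by
    rintro ⟨y, hy⟩
    rw [hNmap] at hy
    obtain ⟨h, hh, rfl⟩ := hy
    exact ⟨⟨h, hh⟩, rfl⟩
  have hfker : ∀ h : H, f h = 1 ↔ (h : G) ∈ O := by
    intro h
    rw [← QuotientGroup.eq_one_iff, Subtype.ext_iff]
    rfl
  have hcO : ∀ x ∈ O, (orderOf x).Coprime p := (coprime_card_iff_forall_orderOf O).mp pPrimeCore_coprime
  constructor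
  · rw [eq_bot_iff, pLayer]
    apply sSup_le
    intro K hK
    exfalso
    -- `f(K)` is a component
    have hsK : (K.map f).IsSubnormal := hK.1.map hfs
    have hk1 : ∀ k ∈ pPrimeCore p K, f (k : H) = 1 := by
      intro k hk
      have h1 : ((pPrimeCore p K).map K.subtype).IsSubnormal :=
        (Subgroup.Normal.isSubnormal inferInstance).trans' hK.1
      have h2 : (((pPrimeCore p K).map K.subtype).map f).IsSubnormal := h1.map hfs
      have h3 : (Nat.card (((pPrimeCore p K).map K.subtype).map f)).Coprime p := by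
        rw [coprime_card_iff_forall_orderOf]
        rintro _ ⟨_, ⟨k', hk', rfl⟩, rfl⟩
        have h4 : (orderOf k').Coprime p :=
          (coprime_card_iff_forall_orderOf _).mp pPrimeCore_coprime k' hk'
        have h5 : orderOf (k' : H) = orderOf k' := Subgroup.orderOf_coe k'
        exact Nat.Coprime.coprime_dvd_left (orderOf_map_dvd f (k' : H)) (h5 ▸ h4)
      have h6 := le_pPrimeCore_of_isSubnormal h2 h3
      rw [hNO] at h6
      exact mem_bot.mp (h6 ⟨k, ⟨k, hk, rfl⟩, rfl⟩)
    have hker : (f.subgroupMap K).ker = pPrimeCore p K := by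
      apply le_antisymm
      · apply le_pPrimeCore_of_orderOf inferInstance
        intro k hk
        have h1 : f (k : H) = 1 := by
          have := congrArg Subtype.val (MonoidHom.mem_ker.mp hk)
          simpa using this
        have h2 := hcO _ ((hfker _).mp h1)
        have h3 : orderOf ((k : H) : G) = orderOf k := by
          rw [Subgroup.orderOf_coe, Subgroup.orderOf_coe]
        rwa [h3] at h2
      · intro k hk
        refine MonoidHom.mem_ker.mpr (Subtype.ext ?_)
        simpa using hk1 k hk
    have hs := MonoidHom.subgroupMap_surjective f K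
    have e := (QuotientGroup.quotientMulEquivOfEq hker.symm).trans
      (QuotientGroup.quotientKerEquivOfSurjective _ hs)
    have hQ2 : IsQuasisimple (K.map f) :=
      quasisimple_of_mulEquiv e (Cfsg.Agent.Lib.PCStage.Basic.quasisimple_quot hK)
    exact hno _ ⟨hsK, hQ2⟩
  · rintro _ ⟨d, hd, rfl⟩
    have h1 : (pPrimeCore p H).map f ≤ pPrimeCore p Nb := by
      apply le_pPrimeCore_of_orderOf ((pPrimeCore_normal p H).map f hfs)
      rintro _ ⟨k, hk, rfl⟩
      exact Nat.Coprime.coprime_dvd_left (orderOf_map_dvd f k)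
        ((coprime_card_iff_forall_orderOf _).mp pPrimeCore_coprime k hk)
    rw [hNO] at h1
    have h2 : f d = 1 := mem_bot.mp (h1 ⟨d, hd, rfl⟩)
    exact (hfker d).mp h2

end Cfsg.Agent.S1293
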