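import Cfsg.Statements.S0727
import Cfsg.Agent.Lib.Zass.Sharp3
import Cfsg.Agent.Lib.Zass.RootFinal

set_option autoImplicit false
open Cfsg

namespace Cfsg.Agent.S0727

open Cfsg.Agent.Lib.Zass.Sharp3 Cfsg.Agent.Lib.Zass.Root Cfsg.Agent.Lib.Zass.Root.RootData
  Cfsg.Agent.Lib.Zass.RootFinal

/-- A sharply triply transitive permutation group of degree `2^f + 1` is isomorphic to the projective general linear group of degree 2 over the field with `2^f` elements. -/
theorem result {α : Type*} [Fintype α] [DecidableEq α] {f : ℕ} (hf : 1 ≤ f) (hα : Fintype.card α = 2 ^ f + 1) (G : Subgroup (Equiv.Perm α)) (h3 : MulAction.IsMultiplyPretransitive G α 3) (hsharp : ∀ x : Fin 3 ↪ α, MulAction.stabilizer G x = ⊥) : ∃ (F : Type) (_ : Field F) (_ : Fintype F), Fintype.card F = 2 ^ f ∧ Nonempty (G ≃* Matrix.ProjGenLinGroup (Fin 2) F) := by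
  classical
  have S := sharp3_of_subgroup G h3 hsharp
  have faith : ∀ g g' : G, (∀ y : α, g • y = g' • y) → g = g' := by
    intro g g' h
    apply Subtype.ext
    apply Equiv.ext
    exact h
  have h3card : 3 ≤ Fintype.card α := by
    have : 2 ≤ 2 ^ f := by
      calc 2 = 2 ^ 1 := by norm_num
        _ ≤ 2 ^ f := Nat.pow_le_pow_right (by norm_num) hf
    omega
  obtain ⟨inf, o, c, hio, hic, hoc⟩ : ∃ a b c : α, a ≠ b ∧ a ≠ c ∧ b ≠ c := by
    have := Fintype.two_lt_card_iff.mp (by omega : 2 < Fintype.card α)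
    obtain ⟨a, b, c, h1, h2, h3⟩ := this
    exact ⟨a, b, c, h1, h2, h3⟩
  obtain ⟨A, instA, instF, R, p, j, hR1, hR2, hp, hj, hcard, hcardA, hexp⟩ :=
    S.exists_rootData faith (inf := inf) (o := o) (c := c) (Ne.symm hio) (Ne.symm hic) hoc
  -- `p = 2`, `j = f`
  have hpow : p ^ j = 2 ^ f := by omega
  have hp2 : p = 2 := by
    have h1 : p ∣ 2 ^ f := by rw [← hpow]; exact dvd_pow_self p (by omega)
    exact (Nat.prime_dvd_prime_iff_eq hp Nat.prime_two).mp (hp.dvd_of_dvd_pow h1)
  subst hp2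
  have hneg : ∀ x : A, -x = x := by
    intro x
    have := hexp x
    rw [two_nsmul] at this
    exact neg_eq_of_add_eq_zero_left this
  -- the point `e`
  have hc' : c ≠ R.inf := by rw [hR1]; exact Ne.symm hic
  set e := R.coord c with he_def
  have hpte : R.pt e = c := R.pt_coord hc'
  have he : e ≠ 0 := by
    intro h
    apply hoc
    rw [← hpte, h, ← hR2]
    rfl
  obtain ⟨s, hs, hse⟩ := exists_inv (R := R) S he
  have hse' : R.ap s e = -e := by rw [hse, hneg]
  have hsp : Special s R := by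
    intro x hx
    rw [kap_def, hneg, hneg, hs.ap_ap hx]
  have hmu : ∀ x : A, x ≠ 0 → mu s R x * mu s R x = 1 := fun x hx => mu_sq S hs hsp he hse' hx
  have hcH := card_H (R := R) S he
  have hinv := inverts_of_card hs hsp hmu R.H (fun x hx => mu_mem hs hx) 1 (Or.inr ⟨rfl, hneg⟩)
    (by rw [one_mul]; exact hcH.le)
  obtain ⟨K, i1, i2, h4, h5⟩ := final_PGL R hs hsp hinv he hse' hcH
  refine ⟨K, i1, i2, ?_, h5⟩
  rw [h4, hcardA, hpow]

end Cfsg.Agent.S0727
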