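import Cfsg.Statements.S2037
import Cfsg.Agent.Lib.Schur.Local
import Cfsg.Agent.Lib.Schur.Cert.M23p2
import Cfsg.Agent.Lib.Schur.Cert.M23p3
import Cfsg.Agent.Lib.Golay.OutGroups

/-!
The Schur multiplier of `M23` is trivial: the stable-element computation at the primes 2 and 3 is
a kernel-checked tail certificate; the other primes divide the order at most once.
-/

set_option autoImplicit false
open Cfsg

namespace Cfsg.Agent.S2037

open Subgroup Cfsg.Agent.Lib.Schur.Stem Cfsg.Agent.Lib.Schur.Local Cfsg.Agent.Lib.Schur.PcGolay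
open Cfsg.Agent.Lib.Golay.Perm Cfsg.Agent.Lib.Golay.OutGroups Cfsg.Agent.Lib.Schur.Cert

theorem card_G : Nat.card ↥Cfsg.Spor.M23 = 10200960 := card_M23

/-- Membership test. -/
def memT (P : ℕ) : Bool := checkAut P && Nat.beq (img P 23) 23

theorem memT_spec {P : ℕ} (h : memT P = true) : g P ∈ Cfsg.Spor.M23 := by
  simp only [memT, Bool.and_eq_true] at h
  exact g_mem_M23 h.1 (Nat.eq_of_beq_eq_true h.2)

theorem idC_mem : g idC ∈ Cfsg.Spor.M23 := memT_spec (by decide +kernel)

theorem mem2 : ∀ P ∈ M23p2.codes ++ M23p2.conj, memT P = true := by decide +kernel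
theorem mem3 : ∀ P ∈ M23p3.codes ++ M23p3.conj, memT P = true := by decide +kernel

theorem not_sq_dvd {p : ℕ} (hp : p.Prime) (h2 : p ≠ 2) (h3 : p ≠ 3) : ¬ p ^ 2 ∣ 10200960 := by
  intro h
  have hc : Nat.Coprime (p ^ 2) (2 ^ 7 * 3 ^ 2) := by
    apply Nat.Coprime.pow_left
    apply Nat.Coprime.mul_right
    · exact Nat.Coprime.pow_right _ ((Nat.coprime_primes hp Nat.prime_two).2 h2)
    · exact Nat.Coprime.pow_right _ ((Nat.coprime_primes hp Nat.prime_three).2 h3)
  have h4 : p ^ 2 ∣ 8855 := by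
    have : 10200960 = (2 ^ 7 * 3 ^ 2) * 8855 := by norm_num
    rw [this] at h
    exact hc.dvd_of_dvd_mul_left h
  have h5 := Nat.le_of_dvd (by norm_num) h4
  have h6 : p ≤ 94 := by nlinarith
  interval_cases p
  all_goals first | omega | (norm_num at hp; done) | (norm_num at h4; done)

theorem result : Cfsg.HasCyclicSchurMultiplier ↥Cfsg.Spor.M23 1 := by
  refine hasCyclicSchurMultiplier_one ?_
  intro Γ _ _ σ hσ
  refine card_ker_dvd_of_sylow hσ 1 one_ne_zero ?_
  intro p _ P
  by_cases hp2 : p = 2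
  · subst hp2
    exact card_ker_dvd (p := 2) _ M23p2.C M23p2.check_ok M23p2.codes M23p2.conj M23p2.base M23p2.ord M23p2.chk_ok
      idC_mem (fun P hP => memT_spec (mem2 P (List.mem_append_left _ hP)))
      (fun P hP => memT_spec (mem2 P (List.mem_append_right _ hP))) rfl hσ
      (m := 79695) (by rw [card_G]; decide +kernel) (by norm_num) P
  by_cases hp3 : p = 3
  · subst hp3
    exact card_ker_dvd (p := 3) _ M23p3.C M23p3.check_ok M23p3.codes M23p3.conj M23p3.base M23p3.ord M23p3.chk_ok
      idC_mem (fun P hP => memT_spec (mem3 P (List.mem_append_left _ hP)))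
      (fun P hP => memT_spec (mem3 P (List.mem_append_right _ hP))) rfl hσ
      (m := 1133440) (by rw [card_G]; decide +kernel) (by norm_num) P
  · refine card_ker_sylow_of_not_sq_dvd hσ ?_ P
    rw [card_G]
    exact not_sq_dvd Fact.out hp2 hp3

end Cfsg.Agent.S2037
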