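import Mathlib
import Cfsg.Statements.S3975

set_option autoImplicit false
set_option linter.all false
open Cfsg

namespace Cfsg.Agent.S3975

open MulAction
open scoped Pointwise

section
variable {G : Type*} [Group G] [DecidableEq G]

lemma mem_smul_om {k : ℕ} (g : G) (S : Set.powersetCard G k) (x : G) :
    x ∈ ((g • S : Set.powersetCard G k) : Finset G) ↔ g⁻¹ * x ∈ (S : Finset G) := by
  rw [Set.powersetCard.coe_smul]
  constructor
  · intro h
    obtain ⟨y, hy, rfl⟩ := Finset.mem_smul_finset.1 h
    simpa using hy
  · intro h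
    exact Finset.mem_smul_finset.2 ⟨g⁻¹ * x, h, by simp⟩

lemma smul_eq_iff {k : ℕ} (g : G) (S : Set.powersetCard G k) :
    g • S = S ↔ ∀ x, x ∈ (S : Finset G) → g * x ∈ (S : Finset G) := by
  constructor
  · intro h x hx
    rw [← h, mem_smul_om]
    simpa [h] using hx
  · intro h
    apply Subtype.ext
    apply Finset.eq_of_subset_of_card_le
    · rw [Set.powersetCard.coe_smul]
      intro x hx
      obtain ⟨y, hy, rfl⟩ := Finset.mem_smul_finset.1 hx
      exact h y hy
    · rw [Set.powersetCard.coe_smul, Finset.card_smul_finset]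

lemma card_stabilizer_dvd [Finite G] {k : ℕ} (S : Set.powersetCard G k) :
    Nat.card (stabilizer G S) ∣ k := by
  set H := stabilizer G S with hH
  have hmem : ∀ (h : H) (x : G), x ∈ (S : Finset G) → (h : G) * x ∈ (S : Finset G) := by
    intro h x hx
    exact (smul_eq_iff (h : G) S).1 h.2 x hx
  let X : SubMulAction H G :=
    { carrier := ((S : Finset G) : Set G)
      smul_mem' := fun h x hx => hmem h x hx }
  have hfree : ∀ b : X, stabilizer H b = ⊥ := by
    intro b
    rw [eq_bot_iff]
    intro h hh
    rw [mem_stabilizer_iff] at hh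
    have h1 : (h : G) * (b : G) = b := congrArg Subtype.val hh
    have h2 : (h : G) = 1 := by simpa using h1
    rw [Subgroup.mem_bot]
    exact Subtype.ext h2
  have e := selfEquivOrbitsQuotientProd hfree
  have hcard : Nat.card X = k := by
    have : Nat.card X = ((S : Finset G) : Set G).ncard := rfl
    rw [this, Set.ncard_coe_finset, S.2]
  rw [← hcard, Nat.card_congr e, Nat.card_prod]
  exact dvd_mul_left _ _

lemma card_stab_mul_orbit [Finite G] {k : ℕ} (S : Set.powersetCard G k) :
    Nat.card (stabilizer G S) * Nat.card (orbit G S) = Nat.card G := by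
  have h1 := index_stabilizer G S
  have h2 := (stabilizer G S).card_mul_index
  rw [h1, ← Nat.card_coe_set_eq] at h2
  exact h2

/-- The subgroup as a point of `powersetCard`. -/
noncomputable def toOm [Finite G] {k : ℕ} (H : Subgroup G) (hH : Nat.card H = k) : Set.powersetCard G k :=
  ⟨(Set.toFinite (H : Set G)).toFinset, by
    rw [Set.powersetCard.mem_iff, ← Set.ncard_eq_toFinset_card, ← Nat.card_coe_set_eq]
    exact hH⟩

lemma mem_toOm [Finite G] {k : ℕ} (H : Subgroup G) (hH : Nat.card H = k) (x : G) :
    x ∈ ((toOm H hH : Set.powersetCard G k) : Finset G) ↔ x ∈ H := by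
  change x ∈ (Set.toFinite (H : Set G)).toFinset ↔ _
  simp

lemma stabilizer_toOm [Finite G] {k : ℕ} (H : Subgroup G) (hH : Nat.card H = k) :
    stabilizer G (toOm H hH) = H := by
  ext g
  rw [mem_stabilizer_iff, smul_eq_iff]
  constructor
  · intro h
    have h1 := h 1 ((mem_toOm H hH 1).2 H.one_mem)
    rw [mem_toOm, mul_one] at h1
    exact h1
  · intro hg x hx
    rw [mem_toOm] at hx ⊢
    exact H.mul_mem hg hx

theorem choose_modEq [Finite G] {p β m : ℕ} (hp : p.Prime) (hn : Nat.card G = p ^ β * m) :
    (Nat.card G).choose (p ^ β) ≡ m * Nat.card {H : Subgroup G // Nat.card H = p ^ β} [MOD p * m] := by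
  classical
  set k := p ^ β with hk
  have hk0 : 0 < k := pow_pos hp.pos _
  have hGpos : 0 < Nat.card G := Nat.card_pos
  have hm0 : 0 < m := by
    rw [hn] at hGpos
    exact Nat.pos_of_mul_pos_left hGpos 
  let Ω := orbitRel.Quotient G (Set.powersetCard G k)
  letI : Fintype Ω := Fintype.ofFinite Ω
  let f : Ω → ℕ := fun ω => Nat.card ω.orbit
  have hsum : (Nat.card G).choose k = ∑ ω : Ω, f ω := by
    rw [← Set.powersetCard.card, Nat.card_congr (selfEquivSigmaOrbits' G (Set.powersetCard G k)),
      Nat.card_sigma]
  have hf : ∀ ω : Ω, f ω = m ∨ p * m ∣ f ω := by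
    intro ω
    induction ω using Quotient.inductionOn' with
    | h S =>
      have h1 : f (Quotient.mk'' S) = Nat.card (orbit G S) := by
        change Nat.card (orbitRel.Quotient.orbit (Quotient.mk'' S)) = _
        rw [orbitRel.Quotient.orbit_mk]
      rw [h1]
      have h2 := card_stab_mul_orbit S
      have h3 := card_stabilizer_dvd S
      obtain ⟨b, hb, hb2⟩ := (Nat.dvd_prime_pow hp).1 h3
      rw [hb2, hn] at h2
      obtain ⟨c, hc⟩ : ∃ c, β = b + c := ⟨β - b, by omega⟩
      have h2' : p ^ b * Nat.card (orbit G S) = p ^ b * (p ^ c * m) := by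
        rw [← mul_assoc, ← pow_add, ← hc]
        exact h2
      have h4 := Nat.eq_of_mul_eq_mul_left (pow_pos hp.pos b) h2'
      rcases Nat.eq_zero_or_pos c with h5 | h5
      · left
        rw [h4, h5]
        simp
      · right
        rw [h4]
        exact mul_dvd_mul (dvd_pow_self p h5.ne') (dvd_refl m)
  -- the bijection
  let Φ : {H : Subgroup G // Nat.card H = k} → {ω : Ω // f ω = m} := fun H =>
    ⟨Quotient.mk'' (toOm H.1 H.2), by
      change Nat.card (orbitRel.Quotient.orbit (Quotient.mk'' (toOm H.1 H.2))) = m
      rw [orbitRel.Quotient.orbit_mk]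
      have h2 := card_stab_mul_orbit (toOm H.1 H.2)
      rw [stabilizer_toOm, H.2, hn] at h2
      exact Nat.eq_of_mul_eq_mul_left hk0 h2⟩
  have hΦ : Function.Bijective Φ := by
    constructor
    · rintro ⟨H, hH⟩ ⟨K, hK⟩ h
      have h1 : (Quotient.mk'' (toOm H hH) : Ω) = Quotient.mk'' (toOm K hK) := congrArg Subtype.val h
      have h2 := Quotient.eq''.1 h1
      obtain ⟨g, hg⟩ := orbitRel_apply.1 h2
      -- `g • K = H`
      have hg' : g • toOm K hK = toOm H hH := hg
      have h3 : g ∈ H := by
        rw [← mem_toOm H hH, ← hg', mem_smul_om]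
        have : g⁻¹ * g = 1 := by group
        rw [this, mem_toOm]
        exact K.one_mem
      have h4 : g • toOm H hH = toOm H hH := by
        have := stabilizer_toOm H hH
        rw [← mem_stabilizer_iff, this]
        exact h3
      -- so `H = K`
      have h5 : toOm K hK = toOm H hH := by
        have : g • toOm K hK = g • toOm H hH := by rw [hg', h4]
        exact smul_left_cancel g this
      apply Subtype.ext
      change H = K
      rw [← stabilizer_toOm H hH, ← stabilizer_toOm K hK, h5]
    · rintro ⟨ω, hω⟩
      induction ω using Quotient.inductionOn' with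
      | h S =>
        have h1 : Nat.card (orbit G S) = m := by
          have : f (Quotient.mk'' S) = Nat.card (orbit G S) := by
            change Nat.card (orbitRel.Quotient.orbit (Quotient.mk'' S)) = _
            rw [orbitRel.Quotient.orbit_mk]
          rw [← this]
          exact hω
        have hne : ((S : Finset G)).Nonempty := by
          rw [← Finset.card_pos, S.2]
          exact hk0
        obtain ⟨s, hs⟩ := hne
        set T : Set.powersetCard G k := s⁻¹ • S with hT
        have hTorbit : orbit G T = orbit G S := orbit_smul s⁻¹ S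
        have h1T : (1 : G) ∈ (T : Finset G) := by
          rw [hT, mem_smul_om]
          simpa using hs
        set K := stabilizer G T with hK
        have hKcard : Nat.card K = k := by
          have h2 := card_stab_mul_orbit T
          rw [hTorbit, h1, hn, mul_comm (p ^ β) m] at h2
          rw [mul_comm] at h2
          exact Nat.eq_of_mul_eq_mul_left hm0 h2
        have hKT : toOm K hKcard = T := by
          apply Subtype.ext
          apply Finset.eq_of_subset_of_card_le
          · intro x hx
            have hx' := (mem_toOm K hKcard x).1 hx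
            have h2 := (smul_eq_iff x T).1 hx' 1 h1T
            simpa using h2
          · rw [(toOm K hKcard).2, T.2]
        refine ⟨⟨K, hKcard⟩, ?_⟩
        apply Subtype.ext
        change (Quotient.mk'' (toOm K hKcard) : Ω) = Quotient.mk'' S
        rw [hKT]
        apply Quotient.sound'
        exact orbitRel_apply.2 ⟨s⁻¹, rfl⟩
  have hcardΦ : Nat.card {H : Subgroup G // Nat.card H = k} = Nat.card {ω : Ω // f ω = m} :=
    Nat.card_congr (Equiv.ofBijective Φ hΦ)
  rw [hcardΦ, hsum]
  -- splitting the sum
  have hsplit : ∀ ω : Ω, f ω = (if f ω = m then m else 0) + (if f ω = m then 0 else p * m * (f ω / (p * m))) := by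
    intro ω
    by_cases h : f ω = m
    · simp [h]
    · simp only [h, if_false, zero_add]
      exact (Nat.mul_div_cancel' ((hf ω).resolve_left h)).symm
  have h1 : ∑ ω : Ω, f ω = m * Nat.card {ω : Ω // f ω = m} + p * m * ∑ ω : Ω, (if f ω = m then 0 else f ω / (p * m)) := by
    rw [Finset.sum_congr rfl (fun ω _ => hsplit ω), Finset.sum_add_distrib]
    congr 1
    · rw [Finset.sum_ite, Finset.sum_const_zero, add_zero, Finset.sum_const, smul_eq_mul, mul_comm,
        Nat.card_eq_fintype_card, Fintype.card_subtype]
    · rw [Finset.mul_sum]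
      apply Finset.sum_congr rfl
      intro ω _
      by_cases h : f ω = m <;> simp [h]
  rw [h1]
  unfold Nat.ModEq
  rw [Nat.add_mul_mod_self_left]

end

lemma card_subgroups_cyclic {C : Type*} [Group C] [Finite C] [IsCyclic C] {p β : ℕ} (hp : p.Prime)
    (hdiv : p ^ β ∣ Nat.card C) : Nat.card {H : Subgroup C // Nat.card H = p ^ β} = 1 := by
  classical
  letI : Fintype C := Fintype.ofFinite C
  haveI : Fact p.Prime := ⟨hp⟩
  rw [Nat.card_eq_one_iff_unique]
  refine ⟨?_, ?_⟩
  · constructor
    have key : ∀ H : Subgroup C, Nat.card H = p ^ β → ((H : Set C) = ((Finset.univ.filter (fun a : C => a ^ p ^ β = 1) : Finset C) : Set C)) := by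
      intro H hH
      apply Set.eq_of_subset_of_ncard_le
      · intro x hx
        simp only [Finset.coe_filter, Finset.mem_univ, true_and, Set.mem_setOf_eq]
        have h1 : orderOf x ∣ Nat.card H := Subgroup.orderOf_dvd_natCard _ hx
        rw [hH] at h1
        exact orderOf_dvd_iff_pow_eq_one.1 h1
      · rw [Set.ncard_coe_finset, ← Nat.card_coe_set_eq]
        change _ ≤ Nat.card H
        rw [hH]
        exact IsCyclic.card_pow_eq_one_le (pow_pos hp.pos _)
      · exact Set.toFinite _
    rintro ⟨H, hH⟩ ⟨K, hK⟩
    apply Subtype.ext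
    apply SetLike.coe_injective
    rw [key H hH, key K hK]
  · obtain ⟨K, hK⟩ := Sylow.exists_subgroup_card_pow_prime (G := C) p hdiv
    exact ⟨⟨K, hK⟩⟩

/-- Let `p` be a prime and `G` a finite group whose order is divisible by `p ^ β`. Then the number of subgroups of `G` of order `p ^ β` is congruent to `1` modulo `p`. (When `p ^ β` is the full power of `p` dividing the order, these are the Sylow `p`-subgroups and this is the usual Sylow count.) -/
theorem result {G : Type*} [Group G] [Finite G] (p β : ℕ) (hp : p.Prime) (hdiv : p ^ β ∣ Nat.card G) : Nat.card {H : Subgroup G // Nat.card H = p ^ β} ≡ 1 [MOD p] := by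
  classical
  obtain ⟨m, hm⟩ := hdiv
  have h1 := choose_modEq (G := G) hp hm
  have hGpos : 0 < Nat.card G := Nat.card_pos
  haveI : NeZero (Nat.card G) := ⟨hGpos.ne'⟩
  have hCcard : Nat.card (Multiplicative (ZMod (Nat.card G))) = Nat.card G := by
    rw [Nat.card_eq_fintype_card, Fintype.card_multiplicative, ZMod.card]
  have h2 := choose_modEq (G := Multiplicative (ZMod (Nat.card G))) hp (m := m) (by rw [hCcard, hm])
  rw [card_subgroups_cyclic hp (by rw [hCcard, hm]; exact dvd_mul_right _ _), mul_one, hCcard] at h2
  have hm0 : m ≠ 0 := by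
    rintro rfl
    simp at hm
    exact hGpos.ne' hm
  have h3 : m * Nat.card {H : Subgroup G // Nat.card H = p ^ β} ≡ m * 1 [MOD m * p] := by
    rw [mul_one, mul_comm m p]
    exact h1.symm.trans h2
  exact Nat.ModEq.mul_left_cancel' hm0 h3

end Cfsg.Agent.S3975
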