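import Cfsg.Statements.S0662
import Cfsg.Agent.Lib.PGroups.MaxAbelian

set_option autoImplicit false
open Cfsg

namespace Cfsg.Agent.S0662

open Subgroup Cfsg.Agent.Lib.PGroups.Basic Cfsg.Agent.Lib.PGroups.MaxAbelian
open scoped commutatorElement

section lcs

variable {G : Type*} [Group G] [Finite G] {p : ℕ} [Fact p.Prime]

local notation "γ" => Subgroup.lowerCentralSeries (⊤ : Subgroup G)

omit [Finite G] [Fact p.Prime] in
theorem lcs_succ_le (i : ℕ) : γ (i + 1) ≤ γ i := by
  rw [Subgroup.lowerCentralSeries_succ]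
  exact Subgroup.commutator_le_left _ _

omit [Finite G] [Fact p.Prime] in
theorem lcs_antitone : Antitone γ := antitone_nat_of_succ_le lcs_succ_le

theorem lcs_succ_ne (hG : IsPGroup p G) (i : ℕ) (h : γ i ≠ ⊥) : γ (i + 1) ≠ γ i := by
  intro heq
  have hnil : Group.IsNilpotent G := hG.isNilpotent
  obtain ⟨c, hc⟩ := Subgroup.nilpotent_iff_lowerCentralSeries.mp hnil
  have hconst : ∀ k, γ (i + k) = γ i := by
    intro k
    induction k with
    | zero => rfl
    | succ k ih =>
      rw [← add_assoc, Subgroup.lowerCentralSeries_succ, ih, ← Subgroup.lowerCentralSeries_succ, heq]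
  apply h
  rw [← hconst c]
  exact le_bot_iff.mp (hc ▸ lcs_antitone (Nat.le_add_left c i))

theorem lcs_card_step (hG : IsPGroup p G) (i : ℕ) (h : γ i ≠ ⊥) :
    Nat.card (γ (i + 1)) * p ≤ Nat.card (γ i) := by
  have hp : p.Prime := Fact.out
  have h1 := relIndex_mul_card (lcs_succ_le (G := G) i)
  have h2 : (γ (i + 1)).relIndex (γ i) ≠ 1 := by
    intro h3
    rw [Subgroup.relIndex_eq_one] at h3
    exact lcs_succ_ne hG i h (le_antisymm (lcs_succ_le i) h3)
  have hPi : IsPGroup p (γ i) := hG.to_subgroup _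
  obtain ⟨b, hb⟩ := IsPGroup.iff_card.mp hPi
  have h4 : (γ (i + 1)).relIndex (γ i) ∣ p ^ b := hb ▸ ⟨_, h1.symm⟩
  obtain ⟨a, -, ha⟩ := (Nat.dvd_prime_pow hp).mp h4
  have ha0 : a ≠ 0 := by
    rintro rfl
    exact h2 (by simpa using ha)
  have h5 : p ≤ (γ (i + 1)).relIndex (γ i) := by
    rw [ha]
    calc p = p ^ 1 := (pow_one p).symm
      _ ≤ p ^ a := Nat.pow_le_pow_right hp.pos (Nat.one_le_iff_ne_zero.mpr ha0)
  rw [← h1, mul_comm]
  exact Nat.mul_le_mul_right _ h5

theorem lcs_card_chain (hG : IsPGroup p G) (i j : ℕ) (h : γ (i + j) ≠ ⊥) :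
    Nat.card (γ (i + j)) * p ^ j ≤ Nat.card (γ i) := by
  have hp : p.Prime := Fact.out
  induction j with
  | zero => simp
  | succ j ih =>
    have h1 : γ (i + j) ≠ ⊥ := by
      intro hb
      apply h
      exact le_bot_iff.mp (hb ▸ lcs_succ_le (i + j))
    have h2 := lcs_card_step hG (i + j) h1
    calc Nat.card (γ (i + (j + 1))) * p ^ (j + 1)
        = (Nat.card (γ (i + j + 1)) * p) * p ^ j := by rw [← add_assoc]; ring
      _ ≤ Nat.card (γ (i + j)) * p ^ j := Nat.mul_le_mul_right _ h2
      _ ≤ _ := ih h1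

theorem commutator_eq_bot_of_cyclic (hG : IsPGroup p G) (h : IsCyclic (G ⧸ commutator G)) :
    commutator G = ⊥ := by
  obtain ⟨g₀, hg₀⟩ := h.exists_generator
  obtain ⟨x, rfl⟩ := QuotientGroup.mk_surjective g₀
  have hsup : zpowers x ⊔ frattini G = ⊤ := by
    rw [eq_top_iff]
    intro g _
    obtain ⟨k, hk⟩ := Subgroup.mem_zpowers_iff.mp (hg₀ (g : G ⧸ commutator G))
    have h1 : (x ^ k)⁻¹ * g ∈ commutator G := by
      rw [← QuotientGroup.eq]
      rw [QuotientGroup.mk_zpow]
      exact hk
    have h2 := commutator_le_frattini hG h1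
    have h3 : g = x ^ k * ((x ^ k)⁻¹ * g) := by group
    rw [h3]
    exact Subgroup.mul_mem_sup (Subgroup.zpow_mem_zpowers x k) h2
  have htop : zpowers x = ⊤ := frattini_nongenerating hsup
  rw [eq_bot_iff, commutator_def, Subgroup.commutator_le]
  intro a _ b _
  have ha : a ∈ zpowers x := by rw [htop]; trivial
  have hb : b ∈ zpowers x := by rw [htop]; trivial
  obtain ⟨k, rfl⟩ := Subgroup.mem_zpowers_iff.mp ha
  obtain ⟨l, rfl⟩ := Subgroup.mem_zpowers_iff.mp hb
  rw [Subgroup.mem_bot, commutatorElement_eq_one_iff_mul_comm]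
  exact ((Commute.refl x).zpow_zpow k l).eq

theorem sq_le_index (hG : IsPGroup p G) (hne : commutator G ≠ ⊥) :
    p ^ 2 ≤ (commutator G).index := by
  have hp : p.Prime := Fact.out
  obtain ⟨m, hm⟩ := IsPGroup.iff_card.mp hG
  have h1 : (commutator G).index ∣ p ^ m := hm ▸ Subgroup.index_dvd_card _
  obtain ⟨a, -, ha⟩ := (Nat.dvd_prime_pow hp).mp h1
  rw [ha]
  apply Nat.pow_le_pow_right hp.pos
  by_contra hlt
  apply hne
  apply commutator_eq_bot_of_cyclic hG
  have h2 : Nat.card (G ⧸ commutator G) = p ^ a := by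
    rw [← Subgroup.index_eq_card, ha]
  have : a = 0 ∨ a = 1 := by omega
  rcases this with rfl | rfl
  · rw [pow_zero] at h2
    have : Subsingleton (G ⧸ commutator G) := (Nat.card_eq_one_iff_unique.mp h2).1
    exact isCyclic_of_subsingleton
  · rw [pow_one] at h2
    exact isCyclic_of_prime_card h2

theorem card_first_le (hG : IsPGroup p G) (hne : commutator G ≠ ⊥) :
    Nat.card (γ 1) * p ^ 2 ≤ Nat.card G := by
  rw [Subgroup.top_lowerCentralSeries_one, ← Subgroup.card_mul_index (commutator G)]
  exact Nat.mul_le_mul_left _ (sq_le_index hG hne)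

/-- A group of order `p ^ r` (`r ≥ 2`) has class at most `r - 1`. -/
theorem lcs_eq_bot (hG : IsPGroup p G) {r : ℕ} (hr : 2 ≤ r) (hc : Nat.card G = p ^ r) :
    γ (r - 1) = ⊥ := by
  have hp : p.Prime := Fact.out
  by_cases hne : commutator G = ⊥
  · have h1 : γ (r - 1) ≤ γ 1 := lcs_antitone (by omega)
    rw [Subgroup.top_lowerCentralSeries_one, hne] at h1
    exact le_bot_iff.mp h1
  · by_contra hcon
    obtain ⟨s, rfl⟩ : ∃ s, r = s + 2 := ⟨r - 2, by omega⟩
    have h1 := lcs_card_chain hG 1 s (by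
      rw [show 1 + s = s + 2 - 1 by omega]
      exact hcon)
    have h2 := card_first_le hG hne
    rw [hc, pow_add] at h2
    have h3 : Nat.card (γ 1) ≤ p ^ s := Nat.le_of_mul_le_mul_right h2 (pow_pos hp.pos 2)
    have h4 : Nat.card (γ (1 + s)) * p ^ s ≤ 1 * p ^ s := by
      rw [one_mul]; exact h1.trans h3
    have h5 := Nat.le_of_mul_le_mul_right h4 (pow_pos hp.pos s)
    have h6 : Nat.card (γ (1 + s)) = 1 := by
      have : 0 < Nat.card (γ (1 + s)) := Nat.card_pos
      omega
    rw [Subgroup.card_eq_one] at h6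
    apply hcon
    rw [show s + 2 - 1 = 1 + s by omega]
    exact h6

end lcs

section count

variable {A : Type*} [Group A] [Finite A] {p : ℕ} [Fact p.Prime]

/-- The number of subgroups of order `p` in a noncyclic group of order `p ^ 2`. -/
theorem card_subgroups_order_p (hA : Nat.card A = p ^ 2) (hnc : ¬ IsCyclic A) :
    Nat.card {H : Subgroup A // Nat.card H = p} = p + 1 := by
  classical
  have hp : p.Prime := Fact.out
  have hord : ∀ x : A, x ≠ 1 → orderOf x = p := by
    intro x hx
    have h1 : orderOf x ∣ p ^ 2 := hA ▸ orderOf_dvd_natCard x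
    obtain ⟨k, hk, h2⟩ := (Nat.dvd_prime_pow hp).mp h1
    have : k = 0 ∨ k = 1 ∨ k = 2 := by omega
    rcases this with rfl | rfl | rfl
    · exfalso
      rw [pow_zero, orderOf_eq_one_iff] at h2
      exact hx h2
    · simpa using h2
    · exfalso
      apply hnc
      apply isCyclic_of_orderOf_eq_card x
      rw [h2, hA]
  let π : {x : A // x ≠ 1} → {H : Subgroup A // Nat.card H = p} := fun x =>
    ⟨zpowers x.1, by rw [Nat.card_zpowers, hord x.1 x.2]⟩
  have hfib : ∀ H : {H : Subgroup A // Nat.card H = p}, Nat.card {x // π x = H} = p - 1 := by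
    rintro ⟨H, hH⟩
    have h1 : Nat.card {x // π x = ⟨H, hH⟩} = Nat.card {y : H // y ≠ 1} := by
      apply Nat.card_congr
      refine ⟨fun x => ⟨⟨x.1.1, ?_⟩, ?_⟩, fun y => ⟨⟨y.1.1, ?_⟩, ?_⟩, ?_, ?_⟩
      · have h5 : zpowers x.1.1 = H := congrArg Subtype.val x.2
        have h6 := Subgroup.mem_zpowers x.1.1
        rw [h5] at h6
        exact h6
      · intro h
        exact x.1.2 (congrArg Subtype.val h)
      · intro h
        exact y.2 (Subtype.ext h)
      · apply Subtype.ext
        show zpowers y.1.1 = H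
        have hy : y.1.1 ≠ 1 := fun h => y.2 (Subtype.ext h)
        have hle : zpowers y.1.1 ≤ H := (Subgroup.zpowers_le).mpr y.1.2
        apply Subgroup.eq_of_le_of_card_ge hle
        rw [Nat.card_zpowers, hord _ hy, hH]
      · intro x; rfl
      · intro y; rfl
    rw [h1]
    have h2 : Nat.card {y : H // y ≠ 1} + 1 = p := by
      rw [← hH]
      have h3 := Nat.card_congr (Equiv.sumCompl (fun y : H => y = 1))
      rw [Nat.card_sum] at h3
      have h4 : Nat.card {y : H // y = 1} = 1 := by
        rw [Nat.card_unique]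
      rw [h4] at h3
      have h5 : Nat.card {y : H // ¬ y = 1} = Nat.card {y : H // y ≠ 1} := rfl
      omega
    omega
  have hsum : Nat.card {x : A // x ≠ 1} = Nat.card {H : Subgroup A // Nat.card H = p} * (p - 1) := by
    have : Fintype {H : Subgroup A // Nat.card H = p} := Fintype.ofFinite _
    rw [← Nat.card_congr (Equiv.sigmaFiberEquiv π), Nat.card_sigma]
    simp only [hfib]
    rw [Finset.sum_const, Finset.card_univ, smul_eq_mul, Nat.card_eq_fintype_card]
  have hX : Nat.card {x : A // x ≠ 1} + 1 = p ^ 2 := by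
    rw [← hA]
    have h3 := Nat.card_congr (Equiv.sumCompl (fun y : A => y = 1))
    rw [Nat.card_sum] at h3
    have h4 : Nat.card {y : A // y = 1} = 1 := by
      rw [Nat.card_unique]
    rw [h4] at h3
    have h5 : Nat.card {y : A // ¬ y = 1} = Nat.card {y : A // y ≠ 1} := rfl
    omega
  have hp1 : 0 < p - 1 := by have := hp.two_le; omega
  apply Nat.eq_of_mul_eq_mul_right hp1
  rw [← hsum]
  obtain ⟨q, rfl⟩ : ∃ q, p = q + 1 := ⟨p - 1, by have := hp.two_le; omega⟩
  simp only [Nat.add_sub_cancel]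
  have : (q + 1) ^ 2 = (q + 1 + 1) * q + 1 := by ring
  omega

end count

/-- In a p-group of maximal class of order at least p³ the normal subgroups of index at least p² are exactly the terms of the lower central series, and there are exactly p + 1 normal subgroups of index p. -/
theorem result {G : Type*} [Group G] [Finite G] {p : ℕ} [Fact p.Prime] (n : ℕ) (hG : Nat.card G = p ^ n) (hcl : Group.nilpotencyClass G = n - 1) (hn : 3 ≤ n) : (∀ (N : Subgroup G) [N.Normal] (r : ℕ), 2 ≤ r → N.index = p ^ r → N = (⊤ : Subgroup G).lowerCentralSeries (r - 1)) ∧ Nat.card {N : Subgroup G // N.Normal ∧ N.index = p} = p + 1 := by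
  have hp : p.Prime := Fact.out
  have hPG : IsPGroup p G := IsPGroup.of_card hG
  have hnil : Group.IsNilpotent G := hPG.isNilpotent
  -- the lower central series is long
  have hbot : ∀ k, (⊤ : Subgroup G).lowerCentralSeries k = ⊥ ↔ n - 1 ≤ k := by
    intro k
    rw [Subgroup.lowerCentralSeries_eq_bot_iff_nilpotencyClass_le, hcl]
  have hcomm : commutator G ≠ ⊥ := by
    rw [← Subgroup.top_lowerCentralSeries_one, Ne, hbot]
    omega
  have hcard1 := card_first_le hPG hcomm
  have hPP : ∀ i, IsPGroup p ((⊤ : Subgroup G).lowerCentralSeries i) := fun i => hPG.to_subgroup _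
  have hcardi : ∀ i, 1 ≤ i → i ≤ n - 2 →
      Nat.card ((⊤ : Subgroup G).lowerCentralSeries i) = p ^ (n - 1 - i) := by
    intro i hi hin
    apply le_antisymm
    · obtain ⟨j, rfl⟩ : ∃ j, i = 1 + j := ⟨i - 1, by omega⟩
      have h1 := lcs_card_chain hPG 1 j (by rw [Ne, hbot]; omega)
      have h2 : Nat.card ((⊤ : Subgroup G).lowerCentralSeries (1 + j)) * p ^ (j + 2) ≤
          p ^ (n - 1 - (1 + j)) * p ^ (j + 2) := by
        rw [← pow_add, show n - 1 - (1 + j) + (j + 2) = n by omega, ← hG, pow_add, ← mul_assoc]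
        exact (Nat.mul_le_mul_right _ h1).trans hcard1
      exact Nat.le_of_mul_le_mul_right h2 (pow_pos hp.pos _)
    · obtain ⟨j, hj⟩ : ∃ j, i + j = n - 2 := ⟨n - 2 - i, by omega⟩
      have hne : (⊤ : Subgroup G).lowerCentralSeries (i + j) ≠ ⊥ := by rw [Ne, hbot]; omega
      have h1 := lcs_card_chain hPG i j hne
      obtain ⟨b, hb⟩ := IsPGroup.iff_card.mp (hPP (i + j))
      have hb0 : b ≠ 0 := by
        rintro rfl
        rw [pow_zero, Subgroup.card_eq_one] at hb
        exact hne hb
      have h2 : p ≤ Nat.card ((⊤ : Subgroup G).lowerCentralSeries (i + j)) := by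
        rw [hb]
        calc p = p ^ 1 := (pow_one p).symm
          _ ≤ p ^ b := Nat.pow_le_pow_right hp.pos (Nat.one_le_iff_ne_zero.mpr hb0)
      calc p ^ (n - 1 - i) = p * p ^ j := by
            rw [show n - 1 - i = 1 + j by omega, pow_add, pow_one]
        _ ≤ _ := Nat.mul_le_mul_right _ h2
        _ ≤ _ := h1
  refine ⟨?_, ?_⟩
  · intro N _ r hr hidx
    have hcN : Nat.card N * p ^ r = p ^ n := by
      rw [← hidx, Subgroup.card_mul_index, hG]
    have hrn : r ≤ n := by
      have : p ^ r ∣ p ^ n := ⟨Nat.card N, by rw [← hcN, mul_comm]⟩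
      exact (Nat.pow_dvd_pow_iff_le_right hp.one_lt).mp this
    have hcQ : Nat.card (G ⧸ N) = p ^ r := by rw [← Subgroup.index_eq_card, hidx]
    have hbotQ := lcs_eq_bot (IsPGroup.of_card hcQ) hr hcQ
    have hleN : (⊤ : Subgroup G).lowerCentralSeries (r - 1) ≤ N := by
      have h1 := Subgroup.map_lowerCentralSeries (⊤ : Subgroup G) (QuotientGroup.mk' N) (r - 1)
      have h2 : ((⊤ : Subgroup G).lowerCentralSeries (r - 1)).map (QuotientGroup.mk' N) ≤ ⊥ := by
        rw [h1, ← hbotQ]
        exact Subgroup.lowerCentralSeries_mono _ le_top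
      intro x hx
      have h3 : QuotientGroup.mk' N x ∈ (⊥ : Subgroup (G ⧸ N)) := h2 ⟨x, hx, rfl⟩
      exact (QuotientGroup.eq_one_iff x).mp h3
    rcases Nat.lt_or_ge r n with hlt | hge
    · symm
      apply Subgroup.eq_of_le_of_card_ge hleN
      rw [hcardi (r - 1) (by omega) (by omega), show n - 1 - (r - 1) = n - r by omega]
      have h2 : Nat.card N * p ^ r ≤ p ^ (n - r) * p ^ r := by
        rw [hcN, ← pow_add, show n - r + r = n by omega]
      exact Nat.le_of_mul_le_mul_right h2 (pow_pos hp.pos _)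
    · have hrn' : r = n := le_antisymm hrn hge
      subst hrn'
      have h1 : Nat.card N = 1 := by
        apply Nat.eq_of_mul_eq_mul_right (pow_pos hp.pos r)
        rw [hcN, one_mul]
      rw [Subgroup.card_eq_one] at h1
      rw [h1]
      exact ((hbot _).mpr le_rfl).symm
  · -- counting
    have hU1 : Nat.card (commutator G) = p ^ (n - 2) := by
      rw [← Subgroup.top_lowerCentralSeries_one, hcardi 1 le_rfl (by omega)]
      congr 1
    have hcA : Nat.card (G ⧸ commutator G) = p ^ 2 := by
      have h1 := Subgroup.card_mul_index (commutator G)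
      rw [hU1, hG, Subgroup.index_eq_card] at h1
      apply Nat.eq_of_mul_eq_mul_left (pow_pos hp.pos (n - 2))
      rw [h1, ← pow_add]
      congr 1
      omega
    have hnc : ¬ IsCyclic (G ⧸ commutator G) := fun h => hcomm (commutator_eq_bot_of_cyclic hPG h)
    rw [← card_subgroups_order_p hcA hnc]
    have hAP : IsPGroup p (G ⧸ commutator G) := IsPGroup.of_card hcA
    have hmk : Function.Surjective (QuotientGroup.mk' (commutator G)) := QuotientGroup.mk_surjective
    have hkle : ∀ N : Subgroup G, N.Normal → N.index = p →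
        (QuotientGroup.mk' (commutator G)).ker ≤ N := by
      intro N hN hNi
      rw [QuotientGroup.ker_mk', commutator_def, Subgroup.commutator_le]
      intro a _ b _
      exact comm_mem_of_relIndex_eq hPG (N := N) (K := ⊤) (by simpa using hNi) (Subgroup.mem_top a) b
    apply Nat.card_congr
    refine ⟨fun N => ⟨N.1.map (QuotientGroup.mk' (commutator G)), ?_⟩,
      fun H => ⟨H.1.comap (QuotientGroup.mk' (commutator G)), ?_, ?_⟩, ?_, ?_⟩
    · -- card
      have h1 := Subgroup.index_map N.1 (QuotientGroup.mk' (commutator G))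
      rw [sup_eq_left.mpr (hkle N.1 N.2.1 N.2.2), N.2.2, MonoidHom.range_eq_top.mpr hmk,
        Subgroup.index_top, mul_one] at h1
      have h2 := Subgroup.card_mul_index (N.1.map (QuotientGroup.mk' (commutator G)))
      rw [h1, hcA, pow_two] at h2
      exact Nat.eq_of_mul_eq_mul_right hp.pos h2
    · have h1 := Subgroup.card_mul_index H.1
      rw [H.2, hcA, pow_two] at h1
      have h2 : H.1.index = p := Nat.eq_of_mul_eq_mul_left hp.pos h1
      have h3 : H.1.Normal := normal_of_isCoatom hAP (isCoatom_of_index_prime (by rw [h2]; exact hp))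
      exact h3.comap _
    · have h1 := Subgroup.card_mul_index H.1
      rw [H.2, hcA, pow_two] at h1
      have h2 : H.1.index = p := Nat.eq_of_mul_eq_mul_left hp.pos h1
      rw [Subgroup.index_comap_of_surjective _ hmk, h2]
    · intro N
      apply Subtype.ext
      exact Subgroup.comap_map_eq_self (hkle N.1 N.2.1 N.2.2)
    · intro H
      apply Subtype.ext
      exact Subgroup.map_comap_eq_self_of_surjective hmk _

end Cfsg.Agent.S0662
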