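import Cfsg.Statements.S4493
import Cfsg.Agent.Lib.CharDeg.ItoMichlerSolv

set_option autoImplicit false
open Cfsg

namespace Cfsg.Agent.S4493

/-- Let G be a finite solvable group and p a prime. Then G has a normal abelian Sylow p-subgroup if and only if no irreducible character degree of G is divisible by p. -/
theorem result {G : Type*} [Group G] [Finite G] (hsolv : Group.IsSolvable G) (p : ℕ) (hp : p.Prime) : (∃ P : Subgroup G, P.Normal ∧ (∀ x ∈ P, ∀ y ∈ P, x * y = y * x) ∧ IsPGroup p P ∧ ¬ p ∣ P.index) ↔ ∀ χ : Cfsg.IrrCharacter G, ¬ p ∣ Cfsg.charDegree (χ : G → ℂ) := by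
  classical
  haveI : Fact p.Prime := ⟨hp⟩
  cases nonempty_fintype G
  constructor
  · rintro ⟨P, hPn, hPc, hPp, hPi⟩ ⟨χ, n, ρ, hρ, rfl⟩ hdvd
    haveI := hPn
    have h1 := Cfsg.Agent.Lib.Char.Ito.finrank_dvd_index_of_abelian_normal ρ P hPc
    have h2 : Cfsg.charDegree ρ.character = Module.finrank ℂ (Fin n → ℂ) :=
      Cfsg.Agent.Lib.Char.Degree.charDegree_character ρ
    simp only at hdvd
    rw [h2] at hdvd
    exact hPi (hdvd.trans h1)
  · intro hb
    let P₀ : Sylow p G := default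
    have hn := Cfsg.Agent.Lib.CharDeg.ItoMichlerSolv.sylow_normal_of_not_dvd hp _ G rfl hsolv hb P₀
    refine ⟨P₀, hn, ?_, P₀.isPGroup', P₀.not_dvd_index⟩
    intro x hx y hy
    have := Cfsg.Agent.Lib.CharDeg.ItoMichlerSolv.comm_of_normal_of_not_dvd hp hb hn P₀.isPGroup'
      ⟨x, hx⟩ ⟨y, hy⟩
    exact congrArg Subtype.val this

end Cfsg.Agent.S4493
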