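import Cfsg.Statements.S5224
import Cfsg.Agent.Lib.Fusion.TateHyp

set_option autoImplicit false
open Cfsg

namespace Cfsg.Agent.S5224

/-- Tate's Theorem for fusion systems. Let F be a saturated fusion system over a finite p-group S and H a saturated fusion system over S contained in F. Then the following are equivalent: the elementary focal subgroups Φ(S)·foc agree for F and H; the focal subgroups of F and H agree; the hyperfocal subgroups of F and H agree. -/
theorem result {Ω : Type*} [Group Ω] {S : Subgroup Ω} [Finite S] (p : ℕ) [Fact p.Prime] (hS : IsPGroup p S) (F : Cfsg.FusionSystem S) (hF : F.IsSaturated p) (H : Cfsg.FusionSystem S) (hH : H.IsSaturated p) (hHF : H.IsSubsystemOf F) : (((frattini ↥S).map S.subtype ⊔ F.focalSubgroup) = ((frattini ↥S).map S.subtype ⊔ H.focalSubgroup) ↔ F.focalSubgroup = H.focalSubgroup) ∧ (F.focalSubgroup = H.focalSubgroup ↔ F.hyperfocalSubgroup p = H.hyperfocalSubgroup p) := by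
  have hfmono := Cfsg.Agent.Lib.Fusion.TateHyp.focal_mono F hHF
  have hfS := Cfsg.Agent.Lib.Fusion.TateHyp.focal_le_self F
  have hfS' := Cfsg.Agent.Lib.Fusion.TateHyp.focal_le_self H
  refine ⟨⟨fun h => le_antisymm ?_ hfmono, fun h => by rw [h]⟩, ⟨fun h => le_antisymm ?_ ?_, fun h => ?_⟩⟩
  · -- the focal subgroups
    have hc : commutator ↥S ≤ (H.focalSubgroup).comap S.subtype := by
      intro x hx
      have h1 : (x : Ω) ∈ ⁅(S : Subgroup Ω), (S : Subgroup Ω)⁆ := by
        rw [← Subgroup.map_subtype_commutator]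
        exact ⟨x, hx, rfl⟩
      have h2 := Cfsg.Agent.Lib.FusionExt.Hyperfocal.focal_eq H hS hH
      rw [Subgroup.mem_comap, h2]
      exact Subgroup.mem_sup_right h1
    have hkey := Cfsg.Agent.Lib.Fusion.TateFocal.focal_le_of_sup_frattini F hS hF ((H.focalSubgroup).comap S.subtype) hc
      (Subgroup.comap_mono hfmono) (by
        intro x hx
        have h1 : (x : Ω) ∈ (frattini ↥S).map S.subtype ⊔ H.focalSubgroup := by
          rw [← h]
          exact Subgroup.mem_sup_right hx
        have h2 : (frattini ↥S).map S.subtype ⊔ H.focalSubgroup =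
            ((frattini ↥S) ⊔ (H.focalSubgroup).comap S.subtype).map S.subtype := by
          rw [Subgroup.map_sup, Subgroup.map_comap_eq, Subgroup.range_subtype, inf_eq_right.2 hfS']
        rw [h2] at h1
        obtain ⟨y, hy, hyx⟩ := h1
        have e : y = x := Subtype.ext hyx
        rw [← e, sup_comm]
        exact hy)
    intro x hx
    exact hkey (show (⟨x, hfS hx⟩ : ↥S) ∈ _ from hx)
  · exact Cfsg.Agent.Lib.Fusion.TateHyp.hyp_le_of_focal_eq F hS hF hH hHF h
  · exact Cfsg.Agent.Lib.Fusion.TateHyp.hyp_mono F hHF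
  · rw [Cfsg.Agent.Lib.FusionExt.Hyperfocal.focal_eq F hS hF, Cfsg.Agent.Lib.FusionExt.Hyperfocal.focal_eq H hS hH, h]

end Cfsg.Agent.S5224
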