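import Mathlib
import Cfsg.Statements.S4010

set_option autoImplicit false
set_option linter.all false
open Cfsg

namespace Cfsg.Agent.S4010

open Module Subgroup

section rep

universe u v

variable {K : Type*} [Field K] {V : Type v} [AddCommGroup V] [Module K V]

/-- restriction of a representation to a stable subspace. -/
def restrictRep {Q : Type u} [Group Q] (σ : Q →* Module.End K V) (W : Submodule K V)
    (hW : ∀ g, ∀ v ∈ W, σ g v ∈ W) : Q →* Module.End K W where
  toFun g := (σ g).restrict (hW g)
  map_one' := by
    ext v
    simp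
  map_mul' a b := by
    ext v
    simp [LinearMap.restrict_apply]

@[simp] lemma restrictRep_apply {Q : Type u} [Group Q] (σ : Q →* Module.End K V) (W : Submodule K V)
    (hW : ∀ g, ∀ v ∈ W, σ g v ∈ W) (g : Q) (v : W) : ((restrictRep σ W hW g v : W) : V) = σ g v := rfl

lemma mul_inv_rep {Q : Type u} [Group Q] (σ : Q →* Module.End K V) (g : Q) (v : V) :
    σ g (σ g⁻¹ v) = v := by
  have h : σ g * σ g⁻¹ = 1 := by rw [← map_mul, mul_inv_cancel, map_one]
  have := congrArg (fun f => f v) h
  simpa using this

lemma inv_mul_rep {Q : Type u} [Group Q] (σ : Q →* Module.End K V) (g : Q) (v : V) :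
    σ g⁻¹ (σ g v) = v := by
  have h : σ g⁻¹ * σ g = 1 := by rw [← map_mul, inv_mul_cancel, map_one]
  have := congrArg (fun f => f v) h
  simpa using this

/-- Maschke. -/
lemma maschke {Q : Type u} [Group Q] [Fintype Q] (hc : (Fintype.card Q : K) ≠ 0) (σ : Q →* Module.End K V)
    (W : Submodule K V) (hW : ∀ g, ∀ v ∈ W, σ g v ∈ W) :
    ∃ W' : Submodule K V, IsCompl W W' ∧ ∀ g, ∀ v ∈ W', σ g v ∈ W' := by
  classical
  obtain ⟨W₀, hW₀⟩ := Submodule.exists_isCompl W
  let π₀ : V →ₗ[K] W := W.linearProjOfIsCompl W₀ hW₀
  have hπ₀ : ∀ w : W, π₀ w = w := fun w => Submodule.linearProjOfIsCompl_apply_left hW₀ w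
  let φ : V →ₗ[K] W := (Fintype.card Q : K)⁻¹ • ∑ g : Q,
    ((σ g).restrict (hW g)).comp (π₀.comp (σ g⁻¹))
  have hφ : ∀ w : W, φ w = w := by
    intro w
    have h1 : ∀ g : Q, (((σ g).restrict (hW g)).comp (π₀.comp (σ g⁻¹))) (w : V) = w := by
      intro g
      have h2 : (σ g⁻¹) (w : V) ∈ W := hW g⁻¹ _ w.2
      have h3 : π₀ ((σ g⁻¹) (w : V)) = ⟨_, h2⟩ := hπ₀ ⟨_, h2⟩
      apply Subtype.ext
      simp only [LinearMap.comp_apply, h3, LinearMap.restrict_coe_apply]
      exact mul_inv_rep σ g w
    simp only [φ, LinearMap.smul_apply, LinearMap.sum_apply, h1]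
    rw [Finset.sum_const, Finset.card_univ, ← Nat.cast_smul_eq_nsmul K, smul_smul,
      inv_mul_cancel₀ hc, one_smul]
  have hcomm : ∀ (h : Q) (v : V), ((φ (σ h v) : W) : V) = σ h (φ v : W) := by
    intro h v
    simp only [φ, LinearMap.smul_apply, LinearMap.sum_apply, Submodule.coe_smul, Submodule.coe_sum,
      LinearMap.comp_apply, LinearMap.restrict_coe_apply, map_smul, map_sum]
    congr 1
    apply Fintype.sum_equiv (Equiv.mulLeft h⁻¹)
    intro g
    simp only [Equiv.coe_mulLeft, mul_inv_rev, inv_inv]
    have e1 : σ (h⁻¹ * g) = σ h⁻¹ * σ g := map_mul _ _ _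
    have e2 : σ (g⁻¹ * h) = σ g⁻¹ * σ h := map_mul _ _ _
    rw [e1, e2]
    simp only [Module.End.mul_apply]
    exact (mul_inv_rep σ h _).symm
  refine ⟨LinearMap.ker φ, LinearMap.isCompl_of_proj hφ, ?_⟩
  intro g v hv
  rw [LinearMap.mem_ker] at hv ⊢
  apply Subtype.ext
  rw [hcomm, hv]
  simp

lemma finrank_biSup_of_indep [FiniteDimensional K V] {ι : Type*} (t : ι → Submodule K V) (ht : iSupIndep t)
    (s : Finset ι) : finrank K ↥(⨆ i ∈ s, t i) = ∑ i ∈ s, finrank K (t i) := by
  classical
  induction s using Finset.induction_on with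
  | empty => simp
  | insert a s ha ih =>
    rw [Finset.iSup_insert, Finset.sum_insert ha, ← ih]
    have hd : Disjoint (t a) (⨆ i ∈ s, t i) := by
      apply (ht a).mono_right
      apply iSup₂_le
      intro i hi
      exact le_iSup₂_of_le (f := fun j (_ : j ≠ a) => t j) i (by rintro rfl; exact ha hi) le_rfl
    have h1 := Submodule.finrank_sup_add_finrank_inf_eq (t a) (⨆ i ∈ s, t i)
    rw [hd.eq_bot] at h1
    simp only [finrank_bot, add_zero] at h1
    exact h1

end rep

section main

universe u v

variable {K : Type*} [Field K] [IsAlgClosed K]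

/-- Schur's lemma. -/
lemma schur {Q : Type u} [Group Q] {V : Type v} [AddCommGroup V] [Module K V] [FiniteDimensional K V]
    [Nontrivial V] (σ : Q →* Module.End K V)
    (hirr : ∀ W : Submodule K V, (∀ g, ∀ v ∈ W, σ g v ∈ W) → W = ⊥ ∨ W = ⊤)
    (T : Module.End K V) (hT : ∀ g, Commute T (σ g)) : ∃ c : K, T = c • 1 := by
  obtain ⟨c, hc⟩ := Module.End.exists_eigenvalue T
  refine ⟨c, ?_⟩
  have hst : ∀ g, ∀ v ∈ T.eigenspace c, σ g v ∈ T.eigenspace c := by
    intro g v hv
    rw [Module.End.mem_eigenspace_iff] at hv ⊢
    have := congrArg (fun f => f v) (hT g).eq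
    simp only [Module.End.mul_apply, hv] at this
    rw [this, map_smul]
  rcases hirr _ hst with h | h
  · exact absurd h hc
  · ext v
    have : v ∈ T.eigenspace c := by rw [h]; trivial
    rw [Module.End.mem_eigenspace_iff] at this
    simp [this]

/-- the derived series of a subgroup containing the commutator subgroup. -/
lemma derived_le_map {Q : Type u} [Group Q] (M : Subgroup Q) (hM : commutator Q ≤ M) (j : ℕ) :
    derivedSeries Q (j + 1) ≤ (derivedSeries M j).map M.subtype := by
  induction j with
  | zero =>
    rw [derivedSeries_zero, derivedSeries_one, ← MonoidHom.range_eq_map]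
    simpa using hM
  | succ j ih =>
    rw [derivedSeries_succ, derivedSeries_succ M j, map_commutator]
    exact Subgroup.commutator_mono ih ih

/-- The key: dimension of the generalized eigenspaces. -/
lemma genEigen_le {V : Type v} [AddCommGroup V] [Module K V] [FiniteDimensional K V]
    {Q : Type u} [Group Q] (σ : Q →* Module.End K V) {A : Module.End K V} (hA : IsUnit A)
    (c : Q → K) (hc : ∀ g, σ g * A = c g • (A * σ g)) (hc0 : ∀ g, c g ≠ 0)
    (s : Finset Q) (hinj : Set.InjOn c s) (lam : K) :
    s.card * finrank K (A.maxGenEigenspace lam) ≤ finrank K V := by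
  classical
  by_cases hbot : A.maxGenEigenspace lam = ⊥
  · rw [hbot]; simp
  have hlam : lam ≠ 0 := by
    rintro rfl
    apply hbot
    rw [eq_bot_iff]
    intro v hv
    rw [Module.End.mem_maxGenEigenspace] at hv
    obtain ⟨k, hk⟩ := hv
    have h1 : IsUnit ((A - (0 : K) • 1) ^ k) := by
      simpa using hA.pow k
    rw [Submodule.mem_bot]
    have h2 := (Module.End.isUnit_iff _).1 h1
    exact h2.1 (by simpa using hk)
  -- the map of a generalized eigenspace
  have hmap : ∀ g, ∀ v ∈ A.maxGenEigenspace lam, σ g v ∈ A.maxGenEigenspace (lam * (c g)⁻¹) := by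
    intro g v hv
    rw [Module.End.mem_maxGenEigenspace] at hv ⊢
    obtain ⟨k, hk⟩ := hv
    refine ⟨k, ?_⟩
    have hcomm : (A - (lam * (c g)⁻¹) • 1) * σ g = (c g)⁻¹ • (σ g * (A - lam • 1)) := by
      rw [sub_mul, mul_sub, hc g]
      simp only [smul_mul_assoc, one_mul, mul_smul_comm, mul_one, smul_sub, smul_smul]
      rw [inv_mul_cancel₀ (hc0 g), one_smul, mul_comm]
    have hpow : ∀ k : ℕ, (A - (lam * (c g)⁻¹) • 1) ^ k * σ g = ((c g)⁻¹) ^ k • (σ g * (A - lam • 1) ^ k) := by
      intro k
      induction k with
      | zero => simp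
      | succ k ih =>
        rw [pow_succ, mul_assoc, hcomm, mul_smul_comm, ← mul_assoc, ih, smul_mul_assoc, mul_assoc,
          ← pow_succ, smul_smul, ← pow_succ' ((c g)⁻¹) k]
    have := congrArg (fun f => f v) (hpow k)
    simp only [Module.End.mul_apply, LinearMap.smul_apply] at this
    rw [this, hk, map_zero, smul_zero]
  have hle : ∀ g, finrank K (A.maxGenEigenspace lam) ≤ finrank K (A.maxGenEigenspace (lam * (c g)⁻¹)) := by
    intro g
    apply LinearMap.finrank_le_finrank_of_injective (f := (σ g).restrict (hmap g))
    intro a b hab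
    have h1 : σ g (a : V) = σ g (b : V) := congrArg Subtype.val hab
    have h2 := congrArg (σ g⁻¹) h1
    rw [inv_mul_rep, inv_mul_rep] at h2
    exact Subtype.ext h2
  have hinj' : Set.InjOn (fun g => lam * (c g)⁻¹) s := by
    intro a ha b hb hab
    apply hinj ha hb
    have h1 : lam * (c a)⁻¹ = lam * (c b)⁻¹ := hab
    have h2 := mul_left_cancel₀ hlam h1
    exact inv_injective h2
  have hind := Module.End.independent_maxGenEigenspace A
  have hsum := finrank_biSup_of_indep (fun μ => A.maxGenEigenspace μ) hind
    (s.image (fun g => lam * (c g)⁻¹))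
  rw [Finset.sum_image hinj'] at hsum
  calc s.card * finrank K (A.maxGenEigenspace lam) = ∑ g ∈ s, finrank K (A.maxGenEigenspace lam) := by
        simp
    _ ≤ ∑ g ∈ s, finrank K (A.maxGenEigenspace (lam * (c g)⁻¹)) :=
        Finset.sum_le_sum (fun g _ => hle g)
    _ = _ := hsum.symm
    _ ≤ finrank K V := Submodule.finrank_le _

theorem thmA {p : ℕ} [hp : Fact p.Prime] (hK : (p : K) ≠ 0) (j : ℕ) :
    ∀ {P : Type u} [Group P] [Finite P] (hP : IsPGroup p P) {V : Type v} [AddCommGroup V]
      [Module K V] [FiniteDimensional K V] (ρ : P →* Module.End K V), finrank K V < p ^ j →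
      ∀ h ∈ derivedSeries P j, ρ h = 1 := by
  induction j with
  | zero =>
    intro P _ _ hP V _ _ _ ρ hd h _
    have h0 : finrank K V = 0 := by simpa using hd
    haveI : Subsingleton V := finrank_zero_iff.1 h0
    ext v
    exact Subsingleton.elim _ _
  | succ j ih =>
    intro P _ _ hP V' _ _ _ ρ' hlt'
    have main : ∀ d : ℕ, ∀ (V : Type v) [AddCommGroup V] [Module K V] [FiniteDimensional K V]
        (ρ : P →* Module.End K V), finrank K V = d → finrank K V < p ^ (j + 1) →
        ∀ h ∈ derivedSeries P (j + 1), ρ h = 1 := by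
      intro d
      induction d using Nat.strong_induction_on with
      | _ d ihd =>
        intro V _ _ _ ρ hd hlt h hh
        classical
        by_cases hV : Subsingleton V
        · ext v
          exact Subsingleton.elim _ _
        rw [not_subsingleton_iff_nontrivial] at hV
        by_cases hred : ∃ W : Submodule K V, (∀ g, ∀ v ∈ W, ρ g v ∈ W) ∧ W ≠ ⊥ ∧ W ≠ ⊤
        · obtain ⟨W, hW, h1, h2⟩ := hred
          haveI : Fintype P := Fintype.ofFinite P
          have hcard : (Fintype.card P : K) ≠ 0 := by
            obtain ⟨a, ha⟩ := IsPGroup.iff_card.1 hP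
            rw [← Nat.card_eq_fintype_card, ha]
            push_cast
            exact pow_ne_zero _ hK
          obtain ⟨W', hc, hW'⟩ := maschke hcard ρ W hW
          have h3 : W' ≠ ⊤ := by
            rintro rfl
            exact h1 (by simpa using hc.inf_eq_bot)
          have hd1 : finrank K W < d := by
            rw [← hd]
            exact Submodule.finrank_lt h2
          have hd2 : finrank K W' < d := by
            rw [← hd]
            exact Submodule.finrank_lt h3
          have r1 := ihd _ hd1 W (restrictRep ρ W hW) rfl (by omega) h hh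
          have r2 := ihd _ hd2 W' (restrictRep ρ W' hW') rfl (by omega) h hh
          ext v
          have hv : v ∈ W ⊔ W' := by rw [hc.sup_eq_top]; trivial
          obtain ⟨y, hy, z, hz, rfl⟩ := Submodule.mem_sup.1 hv
          have e1 : ρ h y = y := by
            have := congrArg (fun f => ((f ⟨y, hy⟩ : W) : V)) r1
            simpa using this
          have e2 : ρ h z = z := by
            have := congrArg (fun f => ((f ⟨z, hz⟩ : W') : V)) r2
            simpa using this
          simp [e1, e2]
        push Not at hred
        have hirr : ∀ W : Submodule K V, (∀ g, ∀ v ∈ W, ρ g v ∈ W) → W = ⊥ ∨ W = ⊤ := by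
          intro W hW
          by_cases h1 : W = ⊥
          · exact Or.inl h1
          · exact Or.inr (hred W hW h1)
        have hone : (1 : Module.End K V) ≠ 0 := one_ne_zero
        by_cases hcomm : ∀ a b, ρ a * ρ b = ρ b * ρ a
        · have hker : commutator P ≤ ρ.ker := by
            rw [_root_.commutator_def, Subgroup.commutator_le]
            intro a _ b _
            rw [MonoidHom.mem_ker]
            show ρ (a * b * a⁻¹ * b⁻¹) = 1
            rw [map_mul, map_mul, map_mul, hcomm a b, mul_assoc (ρ b), ← map_mul, mul_inv_cancel, map_one,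
              mul_one, ← map_mul, mul_inv_cancel, map_one]
          have h1 : h ∈ commutator P := by
            rw [← derivedSeries_one]
            exact derivedSeries_antitone P (by omega) hh
          exact hker h1
        -- non-abelian image
        have heq : ∀ a b : P, a⁻¹ * b ∈ ρ.ker → ρ a = ρ b := by
          intro a b hab
          rw [MonoidHom.mem_ker, map_mul] at hab
          have h1 : ρ a * (ρ a⁻¹ * ρ b) = ρ a := by rw [hab, mul_one]
          rw [← mul_assoc, ← map_mul, mul_inv_cancel, map_one, one_mul] at h1
          exact h1.symm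
        let N := ρ.ker
        let Q := P ⧸ N
        have hQ : IsPGroup p Q := hP.to_quotient N
        have hmk : ∀ a b : P, ((a : Q)) = (b : Q) → ρ a = ρ b := fun a b hab =>
          heq a b (QuotientGroup.eq.1 hab)
        have hcen : center Q ≠ ⊤ := by
          intro htop
          apply hcomm
          intro a b
          have h1 : (a : Q) ∈ center Q := by rw [htop]; trivial
          have h2 := (mem_center_iff.1 h1) (b : Q)
          have h3 : ((b * a : P) : Q) = ((a * b : P) : Q) := h2
          have h4 := hmk _ _ h3
          rw [map_mul, map_mul] at h4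
          exact h4.symm
        have hQ₁ : IsPGroup p (Q ⧸ center Q) := hQ.to_quotient _
        haveI hnt : Nontrivial (Q ⧸ center Q) := QuotientGroup.nontrivial_iff.2 hcen
        haveI hcn := hQ₁.center_nontrivial
        obtain ⟨⟨z, hz⟩, hz1⟩ := exists_ne (1 : center (Q ⧸ center Q))
        obtain ⟨ybar, rfl⟩ := QuotientGroup.mk_surjective z
        obtain ⟨y, rfl⟩ := QuotientGroup.mk_surjective ybar
        -- commutators with `y` act by scalars
        have hsc : ∀ g : P, ∃ c : K, ρ (g * y * g⁻¹ * y⁻¹) = c • 1 := by
          intro g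
          apply schur ρ hirr
          intro x
          have h1 := (mem_center_iff.1 hz) (((g : P) : Q) : Q ⧸ center Q)
          have h2 : (((g : Q) * ((y : Q)) : Q) : Q ⧸ center Q) = (((y : Q) * (g : Q) : Q) : Q ⧸ center Q) := h1
          have h3 := QuotientGroup.eq.1 h2.symm
          have h4 : ((g * y * g⁻¹ * y⁻¹ : P) : Q) ∈ center Q := by
            have := (inferInstance : (center Q).Normal).conj_mem _ h3 ((y : Q) * (g : Q))
            have e : ((g * y * g⁻¹ * y⁻¹ : P) : Q) = ((y : Q) * (g : Q)) * (((y : Q) * (g : Q))⁻¹ * ((g : Q) * (y : Q))) * ((y : Q) * (g : Q))⁻¹ := by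
              simp only [QuotientGroup.mk_mul, QuotientGroup.mk_inv]
              group
            rw [e]
            exact this
          have h5 := (mem_center_iff.1 h4) (x : Q)
          have h6 : ((x * (g * y * g⁻¹ * y⁻¹) : P) : Q) = (((g * y * g⁻¹ * y⁻¹) * x : P) : Q) := h5
          have h7 := hmk _ _ h6
          rw [map_mul ρ x, map_mul ρ _ x] at h7
          exact h7.symm
        choose c hc using hsc
        -- non-commutation
        have hyunit : IsUnit (ρ y) := by
          refine IsUnit.of_mul_eq_one (ρ y⁻¹) ?_
          rw [← map_mul, mul_inv_cancel, map_one]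
        have hgunit : ∀ g : P, IsUnit (ρ g) := by
          intro g
          refine IsUnit.of_mul_eq_one (ρ g⁻¹) ?_
          rw [← map_mul, mul_inv_cancel, map_one]
        have hrel : ∀ g, ρ g * ρ y = c g • (ρ y * ρ g) := by
          intro g
          have h1 : ρ (g * y) = ρ (g * y * g⁻¹ * y⁻¹) * ρ (y * g) := by
            rw [← map_mul]
            congr 1
            group
          rw [hc g, smul_mul_assoc, one_mul, map_mul, map_mul] at h1
          exact h1
        have hc0 : ∀ g, c g ≠ 0 := by
          intro g h0
          have h1 := hrel g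
          rw [h0, zero_smul] at h1
          have h2 := (hgunit g).mul hyunit
          rw [h1] at h2
          exact not_isUnit_zero h2
        have hprod : ∀ a b, c (a * b) = c a * c b := by
          intro a b
          have h1 := hrel (a * b)
          have h2 : ρ (a * b) * ρ y = (c a * c b) • (ρ y * ρ (a * b)) := by
            rw [map_mul, mul_assoc, hrel b, mul_smul_comm, ← mul_assoc, hrel a, smul_mul_assoc, smul_smul,
              mul_assoc, mul_comm (c a)]
          rw [h1] at h2
          have h3 : IsUnit (ρ y * ρ (a * b)) := hyunit.mul (hgunit _)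
          obtain ⟨u, hu⟩ := h3
          rw [← hu] at h2
          have h4 : c (a * b) • (1 : Module.End K V) = (c a * c b) • 1 := by
            have h5 := congrArg (fun f => f * ((u⁻¹ : (Module.End K V)ˣ) : Module.End K V)) h2
            simpa [smul_mul_assoc] using h5
          by_contra hne
          have h5 : (c (a * b) - c a * c b) • (1 : Module.End K V) = 0 := by
            rw [sub_smul, h4, sub_self]
          rcases smul_eq_zero.1 h5 with h6 | h6
          · exact hne (sub_eq_zero.1 h6)
          · exact hone h6
        have hcone : c 1 = 1 := by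
          have h1 := hprod 1 1
          rw [mul_one] at h1
          have h2 := hc0 1
          field_simp at h1
          exact h1.symm
        let cH : P →* K := { toFun := c, map_one' := hcone, map_mul' := hprod }
        let M₀ : Subgroup P := cH.ker
        have hcommM : commutator P ≤ M₀ := by
          rw [_root_.commutator_def, Subgroup.commutator_le]
          intro a _ b _
          show cH (a * b * a⁻¹ * b⁻¹) = 1
          have e1 : cH a * cH a⁻¹ = 1 := by rw [← map_mul, mul_inv_cancel, map_one]
          have e2 : cH b * cH b⁻¹ = 1 := by rw [← map_mul, mul_inv_cancel, map_one]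
          rw [map_mul, map_mul, map_mul]
          calc cH a * cH b * cH a⁻¹ * cH b⁻¹ = (cH a * cH a⁻¹) * (cH b * cH b⁻¹) := by ring
            _ = 1 := by rw [e1, e2, one_mul]
        have hM₀c : ∀ h : P, h ∈ M₀ → Commute (ρ y) (ρ h) := by
          intro x hx
          have h1 : c x = 1 := hx
          have h2 := hrel x
          rw [h1, one_smul] at h2
          exact h2.symm
        -- some element does not commute
        obtain ⟨g₀, hg₀⟩ : ∃ g₀ : P, c g₀ ≠ 1 := by
          by_contra hall
          push Not at hall
          apply hz1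
          apply Subtype.ext
          show (((y : P) : Q) : Q ⧸ center Q) = 1
          rw [QuotientGroup.eq_one_iff, mem_center_iff]
          intro gb
          obtain ⟨g, rfl⟩ := QuotientGroup.mk_surjective gb
          show ((g * y : P) : Q) = ((y * g : P) : Q)
          apply QuotientGroup.eq.2
          rw [MonoidHom.mem_ker, map_mul]
          have h1 : ρ (y * g) = ρ (g * y) := by
            rw [map_mul, map_mul, hrel g, hall g, one_smul]
          rw [h1, ← map_mul, inv_mul_cancel, map_one]
        set c₀ := c g₀ with hc₀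
        have hcpow : ∀ i : ℕ, c (g₀ ^ i) = c₀ ^ i := fun i => map_pow cH g₀ i
        obtain ⟨a, ha⟩ := IsPGroup.iff_card.1 hP
        have hc₀pow : c₀ ^ p ^ a = 1 := by
          rw [← hcpow, ← ha, pow_card_eq_one', hcone]
        have hord : p ≤ orderOf c₀ := by
          have h1 : orderOf c₀ ∣ p ^ a := orderOf_dvd_of_pow_eq_one hc₀pow
          obtain ⟨b, -, hb⟩ := (Nat.dvd_prime_pow hp.out).1 h1
          have hb0 : b ≠ 0 := by
            rintro rfl
            rw [pow_zero, orderOf_eq_one_iff] at hb
            exact hg₀ hb
          rw [hb]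
          exact Nat.le_self_pow hb0 p
        let s : Finset P := (Finset.range p).image (fun i => g₀ ^ i)
        have hinj0 : Set.InjOn (fun i : ℕ => c₀ ^ i) (Finset.range p : Set ℕ) := by
          apply (pow_injOn_Iio_orderOf (x := c₀)).mono
          intro i hi
          have : i < p := Finset.mem_range.1 hi
          exact lt_of_lt_of_le this hord
        have hinjOn : Set.InjOn c (s : Set P) := by
          intro x hx x' hx' hxx
          simp only [s, Finset.coe_image, Set.mem_image] at hx hx'
          obtain ⟨i, hi, rfl⟩ := hx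
          obtain ⟨i', hi', rfl⟩ := hx'
          rw [hcpow, hcpow] at hxx
          rw [hinj0 hi hi' hxx]
        have hscard : s.card = p := by
          rw [Finset.card_image_of_injOn, Finset.card_range]
          intro i hi i' hi' hii
          apply hinj0 hi hi'
          show c₀ ^ i = c₀ ^ i'
          rw [← hcpow, ← hcpow]
          exact congrArg c hii
        have hfr : ∀ lam : K, finrank K ((ρ y).maxGenEigenspace lam) < p ^ j := by
          intro lam
          have h1 := genEigen_le ρ hyunit c hrel hc0 s hinjOn lam
          rw [hscard] at h1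
          have h2 : p * finrank K ((ρ y).maxGenEigenspace lam) < p * p ^ j := by
            rw [← pow_succ']
            omega
          exact Nat.lt_of_mul_lt_mul_left h2
        obtain ⟨h', hh', rfl⟩ := derived_le_map M₀ hcommM j hh
        have hfix : ∀ lam : K, ∀ v ∈ (ρ y).maxGenEigenspace lam, ρ h' v = v := by
          intro lam v hv
          have hst : ∀ g : M₀, ∀ v ∈ (ρ y).maxGenEigenspace lam,
              (ρ.comp M₀.subtype) g v ∈ (ρ y).maxGenEigenspace lam := by
            intro g w hw
            exact Module.End.mapsTo_maxGenEigenspace_of_comm (hM₀c g g.2) lam hw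
          have r := ih (hP.to_subgroup M₀) (restrictRep (ρ.comp M₀.subtype) _ hst) (hfr lam) h' hh'
          have := congrArg (fun f => ((f ⟨v, hv⟩ : (ρ y).maxGenEigenspace lam) : V)) r
          simpa using this
        have htop := Module.End.iSup_maxGenEigenspace_eq_top (ρ y)
        have hD : (⨆ lam, (ρ y).maxGenEigenspace lam) ≤ LinearMap.ker (ρ h' - 1) := by
          apply iSup_le
          intro lam v hv
          rw [LinearMap.mem_ker]
          simp [hfix lam v hv]
        rw [htop] at hD
        ext v
        have h1 : v ∈ LinearMap.ker (ρ h' - 1) := hD trivial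
        rw [LinearMap.mem_ker] at h1
        have h2 : ρ h' v - v = 0 := by simpa using h1
        simpa [sub_eq_zero] using h2
    exact main _ V' ρ' rfl hlt'

end main

section charp

universe u v

variable {F : Type*} [Field F] {p : ℕ} [hp : Fact p.Prime] [CharP F p]

lemma fixed_vector {P : Type u} [Group P] [Finite P] (hP : IsPGroup p P) {V : Type v} [AddCommGroup V] [Module F V]
    [Nontrivial V] (ρ : P →* Module.End F V) : ∃ v : V, v ≠ 0 ∧ ∀ g, ρ g v = v := by
  classical
  obtain ⟨v₀, hv₀⟩ := exists_ne (0 : V)
  have hpV : ∀ x : V, p • x = 0 := by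
    intro x
    rw [← Nat.cast_smul_eq_nsmul F, CharP.cast_eq_zero, zero_smul]
  let O : Set V := Set.range (fun g : P => ρ g v₀)
  have hOf : O.Finite := Set.finite_range _
  let S : AddSubgroup V := AddSubgroup.closure O
  have hSfg : AddSubgroup.FG S := ⟨hOf.toFinset, by simp [S]⟩
  haveI : AddGroup.FG S := (AddGroup.fg_iff_addSubgroup_fg S).2 hSfg
  have htors : IsAddTorsion S := by
    intro x
    rw [isOfFinAddOrder_iff_nsmul_eq_zero]
    refine ⟨p, hp.out.pos, ?_⟩
    apply Subtype.ext
    simpa using hpV x
  haveI hSfin : Finite S := AddCommGroup.finite_of_fg_isAddTorsion S htors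
  have hSinv : ∀ g, ∀ x ∈ S, ρ g x ∈ S := by
    intro g x hx
    induction hx using AddSubgroup.closure_induction with
    | mem x hx =>
      obtain ⟨g', rfl⟩ := hx
      apply AddSubgroup.subset_closure
      refine ⟨g * g', ?_⟩
      simp
    | zero => simp
    | add x y _ _ hx hy => rw [map_add]; exact add_mem hx hy
    | neg x _ hx => rw [map_neg]; exact neg_mem hx
  letI act : MulAction P S :=
    { smul := fun g x => ⟨ρ g x, hSinv g x x.2⟩
      one_smul := fun x => by
        apply Subtype.ext
        show ρ 1 (x : V) = x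
        simp
      mul_smul := fun a b x => by
        apply Subtype.ext
        show ρ (a * b) (x : V) = ρ a (ρ b x)
        simp }
  have hpS : p ∣ Nat.card S := by
    have hM : IsPGroup p (Multiplicative S) := by
      intro g
      refine ⟨1, ?_⟩
      rw [pow_one]
      apply Multiplicative.toAdd.injective
      apply Subtype.ext
      simp [hpV]
    obtain ⟨n, hn⟩ := IsPGroup.iff_card.1 hM
    have hn0 : n ≠ 0 := by
      rintro rfl
      rw [pow_zero] at hn
      have h1 : Nat.card S = 1 := (Nat.card_congr Multiplicative.toAdd).symm.trans hn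
      obtain ⟨hs, -⟩ := Nat.card_eq_one_iff_unique.1 h1
      have h2 : v₀ ∈ S := AddSubgroup.subset_closure ⟨1, by simp⟩
      have h3 : (⟨v₀, h2⟩ : S) = 0 := hs.elim _ _
      exact hv₀ (congrArg Subtype.val h3)
    have : Nat.card S = p ^ n := (Nat.card_congr Multiplicative.toAdd).symm.trans hn
    rw [this]
    exact dvd_pow_self p hn0
  have h0 : (0 : S) ∈ MulAction.fixedPoints P S := by
    intro g
    apply Subtype.ext
    show ρ g (0 : V) = 0
    simp
  obtain ⟨b, hb, hne⟩ := hP.exists_fixed_point_of_prime_dvd_card_of_fixed_point S hpS h0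
  refine ⟨b, fun h => hne (Subtype.ext h.symm), fun g => ?_⟩
  exact congrArg Subtype.val (hb g)

/-- the representation on a quotient. -/
def quotRep {Q : Type u} {V : Type v} {K : Type*} [Field K] [Group Q] [AddCommGroup V] [Module K V]
    (σ : Q →* Module.End K V) (W : Submodule K V) (hW : ∀ g, ∀ v ∈ W, σ g v ∈ W) :
    Q →* Module.End K (V ⧸ W) where
  toFun g := W.mapQ W (σ g) (fun v hv => hW g v hv)
  map_one' := by
    ext v
    simp
  map_mul' a b := by
    ext v
    simp

lemma stable_of_dim {P : Type u} [Group P] [Finite P] (hP : IsPGroup p P) {V : Type v} [AddCommGroup V] [Module F V]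
    [FiniteDimensional F V] (ρ : P →* Module.End F V) (k : ℕ) (hk : k ≤ finrank F V) :
    ∃ W : Submodule F V, (∀ g, ∀ v ∈ W, ρ g v ∈ W) ∧ finrank F W = k := by
  classical
  induction k with
  | zero => exact ⟨⊥, by simp, by simp⟩
  | succ k ih =>
    obtain ⟨W, hW, hWk⟩ := ih (by omega)
    have hq := Submodule.finrank_quotient_add_finrank W
    haveI : Nontrivial (V ⧸ W) := by
      apply Module.nontrivial_of_finrank_pos (R := F)
      omega
    obtain ⟨x, hx, hfx⟩ := fixed_vector hP (quotRep ρ W hW)
    obtain ⟨v, rfl⟩ := Submodule.mkQ_surjective W x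
    have hvW : v ∉ W := by
      intro h
      apply hx
      simpa using h
    have hvne : v ≠ 0 := by
      rintro rfl
      exact hvW (zero_mem _)
    have hmove : ∀ g, ρ g v - v ∈ W := by
      intro g
      have := hfx g
      have h2 : W.mkQ (ρ g v) = W.mkQ v := this
      rw [← (Submodule.Quotient.eq W)]
      exact h2
    refine ⟨W ⊔ (Submodule.span F {v}), ?_, ?_⟩
    · intro g u hu
      obtain ⟨w, hw, z, hz, rfl⟩ := Submodule.mem_sup.1 hu
      obtain ⟨a, rfl⟩ := Submodule.mem_span_singleton.1 hz
      have e : a • ρ g v = a • (ρ g v - v) + a • v := by rw [smul_sub]; abel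
      rw [map_add, map_smul, e, ← add_assoc]
      apply Submodule.add_mem
      · exact Submodule.add_mem _ (Submodule.mem_sup_left (hW g w hw))
          (Submodule.mem_sup_left (W.smul_mem a (hmove g)))
      · exact Submodule.mem_sup_right (Submodule.smul_mem _ a (Submodule.mem_span_singleton_self v))
    · have h1 := Submodule.finrank_sup_add_finrank_inf_eq W (Submodule.span F {v})
      have h2 : W ⊓ Submodule.span F {v} = ⊥ :=
        ((Submodule.disjoint_span_singleton' hvne).2 hvW).eq_bot
      rw [h2, finrank_span_singleton hvne] at h1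
      simp only [finrank_bot, add_zero] at h1
      omega

theorem thmB {P : Type u} [Group P] [Finite P] (hP : IsPGroup p P) (j : ℕ) :
    ∀ {V : Type v} [AddCommGroup V] [Module F V] [FiniteDimensional F V] (ρ : P →* Module.End F V),
      finrank F V ≤ 2 ^ j → ∀ h ∈ derivedSeries P j, ρ h = 1 := by
  induction j with
  | zero =>
    intro V _ _ _ ρ hd h _
    by_cases hV : Subsingleton V
    · ext v
      exact Subsingleton.elim _ _
    rw [not_subsingleton_iff_nontrivial] at hV
    obtain ⟨v, hv, hfix⟩ := fixed_vector hP ρ
    have h1 : finrank F V = 1 := by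
      have := Module.finrank_pos (R := F) (M := V)
      simp only [pow_zero] at hd
      omega
    ext u
    obtain ⟨a, rfl⟩ := (finrank_eq_one_iff_of_nonzero' v hv).1 h1 u
    simp [hfix]
  | succ j ih =>
    intro V _ _ _ ρ hd h hh
    classical
    obtain ⟨W, hW, hWk⟩ := stable_of_dim hP ρ (finrank F V / 2) (Nat.div_le_self _ _)
    have hq := Submodule.finrank_quotient_add_finrank W
    have h1 : finrank F W ≤ 2 ^ j := by
      rw [hWk, pow_succ] at *
      omega
    have h2 : finrank F (V ⧸ W) ≤ 2 ^ j := by
      rw [pow_succ] at hd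
      omega
    have r1 := ih (restrictRep ρ W hW) h1
    have r2 := ih (quotRep ρ W hW) h2
    have e1 : ∀ a ∈ derivedSeries P j, ∀ w ∈ W, ρ a w = w := by
      intro a ha w hw
      have := congrArg (fun f => ((f ⟨w, hw⟩ : W) : V)) (r1 a ha)
      simpa using this
    have e2 : ∀ a ∈ derivedSeries P j, ∀ v, ρ a v - v ∈ W := by
      intro a ha v
      have := congrArg (fun f => f (W.mkQ v)) (r2 a ha)
      have h3 : W.mkQ (ρ a v) = W.mkQ v := this
      rw [← (Submodule.Quotient.eq W)]
      exact h3
    have hcomm : ∀ a ∈ derivedSeries P j, ∀ b ∈ derivedSeries P j, ρ a * ρ b = ρ b * ρ a := by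
      intro a ha b hb
      ext v
      have ea : ρ a v = (ρ a v - v) + v := by abel
      have eb : ρ b v = (ρ b v - v) + v := by abel
      simp only [Module.End.mul_apply]
      rw [eb, map_add, e1 a ha _ (e2 b hb v), ea, map_add, e1 b hb _ (e2 a ha v)]
      abel
    have hker : derivedSeries P (j + 1) ≤ ρ.ker := by
      rw [derivedSeries_succ, Subgroup.commutator_le]
      intro a ha b hb
      rw [MonoidHom.mem_ker]
      show ρ (a * b * a⁻¹ * b⁻¹) = 1
      rw [map_mul, map_mul, map_mul, hcomm a ha b hb, mul_assoc (ρ b), ← map_mul, mul_inv_cancel, map_one,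
        mul_one, ← map_mul, mul_inv_cancel, map_one]
    exact hker hh

end charp

/-- Let F be a field, n ≥ 1, and P a finite p-group (p a prime) admitting an injective homomorphism into the general linear group of degree n over F. Then the derived length of P is at most ⌊log₂ n⌋ + 1: that term of the derived series of P is trivial. -/
theorem result {P : Type*} [Group P] [Finite P] (p : ℕ) [Fact p.Prime] (hP : IsPGroup p P) (F : Type*) [Field F] (n : ℕ) (hn : 1 ≤ n) (ρ : P →* Matrix.GeneralLinearGroup (Fin n) F) (hρ : Function.Injective ρ) : derivedSeries P (Nat.log 2 n + 1) = ⊥ := by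
  classical
  have hp : p.Prime := Fact.out
  have hlt : n < 2 ^ (Nat.log 2 n + 1) := Nat.lt_pow_succ_log_self (by norm_num) n
  rw [eq_bot_iff]
  intro h hh
  rw [mem_bot]
  by_cases hc : (p : F) = 0
  · haveI : CharP F p := (CharP.charP_iff_prime_eq_zero hp).2 hc
    let ρ₁ : P →* Module.End F (Fin n → F) :=
      ((Matrix.toLinAlgEquiv' (R := F) (n := Fin n)).toAlgHom.toMonoidHom).comp
        ((Units.coeHom _).comp ρ)
    have r := thmB hP (Nat.log 2 n + 1) ρ₁ (by
      rw [finrank_fin_fun]
      exact hlt.le) h hh
    apply hρ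
    rw [map_one]
    apply Units.ext
    apply (Matrix.toLinAlgEquiv' (R := F) (n := Fin n)).injective
    rw [Units.val_one, map_one]
    exact r
  · let K := AlgebraicClosure F
    have hcK : (p : K) ≠ 0 := by
      intro h0
      apply hc
      apply (algebraMap F K).injective
      rw [map_natCast, h0, map_zero]
    let ρ₂ : P →* Module.End K (Fin n → K) :=
      ((Matrix.toLinAlgEquiv' (R := K) (n := Fin n)).toAlgHom.toMonoidHom).comp
        ((Units.coeHom _).comp ((Matrix.GeneralLinearGroup.map (algebraMap F K)).comp ρ))
    have r := thmA hcK (Nat.log 2 n + 1) hP ρ₂ (by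
      rw [finrank_fin_fun]
      exact lt_of_lt_of_le hlt (Nat.pow_le_pow_left hp.two_le _)) h hh
    apply hρ
    rw [map_one]
    apply Units.ext
    rw [Units.val_one]
    have r2 : ((Matrix.GeneralLinearGroup.map (algebraMap F K)) (ρ h)).val = 1 := by
      apply (Matrix.toLinAlgEquiv' (R := K) (n := Fin n)).injective
      rw [map_one]
      exact r
    have r3 : ((ρ h).val).map (algebraMap F K) = (1 : Matrix (Fin n) (Fin n) F).map (algebraMap F K) := by
      rw [Matrix.map_one _ (map_zero _) (map_one _)]
      exact r2
    exact Matrix.map_injective (algebraMap F K).injective r3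

end Cfsg.Agent.S4010
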