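import Mathlib
import Cfsg.Statements.S4014
import Cfsg.Agent.Lib.PGroups.Basic

set_option autoImplicit false
set_option linter.all false
open Cfsg

namespace Cfsg.Agent.S4014

open Subgroup Cfsg.Agent.Lib.PGroups.Basic

section upper

variable {Q : Type*} [Group Q] [Finite Q] {p : ℕ} [hp : Fact p.Prime]

/-- key step: passing to the derived subgroup divides relative indices by `p`. -/
lemma key (hQ : IsPGroup p Q) (H T : Subgroup Q) (hHT : ¬ H ≤ T) :
    T.relIndex ⁅H, H⁆ * p ≤ T.relIndex H := by
  classical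
  have hHp : IsPGroup p H := hQ.to_subgroup H
  let T' : Subgroup H := T.subgroupOf H
  have hT' : T' ≠ ⊤ := by
    intro h
    apply hHT
    intro x hx
    have : (⟨x, hx⟩ : H) ∈ T' := by rw [h]; trivial
    exact this
  obtain ⟨M', hM', hle⟩ := (eq_top_or_exists_le_coatom T').resolve_left hT'
  have hidx : M'.index = p := index_eq_of_isCoatom hHp hM'
  have hcomm : commutator H ≤ M' := by
    refine le_trans (commutator_le_frattini hHp) ?_
    exact (frattini_le_coatom hM')
  let M : Subgroup Q := M'.map H.subtype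
  have hMH : M ≤ H := map_subtype_le M'
  have hsub : M.subgroupOf H = M' := by
    ext x
    rw [Subgroup.mem_subgroupOf]
    constructor
    · rintro ⟨y, hy, hyx⟩
      have : y = x := Subtype.ext hyx
      rwa [← this]
    · intro hx
      exact ⟨x, hx, rfl⟩
  have hMidx : M.relIndex H = p := by
    rw [Subgroup.relIndex, hsub, hidx]
  have hHM : ⁅H, H⁆ ≤ M := by
    rw [← Subgroup.map_subtype_commutator H]
    exact map_mono hcomm
  have hinf : H ⊓ T ≤ M := by
    rintro x ⟨hx1, hx2⟩
    exact ⟨⟨x, hx1⟩, hle hx2, rfl⟩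
  have h1 := Subgroup.relIndex_mul_relIndex (H ⊓ T) M H hinf hMH
  rw [hMidx, Subgroup.inf_relIndex_left] at h1
  have h2 : (H ⊓ T).relIndex M = T.relIndex M := by
    rw [← Subgroup.inf_relIndex_right (H ⊓ T) M, ← Subgroup.inf_relIndex_right T M]
    congr 1
    ext x
    constructor
    · rintro ⟨⟨h3, h4⟩, h5⟩
      exact ⟨h4, h5⟩
    · rintro ⟨h4, h5⟩
      exact ⟨⟨hMH h5, h4⟩, h5⟩
  rw [h2] at h1
  rw [← h1]
  apply Nat.mul_le_mul_right
  apply Subgroup.relIndex_le_of_le_right hHM
  exact Subgroup.index_ne_zero_of_finite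

lemma upper (hQ : IsPGroup p Q) {Ω : Type*} [Finite Ω] [MulAction Q Ω] [FaithfulSMul Q Ω] :
    derivedSeries Q (Nat.log p (Nat.card Ω)) = ⊥ := by
  classical
  set N := Nat.card Ω with hN
  have hclaim : ∀ i : ℕ, ∀ x : Ω, (MulAction.stabilizer Q x).relIndex (derivedSeries Q i) = 1 ∨
      (MulAction.stabilizer Q x).relIndex (derivedSeries Q i) * p ^ i ≤ N := by
    intro i x
    induction i with
    | zero =>
      right
      rw [derivedSeries_zero, Subgroup.relIndex_top_right, MulAction.index_stabilizer, pow_zero, mul_one,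
        hN, ← Set.ncard_univ]
      exact Set.ncard_le_ncard (Set.subset_univ _) (Set.toFinite _)
    | succ i ih =>
      by_cases hle : derivedSeries Q i ≤ MulAction.stabilizer Q x
      · left
        rw [Subgroup.relIndex_eq_one, derivedSeries_succ]
        exact le_trans (Subgroup.commutator_le_left _ _) hle
      · have h1 := key hQ (derivedSeries Q i) (MulAction.stabilizer Q x) hle
        rw [← derivedSeries_succ] at h1
        rcases ih with h2 | h2
        · exact absurd (Subgroup.relIndex_eq_one.1 h2) hle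
        · right
          rw [pow_succ, ← mul_assoc]
          calc _ = (MulAction.stabilizer Q x).relIndex (derivedSeries Q (i + 1)) * p * p ^ i := by ring
            _ ≤ _ := (Nat.mul_le_mul_right _ h1).trans h2
  set k := Nat.log p N with hk
  rw [eq_bot_iff]
  intro g hg
  rw [mem_bot]
  apply eq_of_smul_eq_smul (α := Ω)
  intro x
  rw [one_smul]
  have hrel : (MulAction.stabilizer Q x).relIndex (derivedSeries Q k) = 1 := by
    rcases hclaim k x with h | h
    · exact h
    · by_contra hne
      have hd : (MulAction.stabilizer Q x).relIndex (derivedSeries Q k) ∣ Nat.card (derivedSeries Q k) :=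
        Subgroup.relIndex_dvd_card _ _
      obtain ⟨a, ha⟩ := IsPGroup.iff_card.1 (hQ.to_subgroup (derivedSeries Q k))
      rw [ha] at hd
      obtain ⟨b, -, hb⟩ := (Nat.dvd_prime_pow hp.out).1 hd
      have hb0 : b ≠ 0 := by
        rintro rfl
        rw [pow_zero] at hb
        exact hne hb
      have h2 : p ≤ (MulAction.stabilizer Q x).relIndex (derivedSeries Q k) := by
        rw [hb]
        exact Nat.le_self_pow hb0 p
      have h3 : p ^ (k + 1) ≤ N := by
        calc p ^ (k + 1) = p * p ^ k := pow_succ' _ _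
          _ ≤ _ := Nat.mul_le_mul_right _ h2
          _ ≤ N := h
      have hN0 : N ≠ 0 := by
        rw [hN]
        rcases isEmpty_or_nonempty Ω with he | he
        · exact (he.false x).elim
        · exact Nat.card_pos.ne'
      have h4 : N < p ^ (k + 1) := Nat.lt_pow_succ_log_self hp.out.one_lt N
      omega
  exact Subgroup.relIndex_eq_one.1 hrel hg

end upper

section lower

variable {p : ℕ} [hp : Fact p.Prime]

open RegularWreathProduct

/-- the one-step gain. -/
lemma lift_derived {D Q : Type*} [Group D] [Group Q] (σ : Q) (hσ : σ ≠ 1) (i : ℕ) :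
    ∀ x ∈ derivedSeries D i, ∃ u ∈ derivedSeries (D ≀ᵣ Q) (i + 1), u.right = 1 ∧ u.left 1 = x := by
  classical
  induction i with
  | zero =>
    intro x _
    let b : D ≀ᵣ Q := ⟨fun q => if q = 1 then x else 1, 1⟩
    let s : D ≀ᵣ Q := ⟨1, σ⟩
    refine ⟨b * s * b⁻¹ * s⁻¹, ?_, ?_, ?_⟩
    · rw [derivedSeries_succ]
      exact Subgroup.commutator_mem_commutator (by simp) (by simp)
    · simp [b, s, mul_def]
    · simp [b, s, mul_def, inv_left]
      intro h
      exact absurd h hσ
  | succ i ih =>
    let S : Subgroup D :=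
      { carrier := {x | ∃ u ∈ derivedSeries (D ≀ᵣ Q) (i + 1 + 1), u.right = 1 ∧ u.left 1 = x}
        one_mem' := ⟨1, one_mem _, rfl, rfl⟩
        mul_mem' := by
          rintro a b ⟨u, hu, hu1, hu2⟩ ⟨v, hv, hv1, hv2⟩
          refine ⟨u * v, mul_mem hu hv, ?_, ?_⟩
          · simp [hu1, hv1]
          · simp [mul_def, hu1, hu2, hv2]
        inv_mem' := by
          rintro a ⟨u, hu, hu1, hu2⟩
          refine ⟨u⁻¹, inv_mem hu, ?_, ?_⟩
          · simp [hu1]
          · simp [inv_left, hu1, hu2] }
    have hle : derivedSeries D (i + 1) ≤ S := by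
      rw [derivedSeries_succ, Subgroup.commutator_le]
      intro a ha b hb
      obtain ⟨u, hu, hu1, hu2⟩ := ih a ha
      obtain ⟨v, hv, hv1, hv2⟩ := ih b hb
      refine ⟨u * v * u⁻¹ * v⁻¹, ?_, ?_, ?_⟩
      · rw [derivedSeries_succ _ (i + 1)]
        exact Subgroup.commutator_mem_commutator hu hv
      · simp [hu1, hv1]
      · simp [mul_def, inv_left, hu1, hv1, hu2, hv2]
        rfl
    exact fun x hx => hle hx

lemma tower (k : ℕ) : ∃ (D : Type) (_ : Group D) (_ : Finite D) (Λ : Type) (_ : Finite Λ)
    (_ : MulAction D Λ) (_ : FaithfulSMul D Λ), IsPGroup p D ∧ Nat.card Λ = p ^ (k + 1) ∧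
      derivedSeries D k ≠ ⊥ := by
  classical
  haveI : NeZero p := ⟨hp.out.ne_zero⟩
  have hQc : Nat.card (Multiplicative (ZMod p)) = p := by simp [Nat.card_eq_fintype_card]
  haveI hQnt : Nontrivial (Multiplicative (ZMod p)) := by
    apply Finite.one_lt_card_iff_nontrivial.1
    rw [hQc]
    exact hp.out.one_lt
  induction k with
  | zero =>
    refine ⟨Multiplicative (ZMod p), inferInstance, inferInstance, Multiplicative (ZMod p),
      inferInstance, inferInstance, inferInstance, ?_, ?_, ?_⟩
    · exact IsPGroup.of_card (n := 1) (by rw [hQc, pow_one])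
    · rw [hQc]; simp
    · rw [derivedSeries_zero]
      exact top_ne_bot
  | succ k ih =>
    obtain ⟨D, _, _, Λ, _, _, _, hD, hΛ, hder⟩ := ih
    haveI : Nonempty Λ := by
      apply (Nat.card_pos_iff.1 _).1
      rw [hΛ]
      exact pow_pos hp.out.pos _
    obtain ⟨σ, hσ⟩ := exists_ne (1 : Multiplicative (ZMod p))
    refine ⟨D ≀ᵣ Multiplicative (ZMod p), inferInstance, inferInstance,
      Λ × Multiplicative (ZMod p), inferInstance, inferInstance, inferInstance, ?_, ?_, ?_⟩
    · obtain ⟨a, ha⟩ := IsPGroup.iff_card.1 hD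
      apply IsPGroup.of_card (n := a * p + 1)
      rw [RegularWreathProduct.card, ha, hQc, pow_succ, pow_mul]
    · rw [Nat.card_prod, hΛ, hQc, pow_succ p (k + 1)]
    · intro hbot
      apply hder
      rw [eq_bot_iff]
      intro x hx
      obtain ⟨u, hu, -, hu2⟩ := lift_derived σ hσ k x hx
      rw [hbot, mem_bot] at hu
      rw [mem_bot, ← hu2, hu]
      rfl

end lower

/-- Let p be a prime, n ≥ 1, and P a Sylow p-subgroup of the symmetric group on n letters. Then the derived length of P is exactly k = ⌊log_p n⌋ (the largest k with p^k ≤ n): the k-th derived subgroup of P is trivial and, when k ≥ 1, the (k−1)-st is not. -/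
theorem result (p : ℕ) [Fact p.Prime] (n : ℕ) (hn : 1 ≤ n) (P : Sylow p (Equiv.Perm (Fin n))) : derivedSeries ↥(P : Subgroup (Equiv.Perm (Fin n))) (Nat.log p n) = ⊥ ∧ (1 ≤ Nat.log p n → derivedSeries ↥(P : Subgroup (Equiv.Perm (Fin n))) (Nat.log p n - 1) ≠ ⊥) := by
  classical
  have hp : p.Prime := Fact.out
  constructor
  · have := upper (Q := ↥(P : Subgroup (Equiv.Perm (Fin n)))) (Ω := Fin n) P.isPGroup'
    simpa using this
  · intro hk
    obtain ⟨j, hj⟩ : ∃ j, Nat.log p n = j + 1 := ⟨Nat.log p n - 1, by omega⟩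
    rw [hj]
    simp only [Nat.add_sub_cancel]
    obtain ⟨D, _, _, Λ, _, _, _, hD, hΛ, hder⟩ := tower (p := p) j
    have hle : p ^ (j + 1) ≤ n := by
      rw [← hj]
      exact Nat.pow_log_le_self p (by omega)
    haveI : Fintype Λ := Fintype.ofFinite Λ
    have hemb : Nonempty (Λ ↪ Fin n) := by
      apply Function.Embedding.nonempty_of_card_le
      rw [Fintype.card_fin, ← Nat.card_eq_fintype_card, hΛ]
      exact hle
    obtain ⟨ι⟩ := hemb
    let f : D →* Equiv.Perm (Fin n) := (Equiv.Perm.viaEmbeddingHom ι).comp (MulAction.toPermHom D Λ)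
    have hf : Function.Injective f :=
      (Equiv.Perm.viaEmbeddingHom_injective ι).comp MulAction.toPerm_injective
    have hW : IsPGroup p f.range := hD.of_surjective f.rangeRestrict f.rangeRestrict_surjective
    obtain ⟨S, hS⟩ := hW.exists_le_sylow
    let g : D →* ↥(P : Subgroup (Equiv.Perm (Fin n))) :=
      (S.equiv P).toMonoidHom.comp (f.codRestrict (S : Subgroup (Equiv.Perm (Fin n)))
        (fun x => hS ⟨x, rfl⟩))
    have hg : Function.Injective g := by
      intro a b hab
      apply hf
      have h1 : f.codRestrict (S : Subgroup (Equiv.Perm (Fin n))) (fun x => hS ⟨x, rfl⟩) a =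
          f.codRestrict (S : Subgroup (Equiv.Perm (Fin n))) (fun x => hS ⟨x, rfl⟩) b :=
        (S.equiv P).injective hab
      exact congrArg Subtype.val h1
    intro hbot
    apply hder
    rw [eq_bot_iff]
    intro x hx
    have h1 : g x ∈ derivedSeries ↥(P : Subgroup (Equiv.Perm (Fin n))) j :=
      map_derivedSeries_le_derivedSeries g j ⟨x, hx, rfl⟩
    rw [hbot, mem_bot] at h1
    rw [mem_bot]
    exact hg (h1.trans (map_one g).symm)

end Cfsg.Agent.S4014
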