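import Mathlib
import Cfsg.Statements.S4015
import Cfsg.Agent.S4010
import Cfsg.Agent.S4014

set_option autoImplicit false
set_option linter.all false
open Cfsg

namespace Cfsg.Agent.S4015

open Module Subgroup Cfsg.Agent.S4010

section upper

universe u v

variable {K : Type*} [Field K] [IsAlgClosed K]

lemma lemmaC {p : ℕ} [hp : Fact p.Prime] (hK : (p : K) ≠ 0) {P : Type u} [Group P] [Finite P]
    (hP : IsPGroup p P) (w j : ℕ) (hw : w < p ^ j) :
    ∀ d : ℕ, ∀ (V : Type v) [AddCommGroup V] [Module K V] [FiniteDimensional K V]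
      (σ : P →* Module.End K V), finrank K V = d →
      (∀ g, ∀ ζ : K, ζ ^ p = 1 → ζ ≠ 1 → finrank K ((σ g).eigenspace ζ) ≤ w) →
      ∀ h ∈ derivedSeries P j, σ h = 1 := by
  intro d
  induction d using Nat.strong_induction_on with
  | _ d ihd =>
    intro V _ _ _ σ hd hE h hh
    classical
    by_cases hV : Subsingleton V
    · ext v
      exact Subsingleton.elim _ _
    rw [not_subsingleton_iff_nontrivial] at hV
    have hone : (1 : Module.End K V) ≠ 0 := one_ne_zero
    have hsub : ∀ (W : Submodule K V) (hW : ∀ g, ∀ v ∈ W, σ g v ∈ W), ∀ g, ∀ ζ : K, ζ ^ p = 1 → ζ ≠ 1 →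
        finrank K ((restrictRep σ W hW g).eigenspace ζ) ≤ w := by
      intro W hW g ζ h1 h2
      refine le_trans ?_ (hE g ζ h1 h2)
      let f : ((restrictRep σ W hW g).eigenspace ζ) →ₗ[K] ((σ g).eigenspace ζ) :=
        { toFun := fun x => ⟨((x : W) : V), by
            have h3 := x.2
            rw [Module.End.mem_eigenspace_iff] at h3 ⊢
            have h4 := congrArg Subtype.val h3
            simpa using h4⟩
          map_add' := fun a b => rfl
          map_smul' := fun a b => rfl }
      apply LinearMap.finrank_le_finrank_of_injective (f := f)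
      intro a b hab
      have h5 : ((a : W) : V) = ((b : W) : V) := by
        have := congrArg (fun y : (σ g).eigenspace ζ => (y : V)) hab
        exact this
      exact Subtype.ext (Subtype.ext h5)
    by_cases hred : ∃ W : Submodule K V, (∀ g, ∀ v ∈ W, σ g v ∈ W) ∧ W ≠ ⊥ ∧ W ≠ ⊤
    · obtain ⟨W, hW, h1, h2⟩ := hred
      haveI : Fintype P := Fintype.ofFinite P
      have hcard : (Fintype.card P : K) ≠ 0 := by
        obtain ⟨a, ha⟩ := IsPGroup.iff_card.1 hP
        rw [← Nat.card_eq_fintype_card, ha]
        push_cast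
        exact pow_ne_zero _ hK
      obtain ⟨W', hc, hW'⟩ := maschke hcard σ W hW
      have h3 : W' ≠ ⊤ := by
        rintro rfl
        exact h1 (by simpa using hc.inf_eq_bot)
      have hd1 : finrank K W < d := by
        rw [← hd]
        exact Submodule.finrank_lt h2
      have hd2 : finrank K W' < d := by
        rw [← hd]
        exact Submodule.finrank_lt h3
      have r1 := ihd _ hd1 W (restrictRep σ W hW) rfl (hsub W hW) h hh
      have r2 := ihd _ hd2 W' (restrictRep σ W' hW') rfl (hsub W' hW') h hh
      ext v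
      have hv : v ∈ W ⊔ W' := by rw [hc.sup_eq_top]; trivial
      obtain ⟨y, hy, z, hz, rfl⟩ := Submodule.mem_sup.1 hv
      have e1 : σ h y = y := by
        have := congrArg (fun f => ((f ⟨y, hy⟩ : W) : V)) r1
        simpa using this
      have e2 : σ h z = z := by
        have := congrArg (fun f => ((f ⟨z, hz⟩ : W') : V)) r2
        simpa using this
      simp [e1, e2]
    push Not at hred
    have hirr : ∀ W : Submodule K V, (∀ g, ∀ v ∈ W, σ g v ∈ W) → W = ⊥ ∨ W = ⊤ := by
      intro W hW
      by_cases h1 : W = ⊥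
      · exact Or.inl h1
      · exact Or.inr (hred W hW h1)
    by_cases htriv : ∀ g, σ g = 1
    · exact htriv h
    push Not at htriv
    obtain ⟨g₁, hg₁⟩ := htriv
    -- a central element of order `p` in the image
    let N := σ.ker
    let Q := P ⧸ N
    have hQ : IsPGroup p Q := hP.to_quotient N
    have heq : ∀ a b : P, ((a : Q)) = (b : Q) → σ a = σ b := by
      intro a b hab
      have hab' := QuotientGroup.eq.1 hab
      rw [MonoidHom.mem_ker, map_mul] at hab'
      have h1 : σ a * (σ a⁻¹ * σ b) = σ a := by rw [hab', mul_one]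
      rw [← mul_assoc, ← map_mul, mul_inv_cancel, map_one, one_mul] at h1
      exact h1.symm
    have hne : (⊤ : Subgroup Q) ≠ ⊥ := by
      intro h0
      apply hg₁
      have h1 : (g₁ : Q) ∈ (⊤ : Subgroup Q) := trivial
      rw [h0, mem_bot] at h1
      exact (QuotientGroup.eq_one_iff g₁).1 h1
    obtain ⟨zb, -, hzc, hzp⟩ := Cfsg.Agent.Lib.PGroups.Basic.exists_central_orderOf_eq hQ ⊤ hne
    obtain ⟨z, rfl⟩ := QuotientGroup.mk_surjective zb
    have hcommz : ∀ g, Commute (σ z) (σ g) := by
      intro g
      have h1 := (mem_center_iff.1 hzc) (g : Q)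
      have h2 : ((g * z : P) : Q) = ((z * g : P) : Q) := h1
      have h3 := heq _ _ h2
      rw [map_mul, map_mul] at h3
      exact h3.symm
    obtain ⟨ζ, hζ⟩ := schur σ hirr (σ z) hcommz
    have hz1 : σ z ≠ 1 := by
      intro h1
      have h2 : (z : Q) = 1 := (QuotientGroup.eq_one_iff z).2 h1
      rw [h2, orderOf_one] at hzp
      exact hp.out.ne_one hzp.symm
    have hζ1 : ζ ≠ 1 := by
      rintro rfl
      apply hz1
      rw [hζ, one_smul]
    have hζp : ζ ^ p = 1 := by
      have h1 : (z : Q) ^ p = 1 := by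
        rw [← hzp]
        exact pow_orderOf_eq_one _
      have h2 : ((z ^ p : P) : Q) = ((1 : P) : Q) := h1
      have h3 := heq _ _ h2
      rw [map_pow, hζ, map_one, smul_pow, one_pow] at h3
      by_contra hne2
      have h4 : (ζ ^ p - 1) • (1 : Module.End K V) = 0 := by
        rw [sub_smul, h3, one_smul, sub_self]
      rcases smul_eq_zero.1 h4 with h5 | h5
      · exact hne2 (sub_eq_zero.1 h5)
      · exact hone h5
    have htop : (σ z).eigenspace ζ = ⊤ := by
      rw [eq_top_iff]
      intro v _
      rw [Module.End.mem_eigenspace_iff, hζ]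
      simp
    have hdim : finrank K V < p ^ j := by
      have h1 := hE z ζ hζp hζ1
      rw [htop, finrank_top] at h1
      omega
    exact thmA hK j hP σ hdim h hh

end upper

section frob

universe u

variable {F : Type u} [Field F] [Fintype F] {K : Type*} [Field K] [Algebra F K] [Algebra.IsAlgebraic F K]

/-- Frobenius twist of eigenspaces. -/
lemma eigen_step {n : ℕ} (A : Matrix (Fin n) (Fin n) F) (μ : K) :
    finrank K (Module.End.eigenspace (Matrix.toLin' (A.map (algebraMap F K))) μ) ≤
      finrank K (Module.End.eigenspace (Matrix.toLin' (A.map (algebraMap F K))) (μ ^ Fintype.card F)) := by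
  classical
  set q := Fintype.card F with hq
  let φ : K ≃ₐ[F] K := FiniteField.frobeniusAlgEquivOfAlgebraic F K
  have hφ : ∀ x, φ x = x ^ q := fun x => rfl
  set B := A.map (algebraMap F K) with hB
  have hfixB : ∀ i j, φ (B i j) = B i j := fun i j => φ.commutes _
  let b := Module.finBasis K (Module.End.eigenspace (Matrix.toLin' B) μ)
  have hmem : ∀ (v : Fin n → K), v ∈ Module.End.eigenspace (Matrix.toLin' B) μ →
      (fun i => φ (v i)) ∈ Module.End.eigenspace (Matrix.toLin' B) (μ ^ q) := by
    intro v hv
    rw [Module.End.mem_eigenspace_iff] at hv ⊢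
    ext i
    have h1 := congrFun hv i
    simp only [Matrix.toLin'_apply, Pi.smul_apply, smul_eq_mul, Matrix.mulVec, dotProduct] at h1 ⊢
    have h2 := congrArg φ h1
    rw [map_sum, map_mul, hφ μ] at h2
    rw [← h2]
    apply Finset.sum_congr rfl
    intro j _
    rw [map_mul, hfixB]
  let b' : Fin (finrank K (Module.End.eigenspace (Matrix.toLin' B) μ)) → (Module.End.eigenspace (Matrix.toLin' B) (μ ^ q)) :=
    fun i => ⟨fun j => φ ((b i : Fin n → K) j), hmem _ (b i).2⟩
  have hli : LinearIndependent K b' := by
    rw [Fintype.linearIndependent_iff]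
    intro c hc i
    have h1 : ∑ i, (φ.symm (c i)) • b i = 0 := by
      apply Subtype.ext
      ext j
      have h2 := congrArg (fun x => ((x : Module.End.eigenspace (Matrix.toLin' B) (μ ^ q)) : Fin n → K) j) hc
      simp only [b', Submodule.coe_sum, Submodule.coe_smul, Finset.sum_apply, Pi.smul_apply, smul_eq_mul,
        ZeroMemClass.coe_zero, Pi.zero_apply] at h2
      have h3 := congrArg φ.symm h2
      simp only [map_sum, map_mul, AlgEquiv.symm_apply_apply, map_zero] at h3
      simp only [Submodule.coe_sum, Submodule.coe_smul, Finset.sum_apply, Pi.smul_apply, smul_eq_mul,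
        ZeroMemClass.coe_zero, Pi.zero_apply]
      exact h3
    have h4 := (Fintype.linearIndependent_iff.1 b.linearIndependent) _ h1 i
    have h5 := congrArg φ h4
    simpa using h5
  have := hli.fintype_card_le_finrank
  simpa using this

lemma eigen_le {p : ℕ} [hp : Fact p.Prime] {n : ℕ} (A : Matrix (Fin n) (Fin n) F) (ζ : K) (hζ : ζ ^ p = 1) (hζ1 : ζ ≠ 1) :
    orderOf ((Fintype.card F : ℕ) : ZMod p) *
      finrank K (Module.End.eigenspace (Matrix.toLin' (A.map (algebraMap F K))) ζ) ≤ n := by
  classical
  set q := Fintype.card F with hq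
  set e := orderOf ((q : ℕ) : ZMod p) with he
  set B := A.map (algebraMap F K) with hB
  let μ : ℕ → K := fun i => ζ ^ (q ^ i)
  have h1 : ∀ i, finrank K (Module.End.eigenspace (Matrix.toLin' B) ζ) ≤
      finrank K (Module.End.eigenspace (Matrix.toLin' B) (μ i)) := by
    intro i
    induction i with
    | zero =>
      have h0 : μ 0 = ζ := by simp [μ]
      rw [h0]
    | succ i ih =>
      refine le_trans ih ?_
      have h2 := eigen_step (K := K) A (μ i)
      have h3 : μ i ^ Fintype.card F = μ (i + 1) := by
        simp only [μ]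
        rw [← pow_mul, pow_succ]
      rwa [h3] at h2
  have hord : orderOf ζ = p := orderOf_eq_prime hζ hζ1
  have hinj : Set.InjOn μ (Finset.range e : Set ℕ) := by
    intro i hi i' hi' hii
    have h2 : ζ ^ (q ^ i) = ζ ^ (q ^ i') := hii
    have hzero : ζ ≠ 0 := by
      rintro rfl
      rw [zero_pow hp.out.ne_zero] at hζ
      exact zero_ne_one hζ
    have h2' : (Units.mk0 ζ hzero) ^ (q ^ i) = (Units.mk0 ζ hzero) ^ (q ^ i') := by
      apply Units.ext
      simpa using h2
    rw [pow_eq_pow_iff_modEq, ← orderOf_units, Units.val_mk0, hord] at h2'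
    have h2 := h2'
    have h3 : ((q ^ i : ℕ) : ZMod p) = ((q ^ i' : ℕ) : ZMod p) :=
      (ZMod.natCast_eq_natCast_iff' _ _ _).2 h2
    push_cast at h3
    exact pow_injOn_Iio_orderOf (x := ((q : ℕ) : ZMod p)) (Finset.mem_range.1 hi) (Finset.mem_range.1 hi') h3
  have hsum := finrank_biSup_of_indep (fun μ => Module.End.eigenspace (Matrix.toLin' B) μ)
    (Module.End.eigenspaces_iSupIndep (Matrix.toLin' B)) ((Finset.range e).image μ)
  rw [Finset.sum_image hinj] at hsum
  calc e * finrank K (Module.End.eigenspace (Matrix.toLin' B) ζ)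
      = ∑ i ∈ Finset.range e, finrank K (Module.End.eigenspace (Matrix.toLin' B) ζ) := by simp
    _ ≤ ∑ i ∈ Finset.range e, finrank K (Module.End.eigenspace (Matrix.toLin' B) (μ i)) :=
        Finset.sum_le_sum (fun i _ => h1 i)
    _ = _ := hsum.symm
    _ ≤ finrank K (Fin n → K) := Submodule.finrank_le _
    _ = n := by simp

end frob

section final

universe u

variable {F : Type u} [Field F] [Fintype F] {p : ℕ} [hp : Fact p.Prime]

lemma p_ne_zero_of (hpq : ¬ p ∣ Fintype.card F) : (p : F) ≠ 0 := by
  intro h0
  obtain ⟨l, hl⟩ := CharP.exists F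
  haveI := hl
  have h1 : l ∣ p := (CharP.cast_eq_zero_iff F l p).1 h0
  have h2 : ((Fintype.card F : ℕ) : F) = 0 := Nat.cast_card_eq_zero F
  have h3 : l ∣ Fintype.card F := (CharP.cast_eq_zero_iff F l _).1 h2
  rcases (Nat.dvd_prime hp.out).1 h1 with h4 | h4
  · exact CharP.char_ne_one F l h4
  · rw [h4] at h3
    exact hpq h3

lemma order_pos_of (hpq : ¬ p ∣ Fintype.card F) : 0 < orderOf ((Fintype.card F : ℕ) : ZMod p) := by
  rw [orderOf_pos_iff, isOfFinOrder_iff_pow_eq_one]
  refine ⟨p - 1, by have := hp.out.two_le; omega, ?_⟩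
  apply ZMod.pow_card_sub_one_eq_one
  rw [Ne, ZMod.natCast_eq_zero_iff]
  exact hpq

lemma upper_bound (hpq : ¬ p ∣ Fintype.card F) {n : ℕ} (P : Type*) [Group P] [Finite P] (hP : IsPGroup p P)
    (ρ : P →* Matrix.GeneralLinearGroup (Fin n) F) (hρ : Function.Injective ρ) :
    derivedSeries P (Nat.log p (n / orderOf ((Fintype.card F : ℕ) : ZMod p)) + 1) = ⊥ := by
  classical
  set e := orderOf ((Fintype.card F : ℕ) : ZMod p) with he
  have hepos : 0 < e := order_pos_of hpq
  let K := AlgebraicClosure F
  have hcK : (p : K) ≠ 0 := by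
    intro h0
    apply p_ne_zero_of hpq
    apply (algebraMap F K).injective
    rw [map_natCast, h0, map_zero]
  let ρ₂ : P →* Module.End K (Fin n → K) :=
    ((Matrix.toLinAlgEquiv' (R := K) (n := Fin n)).toAlgHom.toMonoidHom).comp
      ((Units.coeHom _).comp ((Matrix.GeneralLinearGroup.map (algebraMap F K)).comp ρ))
  have hw : n / e < p ^ (Nat.log p (n / e) + 1) := Nat.lt_pow_succ_log_self hp.out.one_lt _
  rw [eq_bot_iff]
  intro h hh
  rw [mem_bot]
  have r := lemmaC hcK hP (n / e) _ hw _ (Fin n → K) ρ₂ rfl (by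
    intro g ζ h1 h2
    rw [Nat.le_div_iff_mul_le hepos, mul_comm]
    exact eigen_le (F := F) (K := K) (ρ g).val ζ h1 h2) h hh
  apply hρ
  rw [map_one]
  apply Units.ext
  rw [Units.val_one]
  have r2 : ((Matrix.GeneralLinearGroup.map (algebraMap F K)) (ρ h)).val = 1 := by
    apply (Matrix.toLinAlgEquiv' (R := K) (n := Fin n)).injective
    rw [map_one]
    exact r
  have r3 : ((ρ h).val).map (algebraMap F K) = (1 : Matrix (Fin n) (Fin n) F).map (algebraMap F K) := by
    rw [Matrix.map_one _ (map_zero _) (map_one _)]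
    exact r2
  exact Matrix.map_injective (algebraMap F K).injective r3

end final

section lower

universe u

variable {F : Type u} [Field F] {p : ℕ} [hp : Fact p.Prime]

open RegularWreathProduct

/-- the representation of a wreath product on functions. -/
def wreathRep {D Q V : Type*} [Group D] [Group Q] [AddCommGroup V] [Module F V] (f : D →* Module.End F V) :
    D ≀ᵣ Q →* Module.End F (Q → V) where
  toFun w :=
    { toFun := fun v x => f (w.left x) (v (w.right⁻¹ * x))
      map_add' := fun a b => by
        ext x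
        simp
      map_smul' := fun a b => by
        ext x
        simp }
  map_one' := by
    ext v x
    simp
  map_mul' a b := by
    ext v x
    simp [mul_def, mul_assoc]

lemma wreathRep_apply {D Q V : Type*} [Group D] [Group Q] [AddCommGroup V] [Module F V]
    (f : D →* Module.End F V) (w : D ≀ᵣ Q) (v : Q → V) (x : Q) :
    wreathRep f w v x = f (w.left x) (v (w.right⁻¹ * x)) := rfl

lemma wreathRep_injective {D Q V : Type*} [Group D] [Group Q] [AddCommGroup V] [Module F V] [Nontrivial V]
    (f : D →* Module.End F V) (hf : Function.Injective f) :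
    Function.Injective (wreathRep (Q := Q) f) := by
  classical
  rw [injective_iff_map_eq_one]
  intro w hw
  have hv : ∀ (v : Q → V) (x : Q), f (w.left x) (v (w.right⁻¹ * x)) = v x := by
    intro v x
    have := congrArg (fun T => T v x) hw
    simpa [wreathRep_apply] using this
  obtain ⟨v₀, hv₀⟩ := exists_ne (0 : V)
  have hright : w.right = 1 := by
    have h1 := hv (Pi.single 1 v₀) 1
    by_contra hne
    have h2 : w.right⁻¹ * 1 ≠ 1 := by
      simpa using hne
    rw [Pi.single_eq_of_ne h2, map_zero, Pi.single_eq_same] at h1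
    exact hv₀ h1.symm
  have hleft : w.left = 1 := by
    funext x
    apply hf
    rw [Pi.one_apply, map_one]
    ext v₁
    have h1 := hv (Pi.single x v₁) x
    rw [hright] at h1
    simpa using h1
  exact RegularWreathProduct.ext hleft hright

lemma tower [Fintype F] (hpq : ¬ p ∣ Fintype.card F) (i : ℕ) :
    ∃ (D : Type u) (_ : Group D) (_ : Finite D) (V : Type u) (_ : AddCommGroup V) (_ : Module F V)
      (_ : FiniteDimensional F V) (f : D →* Module.End F V), Function.Injective f ∧ IsPGroup p D ∧
      finrank F V = orderOf ((Fintype.card F : ℕ) : ZMod p) * p ^ i ∧ derivedSeries D i ≠ ⊥ := by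
  classical
  set e := orderOf ((Fintype.card F : ℕ) : ZMod p) with he
  have hepos : 0 < e := order_pos_of hpq
  haveI : NeZero p := ⟨hp.out.ne_zero⟩
  have hQc : Nat.card (Multiplicative (ZMod p)) = p := by simp [Nat.card_eq_fintype_card]
  haveI hQnt : Nontrivial (Multiplicative (ZMod p)) := by
    apply Finite.one_lt_card_iff_nontrivial.1
    rw [hQc]
    exact hp.out.one_lt
  induction i with
  | zero =>
    have hd : p ∣ Nat.card (Matrix.GeneralLinearGroup (Fin e) F) := by
      rw [Matrix.card_GL_field]
      have h1 : p ∣ Fintype.card F ^ e - Fintype.card F ^ ((⟨0, hepos⟩ : Fin e) : ℕ) := by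
        simp only [pow_zero]
        rw [← ZMod.natCast_eq_zero_iff, Nat.cast_sub (Nat.one_le_pow _ _ Fintype.card_pos)]
        push_cast
        rw [he, pow_orderOf_eq_one, sub_self]
      exact h1.trans (Finset.dvd_prod_of_mem (fun i : Fin e =>
        Fintype.card F ^ e - Fintype.card F ^ (i : ℕ)) (Finset.mem_univ _))
    obtain ⟨ζ, hζ⟩ := exists_prime_orderOf_dvd_card' p hd
    let f : (zpowers ζ) →* Module.End F (Fin e → F) :=
      ((Matrix.toLinAlgEquiv' (R := F) (n := Fin e)).toAlgHom.toMonoidHom).comp
        ((Units.coeHom _).comp (zpowers ζ).subtype)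
    refine ⟨zpowers ζ, inferInstance, inferInstance, Fin e → F, inferInstance, inferInstance, inferInstance,
      f, ?_, ?_, ?_, ?_⟩
    · intro a b hab
      have h1 := (Matrix.toLinAlgEquiv' (R := F) (n := Fin e)).injective hab
      exact Subtype.ext (Units.ext h1)
    · exact IsPGroup.of_card (n := 1) (by rw [Nat.card_zpowers, hζ, pow_one])
    · simp
    · rw [derivedSeries_zero]
      intro h0
      have h1 : (⟨ζ, mem_zpowers ζ⟩ : zpowers ζ) ∈ (⊤ : Subgroup (zpowers ζ)) := trivial
      rw [h0, mem_bot] at h1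
      have h2 : ζ = 1 := congrArg Subtype.val h1
      rw [h2, orderOf_one] at hζ
      exact hp.out.ne_one hζ.symm
  | succ i ih =>
    obtain ⟨D, _, _, V, _, _, _, f, hf, hD, hV, hder⟩ := ih
    haveI : Nontrivial V := by
      apply Module.nontrivial_of_finrank_pos (R := F)
      rw [hV]
      exact Nat.mul_pos hepos (pow_pos hp.out.pos _)
    obtain ⟨σ, hσ⟩ := exists_ne (1 : Multiplicative (ZMod p))
    refine ⟨D ≀ᵣ Multiplicative (ZMod p), inferInstance, inferInstance,
      Multiplicative (ZMod p) → V, inferInstance, inferInstance, inferInstance,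
      wreathRep f, wreathRep_injective f hf, ?_, ?_, ?_⟩
    · obtain ⟨a, ha⟩ := IsPGroup.iff_card.1 hD
      apply IsPGroup.of_card (n := a * p + 1)
      rw [RegularWreathProduct.card, ha, hQc, pow_succ, pow_mul]
    · rw [Module.finrank_pi_fintype]
      simp only [Finset.sum_const, Finset.card_univ, smul_eq_mul, hV]
      rw [← Nat.card_eq_fintype_card, hQc, pow_succ]
      ring
    · intro hbot
      apply hder
      rw [eq_bot_iff]
      intro x hx
      obtain ⟨u, hu, -, hu2⟩ := Cfsg.Agent.S4014.lift_derived σ hσ i x hx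
      rw [hbot, mem_bot] at hu
      rw [mem_bot, ← hu2, hu]
      rfl

lemma toGL {D V : Type*} [Group D] [AddCommGroup V] [Module F V] [FiniteDimensional F V] (n : ℕ)
    (hn : finrank F V ≤ n) (f : D →* Module.End F V) (hf : Function.Injective f) :
    ∃ g : D →* Matrix.GeneralLinearGroup (Fin n) F, Function.Injective g := by
  classical
  have hW : finrank F (V × (Fin (n - finrank F V) → F)) = finrank F (Fin n → F) := by
    rw [Module.finrank_prod, Module.finrank_fin_fun, Module.finrank_fin_fun]
    omega
  let e₀ : (V × (Fin (n - finrank F V) → F)) ≃ₗ[F] (Fin n → F) := LinearEquiv.ofFinrankEq _ _ hW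
  let f₁ : D →* Module.End F (V × (Fin (n - finrank F V) → F)) :=
    { toFun := fun g => LinearMap.prodMap (f g) LinearMap.id
      map_one' := by
        ext <;> simp
      map_mul' := fun a b => by
        ext <;> simp }
  have hf₁ : Function.Injective f₁ := by
    intro a b hab
    apply hf
    ext v
    have := congrArg (fun T => (T (v, 0)).1) hab
    simpa [f₁] using this
  let f₃ : D →* Matrix (Fin n) (Fin n) F :=
    ((Matrix.toLinAlgEquiv' (R := F) (n := Fin n)).symm.toAlgHom.toMonoidHom).comp
      ((e₀.conjRingEquiv.toMonoidHom).comp f₁)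
  refine ⟨f₃.toHomUnits, ?_⟩
  intro a b hab
  have h1 : f₃ a = f₃ b := congrArg Units.val hab
  have h2 := (Matrix.toLinAlgEquiv' (R := F) (n := Fin n)).symm.injective h1
  have h3 := e₀.conjRingEquiv.injective h2
  exact hf₁ h3

lemma derived_ne_of_embed {G : Type*} [Group G] [Finite G] (P : Sylow p G) {D : Type*} [Group D]
    (hD : IsPGroup p D) (g : D →* G) (hg : Function.Injective g) (i : ℕ) (hder : derivedSeries D i ≠ ⊥) :
    derivedSeries ↥(P : Subgroup G) i ≠ ⊥ := by
  have hW : IsPGroup p g.range := hD.of_surjective g.rangeRestrict g.rangeRestrict_surjective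
  obtain ⟨S, hS⟩ := hW.exists_le_sylow
  let g' : D →* ↥(P : Subgroup G) :=
    (S.equiv P).toMonoidHom.comp (g.codRestrict (S : Subgroup G) (fun x => hS ⟨x, rfl⟩))
  have hg' : Function.Injective g' := by
    intro a b hab
    apply hg
    have h1 : g.codRestrict (S : Subgroup G) (fun x => hS ⟨x, rfl⟩) a =
        g.codRestrict (S : Subgroup G) (fun x => hS ⟨x, rfl⟩) b :=
      (S.equiv P).injective hab
    exact congrArg Subtype.val h1
  intro hbot
  apply hder
  rw [eq_bot_iff]
  intro x hx
  have h1 : g' x ∈ derivedSeries ↥(P : Subgroup G) i :=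
    map_derivedSeries_le_derivedSeries g' i ⟨x, hx, rfl⟩
  rw [hbot, mem_bot] at h1
  rw [mem_bot]
  exact hg' (h1.trans (map_one g').symm)

end lower

/-- Let p be an odd prime, F a finite field with q elements where p does not divide q, and e the multiplicative order of q modulo p. Let n ≥ e and write w = ⌊n/e⌋ and k = ⌊log_p w⌋. Then a Sylow p-subgroup of GL(n, F) has derived length exactly k + 1: its (k+1)-st derived subgroup is trivial and its k-th is not. -/
theorem result (p : ℕ) [Fact p.Prime] (hp : p ≠ 2) (F : Type*) [Field F] [Fintype F] (q : ℕ) (hq : Fintype.card F = q) (hpq : ¬ p ∣ q) (n : ℕ) (hn : orderOf (q : ZMod p) ≤ n) (P : Sylow p (Matrix.GeneralLinearGroup (Fin n) F)) : derivedSeries ↥(P : Subgroup (Matrix.GeneralLinearGroup (Fin n) F)) (Nat.log p (n / orderOf (q : ZMod p)) + 1) = ⊥ ∧ derivedSeries ↥(P : Subgroup (Matrix.GeneralLinearGroup (Fin n) F)) (Nat.log p (n / orderOf (q : ZMod p))) ≠ ⊥ := by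
  classical
  subst hq
  constructor
  · exact upper_bound hpq ↥(P : Subgroup (Matrix.GeneralLinearGroup (Fin n) F)) P.isPGroup'
      (P : Subgroup (Matrix.GeneralLinearGroup (Fin n) F)).subtype Subtype.val_injective
  · have hepos := order_pos_of (p := p) hpq
    set e := orderOf ((Fintype.card F : ℕ) : ZMod p) with he
    obtain ⟨D, _, _, V, _, _, _, f, hf, hD, hV, hder⟩ := tower (F := F) (p := p) hpq (Nat.log p (n / e))
    have hw0 : n / e ≠ 0 := (Nat.div_pos hn hepos).ne'
    have hle : finrank F V ≤ n := by
      rw [hV, mul_comm]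
      exact (Nat.le_div_iff_mul_le hepos).1 (Nat.pow_log_le_self p hw0)
    obtain ⟨g, hg⟩ := toGL n hle f hf
    exact derived_ne_of_embed P hD g hg _ hder

end Cfsg.Agent.S4015
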