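import Cfsg.Statements.S2431
import Cfsg.Agent.Lib.SLn.PSL2Class
import Cfsg.Agent.Lib.SLn.QuatSylow
import Cfsg.Agent.Lib.Classical.SL2Quat
-- import your own Cfsg.Agent.* helpers here

set_option autoImplicit false
open Cfsg

namespace Cfsg.Agent.S2431

section aux

open Matrix
open Cfsg.Agent.Lib.GL2.SL2 Cfsg.Agent.Lib.GL2.SL2Classes Cfsg.Agent.Lib.SLn.Basic Cfsg.Agent.Lib.SLn.SL2Gen
open Cfsg.Agent.Lib.SLn.SL2PSL Cfsg.Agent.Lib.SLn.OreSL2 Cfsg.Agent.Lib.SLn.PSL2Class
open Cfsg.Agent.Lib.Classical.QuadExt Cfsg.Agent.Lib.Classical.SL2Tori Cfsg.Agent.Lib.Classical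
open Cfsg.Agent.Lib.SLn Cfsg.Agent.Lib.SLn.QuatSylow

section ring

variable {R : Type*} [Ring R] {A Y : R}

lemma q_rel1 (hA : A * A = -1) (hY : Y * Y = -1) (hYA : Y * A = -(A * Y)) :
    (-1 - A - Y - A * Y) * A = Y * (-1 - A - Y - A * Y) := by
  have hAx : ∀ Z, A * (A * Z) = -Z := fun Z => by rw [← mul_assoc, hA]; simp
  have hYx : ∀ Z, Y * (Y * Z) = -Z := fun Z => by rw [← mul_assoc, hY]; simp
  have hYAx : ∀ Z, Y * (A * Z) = -(A * (Y * Z)) := fun Z => by rw [← mul_assoc, hYA]; simp [mul_assoc]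
  simp only [sub_mul, mul_sub, neg_mul, mul_neg, one_mul, mul_one, mul_assoc, hA, hY, hYA, hAx, hYx, hYAx, neg_neg]
  abel

lemma q_rel2 (hA : A * A = -1) (hY : Y * Y = -1) (hYA : Y * A = -(A * Y)) :
    (-1 - A - Y - A * Y) * Y = (A * Y) * (-1 - A - Y - A * Y) := by
  have hAx : ∀ Z, A * (A * Z) = -Z := fun Z => by rw [← mul_assoc, hA]; simp
  have hYx : ∀ Z, Y * (Y * Z) = -Z := fun Z => by rw [← mul_assoc, hY]; simp
  have hYAx : ∀ Z, Y * (A * Z) = -(A * (Y * Z)) := fun Z => by rw [← mul_assoc, hYA]; simp [mul_assoc]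
  simp only [sub_mul, mul_sub, neg_mul, mul_neg, one_mul, mul_one, mul_assoc, hA, hY, hYA, hAx, hYx, hYAx, neg_neg]
  abel

lemma q_rel3 (hA : A * A = -1) (hY : Y * Y = -1) (hYA : Y * A = -(A * Y)) :
    (-1 - A - Y - A * Y) * (-1 - A - Y - A * Y) = (-1 + A + Y + A * Y) + (-1 + A + Y + A * Y) := by
  have hAx : ∀ Z, A * (A * Z) = -Z := fun Z => by rw [← mul_assoc, hA]; simp
  have hYx : ∀ Z, Y * (Y * Z) = -Z := fun Z => by rw [← mul_assoc, hY]; simp
  have hYAx : ∀ Z, Y * (A * Z) = -(A * (Y * Z)) := fun Z => by rw [← mul_assoc, hYA]; simp [mul_assoc]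
  simp only [sub_mul, mul_sub, neg_mul, mul_neg, one_mul, mul_one, mul_assoc, hA, hY, hYA, hAx, hYx, hYAx, neg_neg, add_mul, mul_add]
  abel

lemma q_rel4 (hA : A * A = -1) (hY : Y * Y = -1) (hYA : Y * A = -(A * Y)) :
    (-1 + A + Y + A * Y) * (-1 - A - Y - A * Y) = 1 + 1 + 1 + 1 := by
  have hAx : ∀ Z, A * (A * Z) = -Z := fun Z => by rw [← mul_assoc, hA]; simp
  have hYx : ∀ Z, Y * (Y * Z) = -Z := fun Z => by rw [← mul_assoc, hY]; simp
  have hYAx : ∀ Z, Y * (A * Z) = -(A * (Y * Z)) := fun Z => by rw [← mul_assoc, hYA]; simp [mul_assoc]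
  simp only [sub_mul, mul_sub, neg_mul, mul_neg, one_mul, mul_one, mul_assoc, hA, hY, hYA, hAx, hYx, hYAx, neg_neg, add_mul, mul_add]
  abel

end ring

variable {F : Type*} [Field F]

lemma cayley2 (M : Matrix (Fin 2) (Fin 2) F) : M * M = M.trace • M - M.det • 1 := by
  ext i j
  fin_cases i <;> fin_cases j <;>
    simp [Matrix.mul_apply, Fin.sum_univ_two, Matrix.trace_fin_two, Matrix.det_fin_two] <;> ring

lemma trace_zero_of_sq (g : SL2 F) (h : (g : Matrix (Fin 2) (Fin 2) F) * g = -1) :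
    Matrix.trace (g : Matrix (Fin 2) (Fin 2) F) = 0 := by
  have h1 := sq_eq_tr g
  rw [h] at h1
  have h2 : tr g • (g : Matrix (Fin 2) (Fin 2) F) = 0 := by
    have : tr g • (g : Matrix (Fin 2) (Fin 2) F) = (-1 : Matrix (Fin 2) (Fin 2) F) + 1 := by rw [h1]; abel
    rw [this]; simp
  rw [← tr_eq_trace]
  rcases smul_eq_zero.mp h2 with h3 | h3
  · exact h3
  · exfalso
    have := g.2
    rw [h3] at this
    simp at this

/-- The element of order three. -/
theorem exists_zeta (h2 : (2 : F) ≠ 0) (a y : SL2 F) (ha : (a : Matrix (Fin 2) (Fin 2) F) * a = -1)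
    (hy : (y : Matrix (Fin 2) (Fin 2) F) * y = -1) (hc : y * a * y⁻¹ = a⁻¹) :
    ∃ ζ : SL2 F, ζ * a * ζ⁻¹ = y ∧ ζ * y * ζ⁻¹ = a * y ∧ ζ ^ 3 = 1 := by
  set A := (a : Matrix (Fin 2) (Fin 2) F) with hA
  set Y := (y : Matrix (Fin 2) (Fin 2) F) with hY
  have hYA : Y * A = -(A * Y) := by
    have h1 : y * a = a⁻¹ * y := by rw [← hc]; group
    have h3 : ((a⁻¹ : SL2 F) : Matrix (Fin 2) (Fin 2) F) = -A := by
      have h4 : A * ((a⁻¹ : SL2 F) : Matrix (Fin 2) (Fin 2) F) = 1 := by
        have : ((a * a⁻¹ : SL2 F) : Matrix (Fin 2) (Fin 2) F) = 1 := by simp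
        exact this
      calc ((a⁻¹ : SL2 F) : Matrix (Fin 2) (Fin 2) F) = -(A * A) * ((a⁻¹ : SL2 F) : Matrix (Fin 2) (Fin 2) F) := by
            rw [ha]; simp
        _ = -A * (A * ((a⁻¹ : SL2 F) : Matrix (Fin 2) (Fin 2) F)) := by noncomm_ring
        _ = -A := by rw [h4]; simp
    have h4 := congrArg Subtype.val h1
    have h5 : Y * A = ((a⁻¹ : SL2 F) : Matrix (Fin 2) (Fin 2) F) * Y := h4
    rw [h5, h3]
    simp
  set P : Matrix (Fin 2) (Fin 2) F := -1 - A - Y - A * Y with hP
  set Q : Matrix (Fin 2) (Fin 2) F := -1 + A + Y + A * Y with hQ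
  have h11 : P * A = Y * P := q_rel1 ha hy hYA
  have h12 : P * Y = (A * Y) * P := q_rel2 ha hy hYA
  have h13 : P * P = Q + Q := q_rel3 ha hy hYA
  have h14 : Q * P = 1 + 1 + 1 + 1 := q_rel4 ha hy hYA
  set c : F := 2⁻¹ with hc'
  have hc2 : c * 2 = 1 := by rw [hc']; field_simp
  have hc4 : c * c * 4 = 1 := by
    have : c * c * 4 = (c * 2) * (c * 2) := by ring
    rw [this, hc2]; ring
  set X : Matrix (Fin 2) (Fin 2) F := c • P with hX
  have hPQ : Q + P = -1 + -1 := by
    rw [hP, hQ]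
    abel
  have hXX : X * X = c • Q := by
    rw [hX, smul_mul_smul_comm, h13, ← two_smul F Q, smul_smul]
    congr 1
    linear_combination c * hc2
  have hXXX : X * X * X = 1 := by
    rw [hXX, hX, smul_mul_smul_comm, h14]
    have : (1 + 1 + 1 + 1 : Matrix (Fin 2) (Fin 2) F) = (4 : F) • 1 := by
      ext i j
      fin_cases i <;> fin_cases j <;> simp [Matrix.one_apply] <;> norm_num
    rw [this, smul_smul, hc4, one_smul]
  have hsum : X * X + X + 1 = 0 := by
    rw [hXX, hX, ← smul_add, hPQ]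
    have : (-1 + -1 : Matrix (Fin 2) (Fin 2) F) = (-2 : F) • 1 := by
      ext i j
      fin_cases i <;> fin_cases j <;> simp [Matrix.one_apply] <;> norm_num
    rw [this, smul_smul]
    have h5 : c * -2 = -1 := by linear_combination -hc2
    rw [h5]
    simp
  have htrA : Matrix.trace A = 0 := trace_zero_of_sq a ha
  have htrY : Matrix.trace Y = 0 := trace_zero_of_sq y hy
  have htrAY : Matrix.trace (A * Y) = 0 := by
    have h5 : ((a * y : SL2 F) : Matrix (Fin 2) (Fin 2) F) * ((a * y : SL2 F) : Matrix (Fin 2) (Fin 2) F) = -1 := by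
      show (A * Y) * (A * Y) = -1
      have : (A * Y) * (A * Y) = A * (Y * A) * Y := by noncomm_ring
      rw [this, hYA]
      have : A * -(A * Y) * Y = -((A * A) * (Y * Y)) := by noncomm_ring
      rw [this, ha, hy]
      simp
    exact trace_zero_of_sq (a * y) h5
  have htrX : Matrix.trace X = -1 := by
    rw [hX, Matrix.trace_smul, hP, Matrix.trace_sub, Matrix.trace_sub, Matrix.trace_sub, htrA, htrY, htrAY,
      Matrix.trace_neg, Matrix.trace_one]
    simp
    exact hc2
  have hdet : X.det = 1 := by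
    have h5 := cayley2 X
    rw [htrX] at h5
    have h6 : (X.det - 1) • (1 : Matrix (Fin 2) (Fin 2) F) = 0 := by
      have : (X.det - 1) • (1 : Matrix (Fin 2) (Fin 2) F) = - (X * X + X + 1) + (X * X - ((-1 : F) • X - X.det • 1)) := by
        simp only [sub_smul, one_smul, neg_smul]
        abel
      rw [this, hsum, h5]
      simp
    have h7 := congrFun (congrFun h6 0) 0
    simp at h7
    linear_combination h7
  let ζ : SL2 F := ⟨X, hdet⟩
  have hζ : (ζ : Matrix (Fin 2) (Fin 2) F) = X := rfl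
  refine ⟨ζ, ?_, ?_, ?_⟩
  · rw [mul_inv_eq_iff_eq_mul]
    apply Subtype.ext
    show X * A = Y * X
    rw [hX, smul_mul_assoc, mul_smul_comm, h11]
  · rw [mul_inv_eq_iff_eq_mul]
    apply Subtype.ext
    show X * Y = (A * Y) * X
    rw [hX, smul_mul_assoc, mul_smul_comm, h12]
  · apply Subtype.ext
    rw [Matrix.SpecialLinearGroup.coe_pow, hζ, pow_three, ← mul_assoc, hXXX]
    rfl

variable [Fintype F]

/-- The data in the case `q ≡ 1 mod 4` -/
theorem data_split (hF : Odd (Fintype.card F)) {v w u : ℕ} (hv : 2 ≤ v) (hw : Odd w) (hu : Odd u)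
    (h1 : Fintype.card F - 1 = 2 ^ v * w) (h2 : Fintype.card F + 1 = 2 * u) :
    ∃ D : Data (SL2 F), D.v = v ∧ (Nat.card (SL2 F)).factorization 2 = D.v + 1 := by
  classical
  have hcardU : Nat.card Fˣ = 2 ^ v * w := by rw [SLBasic.card_units_eq, h1]
  obtain ⟨x, hx⟩ := SL2Quat.exists_orderOf_pow hw.pos hcardU
  have h4v : 4 ≤ 2 ^ v := by
    calc 4 = 2 ^ 2 := by norm_num
      _ ≤ 2 ^ v := Nat.pow_le_pow_right (by norm_num) hv
  have hx2 : (x : F) ^ 2 ≠ 1 := by
    intro h
    have h3 : x ^ 2 = 1 := Units.ext (by simpa using h)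
    have h4 := Nat.le_of_dvd (by norm_num) (orderOf_dvd_of_pow_eq_one h3)
    omega
  have e : ∀ y : Fˣ, ((diagHom y : SL2 F) : Matrix (Fin 2) (Fin 2) F) = !![(y : F), 0; 0, ((y⁻¹ : Fˣ) : F)] := fun _ => rfl
  have hCT : ∀ y : Fˣ, (y : F) ^ 2 ≠ 1 → Subgroup.centralizer ({(diagHom y : SL2 F)} : Set (SL2 F)) = splitT F := by
    intro y hy
    ext g
    rw [Subgroup.mem_centralizer_iff]
    constructor
    · intro h
      exact mem_splitT_of_comm (d := diagHom y) (by rw [e]; simp) (by rw [e]; simp) (by rw [e]; simpa using hy)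
        (h _ (Set.mem_singleton _)).symm
    · rintro hg _ rfl
      exact splitT_comm ⟨y, rfl⟩ hg
  obtain ⟨k, rfl⟩ : ∃ k, v = k + 1 := ⟨v - 1, by omega⟩
  have hm : 0 < 2 ^ k := by positivity
  have hord : orderOf (diagHom x : SL2 F) = 2 * 2 ^ k := by
    rw [orderOf_injective _ diagHom_inj x, hx, pow_succ, mul_comm]
  let D : Data (SL2 F) :=
    { T := splitT F
      cyc := inferInstance
      y := SL2Tori.weylS
      inv := by
        rintro _ ⟨x, rfl⟩
        exact SL2Tori.weylS_conj x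
      yT := by
        intro h
        have := (mem_splitT_iff.mp h).1
        simp [SL2Tori.weylS] at this
      norm := by
        intro g hg
        rw [Subgroup.mem_normalizer_iff] at hg
        have hdT : (diagHom x : SL2 F) ∈ splitT F := ⟨x, rfl⟩
        have h5 := (hg (diagHom x)).mp hdT
        have h6 : g * (diagHom x : SL2 F) = (g * (diagHom x : SL2 F) * g⁻¹) * g := by group
        rcases normalizer_split_cases (d := diagHom x) (by rw [e]; simp) (by rw [e]; simp) (by rw [e]; simpa using hx2) h5 h6 with h7 | ⟨h7, h8⟩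
        · exact Or.inl h7
        · exact Or.inr (weyl_inv_mul_mem h7 h8)
      cent := by
        rintro _ ⟨y, rfl⟩ hd
        apply hCT
        intro h
        apply hd
        have h3 : y ^ 2 = 1 := Units.ext (by simpa using h)
        rw [← map_mul, ← pow_two, h3, map_one]
      a := diagHom x
      aT := ⟨x, rfl⟩
      v := k + 1
      hv := hv
      ord := by rw [hord, pow_succ, mul_comm]
      y2 := by
        rw [Nat.add_sub_cancel, SL2Quat.pow_eq_neg_one hF hm hord, ← pow_two, SL2Tori.weylS_sq]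
      w := w
      hw := hw
      cardT := by rw [card_splitT, h1] }
  refine ⟨D, rfl, ?_⟩
  have h3 := SL2Quat.two_part (Fintype.card F) (k + 1) w u hF hw hu
  have h4 : Nat.card (SL2 F) = Fintype.card F * ((2 ^ (k + 1) * w) * (2 * u)) := by
    rw [← h1, ← h2]
    exact SL2Sylow.card_SL2
  rw [← h4] at h3
  exact Nat.pow_right_injective (le_refl 2) h3

/-- The data in the case `q ≡ 3 mod 4` -/
theorem data_nonsplit (hF : Odd (Fintype.card F)) {v w u : ℕ} (hv : 2 ≤ v) (hw : Odd w) (hu : Odd u)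
    (h1 : Fintype.card F + 1 = 2 ^ v * w) (h2 : Fintype.card F - 1 = 2 * u) :
    ∃ D : Data (SL2 F), D.v = v ∧ (Nat.card (SL2 F)).factorization 2 = D.v + 1 := by
  classical
  obtain ⟨a', ha'⟩ := exists_irred (F := F)
  haveI : Fact (∀ r : F, r ^ 2 ≠ a' + 1 * r) := ⟨ha'⟩
  have hcardU : Nat.card (normOne F a' 1) = 2 ^ v * w := by rw [card_normOne, h1]
  obtain ⟨x, hx⟩ := SL2Quat.exists_orderOf_pow hw.pos hcardU
  obtain ⟨y, hy1, hy2, hy3, hy4⟩ := exists_weyl a' 1
  obtain ⟨k, rfl⟩ : ∃ k, v = k + 1 := ⟨v - 1, by omega⟩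
  have hm : 0 < 2 ^ k := by positivity
  have hord : orderOf (regHom a' 1 x : SL2 F) = 2 * 2 ^ k := by
    rw [orderOf_injective _ regHom_inj x, hx, pow_succ, mul_comm]
  let D : Data (SL2 F) :=
    { T := nsT a' 1
      cyc := inferInstance
      y := y
      inv := hy1
      yT := hy2
      norm := fun g hg => nsT_norm_cases hy1 hg
      cent := by
        rintro _ ⟨u, rfl⟩ hd
        apply centralizer_nsT_of_im
        intro him
        apply hd
        have h1 : toPSL (regHom a' 1 u) = 1 := by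
          rw [toPSL_eq_one_iff]
          refine ⟨(u.1 : QuadraticAlgebra F a' 1).re, ?_⟩
          rw [regHom_coe]
          ext i j
          fin_cases i <;> fin_cases j <;> simp [regMat, Matrix.scalar_apply, him]
        rw [toPSL_reg_eq_one_iff] at h1
        rw [← map_mul, ← pow_two, h1, map_one]
      a := regHom a' 1 x
      aT := ⟨x, rfl⟩
      v := k + 1
      hv := hv
      ord := by rw [hord, pow_succ, mul_comm]
      y2 := by
        rw [Nat.add_sub_cancel, SL2Quat.pow_eq_neg_one hF hm hord]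
        apply Subtype.ext
        rw [hy3]
        rfl
      w := w
      hw := hw
      cardT := by rw [card_nsT, h1] }
  refine ⟨D, rfl, ?_⟩
  have h3 := SL2Quat.two_part (Fintype.card F) (k + 1) w u hF hw hu
  have h4 : Nat.card (SL2 F) = Fintype.card F * ((2 ^ (k + 1) * w) * (2 * u)) := by
    rw [← h1, ← h2, mul_comm (Fintype.card F + 1)]
    exact SL2Sylow.card_SL2
  rw [← h4] at h3
  exact Nat.pow_right_injective (le_refl 2) h3

/-- The data. -/
theorem exists_data (hF : Odd (Fintype.card F)) :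
    ∃ D : Data (SL2 F), (Nat.card (SL2 F)).factorization 2 = D.v + 1 ∧
      ((Fintype.card F % 8 = 1 ∨ Fintype.card F % 8 = 7) → 3 ≤ D.v) ∧
      ((Fintype.card F % 8 = 3 ∨ Fintype.card F % 8 = 5) → D.v = 2) := by
  have hq2 : 2 ≤ Fintype.card F := Fintype.one_lt_card
  have hodd := hF
  rcases hF with ⟨t, ht⟩
  rcases Nat.even_or_odd t with ht2 | ht2
  · -- q ≡ 1 mod 4
    obtain ⟨s, hs⟩ := ht2
    obtain ⟨v, w, hw, hvw⟩ := Nat.exists_eq_two_pow_mul_odd (n := Fintype.card F - 1) (by omega)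
    have hv : 2 ≤ v := by
      by_contra hc
      have hv' : v = 0 ∨ v = 1 := by omega
      obtain ⟨w', hw'⟩ := hw
      rcases hv' with rfl | rfl
      · simp at hvw
        omega
      · simp at hvw
        omega
    have hu : Odd (s * 2 + 1) := ⟨s, by ring⟩
    obtain ⟨D, hD1, hD2⟩ := data_split hodd hv hw hu hvw (by omega)
    refine ⟨D, hD2, ?_, ?_⟩
    · intro h
      rw [hD1]
      by_contra hc
      have hv2 : v = 2 := by omega
      rw [hv2] at hvw
      obtain ⟨w', hw'⟩ := hw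
      rw [hw'] at hvw
      omega
    · intro h
      rw [hD1]
      by_contra hc
      have hv3 : 3 ≤ v := by omega
      obtain ⟨r, rfl⟩ : ∃ r, v = 3 + r := ⟨v - 3, by omega⟩
      rw [pow_add, show 2 ^ 3 = 8 by norm_num, mul_assoc] at hvw
      omega
  · obtain ⟨s, hs⟩ := ht2
    obtain ⟨v, w, hw, hvw⟩ := Nat.exists_eq_two_pow_mul_odd (n := Fintype.card F + 1) (by omega)
    have hv : 2 ≤ v := by
      by_contra hc
      have hv' : v = 0 ∨ v = 1 := by omega
      obtain ⟨w', hw'⟩ := hw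
      rcases hv' with rfl | rfl
      · simp at hvw
        omega
      · simp at hvw
        omega
    have hu : Odd t := ⟨s, hs⟩
    obtain ⟨D, hD1, hD2⟩ := data_nonsplit hodd hv hw hu hvw (by omega)
    refine ⟨D, hD2, ?_, ?_⟩
    · intro h
      rw [hD1]
      by_contra hc
      have hv2 : v = 2 := by omega
      rw [hv2] at hvw
      obtain ⟨w', hw'⟩ := hw
      rw [hw'] at hvw
      omega
    · intro h
      rw [hD1]
      by_contra hc
      have hv3 : 3 ≤ v := by omega
      obtain ⟨r, rfl⟩ : ∃ r, v = 3 + r := ⟨v - 3, by omega⟩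
      rw [pow_add, show 2 ^ 3 = 8 by norm_num, mul_assoc] at hvw
      omega

end aux

/-- Let F be a finite field with q elements, q odd, and S a Sylow 2-subgroup of SL₂ over F. The centraliser of S is the centre of SL₂ (of order 2); S is its own normaliser when q ≡ ±1 mod 8, and has index 3 in its normaliser when q ≡ ±3 mod 8. -/
theorem result {F : Type*} [Field F] [Fintype F] (hodd : Odd (Fintype.card F)) (S : Sylow 2 (Matrix.SpecialLinearGroup (Fin 2) F)) :
    Subgroup.centralizer ((S : Subgroup (Matrix.SpecialLinearGroup (Fin 2) F)) : Set (Matrix.SpecialLinearGroup (Fin 2) F)) = Subgroup.center (Matrix.SpecialLinearGroup (Fin 2) F) ∧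
    ((Fintype.card F % 8 = 1 ∨ Fintype.card F % 8 = 7) →
      Subgroup.normalizer ((S : Subgroup (Matrix.SpecialLinearGroup (Fin 2) F)) : Set (Matrix.SpecialLinearGroup (Fin 2) F)) = (S : Subgroup (Matrix.SpecialLinearGroup (Fin 2) F))) ∧
    ((Fintype.card F % 8 = 3 ∨ Fintype.card F % 8 = 5) →
      Nat.card (Subgroup.normalizer ((S : Subgroup (Matrix.SpecialLinearGroup (Fin 2) F)) : Set (Matrix.SpecialLinearGroup (Fin 2) F))) = 3 * Nat.card S) := by
  obtain ⟨D, hD, h3, h2⟩ := exists_data hodd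
  have h2F : (2 : F) ≠ 0 := by
    intro h0
    have hc : ringChar F = 2 := by
      have : ringChar F ∣ 2 := ringChar.dvd (by exact_mod_cast h0)
      have hp := CharP.char_is_prime F (ringChar F)
      exact (Nat.prime_dvd_prime_iff_eq hp Nat.prime_two).mp this
    have := FiniteField.even_card_iff_char_two.mp hc
    rw [Nat.odd_iff] at hodd
    omega
  refine ⟨?_, ?_, ?_⟩
  · apply le_antisymm
    · intro g hg
      have h5 := D.sylow_centralizer hD S hg
      by_cases h1 : g = 1
      · rw [h1]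
        exact Subgroup.one_mem _
      · have h6 := Cfsg.Agent.S0268.result hodd g h1 h5
        rw [Subgroup.mem_center_iff]
        intro x
        apply Subtype.ext
        rw [Matrix.SpecialLinearGroup.coe_mul, Matrix.SpecialLinearGroup.coe_mul, h6]
        simp
    · exact Subgroup.center_le_centralizer _
  · intro h
    exact D.sylow_normalizer_of_three hD S (h3 h)
  · intro h
    have hv := h2 h
    have hord : orderOf D.a = 2 * 2 := by
      rw [D.ord, hv]
      norm_num
    have ha := Lib.Classical.SL2Quat.pow_eq_neg_one hodd (by norm_num) hord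
    have hy : D.y * D.y = D.a ^ 2 := by
      have := D.y2
      rw [hv] at this
      simpa using this
    have ha' : (D.a : Matrix (Fin 2) (Fin 2) F) * D.a = -1 := by
      have e := congrArg Subtype.val ha
      rw [pow_two] at e
      exact e
    have hy' : (D.y : Matrix (Fin 2) (Fin 2) F) * D.y = -1 := by
      have e := congrArg Subtype.val (hy.trans ha)
      exact e
    obtain ⟨ζ, h4, h5, h6⟩ := exists_zeta h2F D.a D.y ha' hy' (D.inv _ D.aT)
    refine D.sylow_normalizer_of_two hD S hv ζ h4 h5 h6 ?_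
    rintro rfl
    apply D.yT
    rw [← h4]
    simpa using D.aT

end Cfsg.Agent.S2431
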