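import Cfsg.Statements.S1081
import Cfsg.Agent.Lib.GraphAut.Basic

set_option autoImplicit false
open Cfsg

namespace Cfsg.Agent.S1081

open Cfsg.Lie Cfsg.Agent.Lib.GraphAut.Basic

/-- Conditions on the fundamental roots. -/
def check2 (D : ChevalleyDatum) (ρ : ℕ → ℕ) (γ : ℕ → ℤ) (L : List ℕ) : Bool :=
  (List.range D.rank).all fun i =>
    decide (D.simple i < D.nroots) && decide (D.neg (D.simple i) < D.nroots) &&
    decide (ρ (D.simple i) = D.simple (L.getD i 0)) &&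
    decide (ρ (D.neg (D.simple i)) = D.neg (D.simple (L.getD i 0))) &&
    decide (γ (D.simple i) = 1) && decide (γ (D.neg (D.simple i)) = 1)

theorem final {F : Type*} [Field F] (D : ChevalleyDatum) (L ρ ρ' ρh' : List ℕ) (γ : List ℤ)
    (h : checkSym D ρ ρ' L ρh' γ = true) (h2 : check2 D (rhoOf ρ) (gamOf γ) L = true) :
    ∃ α : ↥(D.group F) ≃* ↥(D.group F), ∀ (g : ↥(D.group F)) (i : ℕ) (t : F), i < D.rank →
      (((g : GL D.Idx F) : Matrix D.Idx D.Idx F) = D.x F (D.simple i) t →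
        ((α g : GL D.Idx F) : Matrix D.Idx D.Idx F) = D.x F (D.simple (L.getD i 0)) t) ∧
      (((g : GL D.Idx F) : Matrix D.Idx D.Idx F) = D.x F (D.neg (D.simple i)) t →
        ((α g : GL D.Idx F) : Matrix D.Idx D.Idx F) = D.x F (D.neg (D.simple (L.getD i 0))) t) := by
  let S := Sym.ofCheck D ρ ρ' L ρh' γ h
  obtain ⟨α, hα⟩ := S.exists_aut (F := F)
  refine ⟨α, ?_⟩
  intro g i t hi
  simp only [check2, List.all_eq_true, List.mem_range, Bool.and_eq_true, decide_eq_true_eq] at h2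
  obtain ⟨⟨⟨⟨⟨h3, h4⟩, h5⟩, h6⟩, h7⟩, h8⟩ := h2 i hi
  constructor
  · intro hg
    have := hα g _ t h3 hg
    have e1 : S.ρ (D.simple i) = D.simple (L.getD i 0) := h5
    have e2 : S.γ (D.simple i) = 1 := h7
    rw [e1, e2] at this
    simpa using this
  · intro hg
    have := hα g _ t h4 hg
    have e1 : S.ρ (D.neg (D.simple i)) = D.neg (D.simple (L.getD i 0)) := h6
    have e2 : S.γ (D.neg (D.simple i)) = 1 := h8
    rw [e1, e2] at this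
    simpa using this

def rhoE6 : List ℕ := [0, 1, 2, 5, 16, 3, 6, 17, 8, 19, 22, 11, 26, 30, 33, 35, 4, 7, 18, 9, 20, 23, 10, 21, 24, 25, 12, 27, 31, 34, 13, 28, 32, 14, 29, 15, 56, 42, 57, 39, 43, 58, 37, 40, 44, 59, 46, 47, 50, 61, 48, 51, 62, 53, 64, 67, 36, 38, 41, 45, 60, 49, 52, 63, 54, 65, 68, 55, 66, 69, 70, 71]
def rhoInvE6 : List ℕ := [0, 1, 2, 5, 16, 3, 6, 17, 8, 19, 22, 11, 26, 30, 33, 35, 4, 7, 18, 9, 20, 23, 10, 21, 24, 25, 12, 27, 31, 34, 13, 28, 32, 14, 29, 15, 56, 42, 57, 39, 43, 58, 37, 40, 44, 59, 46, 47, 50, 61, 48, 51, 62, 53, 64, 67, 36, 38, 41, 45, 60, 49, 52, 63, 54, 65, 68, 55, 66, 69, 70, 71]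
def rhoHE6 : List ℕ := [5, 1, 4, 3, 2, 0]
def rhoHInvE6 : List ℕ := [5, 1, 4, 3, 2, 0]
def gamE6 : List ℤ := [1, 1, 1, 1, -1, 1, 1, -1, 1, -1, -1, 1, -1, 1, -1, 1, -1, -1, 1, -1, 1, 1, -1, 1, 1, 1, -1, 1, -1, 1, 1, -1, 1, -1, 1, 1, 1, 1, -1, 1, -1, 1, 1, -1, 1, -1, 1, 1, 1, -1, 1, 1, -1, 1, -1, -1, 1, -1, 1, -1, 1, -1, -1, 1, -1, 1, 1, -1, 1, 1, 1, 1]
theorem checkE6 : checkSym chevE6 rhoE6 rhoInvE6 rhoHE6 rhoHInvE6 gamE6 = true := by decide +kernel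
theorem check2E6 : check2 chevE6 (rhoOf rhoE6) (gamOf gamE6) rhoHE6 = true := by decide +kernel

def rhoD4a : List ℕ := [0, 1, 6, 2, 7, 10, 3, 8, 4, 9, 11, 5, 18, 12, 14, 19, 15, 20, 13, 16, 21, 17, 22, 23]
def rhoInvD4a : List ℕ := [0, 1, 3, 6, 8, 11, 2, 4, 7, 9, 5, 10, 13, 18, 14, 16, 19, 21, 12, 15, 17, 20, 22, 23]
def rhoHD4a : List ℕ := [2, 1, 3, 0]
def rhoHInvD4a : List ℕ := [3, 1, 0, 2]
def gamD4a : List ℤ := [1, 1, -1, 1, -1, 1, -1, 1, -1, 1, 1, 1, 1, 1, 1, -1, 1, -1, 1, -1, 1, -1, 1, 1]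
theorem checkD4a : checkSym chevD4 rhoD4a rhoInvD4a rhoHD4a rhoHInvD4a gamD4a = true := by decide +kernel
theorem check2D4a : check2 chevD4 (rhoOf rhoD4a) (gamOf gamD4a) rhoHD4a = true := by decide +kernel

def rhoD4b : List ℕ := [0, 1, 3, 6, 8, 11, 2, 4, 7, 9, 5, 10, 13, 18, 14, 16, 19, 21, 12, 15, 17, 20, 22, 23]
def rhoInvD4b : List ℕ := [0, 1, 6, 2, 7, 10, 3, 8, 4, 9, 11, 5, 18, 12, 14, 19, 15, 20, 13, 16, 21, 17, 22, 23]
def rhoHD4b : List ℕ := [3, 1, 0, 2]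
def rhoHInvD4b : List ℕ := [2, 1, 3, 0]
def gamD4b : List ℤ := [1, 1, 1, -1, -1, 1, -1, -1, 1, 1, 1, 1, 1, 1, 1, 1, -1, -1, 1, -1, -1, 1, 1, 1]
theorem checkD4b : checkSym chevD4 rhoD4b rhoInvD4b rhoHD4b rhoHInvD4b gamD4b = true := by decide +kernel
theorem check2D4b : check2 chevD4 (rhoOf rhoD4b) (gamOf gamD4b) rhoHD4b = true := by decide +kernel

/-- Graph automorphisms: for E₆ with ρ = (p₁ p₆)(p₃ p₅) and for D₄ with ρ the 3-cycle on the outer nodes there is a group automorphism sending `x_p(t) ↦ x_{ρ(p)}(t)` and `x_{-p}(t) ↦ x_{-ρ(p)}(t)` for every fundamental root `p`. -/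
theorem result {F : Type*} [Field F] (p : Cfsg.Lie.ChevalleyDatum × List ℕ)
    (hp : p ∈ [(Cfsg.Lie.chevE6, [5, 1, 4, 3, 2, 0]), (Cfsg.Lie.chevD4, [2, 1, 3, 0]), (Cfsg.Lie.chevD4, [3, 1, 0, 2])]) :
    ∃ α : ↥(p.1.group F) ≃* ↥(p.1.group F), ∀ (g : ↥(p.1.group F)) (i : ℕ) (t : F), i < p.1.rank →
      (((g : GL p.1.Idx F) : Matrix p.1.Idx p.1.Idx F) = p.1.x F (p.1.simple i) t →
        ((α g : GL p.1.Idx F) : Matrix p.1.Idx p.1.Idx F) = p.1.x F (p.1.simple (p.2.getD i 0)) t) ∧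
      (((g : GL p.1.Idx F) : Matrix p.1.Idx p.1.Idx F) = p.1.x F (p.1.neg (p.1.simple i)) t →
        ((α g : GL p.1.Idx F) : Matrix p.1.Idx p.1.Idx F) = p.1.x F (p.1.neg (p.1.simple (p.2.getD i 0))) t) := by
  simp only [List.mem_cons, List.not_mem_nil, or_false] at hp
  rcases hp with rfl | rfl | rfl
  · exact final _ _ _ _ _ _ checkE6 check2E6
  · exact final _ _ _ _ _ _ checkD4a check2D4a
  · exact final _ _ _ _ _ _ checkD4b check2D4b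

end Cfsg.Agent.S1081
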