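import Cfsg.Statements.S0218
import Mathlib

set_option autoImplicit false
open Cfsg

namespace Cfsg.Agent.S0218



/-- The generalized quaternion group of order 2^(n+3) contains exactly one element of order 2. -/
theorem result (n : ℕ) : Nat.card {x : QuaternionGroup (2 ^ (n + 1)) // orderOf x = 2} = 1 := by
  classical
  have hne : NeZero (2 * 2 ^ (n + 1)) := ⟨by positivity⟩
  set m : ℕ := 2 ^ (n + 1) with hm
  have hpos : 0 < m := by positivity
  set z : QuaternionGroup m := QuaternionGroup.a (m : ZMod (2 * m)) with hz
  have hval : ((m : ZMod (2 * m))).val = m := by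
    rw [ZMod.val_natCast, Nat.mod_eq_of_lt]
    omega
  have hzo : orderOf z = 2 := by
    apply orderOf_eq_prime
    · rw [hz, sq, QuaternionGroup.a_mul_a]
      rw [← two_mul, QuaternionGroup.one_def]
      congr 1
      have : ((2 * m : ℕ) : ZMod (2 * m)) = 0 := ZMod.natCast_self _
      push_cast at this
      exact this
    · intro h
      rw [hz, QuaternionGroup.one_def] at h
      have h1 : (m : ZMod (2 * m)) = 0 := QuaternionGroup.a.inj h
      have h2 := congrArg ZMod.val h1
      rw [hval, ZMod.val_zero] at h2
      omega
  have huniq : ∀ x : QuaternionGroup m, orderOf x = 2 → x = z := by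
    rintro (i | i) hx
    · have h1 : (QuaternionGroup.a i : QuaternionGroup m) ^ 2 = 1 := by
        rw [← hx, pow_orderOf_eq_one]
      rw [sq, QuaternionGroup.a_mul_a, QuaternionGroup.one_def] at h1
      have h2 : i + i = 0 := QuaternionGroup.a.inj h1
      have h3 : (((i.val + i.val : ℕ)) : ZMod (2 * m)) = 0 := by
        push_cast
        rw [ZMod.natCast_zmod_val, h2]
      rw [ZMod.natCast_eq_zero_iff] at h3
      have h4 : m ∣ i.val := by
        obtain ⟨c, hc⟩ := h3
        exact ⟨c, by nlinarith⟩
      have h5 : i.val < 2 * m := ZMod.val_lt i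
      obtain ⟨c, hc⟩ := h4
      have h6 : c < 2 := by
        by_contra hlt
        have : 2 ≤ c := by omega
        nlinarith
      interval_cases c
      · exfalso
        have : i = 0 := by
          apply ZMod.val_injective (2 * m)
          rw [ZMod.val_zero]
          omega
        rw [this, QuaternionGroup.a_zero, orderOf_one] at hx
        omega
      · rw [hz]
        congr 1
        apply ZMod.val_injective (2 * m)
        rw [hval]
        omega
    · rw [QuaternionGroup.orderOf_xa] at hx
      omega
  have : Unique {x : QuaternionGroup m // orderOf x = 2} :=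
    ⟨⟨⟨z, hzo⟩⟩, fun x => Subtype.ext (huniq x.1 x.2)⟩
  exact Nat.card_unique

end Cfsg.Agent.S0218
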