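import Cfsg.Statements.S4593
import Cfsg.Agent.Lib.ZStar.AbelianSylow

set_option autoImplicit false
open Cfsg

namespace Cfsg.Agent.S4593

open Subgroup in
private theorem conj_map {G : Type*} [Group G] (b : MulAut G) (g : G) :
    b * MulAut.conj g * b⁻¹ = MulAut.conj (b g) := by
  ext x
  simp [MulAut.mul_apply, MulAut.conj_apply, MulAut.inv_apply_self, MulAut.apply_inv_self]

open Subgroup in
private theorem conj_eq_iff {G : Type*} [Group G] (hZ : Subgroup.center G = ⊥) {a b : G}
    (h : MulAut.conj a = MulAut.conj b) : a = b := by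
  have hc : b⁻¹ * a ∈ Subgroup.center G := by
    rw [Subgroup.mem_center_iff]
    intro x
    have := DFunLike.congr_fun h x
    simp only [MulAut.conj_apply] at this
    have h2 : a * x = b * x * b⁻¹ * a := by
      rw [← this]; group
    calc x * (b⁻¹ * a) = b⁻¹ * (b * x * b⁻¹ * a) := by group
      _ = b⁻¹ * (a * x) := by rw [h2]
      _ = b⁻¹ * a * x := by group
  rw [hZ, Subgroup.mem_bot] at hc
  exact (inv_mul_eq_one.mp hc).symm


/-- Let G be a finite group with trivial centre and no nontrivial normal subgroup of odd order, whose Sylow 2-subgroups are abelian, and let P be a Sylow 2-subgroup. Every automorphism of G of 2-power order that fixes P elementwise is inner. -/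
theorem result {G : Type*} [Group G] [Finite G] (hZ : Subgroup.center G = ⊥) (hcore : Cfsg.pPrimeCore 2 G = ⊥) (P : Sylow 2 G) (hab : IsMulCommutative (P : Subgroup G))
    (α : MulAut G) (h2 : ∃ j : ℕ, orderOf α = 2 ^ j) (hfix : ∀ x ∈ (P : Subgroup G), α x = x) :
    ∃ g : G, ∀ x : G, α x = g * x * g⁻¹ := by
  classical
  haveI : Fact (Nat.Prime 2) := ⟨Nat.prime_two⟩
  obtain ⟨j, hj⟩ := h2
  let I : Subgroup (MulAut G) := (MulAut.conj : G →* MulAut G).range
  have hconjI : ∀ g : G, MulAut.conj g ∈ I := fun g => ⟨g, rfl⟩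
  haveI hIn : I.Normal := ⟨by
    rintro _ ⟨g, rfl⟩ b
    exact ⟨b g, (conj_map b g).symm⟩⟩
  let A : Subgroup (MulAut G) := I ⊔ Subgroup.zpowers α
  have hIA : I ≤ A := le_sup_left
  have hαA : α ∈ A := (le_sup_right : Subgroup.zpowers α ≤ A) (Subgroup.mem_zpowers α)
  -- the quotient computation
  let π : MulAut G →* MulAut G ⧸ I := QuotientGroup.mk' I
  have hπker : ∀ x, π x = 1 ↔ x ∈ I := fun x => by
    rw [← MonoidHom.mem_ker, QuotientGroup.ker_mk']
  have hform : ∀ x ∈ A, ∃ k : ℤ, π x = π α ^ k := by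
    intro x hx
    obtain ⟨i, hi, z, ⟨k, rfl⟩, rfl⟩ := Subgroup.mem_sup_of_normal_left.mp hx
    refine ⟨k, ?_⟩
    rw [map_mul, (hπker i).mpr hi, one_mul, map_zpow]
  have hαpow : α ^ (2 ^ j) = 1 := by rw [← hj]; exact pow_orderOf_eq_one α
  have hpowI : ∀ x ∈ A, x ^ (2 ^ j) ∈ I := by
    intro x hx
    obtain ⟨k, hk⟩ := hform x hx
    rw [← hπker, map_pow, hk, ← zpow_natCast, ← zpow_mul, mul_comm, zpow_mul, zpow_natCast,
      ← map_pow, hαpow, map_one, one_zpow]
  -- centre of `A`
  have hcenter : Subgroup.center A = ⊥ := by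
    rw [eq_bot_iff]
    rintro ⟨a, ha⟩ hac
    rw [Subgroup.mem_bot]
    apply Subtype.ext
    show a = 1
    ext g
    have h1 := (Subgroup.mem_center_iff.mp hac) ⟨MulAut.conj g, hIA (hconjI g)⟩
    have h2 : MulAut.conj g * a = a * MulAut.conj g := congrArg Subtype.val h1
    have h3 : MulAut.conj (a g) = MulAut.conj g := by
      rw [← conj_map, ← h2]
      simp
    simpa using conj_eq_iff hZ h3
  -- odd core of `A`
  have hcoreA : pPrimeCore 2 A = ⊥ := by
    rw [eq_bot_iff]
    set O := pPrimeCore 2 A with hO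
    haveI hOn : O.Normal := Cfsg.pPrimeCore_normal 2 A
    let O₀ : Subgroup G := (O.map A.subtype).comap (MulAut.conj : G →* MulAut G)
    have hO₀n : O₀.Normal := ⟨by
      intro n hn g
      obtain ⟨o, ho, ho'⟩ := hn
      refine ⟨(⟨MulAut.conj g, hIA (hconjI g)⟩ : A) * o * (⟨MulAut.conj g, hIA (hconjI g)⟩ : A)⁻¹,
        hOn.conj_mem _ ho _, ?_⟩
      simp only [Subgroup.coe_subtype, Subgroup.coe_mul, Subgroup.coe_inv] at ho' ⊢
      rw [ho']
      simp⟩
    have hord : ∀ x ∈ O₀, (orderOf x).Coprime 2 := by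
      rintro n hn
      obtain ⟨o, ho, ho'⟩ := hn
      have h1 : (orderOf o).Coprime 2 :=
        Cfsg.Agent.Lib.Core.Basic.orderOf_coprime_of_mem_pPrimeCore ho
      have h2 : orderOf n = orderOf (MulAut.conj n) := by
        refine (orderOf_injective (MulAut.conj : G →* MulAut G) ?_ n).symm
        intro a b hab'
        exact conj_eq_iff hZ hab'
      have h3 : orderOf o = orderOf (MulAut.conj n) := by
        rw [← ho']
        simp only [Subgroup.coe_subtype, Subgroup.orderOf_coe]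
      rw [h2, ← h3]
      exact h1
    have hO₀bot : O₀ ≤ pPrimeCore 2 G :=
      Cfsg.Agent.Lib.Core.Basic.le_pPrimeCore_of_orderOf hO₀n hord
    rw [hcore] at hO₀bot
    rintro ⟨a, haA⟩ ha
    have h1 : (orderOf (⟨a, haA⟩ : A)).Coprime 2 :=
      Cfsg.Agent.Lib.Core.Basic.orderOf_coprime_of_mem_pPrimeCore ha
    rw [Subgroup.orderOf_mk] at h1
    have h2 : (2 ^ j).Coprime (orderOf a) := Nat.Coprime.pow_left _ h1.symm
    obtain ⟨m, hm⟩ := exists_pow_eq_self_of_coprime h2
    have haI : a ∈ I := by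
      rw [← hm]
      exact pow_mem (hpowI a haA) m
    obtain ⟨g, rfl⟩ := haI
    have hg : g ∈ O₀ := ⟨⟨_, haA⟩, ha, rfl⟩
    have hg1 := hO₀bot hg
    rw [Subgroup.mem_bot] at hg1
    rw [Subgroup.mem_bot]
    apply Subtype.ext
    show MulAut.conj g = 1
    rw [hg1, map_one]
  -- a Sylow subgroup containing `α`
  let Phat : Subgroup (MulAut G) := (P : Subgroup G).map (MulAut.conj : G →* MulAut G)
  have hPhatp : IsPGroup 2 Phat := P.isPGroup'.map _
  have hαp : IsPGroup 2 (Subgroup.zpowers α) := by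
    apply IsPGroup.of_card (n := j)
    rw [Nat.card_zpowers, hj]
  have hcomm : ∀ x ∈ (P : Subgroup G), α * MulAut.conj x = MulAut.conj x * α := by
    intro x hx
    have := conj_map α x
    rw [hfix x hx] at this
    calc α * MulAut.conj x = (α * MulAut.conj x * α⁻¹) * α := by group
      _ = MulAut.conj x * α := by rw [this]
  have hle : Phat ≤ Subgroup.normalizer ((Subgroup.zpowers α : Subgroup (MulAut G)) : Set (MulAut G)) := by
    rintro _ ⟨x, hx, rfl⟩
    have hc : ∀ k : ℤ, MulAut.conj x * α ^ k * (MulAut.conj x)⁻¹ = α ^ k := by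
      intro k
      have : Commute (MulAut.conj x) α := (hcomm x hx).symm
      rw [(this.zpow_right k).eq]
      group
    rw [Subgroup.mem_normalizer_iff]
    intro t
    constructor
    · rintro ⟨k, rfl⟩
      simp only
      rw [hc k]
      exact ⟨k, rfl⟩
    · rintro ⟨k, hk⟩
      simp only at hk
      refine ⟨k, ?_⟩
      have h2 : MulAut.conj x * (α ^ k) * (MulAut.conj x)⁻¹
          = MulAut.conj x * t * (MulAut.conj x)⁻¹ := by
        rw [hc k, ← hk]
      exact mul_left_cancel (mul_right_cancel h2)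
  have hT₀ : IsPGroup 2 (Phat ⊔ Subgroup.zpowers α : Subgroup (MulAut G)) :=
    IsPGroup.to_sup_of_normal_right' hPhatp hαp hle
  have hT : IsPGroup 2 ((Phat ⊔ Subgroup.zpowers α).comap A.subtype) :=
    hT₀.comap_of_injective A.subtype A.subtype_injective
  obtain ⟨Q, hQ⟩ := hT.exists_le_sylow
  have hPhatQ : ∀ x ∈ (P : Subgroup G), (⟨MulAut.conj x, hIA (hconjI x)⟩ : A) ∈ (Q : Subgroup A) := by
    intro x hx
    apply hQ
    exact (le_sup_left : Phat ≤ Phat ⊔ Subgroup.zpowers α) ⟨x, hx, rfl⟩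
  have hαQ : (⟨α, hαA⟩ : A) ∈ (Q : Subgroup A) := by
    apply hQ
    exact (le_sup_right : Subgroup.zpowers α ≤ Phat ⊔ Subgroup.zpowers α) (Subgroup.mem_zpowers α)
  -- elements of `Q` from `I` come from `P`
  have hQI : ∀ g : G, ∀ h : MulAut.conj g ∈ A, (⟨MulAut.conj g, h⟩ : A) ∈ (Q : Subgroup A) →
      g ∈ (P : Subgroup G) := by
    intro g h hg
    let P₁ : Subgroup G := ((Q : Subgroup A).map A.subtype).comap (MulAut.conj : G →* MulAut G)
    have hP₁ : IsPGroup 2 P₁ := by
      refine ((Q.isPGroup'.map A.subtype).comap_of_injective _ ?_)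
      intro a b hab'
      exact conj_eq_iff hZ hab'
    have hle₁ : (P : Subgroup G) ≤ P₁ := by
      intro x hx
      exact ⟨_, hPhatQ x hx, rfl⟩
    have := P.is_maximal' hP₁ hle₁
    have hgP₁ : g ∈ P₁ := ⟨_, hg, rfl⟩
    rw [this] at hgP₁
    exact hgP₁
  -- every element of `Q` has the form `conj x * α ^ k`
  have hQform : ∀ q : A, q ∈ (Q : Subgroup A) → ∃ x ∈ (P : Subgroup G), ∃ k : ℤ,
      (q : MulAut G) = MulAut.conj x * α ^ k := by
    intro q hq
    obtain ⟨i, hi, z, ⟨k, rfl⟩, hiz⟩ := Subgroup.mem_sup_of_normal_left.mp q.2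
    obtain ⟨g, rfl⟩ := hi
    simp only at hiz
    have h1 : (⟨MulAut.conj g, hIA (hconjI g)⟩ : A) = q * (⟨α, hαA⟩ : A) ^ (-k) := by
      apply Subtype.ext
      simp [← hiz]
    refine ⟨g, hQI g (hIA (hconjI g)) ?_, k, hiz.symm⟩
    rw [h1]
    exact mul_mem hq (zpow_mem hαQ _)
  have hPcomm : ∀ x ∈ (P : Subgroup G), ∀ y ∈ (P : Subgroup G), x * y = y * x := by
    intro x hx y hy
    exact congrArg Subtype.val (hab.is_comm.comm ⟨x, hx⟩ ⟨y, hy⟩)
  have hQab : IsMulCommutative (Q : Subgroup A) := by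
    refine ⟨⟨?_⟩⟩
    rintro ⟨a, ha⟩ ⟨b, hb⟩
    obtain ⟨x, hx, k, hak⟩ := hQform a ha
    obtain ⟨y, hy, l, hbl⟩ := hQform b hb
    apply Subtype.ext
    apply Subtype.ext
    show (a : MulAut G) * b = b * a
    rw [hak, hbl]
    have c1 : Commute (MulAut.conj x) (MulAut.conj y) := by
      show MulAut.conj x * MulAut.conj y = MulAut.conj y * MulAut.conj x
      rw [← map_mul, ← map_mul, hPcomm x hx y hy]
    have c2 : Commute (MulAut.conj x) (α ^ l) :=
      (Commute.zpow_right (show Commute (MulAut.conj x) α from (hcomm x hx).symm) l)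
    have c3 : Commute (α ^ k) (MulAut.conj y) :=
      (Commute.zpow_left (show Commute α (MulAut.conj y) from hcomm y hy) k)
    have c4 : Commute (α ^ k) (α ^ l) := (Commute.refl α).zpow_zpow k l
    exact ((c1.mul_right c2).mul_left (c3.mul_right c4) : Commute _ _)
  have hmemc : (⟨α, hαA⟩ : A) ∈ commutator A :=
    Cfsg.Agent.Lib.ZStar.AbelianSylow.le_commutator hcenter hcoreA Q hQab hαQ
  have hcommI : commutator A ≤ I.comap A.subtype := by
    rw [commutator_eq_closure, Subgroup.closure_le]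
    rintro _ ⟨a, b, rfl⟩
    show (((a * b * a⁻¹ * b⁻¹ : A)) : MulAut G) ∈ I
    rw [← hπker]
    obtain ⟨k, hk⟩ := hform a a.2
    obtain ⟨l, hl⟩ := hform b b.2
    have c : Commute (π a) (π b) := by
      rw [hk, hl]
      exact (Commute.refl _).zpow_zpow k l
    have e : (((a * b * a⁻¹ * b⁻¹ : A)) : MulAut G)
        = (a : MulAut G) * b * (a : MulAut G)⁻¹ * (b : MulAut G)⁻¹ := rfl
    rw [e, map_mul, map_mul, map_mul, map_inv, map_inv, c.eq]
    group
  obtain ⟨g, hg⟩ := hcommI hmemc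
  refine ⟨g, fun x => ?_⟩
  have := DFunLike.congr_fun hg x
  simpa [MulAut.conj_apply] using this.symm

end Cfsg.Agent.S4593
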