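import Cfsg.Statements.S4637
import Cfsg.Agent.Lib.KleinBlock.Count

set_option autoImplicit false
open Cfsg

namespace Cfsg.Agent.S4637



/-- Let B be a block of the finite group G relative to a maximal ideal M of the algebraic integers containing 2, with a Klein four defect group P. Let c be a block of C_G(P) inducing B, T the stabilizer of c in N_G(P) and e the index of C_G(P) in T (the inertial index). Then e is 1 or 3, B contains exactly four irreducible characters, and the 2-regular rank of B (its number of irreducible Brauer characters) equals e. -/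
theorem result {G : Type*} [Group G] [Finite G] (M : Ideal Cfsg.AlgInt) (hM : Cfsg.IsPModular 2 M) (B : Set (Cfsg.IrrCharacter G)) (hB : Cfsg.IsPBlock M B) (P : Subgroup G) (hPD : Cfsg.IsDefectGroup 2 M B P) (hV : IsKleinFour P) (c : Set (Cfsg.IrrCharacter (Subgroup.centralizer (P : Set G)))) (hc : Cfsg.IsInducedBlock M (Subgroup.centralizer (P : Set G)) c B) (T : Subgroup G) (hT : ∀ g : G, g ∈ T ↔ (g ∈ Subgroup.normalizer (P : Set G) ∧ Cfsg.StabilizesBlock (Subgroup.centralizer (P : Set G)) c g)) (e : ℕ) (he : (Subgroup.centralizer (P : Set G)).relIndex T = e) : (e = 1 ∨ e = 3) ∧ Nat.card B = 4 ∧ Cfsg.blockRank 2 B = e := by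
  classical
  haveI : Fact (Nat.Prime 2) := ⟨Nat.prime_two⟩
  cases nonempty_fintype G
  haveI := Cfsg.Agent.Lib.Blocks.Local.isPrime_of_pModular hM
  have hcard : Nat.card P = 4 := hV.card_four
  have hexp : ∀ a ∈ P, a ^ 2 = 1 := by
    intro a ha
    have h := Monoid.pow_exponent_eq_one (⟨a, ha⟩ : P)
    rw [hV.exponent_two] at h
    exact congrArg Subtype.val h
  have hab : ∀ a ∈ P, ∀ b ∈ P, a * b = b * a := by
    intro a ha b hb
    have h := mul_comm_of_exponent_two hV.exponent_two (⟨a, ha⟩ : P) ⟨b, hb⟩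
    exact congrArg Subtype.val h
  have hPp : IsPGroup 2 P := Cfsg.Agent.Lib.Blocks.Defect2.isDefectGroup_isPGroup hPD
  have hpair := Cfsg.Agent.Lib.Contrib.Section.isBrauerPairOf_of_induced hM hPp hc
  have hmax := Cfsg.Agent.Lib.BlockH.MaxPair.isMaximal_of_isDefectGroup hM hpair hPD
  have hTe : T = Cfsg.Agent.Lib.BlockH.MaxPair.stabSub P c := Subgroup.ext fun g => hT g
  subst hTe
  have hodd := Cfsg.Agent.Lib.BlockH.CyclicDefect.not_dvd_relIndex_stab hM hmax hab
  have h4 := Cfsg.Agent.Lib.KleinBlock.Card.card_eq_four hM hB hPD hcard hab hexp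
  have hs := Cfsg.Agent.Lib.Blocks.SectionCount.section_count (p := 2) hM
    (Cfsg.Agent.Lib.Blocks.ClosedRank.isClosedB_of_isPBlock hB)
  have hm := Cfsg.Agent.Lib.KleinBlock.Count.mul_sum_eq hM hmax hPD hab hcard hexp hodd
  rw [he] at hm
  rw [h4] at hs
  have h5 : ((e * Nat.card G * 4 : ℕ) : ℂ) = ((e * Nat.card G * Cfsg.blockRank 2 B + 3 * Nat.card G : ℕ) : ℂ) := by
    have h6 := congrArg (fun z : ℂ => (e : ℂ) * z) hs
    beta_reduce at h6
    rw [mul_add, hm] at h6
    push_cast at h6 ⊢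
    linear_combination h6
  have h7 : e * Nat.card G * 4 = e * Nat.card G * Cfsg.blockRank 2 B + 3 * Nat.card G := by
    exact_mod_cast h5
  have hG : 0 < Nat.card G := Nat.card_pos
  have h8 : e * 4 = e * Cfsg.blockRank 2 B + 3 := by
    apply Nat.eq_of_mul_eq_mul_right hG
    linarith
  have hdvd : e ∣ 3 := (Nat.dvd_add_right (dvd_mul_right e (Cfsg.blockRank 2 B))).mp (h8 ▸ dvd_mul_right e 4)
  rcases (Nat.dvd_prime Nat.prime_three).mp hdvd with rfl | rfl
  · exact ⟨Or.inl rfl, h4, by omega⟩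
  · exact ⟨Or.inr rfl, h4, by omega⟩

end Cfsg.Agent.S4637
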