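import Mathlib
import Cfsg.Statements.S2119

set_option autoImplicit false
open Cfsg

namespace Cfsg.Agent.S2119

open Equiv Equiv.Perm

section Cyc

variable {α : Type*} [DecidableEq α]

/-- The 3-cycle `a ↦ b ↦ c ↦ a`. -/
def cyc (a b c : α) : Perm α := swap a b * swap b c

lemma cyc_isThreeCycle [Fintype α] {a b c : α} (hab : a ≠ b) (hac : a ≠ c) (hbc : b ≠ c) : (cyc a b c).IsThreeCycle := by
  unfold cyc
  rw [swap_comm a b]
  exact isThreeCycle_swap_mul_swap_same hab.symm hbc hac

lemma cyc_a {a b c : α} (hab : a ≠ b) (hac : a ≠ c) : cyc a b c a = b := by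
  simp [cyc, swap_apply_of_ne_of_ne hab hac]

lemma cyc_b {a b c : α} (hac : a ≠ c) (hbc : b ≠ c) : cyc a b c b = c := by
  simp [cyc, swap_apply_of_ne_of_ne hac.symm hbc.symm]

lemma cyc_c {a b c : α} : cyc a b c c = a := by
  simp [cyc]

lemma cyc_other {a b c x : α} (ha : x ≠ a) (hb : x ≠ b) (hc : x ≠ c) : cyc a b c x = x := by
  simp [cyc, swap_apply_of_ne_of_ne hb hc, swap_apply_of_ne_of_ne ha hb]

lemma cyc_conj (σ : Perm α) (a b c : α) : σ * cyc a b c * σ⁻¹ = cyc (σ a) (σ b) (σ c) := by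
  simp only [cyc, swap_apply_apply, mul_assoc, inv_mul_cancel_left]

lemma cyc_inv (a b c : α) : (cyc a b c)⁻¹ = cyc c b a := by
  simp only [cyc, mul_inv_rev, swap_inv, swap_comm]

/-- Every 3-cycle is `cyc a (x a) (x (x a))` for `a` in its support. -/
lemma eq_cyc [Fintype α] {x : Perm α} (hx : x.IsThreeCycle) {a : α} (ha : x a ≠ a) : x = cyc a (x a) (x (x a)) :=
  hx.eq_swap_mul_swap_iff_mem_support.mpr (Perm.mem_support.mpr ha)

lemma nodup_three [Fintype α] {x : Perm α} (hx : x.IsThreeCycle) {a : α} (ha : x a ≠ a) :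
    a ≠ x a ∧ a ≠ x (x a) ∧ x a ≠ x (x a) := by
  have h := hx.nodup_iff_mem_support.mpr (Perm.mem_support.mpr ha)
  simp only [List.nodup_cons, List.mem_cons, List.not_mem_nil, or_false, not_or, List.nodup_nil, and_true] at h
  exact ⟨h.1.1, h.1.2, h.2.1⟩

lemma cube [Fintype α] {x : Perm α} (hx : x.IsThreeCycle) (a : α) : x (x (x a)) = a := by
  have h : x ^ 3 = 1 := by rw [← hx.orderOf]; exact pow_orderOf_eq_one x
  have h2 := congrArg (fun f : Perm α => f a) h
  simpa [pow_succ] using h2

lemma cyc_rot [Fintype α] {a b c : α} (hab : a ≠ b) (hac : a ≠ c) (hbc : b ≠ c) : cyc a b c = cyc b c a := by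
  have h := cyc_isThreeCycle hab hac hbc
  have h1 : cyc a b c b ≠ b := by rw [cyc_b hac hbc]; exact hbc.symm
  have h2 := eq_cyc h h1
  rw [cyc_b hac hbc, cyc_c] at h2
  exact h2

/-- Support bound: a 3-cycle does not move four distinct points. -/
lemma no_four [Fintype α] {x : Perm α} (hx : x.IsThreeCycle) {a b c d : α} (ha : x a ≠ a) (hb : x b ≠ b) (hc : x c ≠ c)
    (hd : x d ≠ d) (hab : a ≠ b) (hac : a ≠ c) (had : a ≠ d) (hbc : b ≠ c) (hbd : b ≠ d) (hcd : c ≠ d) : False := by
  have h : ({a, b, c, d} : Finset α) ⊆ x.support := by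
    intro y hy
    simp only [Finset.mem_insert, Finset.mem_singleton] at hy
    rcases hy with rfl | rfl | rfl | rfl <;> exact Perm.mem_support.mpr ‹_›
  have h2 := Finset.card_le_card h
  rw [hx.card_support, Finset.card_eq_of_equiv_fin (n := 4)] at h2
  · omega
  · exact Finset.equivFinOfCardEq (by simp [hab, hac, had, hbc, hbd, hcd])

/-- Two 3-cycles with `x y x = y⁻¹`, `y ≠ x^{±1}`, share an oriented edge. -/
lemma shared_edge [Fintype α] {x y : Perm α} (hx : x.IsThreeCycle) (hy : y.IsThreeCycle) (hrel : x * y * x = y⁻¹)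
    (hne : y ≠ x) (hne' : y ≠ x⁻¹) : ∃ q, x q ≠ q ∧ y q = x q := by
  by_cases hcase : ∃ p, y p ≠ p ∧ x p = p
  · obtain ⟨p, hp, hxp⟩ := hcase
    refine ⟨y p, ?_, ?_⟩
    · have h1 : x (y p) = y⁻¹ p := by
        have := congrArg (fun f : Perm α => f p) hrel
        simpa [hxp] using this
      have h2 : y⁻¹ p = y (y p) := by
        rw [Perm.inv_eq_iff_eq]
        exact (cube hy p).symm
      rw [h1, h2]
      exact (nodup_three hy hp).2.2.symm
    · have h1 : x (y p) = y⁻¹ p := by
        have := congrArg (fun f : Perm α => f p) hrel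
        simpa [hxp] using this
      have h2 : y⁻¹ p = y (y p) := by
        rw [Perm.inv_eq_iff_eq]
        exact (cube hy p).symm
      rw [h1, h2]
  · push Not at hcase
    exfalso
    -- supports agree
    have hsub : y.support ⊆ x.support := by
      intro p hp
      rw [Perm.mem_support] at hp ⊢
      intro h
      exact hcase p hp h
    have hsup : y.support = x.support :=
      Finset.eq_of_subset_of_card_le hsub (by rw [hx.card_support, hy.card_support])
    -- a point of the support
    have hne1 : y.support.Nonempty := by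
      rw [← Finset.card_pos, hy.card_support]; norm_num
    obtain ⟨a, ha⟩ := hne1
    have hay : y a ≠ a := Perm.mem_support.mp ha
    have hax : x a ≠ a := Perm.mem_support.mp (hsup ▸ ha)
    have hxs := hx.support_eq_iff_mem_support.mpr (hsup ▸ ha)
    have h1 : y a ∈ x.support := by rw [← hsup]; exact Perm.apply_mem_support.mpr ha
    have h2 : y (y a) ∈ x.support := by rw [← hsup]; exact Perm.apply_mem_support.mpr (Perm.apply_mem_support.mpr ha)
    rw [hxs] at h1 h2
    simp only [Finset.mem_insert, Finset.mem_singleton] at h1 h2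
    have hnx := nodup_three hx hax
    have hny := nodup_three hy hay
    rcases h1 with h1 | h1 | h1
    · exact hay h1
    · -- y a = x a
      rcases h2 with h2 | h2 | h2
      · exact hny.2.1 h2.symm
      · exact hny.2.2 (h1.trans h2.symm)
      · apply hne
        rw [eq_cyc hy hay, eq_cyc hx hax, h2, h1]
    · -- y a = x (x a)
      rcases h2 with h2 | h2 | h2
      · exact hny.2.1 h2.symm
      · apply hne'
        have h3 : x⁻¹ a = x (x a) := by
          rw [Perm.inv_eq_iff_eq]
          exact (cube hx a).symm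
        have h4 : x⁻¹ (x (x a)) = x a := by simp
        have hinv3 : (x⁻¹).IsThreeCycle := hx.inv
        have hxa' : x⁻¹ a ≠ a := by
          rw [h3]; exact hnx.2.1.symm
        rw [eq_cyc hy hay, eq_cyc hinv3 hxa', h2, h1, h3, h4]
      · exact hny.2.2 (h1.trans h2.symm)

/-- All 3-cycles lie in a subgroup containing the `cyc z o i`. -/
lemma cyc_mem_of_gen {z o : α} (hzo : z ≠ o) (H : Subgroup (Perm α))
    (ht : ∀ i, i ≠ z → i ≠ o → cyc z o i ∈ H) [Fintype α] {a b c : α} (hab : a ≠ b) (hac : a ≠ c) (hbc : b ≠ c) :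
    cyc a b c ∈ H := by
  -- F2
  have F2 : ∀ i j, i ≠ z → i ≠ o → j ≠ z → j ≠ o → i ≠ j → cyc o i j ∈ H := by
    intro i j hiz hio hjz hjo hij
    have h := H.mul_mem (H.mul_mem (ht i hiz hio) (ht j hjz hjo)) (H.inv_mem (ht i hiz hio))
    rw [cyc_conj] at h
    rw [cyc_a hzo hiz.symm, cyc_b hiz.symm hio.symm, cyc_other hjz hjo (Ne.symm hij)] at h
    exact h
  -- F3
  have F3 : ∀ i j, i ≠ z → i ≠ o → j ≠ z → j ≠ o → i ≠ j → cyc z j i ∈ H := by
    intro i j hiz hio hjz hjo hij
    have h := H.mul_mem (H.mul_mem (H.inv_mem (ht i hiz hio)) (ht j hjz hjo)) (ht i hiz hio)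
    have h2 := cyc_conj (cyc z o i)⁻¹ z o j
    rw [inv_inv] at h2
    rw [h2] at h
    have e1 : (cyc z o i)⁻¹ z = i := by
      rw [Perm.inv_eq_iff_eq]; exact (cyc_c).symm
    have e2 : (cyc z o i)⁻¹ o = z := by
      rw [Perm.inv_eq_iff_eq]; exact (cyc_a hzo hiz.symm).symm
    have e3 : (cyc z o i)⁻¹ j = j := by
      rw [Perm.inv_eq_iff_eq]; exact (cyc_other hjz hjo (Ne.symm hij)).symm
    rw [e1, e2, e3] at h
    rw [cyc_rot hiz hij hjz.symm] at h
    exact h
  -- F4
  have F4 : ∀ i j k, i ≠ z → i ≠ o → j ≠ z → j ≠ o → k ≠ z → k ≠ o → i ≠ j → i ≠ k → j ≠ k → cyc i j k ∈ H := by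
    intro i j k hiz hio hjz hjo hkz hko hij hik hjk
    have h := H.mul_mem (H.mul_mem (ht i hiz hio) (F2 j k hjz hjo hkz hko hjk)) (H.inv_mem (ht i hiz hio))
    rw [cyc_conj, cyc_b hiz.symm hio.symm, cyc_other hjz hjo (Ne.symm hij), cyc_other hkz hko (Ne.symm hik)] at h
    exact h
  -- the form with first entry `z`
  have Gz : ∀ b c, b ≠ c → z ≠ b → z ≠ c → cyc z b c ∈ H := by
    intro b c hbc hzb hzc
    by_cases hbo : b = o
    · subst hbo
      exact ht c (Ne.symm hzc) (Ne.symm hbc)
    · by_cases hco : c = o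
      · subst hco
        have h := H.inv_mem (ht b (Ne.symm hzb) hbo)
        rw [cyc_inv] at h
        rw [cyc_rot hzb hzc hbc]
        exact h
      · exact F3 c b (Ne.symm hzc) hco (Ne.symm hzb) hbo (Ne.symm hbc)
  -- now case analysis
  by_cases haz : a = z
  · subst haz; exact Gz b c hbc hab hac
  by_cases hbz : b = z
  · subst hbz
    rw [cyc_rot hab hac hbc]
    exact Gz c a (Ne.symm hac) hbc (Ne.symm hab)
  by_cases hcz : c = z
  · subst hcz
    rw [← cyc_rot (a := c) (b := a) (c := b) (Ne.symm hac) (Ne.symm hbc) hab]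
    exact Gz a b hab (Ne.symm hac) (Ne.symm hbc)
  by_cases hao : a = o
  · subst hao; exact F2 b c hbz (Ne.symm hab) hcz (Ne.symm hac) hbc
  by_cases hbo : b = o
  · subst hbo
    rw [cyc_rot hab hac hbc]
    exact F2 c a hcz (Ne.symm hbc) haz hab (Ne.symm hac)
  by_cases hco : c = o
  · subst hco
    rw [← cyc_rot (a := c) (b := a) (c := b) (Ne.symm hac) (Ne.symm hbc) hab]
    exact F2 a b haz hac hbz hbc hab
  exact F4 a b c haz hao hbz hbo hcz hco hab hac hbc

/-- A third 3-cycle sharing edges with two distinct 3-cycles through a common edge contains that edge. -/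
lemma third_edge [Fintype α] {x y w : Perm α} (hx : x.IsThreeCycle) (hy : y.IsThreeCycle) (hw : w.IsThreeCycle)
    {q : α} (hq : x q ≠ q) (hqy : y q = x q) (hxy : x ≠ y)
    (hxw : ∃ u, x u ≠ u ∧ w u = x u) (hyw : ∃ v, y v ≠ v ∧ w v = y v) : w q = x q := by
  have hq' : y q ≠ q := by rw [hqy]; exact hq
  have hnx := nodup_three hx hq
  have hny := nodup_three hy hq'
  rw [hqy] at hny
  have hsp : x (x q) ≠ y (x q) := by
    intro h
    apply hxy
    rw [eq_cyc hx hq, eq_cyc hy hq', hqy, h]
  have hsuppx := hx.support_eq_iff_mem_support.mpr (Perm.mem_support.mpr hq)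
  have hsuppy := hy.support_eq_iff_mem_support.mpr (Perm.mem_support.mpr hq')
  rw [hqy] at hsuppy
  obtain ⟨u, hu, hwu⟩ := hxw
  obtain ⟨v, hv, hwv⟩ := hyw
  have humem : u ∈ x.support := Perm.mem_support.mpr hu
  have hvmem : v ∈ y.support := Perm.mem_support.mpr hv
  rw [hsuppx] at humem
  rw [hsuppy] at hvmem
  simp only [Finset.mem_insert, Finset.mem_singleton] at humem hvmem
  have hmoved : ∀ a b, w a = b → a ≠ b → w a ≠ a ∧ w b ≠ b := by
    intro a b hab hne
    refine ⟨by rw [hab]; exact hne.symm, ?_⟩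
    intro h
    apply hne
    apply w.injective
    rw [hab, h]
  have hcube1 := cube hx q
  have hcube2 := cube hy q
  rw [hqy] at hcube2
  rcases humem with rfl | rfl | rfl
  · exact hwu
  · -- u = x q
    rcases hvmem with rfl | rfl | rfl
    · rw [hwv, hqy]
    · exact absurd (hwu.symm.trans hwv) hsp
    · -- w (x q) = x (x q), w (y (x q)) = q
      rw [hcube2] at hwv
      exfalso
      obtain ⟨h1, h2⟩ := hmoved _ _ hwu hnx.2.2
      obtain ⟨h3, h4⟩ := hmoved _ _ hwv hny.2.1.symm
      exact no_four hw h1 h2 h3 h4 hnx.2.2 hny.2.2 hnx.1.symm hsp hnx.2.1.symm hny.2.1.symm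
  · -- u = x (x q)
    rw [hcube1] at hwu
    rcases hvmem with rfl | rfl | rfl
    · rw [hwv, hqy]
    · -- w (x (x q)) = q, w (x q) = y (x q)
      exfalso
      obtain ⟨h1, h2⟩ := hmoved _ _ hwu hnx.2.1.symm
      obtain ⟨h3, h4⟩ := hmoved _ _ hwv hny.2.2
      exact no_four hw h1 h2 h3 h4 hnx.2.1.symm hnx.2.2.symm hsp hnx.1 hny.2.1 hny.2.2
    · -- both map to q
      rw [hcube2] at hwv
      exact absurd (w.injective (hwu.trans hwv.symm)) hsp

lemma cyc_rel {z o i j : α} (hzo : z ≠ o) (hiz : i ≠ z) (hio : i ≠ o) (hjz : j ≠ z) (hjo : j ≠ o) (hij : i ≠ j) :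
    cyc z o i * cyc z o j * cyc z o i = (cyc z o j)⁻¹ := by
  rw [eq_inv_iff_mul_eq_one]
  ext x
  simp only [Perm.coe_mul, Function.comp_apply, Perm.coe_one, id_eq]
  have A1 : cyc z o i z = o := cyc_a hzo hiz.symm
  have A2 : cyc z o i o = i := cyc_b hiz.symm hio.symm
  have A3 : cyc z o i i = z := cyc_c
  have A4 : cyc z o i j = j := cyc_other hjz hjo (Ne.symm hij)
  have B1 : cyc z o j z = o := cyc_a hzo hjz.symm
  have B2 : cyc z o j o = j := cyc_b hjz.symm hjo.symm
  have B3 : cyc z o j j = z := cyc_c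
  have B4 : cyc z o j i = i := cyc_other hiz hio hij
  by_cases hxz : x = z
  · subst hxz
    rw [B1, A2, B4, A3]
  by_cases hxo : x = o
  · subst hxo
    rw [B2, A4, B3, A1]
  by_cases hxi : x = i
  · subst hxi
    rw [B4, A3, B1, A2]
  by_cases hxj : x = j
  · subst hxj
    rw [B3, A1, B2, A4]
  have C1 : cyc z o j x = x := cyc_other hxz hxo hxj
  have C2 : cyc z o i x = x := cyc_other hxz hxo hxi
  rw [C1, C2, C1, C2]

end Cyc

section Arith

open Nat

lemma arith_aux (k : ℕ) (hk : 3 ≤ k) : 3 ^ k * k ! < 3 * (3 * k - 3)! := by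
  induction k, hk using Nat.le_induction with
  | base => decide
  | succ k hk ih =>
    have h1 : 3 * (k + 1) - 3 = (3 * k - 3) + 3 := by omega
    rw [h1, Nat.factorial_succ k, pow_succ]
    have h2 : ((3 * k - 3) + 3)! = ((3 * k - 3) + 3) * ((3 * k - 3) + 2) * ((3 * k - 3) + 1) * (3 * k - 3)! := by
      simp [Nat.factorial_succ]; ring
    rw [h2]
    have h3 : 3 * (k + 1) ≤ ((3 * k - 3) + 3) * ((3 * k - 3) + 2) * ((3 * k - 3) + 1) := by
      obtain ⟨m, rfl⟩ : ∃ m, k = m + 3 := ⟨k - 3, by omega⟩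
      have : 3 * (m + 3) - 3 = 3 * m + 6 := by omega
      rw [this]
      have h9 : (3 * m + 6 + 3) * 8 * 7 ≤ (3 * m + 6 + 3) * (3 * m + 6 + 2) * (3 * m + 6 + 1) :=
        Nat.mul_le_mul (Nat.mul_le_mul le_rfl (by omega)) (by omega)
      omega
    calc 3 ^ k * 3 * ((k + 1) * k !) = 3 * (k + 1) * (3 ^ k * k !) := by ring
      _ < 3 * (k + 1) * (3 * (3 * k - 3)!) := by
          apply Nat.mul_lt_mul_of_pos_left ih
          omega
      _ ≤ ((3 * k - 3) + 3) * ((3 * k - 3) + 2) * ((3 * k - 3) + 1) * (3 * (3 * k - 3)!) :=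
          Nat.mul_le_mul_right _ h3
      _ = _ := by ring

lemma arith (n K : ℕ) (hK : 2 ≤ K) (h3 : 3 * K ≤ n) (hn : 7 ≤ n) :
    3 ^ K * K ! * (n - 3 * K)! < 3 * (n - 3)! := by
  rcases Nat.eq_or_lt_of_le hK with rfl | hK3
  · obtain ⟨m, rfl⟩ : ∃ m, n = m + 7 := ⟨n - 7, by omega⟩
    have h1 : m + 7 - 3 * 2 = m + 1 := by omega
    have h2 : m + 7 - 3 = (m + 1) + 3 := by omega
    rw [h1, h2]
    have h4 : ((m + 1) + 3)! = (m + 4) * (m + 3) * (m + 2) * (m + 1)! := by
      simp [Nat.factorial_succ]; ring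
    rw [h4]
    have h5 : 0 < (m + 1)! := Nat.factorial_pos _
    have h6 : 4 * 3 * 2 ≤ (m + 4) * (m + 3) * (m + 2) :=
      Nat.mul_le_mul (Nat.mul_le_mul (by omega) (by omega)) (by omega)
    calc 3 ^ 2 * 2 ! * (m + 1)! = 18 * (m + 1)! := by norm_num [Nat.factorial]
      _ < 72 * (m + 1)! := by omega
      _ ≤ (3 * ((m + 4) * (m + 3) * (m + 2))) * (m + 1)! := by
          apply Nat.mul_le_mul_right
          omega
      _ = _ := by ring
  · have h1 := arith_aux K (by omega)
    have h2 : (3 * K - 3)! * (n - 3 * K)! ≤ (n - 3)! := by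
      have h3' : (3 * K - 3) + (n - 3 * K) = n - 3 := by omega
      rw [← h3']
      exact Nat.le_of_dvd (Nat.factorial_pos _) (Nat.factorial_mul_factorial_dvd_factorial_add _ _)
    have h5 : 0 < (n - 3 * K)! := Nat.factorial_pos _
    calc 3 ^ K * K ! * (n - 3 * K)! < 3 * (3 * K - 3)! * (n - 3 * K)! := Nat.mul_lt_mul_of_pos_right h1 h5
      _ = 3 * ((3 * K - 3)! * (n - 3 * K)!) := by ring
      _ ≤ 3 * (n - 3)! := Nat.mul_le_mul_left _ h2

end Arith

section Main

open Nat

variable {n : ℕ}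

lemma card_cent (g : alternatingGroup (Fin n))
    (h : ¬ Subgroup.centralizer {(g : Perm (Fin n))} ≤ alternatingGroup (Fin n)) :
    2 * Nat.card (Subgroup.centralizer {g}) = Nat.card (Subgroup.centralizer {(g : Perm (Fin n))}) := by
  classical
  let C := Subgroup.centralizer {(g : Perm (Fin n))}
  let s : C →* ℤˣ := (sign : Perm (Fin n) →* ℤˣ).comp C.subtype
  have h1 := Subgroup.card_mul_index s.ker
  rw [Subgroup.index_ker] at h1
  have hr : Nat.card s.range = 2 := by
    have hrt : s.range = ⊤ := by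
      rw [eq_top_iff]
      intro u _
      obtain ⟨c, hc, hc2⟩ := Set.not_subset.mp h
      have hsc : sign c = -1 := by
        rcases Int.units_eq_one_or (sign c) with h3 | h3
        · exact absurd (mem_alternatingGroup.mpr h3) hc2
        · exact h3
      rcases Int.units_eq_one_or u with rfl | rfl
      · exact one_mem _
      · exact ⟨⟨c, hc⟩, hsc⟩
    rw [hrt]
    simp
  rw [hr] at h1
  have h2 : Nat.card s.ker = Nat.card (Subgroup.centralizer {g}) := by
    apply Nat.card_congr
    refine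
      { toFun := fun x => ⟨⟨x.1.1, mem_alternatingGroup.mpr x.2⟩, ?_⟩
        invFun := fun y => ⟨⟨y.1.1, ?_⟩, ?_⟩
        left_inv := fun x => rfl
        right_inv := fun y => rfl }
    · have hx := x.1.2
      rw [Subgroup.mem_centralizer_singleton_iff] at hx ⊢
      exact Subtype.ext hx
    · have hy := y.2
      rw [Subgroup.mem_centralizer_singleton_iff] at hy ⊢
      exact congrArg Subtype.val hy
    · exact mem_alternatingGroup.mp y.1.2
  rw [← h2, mul_comm]
  exact h1

/-- Automorphisms of `A_n` preserve 3-cycles when `n ≠ 6`. -/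
lemma three_preserved (h6 : n ≠ 6) (ff : MulAut (alternatingGroup (Fin n))) (g : alternatingGroup (Fin n))
    (hg : (g : Perm (Fin n)).IsThreeCycle) : ((ff g : alternatingGroup (Fin n)) : Perm (Fin n)).IsThreeCycle := by
  classical
  set y := ff g with hy
  have hord : orderOf (y : Perm (Fin n)) = 3 := by
    rw [Subgroup.orderOf_coe, hy, MulEquiv.orderOf_eq, ← Subgroup.orderOf_coe, hg.orderOf]
  obtain ⟨k, hk⟩ := cycleType_prime_order (σ := (y : Perm (Fin n))) (by rw [hord]; norm_num)
  rw [hord] at hk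
  by_cases hk0 : k = 0
  · subst hk0
    show (y : Perm (Fin n)).cycleType = {3}
    rw [hk]
    rfl
  exfalso
  have hsum : 3 * (k + 1) ≤ n := by
    have h1 := sum_cycleType (y : Perm (Fin n))
    have h2 := Finset.card_le_univ (y : Perm (Fin n)).support
    rw [hk] at h1
    simp only [Multiset.sum_replicate, smul_eq_mul, Fintype.card_fin] at h1 h2
    rw [mul_comm] at h1
    omega
  have hn7 : 7 ≤ n := by omega
  -- centralizers
  have hcg : ¬ Subgroup.centralizer {(g : Perm (Fin n))} ≤ alternatingGroup (Fin n) := by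
    rw [centralizer_le_alternating_iff]
    rintro ⟨_, h2, _⟩
    rw [hg.cycleType] at h2
    simp at h2
    omega
  have hcy : ¬ Subgroup.centralizer {(y : Perm (Fin n))} ≤ alternatingGroup (Fin n) := by
    rw [centralizer_le_alternating_iff]
    rintro ⟨_, _, h3⟩
    have := h3 3
    rw [hk, Multiset.count_replicate_self] at this
    omega
  have hcard : Nat.card (Subgroup.centralizer {g}) = Nat.card (Subgroup.centralizer {y}) := by
    apply Nat.card_congr
    refine Equiv.subtypeEquiv ff.toEquiv ?_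
    intro a
    rw [Subgroup.mem_centralizer_singleton_iff, Subgroup.mem_centralizer_singleton_iff, hy]
    constructor
    · intro h
      have := congrArg ff h
      simpa using this
    · intro h
      apply ff.injective
      simpa using h
  have h1 := card_cent g hcg
  have h2 := card_cent y hcy
  rw [hcard, h2] at h1
  have hfin : (Multiset.replicate (k + 1) 3).toFinset = {3} := by
    rw [Multiset.toFinset_replicate]
    simp
  have hyc : Nat.card (Subgroup.centralizer {(y : Perm (Fin n))}) = (n - 3 * (k + 1))! * 3 ^ (k + 1) * (k + 1)! := by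
    rw [nat_card_centralizer, hk]
    simp only [Multiset.sum_replicate, Multiset.prod_replicate, hfin, Finset.prod_singleton,
      Multiset.count_replicate_self, Fintype.card_fin, smul_eq_mul]
    rw [mul_comm (k + 1) 3]
  have hgc : Nat.card (Subgroup.centralizer {(g : Perm (Fin n))}) = (n - 3)! * 3 := by
    rw [nat_card_centralizer, hg.cycleType]
    simp
  rw [hyc, hgc] at h1
  have h3 := h1
  have h4 := arith n (k + 1) (by omega) hsum hn7
  have h5 : 3 ^ (k + 1) * (k + 1)! * (n - 3 * (k + 1))! = 3 * (n - 3)! := by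
    rw [mul_comm 3 ((n - 3)!), ← h3]
    ring
  omega

/-- Every automorphism is conjugation by a permutation. -/
theorem surj (hn : 4 ≤ n) (h6 : n ≠ 6) (ff : MulAut (alternatingGroup (Fin n))) :
    ∃ σ : Perm (Fin n), MulAut.conjNormal σ = ff := by
  classical
  let z : Fin n := ⟨0, by omega⟩
  let o : Fin n := ⟨1, by omega⟩
  have hzo : z ≠ o := by simp [z, o, Fin.ext_iff]
  let I := {i : Fin n // i ≠ z ∧ i ≠ o}
  let T : I → alternatingGroup (Fin n) := fun i =>
    ⟨cyc z o i.1, (cyc_isThreeCycle hzo i.2.1.symm i.2.2.symm).mem_alternatingGroup⟩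
  let x : I → Perm (Fin n) := fun i => (ff (T i) : alternatingGroup (Fin n))
  have hx3 : ∀ i, (x i).IsThreeCycle := fun i =>
    three_preserved h6 ff (T i) (cyc_isThreeCycle hzo i.2.1.symm i.2.2.symm)
  have hT : ∀ i j, i ≠ j → T i * T j * T i = (T j)⁻¹ := fun i j hij =>
    Subtype.ext (cyc_rel hzo i.2.1 i.2.2 j.2.1 j.2.2 (fun h => hij (Subtype.ext h)))
  have hrel : ∀ i j, i ≠ j → x i * x j * x i = (x j)⁻¹ := by
    intro i j hij
    have := congrArg ff (hT i j hij)
    simp only [map_mul, map_inv] at this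
    exact congrArg Subtype.val this
  have hxne : ∀ i j, i ≠ j → x j ≠ x i ∧ x j ≠ (x i)⁻¹ := by
    intro i j hij
    constructor
    · intro h
      have h1 : T j = T i := ff.injective (Subtype.ext h)
      have h2 : (T j : Perm (Fin n)) o = (T i : Perm (Fin n)) o := by rw [h1]
      have e1 : (T j : Perm (Fin n)) o = j.1 := cyc_b j.2.1.symm j.2.2.symm
      have e2 : (T i : Perm (Fin n)) o = i.1 := cyc_b i.2.1.symm i.2.2.symm
      rw [e1, e2] at h2
      exact hij (Subtype.ext h2.symm)
    · intro h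
      have h1 : T j = (T i)⁻¹ := by
        apply ff.injective
        apply Subtype.ext
        rw [map_inv]
        exact h
      have h2 : (T j : Perm (Fin n)) z = ((T i)⁻¹ : alternatingGroup (Fin n)).1 z := by rw [h1]
      have e1 : (T j : Perm (Fin n)) z = o := cyc_a hzo j.2.1.symm
      have e2 : ((T i)⁻¹ : alternatingGroup (Fin n)).1 z = i.1 := by
        show (cyc z o i.1)⁻¹ z = i.1
        rw [Perm.inv_eq_iff_eq]
        exact (cyc_c).symm
      rw [e1, e2] at h2
      exact i.2.2 h2.symm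
  let i₂ : I := ⟨⟨2, by omega⟩, by simp [z, Fin.ext_iff], by simp [o, Fin.ext_iff]⟩
  let i₃ : I := ⟨⟨3, by omega⟩, by simp [z, Fin.ext_iff], by simp [o, Fin.ext_iff]⟩
  have h23 : i₂ ≠ i₃ := by
    intro h
    have := congrArg (fun i : I => i.1.val) h
    simp [i₂, i₃] at this
  -- the common edge
  have hshare : ∀ i j, i ≠ j → ∃ q, x i q ≠ q ∧ x j q = x i q := fun i j hij =>
    shared_edge (hx3 i) (hx3 j) (hrel i j hij) (hxne i j hij).1 (hxne i j hij).2
  obtain ⟨q, hq1, hq2⟩ := hshare i₂ i₃ h23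
  set r := x i₂ q with hr
  have hall : ∀ i, x i q = r := by
    intro i
    by_cases hi2 : i = i₂
    · rw [hi2]
    by_cases hi3 : i = i₃
    · rw [hi3, hq2]
    · have hxy : x i₂ ≠ x i₃ := (hxne i₃ i₂ (Ne.symm h23)).1
      obtain ⟨u, hu1, hu2⟩ := hshare i₂ i (Ne.symm hi2)
      obtain ⟨v, hv1, hv2⟩ := hshare i₃ i (Ne.symm hi3)
      exact third_edge (hx3 i₂) (hx3 i₃) (hx3 i) hq1 hq2 hxy ⟨u, hu1, hu2⟩ ⟨v, hv1, hv2⟩
  have hqr : q ≠ r := hq1.symm
  have hxq : ∀ i, x i q ≠ q := fun i => by rw [hall i]; exact hq1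
  have hnod : ∀ i, q ≠ r ∧ q ≠ x i r ∧ r ≠ x i r := by
    intro i
    have := nodup_three (hx3 i) (hxq i)
    rw [hall i] at this
    exact this
  have hxform : ∀ i, x i = cyc q r (x i r) := by
    intro i
    have := eq_cyc (hx3 i) (hxq i)
    rw [hall i] at this
    exact this
  -- the permutation
  let π : Fin n → Fin n := fun i =>
    if hi : i ≠ z ∧ i ≠ o then x ⟨i, hi⟩ r else if i = z then q else r
  have hπz : π z = q := by simp [π]
  have hπo : π o = r := by
    have h1 : o ≠ z := hzo.symm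
    simp [π, h1]
  have hπi : ∀ i : I, π i.1 = x i r := by
    intro i
    simp only [π]
    rw [dif_pos i.2]
  have hπinj : Function.Injective π := by
    have key : ∀ i : I, π i.1 ≠ q ∧ π i.1 ≠ r := by
      intro i
      rw [hπi]
      exact ⟨(hnod i).2.1.symm, (hnod i).2.2.symm⟩
    intro a b hab
    by_cases haz : a = z
    · by_cases hbz : b = z
      · rw [haz, hbz]
      · by_cases hbo : b = o
        · rw [haz, hbo, hπz, hπo] at hab
          exact absurd hab hqr
        · rw [haz, hπz] at hab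
          exact absurd hab.symm (key ⟨b, hbz, hbo⟩).1
    · by_cases hao : a = o
      · by_cases hbz : b = z
        · rw [hao, hbz, hπz, hπo] at hab
          exact absurd hab.symm hqr
        · by_cases hbo : b = o
          · rw [hao, hbo]
          · rw [hao, hπo] at hab
            exact absurd hab.symm (key ⟨b, hbz, hbo⟩).2
      · by_cases hbz : b = z
        · rw [hbz, hπz] at hab
          exact absurd hab (key ⟨a, haz, hao⟩).1
        · by_cases hbo : b = o
          · rw [hbo, hπo] at hab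
            exact absurd hab (key ⟨a, haz, hao⟩).2
          · have h1 := hπi ⟨a, haz, hao⟩
            have h2 := hπi ⟨b, hbz, hbo⟩
            simp only at h1 h2
            rw [h1, h2] at hab
            have h3 : x ⟨a, haz, hao⟩ = x ⟨b, hbz, hbo⟩ := by
              rw [hxform ⟨a, haz, hao⟩, hxform ⟨b, hbz, hbo⟩, hab]
            by_contra hne
            exact (hxne ⟨b, hbz, hbo⟩ ⟨a, haz, hao⟩ (fun h => hne (congrArg (fun i : I => i.1) h).symm)).1 h3
  let σ : Perm (Fin n) := Equiv.ofBijective π (Finite.injective_iff_bijective.mp hπinj)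
  have hσ : ∀ a, σ a = π a := fun a => rfl
  refine ⟨σ, ?_⟩
  -- the equalizer
  let E : Subgroup (alternatingGroup (Fin n)) :=
    MonoidHom.eqLocus (ff.toMonoidHom) ((MulAut.conjNormal σ : MulAut (alternatingGroup (Fin n))).toMonoidHom)
  have hEmem : ∀ g : alternatingGroup (Fin n), g ∈ E ↔ ff g = (MulAut.conjNormal σ : MulAut (alternatingGroup (Fin n))) g := by
    intro g
    rfl
  have hTE : ∀ i, T i ∈ E := by
    intro i
    rw [hEmem]
    apply Subtype.ext
    rw [MulAut.conjNormal_apply]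
    show x i = σ * cyc z o i.1 * σ⁻¹
    rw [cyc_conj, hσ, hσ, hσ, hπz, hπo, hπi]
    exact hxform i
  have hH : ∀ a b c : Fin n, a ≠ b → a ≠ c → b ≠ c → cyc a b c ∈ E.map (alternatingGroup (Fin n)).subtype := by
    intro a b c hab hac hbc
    refine cyc_mem_of_gen hzo _ ?_ hab hac hbc
    intro i hiz hio
    exact ⟨T ⟨i, hiz, hio⟩, hTE _, rfl⟩
  have hEtop : E = ⊤ := by
    rw [eq_top_iff, ← alternatingGroup.closure_isThreeCycles_eq_top, Subgroup.closure_le]
    intro g hg
    have hg3 : (g : Perm (Fin n)).IsThreeCycle := hg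
    have hne : (g : Perm (Fin n)).support.Nonempty := by
      rw [← Finset.card_pos, hg3.card_support]; norm_num
    obtain ⟨a, ha⟩ := hne
    have ha' := Perm.mem_support.mp ha
    have hn3 := nodup_three hg3 ha'
    have h1 := hH a _ _ hn3.1 hn3.2.1 hn3.2.2
    rw [← eq_cyc hg3 ha'] at h1
    obtain ⟨e, he, he2⟩ := h1
    have : e = g := Subtype.ext he2
    rw [← this]
    exact he
  ext g
  have : g ∈ E := by rw [hEtop]; trivial
  rw [(hEmem g).mp this]

theorem inj (hn : 4 ≤ n) : Function.Injective (MulAut.conjNormal : Perm (Fin n) →* MulAut (alternatingGroup (Fin n))) := by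
  classical
  rw [injective_iff_map_eq_one]
  intro s hs
  by_contra hne
  obtain ⟨a, ha⟩ : ∃ a, s a ≠ a := by
    by_contra hcon
    push Not at hcon
    exact hne (Equiv.ext hcon)
  -- two further points
  have hcard : 1 < (Finset.univ.erase a |>.erase (s a)).card := by
    rw [Finset.card_erase_of_mem, Finset.card_erase_of_mem (Finset.mem_univ a)]
    · simp only [Finset.card_univ, Fintype.card_fin]
      omega
    · exact Finset.mem_erase.mpr ⟨ha, Finset.mem_univ _⟩
  obtain ⟨c, hc, d, hd, hcd⟩ := Finset.one_lt_card.mp hcard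
  simp only [Finset.mem_erase, Finset.mem_univ, and_true] at hc hd
  have hac : a ≠ c := Ne.symm hc.2
  have had : a ≠ d := Ne.symm hd.2
  have hbc : s a ≠ c := Ne.symm hc.1
  have hbd : s a ≠ d := Ne.symm hd.1
  let t : alternatingGroup (Fin n) := ⟨cyc a c d, (cyc_isThreeCycle hac had hcd).mem_alternatingGroup⟩
  have h1 : (MulAut.conjNormal s : MulAut (alternatingGroup (Fin n))) t = t := by rw [hs]; rfl
  have h2 := congrArg Subtype.val h1
  rw [MulAut.conjNormal_apply] at h2
  have h3 : s * cyc a c d = cyc a c d * s := by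
    have h4 : s * cyc a c d * s⁻¹ = cyc a c d := h2
    exact mul_inv_eq_iff_eq_mul.mp h4
  have h5 := congrArg (fun f : Perm (Fin n) => f a) h3
  simp only [Perm.coe_mul, Function.comp_apply] at h5
  rw [cyc_a hac had, cyc_other ha hbc hbd] at h5
  exact hc.2 (s.injective h5)

end Main

/-- The statement. -/
theorem result (n : ℕ) (hn : 4 ≤ n) (h6 : n ≠ 6) : Function.Bijective (MulAut.conjNormal : Equiv.Perm (Fin n) →* MulAut ↥(alternatingGroup (Fin n))) :=
  ⟨inj hn, fun ff => surj hn h6 ff⟩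

end Cfsg.Agent.S2119
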