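import Cfsg.Statements.S2845
import Cfsg.Agent.Lib.LocalStruct.Large2

set_option autoImplicit false
open Cfsg

namespace Cfsg.Agent.S2845

open Cfsg.Agent.Lib.LocalStruct.Basic Cfsg.Agent.Lib.LocalStruct.Comm Cfsg.Agent.Lib.LocalStruct.WeakClosed Cfsg.Agent.Lib.LocalStruct.PCoreOf Cfsg.Agent.Lib.LocalStruct.Large Cfsg.Agent.Lib.LocalStruct.Large2 Subgroup
open scoped commutatorElement

/-- Let Q be a nontrivial large p-subgroup of the finite group H. Then for every subgroup L ≥ Q with O_p(L) ≠ 1, C_H(O_p(L)) is a p-group and L has characteristic p, and either the weak closure L° of Q in L equals Q or C_H(L°) = 1; for every subgroup R of H containing a Sylow p-subgroup of H with O_p(R) ≠ 1, C_H(O_p(R)) ≤ O_p(R); and H has parabolic characteristic p. -/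
theorem result {H : Type*} [Group H] [Finite H] {p : ℕ} [Fact p.Prime] (Q : Subgroup H) (hQp : IsPGroup p ↥Q) (hQ1 : Q ≠ ⊥) (hL : Cfsg.IsLarge Q) : (∀ L : Subgroup H, Q ≤ L → Cfsg.pCore p ↥L ≠ ⊥ → IsPGroup p ↥(Subgroup.centralizer (((Cfsg.pCoreOf p L) : Subgroup H) : Set H)) ∧ Subgroup.centralizer (Cfsg.pCore p ↥L : Set ↥L) ≤ Cfsg.pCore p ↥L ∧ (Cfsg.weakClosure Q L = Q ∨ Subgroup.centralizer (((Cfsg.weakClosure Q L) : Subgroup H) : Set H) = ⊥)) ∧ (∀ R : Subgroup H, Cfsg.IsParabolic p R → Cfsg.pCore p ↥R ≠ ⊥ → Subgroup.centralizer (((Cfsg.pCoreOf p R) : Subgroup H) : Set H) ≤ (Cfsg.pCoreOf p R)) ∧ Cfsg.IsOfParabolicCharacteristic p H := by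
  have hA : ∀ L : Subgroup H, Q ≤ L → pCore p ↥L ≠ ⊥ →
      IsPGroup p ↥(centralizer (((pCoreOf p L) : Subgroup H) : Set H)) :=
    fun L hQL h => isPGroup_centralizer_pCoreOf hQp hL hQL (pCoreOf_ne_bot h)
  have hR : ∀ R : Subgroup H, IsParabolic p R → pCore p ↥R ≠ ⊥ →
      centralizer (((pCoreOf p R) : Subgroup H) : Set H) ≤ pCoreOf p R := by
    rintro R ⟨T, hT⟩ hR1
    obtain ⟨h, hh⟩ := exists_le_conj_sylow T hQp
    have hh' : Q.map (MulAut.conj h⁻¹).toMonoidHom ≤ (T : Subgroup H) := (le_map_conj_iff h).mp hh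
    have hC := isPGroup_centralizer_pCoreOf (isPGroup_map_conj h⁻¹ hQp) (isLarge_conj hL h⁻¹)
      (hh'.trans hT) (pCoreOf_ne_bot hR1)
    set C : Subgroup H := centralizer (((pCoreOf p R) : Subgroup H) : Set H) with hCdef
    have hTC : (T : Subgroup H) ≤ normalizer (C : Set H) :=
      hT.trans (le_normalizer_centralizer (le_normalizer_pCoreOf R))
    have hs : IsPGroup p ((T : Subgroup H) ⊔ C : Subgroup H) :=
      IsPGroup.to_sup_of_normal_right' T.isPGroup' hC hTC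
    have hCT : C ≤ (T : Subgroup H) := by
      have h1 := T.is_maximal' hs le_sup_left
      rw [← h1]
      exact le_sup_right
    intro x hx
    exact inf_centralizer_le_pCoreOf hC ⟨hT (hCT hx), hx⟩
  refine ⟨fun L hQL h => ⟨hA L hQL h, charP_of_isPGroup_centralizer (hA L hQL h),
    weakClosure_eq_or_centralizer_eq_bot hQp hQ1 hL hQL⟩, hR, ?_⟩
  intro R hRp hR1 hpar
  have hO : pCore p ↥(normalizer (R : Set H)) ≠ ⊥ := by
    intro hb
    apply hR1
    rw [eq_bot_iff]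
    have h1 := le_pCoreOf (Subgroup.le_normalizer (H := R)) le_rfl hRp
    rw [pCoreOf_eq_map, hb, Subgroup.map_bot] at h1
    exact h1
  intro x hx
  have h2 := hR _ hpar hO (mem_centralizer_pCore_iff.mp hx)
  obtain ⟨y, hy, hyx⟩ := h2
  have : y = x := Subtype.ext hyx
  exact this ▸ hy

end Cfsg.Agent.S2845
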