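import Cfsg.Statements.S2824
import Cfsg.Agent.Lib.LocalStruct.PReducedOf

set_option autoImplicit false
open Cfsg

namespace Cfsg.Agent.S2824

open Cfsg.Agent.Lib.LocalStruct.Basic Cfsg.Agent.Lib.LocalStruct.Comm Cfsg.Agent.Lib.LocalStruct.PCoreOf Cfsg.Agent.Lib.LocalStruct.PReducedOf Cfsg.Agent.Lib.LocalStruct.PClosed Cfsg.Agent.Lib.LocalStruct.WeakClosed Subgroup

/-- Let H be a finite group, p a prime, T a Sylow p-subgroup, L and M subgroups of characteristic p containing T, Y_L the largest p-reduced normal subgroup of L and T₀ = C_T(Y_L). If M·C_H(Y_L) = L·C_H(Y_L), then L* := N_M(T₀) has Y_{L*} = Y_L and L·C_H(Y_L) = L*·C_H(Y_L). -/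
theorem result {H : Type*} [Group H] [Finite H] {p : ℕ} [Fact p.Prime] (T : Sylow p H) (L M : Subgroup H) (hTL : (T : Subgroup H) ≤ L) (hTM : (T : Subgroup H) ≤ M) (hL : Subgroup.centralizer (Cfsg.pCore p ↥L : Set ↥L) ≤ Cfsg.pCore p ↥L) (hM : Subgroup.centralizer (Cfsg.pCore p ↥M : Set ↥M) ≤ Cfsg.pCore p ↥M) (T₀ : Subgroup H) (hT₀ : T₀ = (T : Subgroup H) ⊓ Subgroup.centralizer (((Cfsg.largestPReducedOf p L) : Subgroup H) : Set H)) (hfac : M ⊔ Subgroup.centralizer (((Cfsg.largestPReducedOf p L) : Subgroup H) : Set H) = L ⊔ Subgroup.centralizer (((Cfsg.largestPReducedOf p L) : Subgroup H) : Set H)) (Ls : Subgroup H) (hLs : Ls = M ⊓ Subgroup.normalizer ((T₀ : Subgroup H) : Set H)) : (Cfsg.largestPReducedOf p Ls) = (Cfsg.largestPReducedOf p L) ∧ L ⊔ Subgroup.centralizer (((Cfsg.largestPReducedOf p L) : Subgroup H) : Set H) = Ls ⊔ Subgroup.centralizer (((Cfsg.largestPReducedOf p L) : Subgroup H) : Set H) := by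
  subst hT₀ hLs
  set Y : Subgroup H := largestPReducedOf p L with hY
  set C : Subgroup H := centralizer (Y : Set H) with hC
  set T₀ : Subgroup H := (T : Subgroup H) ⊓ C with hT₀
  have hLC : L ≤ normalizer (C : Set H) := le_normalizer_centralizer_largestPReducedOf L
  have hCC : C ≤ normalizer (C : Set H) := Subgroup.le_normalizer
  have hCY : C ≤ normalizer (Y : Set H) := Subgroup.centralizer_le_normalizer _
  have hLY : L ≤ normalizer (Y : Set H) := le_normalizer_largestPReducedOf L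
  have hLCC : L ⊔ C ≤ normalizer (C : Set H) := sup_le hLC hCC
  have hLCY : L ⊔ C ≤ normalizer (Y : Set H) := sup_le hLY hCY
  have hMLC : M ≤ L ⊔ C := le_sup_left.trans hfac.le
  have hMC : M ≤ normalizer (C : Set H) := hMLC.trans hLCC
  have hTC : (T : Subgroup H) ≤ normalizer (C : Set H) := hTM.trans hMC
  have hT₀p : IsPGroup p T₀ := T.isPGroup'.to_le inf_le_left
  -- Frattini
  have hFr : M ≤ (M ⊓ normalizer (T₀ : Set H)) ⊔ (M ⊓ C) := by
    have hKM : M ≤ normalizer ((M ⊓ C : Subgroup H) : Set H) := by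
      intro x hx
      rw [mem_normalizer_iff_map, Subgroup.map_inf _ _ _ (MulAut.conj x).injective,
        mem_normalizer_iff_map.mp (hMC hx), mem_normalizer_iff_map.mp (Subgroup.le_normalizer hx)]
    obtain ⟨S, hS⟩ := exists_sylow_inf T (K := M ⊓ C) (hTM.trans hKM)
    have hS' : (S : Subgroup ↥(M ⊓ C)).map (M ⊓ C).subtype = T₀ := by
      rw [hS, hT₀, ← inf_assoc, inf_eq_left.mpr hTM]
    exact le_sup_of_frattini S hS' inf_le_left hKM
  have hLs : (M ⊓ normalizer (T₀ : Set H)) ⊔ C = L ⊔ C := by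
    rw [← hfac]
    apply le_antisymm
    · exact sup_le (inf_le_left.trans le_sup_left) le_sup_right
    · exact sup_le (hFr.trans (sup_le le_sup_left (inf_le_right.trans le_sup_right))) le_sup_right
  refine ⟨?_, hLs.symm⟩
  set Ls : Subgroup H := M ⊓ normalizer (T₀ : Set H) with hLsdef
  have hTLs : (T : Subgroup H) ≤ Ls := le_inf hTM (le_normalizer_inf hTC)
  have hLsY : Ls ≤ normalizer (Y : Set H) := (le_sup_left.trans hLs.le).trans hLCY
  have hYT : Y ≤ (T : Subgroup H) := (largestPReducedOf_le_pCoreOf L).trans (pCoreOf_le_sylow T hTL)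
  have hYLs : Y ≤ Ls := hYT.trans hTLs
  have h1 : Y ≤ largestPReducedOf p Ls :=
    le_largestPReducedOf hYLs (isPReducedNormal_transfer hYLs (largestPReducedOf_le L) hLsY hLY
      (isElementaryAbelian_largestPReducedOf L) hLs (isPReducedNormal_largestPReducedOf L))
  refine le_antisymm ?_ h1
  intro y hy
  have hyT : y ∈ (T : Subgroup H) := pCoreOf_le_sylow T hTLs (largestPReducedOf_le_pCoreOf Ls hy)
  have hel := isElementaryAbelian_largestPReducedOf (p := p) Ls
  have hyC : y ∈ C := by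
    rw [hC, Subgroup.mem_centralizer_iff]
    intro v hv
    exact congrArg Subtype.val (hel.1.is_comm.comm ⟨v, h1 hv⟩ ⟨y, hy⟩)
  have hT₀O : T₀ ≤ pCoreOf p Ls :=
    le_pCoreOf (inf_le_left.trans hTLs) inf_le_right hT₀p
  have hT₀Y : T₀ ≤ centralizer ((largestPReducedOf p Ls : Subgroup H) : Set H) :=
    hT₀O.trans (pCoreOf_le_centralizer Ls)
  have hyL : y ∈ L := hTL hyT
  have hst := (Cfsg.Agent.Lib.PReduced.Basic.largest_pReduced_structure hL (T.subtype hTL)
    (largestPReduced p L) ⟨isPReducedNormal_largestPReduced, fun V hV => le_largestPReduced hV⟩ _ rfl).2.2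
  have hcm : ∀ z : L, z ∈ centralizer ((largestPReduced p L : Subgroup L) : Set L) ↔ (z : H) ∈ C := by
    intro z
    rw [← subgroupOf_largestPReducedOf, mem_centralizer_subgroupOf (largestPReducedOf_le L)]
  have h2 : (⟨y, hyL⟩ : L) ∈ largestPReduced p L := by
    rw [hst]
    apply Subgroup.subset_closure
    refine ⟨⟨⟨?_, ?_⟩, ?_⟩, ?_⟩
    · rw [Sylow.coe_subtype]
      exact hyT
    · exact (hcm _).mpr hyC
    · refine Subgroup.mem_centralizer_iff.mpr ?_
      rintro ⟨t, htL⟩ ht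
      apply Subtype.ext
      have h3 : t ∈ T₀ := by
        refine ⟨?_, (hcm _).mp ht.2⟩
        have := ht.1
        rw [Sylow.coe_subtype] at this
        exact this
      exact ((Subgroup.mem_centralizer_iff.mp (hT₀Y h3)) y hy).symm
    · apply Subtype.ext
      simpa using hel.2 y hy
  exact ⟨⟨y, hyL⟩, h2, rfl⟩

end Cfsg.Agent.S2824
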