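import Cfsg.Statements.S0420
import Cfsg.Agent.Lib.M11U.Assemble
import Cfsg.Agent.Lib.PermComp.Mathieu.Simple1x
import Cfsg.Agent.Lib.Golay.Dodecad
-- import your own Cfsg.Agent.* helpers here

set_option autoImplicit false
open scoped Pointwise
open Cfsg

namespace Cfsg.Agent.S0420

/-- Simple groups of order 7920 are all isomorphic to the concrete smallest Mathieu group. -/
theorem result {G : Type*} [Group G] [Finite G] (hG : Cfsg.IsM11 G) (d : Finset Cfsg.GolayPt) (hd : d ∈ Cfsg.dodecads) (p : Cfsg.GolayPt) (hp : p ∈ d) : Nonempty (G ≃* ↥(MulAction.stabilizer Cfsg.M24 d ⊓ MulAction.stabilizer Cfsg.M24 p)) := by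
  classical
  letI : Fintype G := Fintype.ofFinite G
  haveI := Cfsg.Agent.Lib.Char.Ortho.finite_irrCharacter (G := G)
  letI : Fintype (Cfsg.IrrCharacter G) := Fintype.ofFinite _
  haveI := hG.1
  obtain ⟨e₁⟩ := Cfsg.Agent.Lib.M11U.Assemble.nonempty_mulEquiv_K (G := G) hG.2
  -- the target
  let T := ↥(MulAction.stabilizer Cfsg.M24 d ⊓ MulAction.stabilizer Cfsg.M24 p)
  letI : Fintype T := Fintype.ofFinite T
  haveI := Cfsg.Agent.Lib.Char.Ortho.finite_irrCharacter (G := T)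
  letI : Fintype (Cfsg.IrrCharacter T) := Fintype.ofFinite _
  haveI : IsSimpleGroup T := Cfsg.Agent.Lib.PermComp.Mathieu.Simple1x.isSimple_stab_dodecad_point hd hp
  obtain ⟨e₂⟩ := Cfsg.Agent.Lib.M11U.Assemble.nonempty_mulEquiv_K (G := T)
    (Cfsg.Agent.Lib.Golay.Dodecad.card_stab_dodecad_point hd hp)
  exact ⟨e₁.trans e₂.symm⟩

end Cfsg.Agent.S0420
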