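import Cfsg.Statements.S5185
import Cfsg.Agent.Lib.Fusion.SmallEssentialSL2

set_option autoImplicit false

open Cfsg

namespace Cfsg.Agent.S5185

open Cfsg.Agent.Lib.Fusion.SmallEssential Cfsg.Agent.Lib.Fusion.SmallEssentialSL2 Cfsg.Agent.Lib.Fusion.Basic

universe u

/-- Let F be a saturated fusion system over a finite p-group S and H an essential subgroup of order p². Then H is elementary abelian (isomorphic to C_p × C_p) and its F-automorphism group contains a subgroup isomorphic to SL(2,p). -/
theorem result {Ω : Type u} [Group Ω] {S : Subgroup Ω} [Finite S] (p : ℕ) [Fact p.Prime] (hS : IsPGroup p S)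
    (F : Cfsg.FusionSystem S) (hF : F.IsSaturated p) (H : Subgroup Ω) (hH : F.IsEssential p H) (hcard : Nat.card H = p ^ 2) :
    Cfsg.IsElementaryAbelian p H ∧
      ∃ K : Subgroup ↥(F.autGroup H), Nonempty (↥K ≃* Matrix.SpecialLinearGroup (Fin 2) (ZMod p)) := by
  have hX := essAut_of_isEssential hS F hH
  have hfH : Finite H := finite_of_le hH.1.1
  have hV : IsPGroup p H := IsPGroup.of_card hcard
  have hcomm := IsPGroup.commutative_of_card_eq_prime_sq hcard
  letI cg : CommGroup H := { (inferInstance : Group H) with mul_comm := hcomm }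
  have hexp : ∀ v : H, v ^ p = 1 := by
    intro v
    by_contra hv
    have hd : orderOf v ∣ p ^ 2 := by
      rw [← hcard]
      exact orderOf_dvd_natCard v
    obtain ⟨k, hk, hvk⟩ := (Nat.dvd_prime_pow (Fact.out : p.Prime)).1 hd
    have hk2 : k = 2 := by
      interval_cases k
      · rw [pow_zero] at hvk
        rw [orderOf_eq_one_iff.1 hvk, one_pow] at hv
        exact absurd rfl hv
      · rw [pow_one] at hvk
        exact absurd (by rw [← hvk]; exact pow_orderOf_eq_one v) hv
      · rfl
    subst hk2
    have hcyc : IsCyclic H := isCyclic_of_orderOf_eq_card v (by rw [hvk, hcard])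
    exact false_of_isCyclic hV hX
  refine ⟨⟨⟨⟨fun a b => ?_⟩⟩, fun a ha => ?_⟩, exists_sl2 hexp hcard _ hX⟩
  · exact hcomm a b
  · have := hexp ⟨a, ha⟩
    simpa using congrArg Subtype.val this

end Cfsg.Agent.S5185
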