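import Mathlib
import Cfsg.Statements.S4018

set_option autoImplicit false
set_option linter.all false
open Cfsg

namespace Cfsg.Agent.S4018

open Matrix in
/-- Regular friendship graphs of degree at least three do not exist (the trace argument). -/
theorem no_regular_friendship {V : Type*} [Fintype V] [DecidableEq V] [Nonempty V]
    (adj : V → V → Prop) [DecidableRel adj] (hirr : ∀ a, ¬ adj a a) (hsymm : ∀ a b, adj a b → adj b a)
    (d : ℕ) (hdeg : ∀ a, (Finset.univ.filter (fun b => adj a b)).card = d) (h3 : 3 ≤ d)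
    (huniq : ∀ a b, a ≠ b → ∃! c, adj a c ∧ adj c b) : False := by
  have hd1 : d - 1 ≠ 1 := by omega
  set ℓ := (d - 1).minFac with hℓ
  have hℓp : Fact ℓ.Prime := ⟨Nat.minFac_prime hd1⟩
  have hℓd : ((d : ℕ) : ZMod ℓ) = 1 := by
    have h1 : ℓ ∣ d - 1 := Nat.minFac_dvd _
    have h2 : ((d - 1 : ℕ) : ZMod ℓ) = 0 := (ZMod.natCast_eq_zero_iff _ _).2 h1
    have h3' : d = (d - 1) + 1 := by omega
    rw [h3', Nat.cast_add, h2]
    simp
  let B : Matrix V V (ZMod ℓ) := Matrix.of fun a b => if adj a b then 1 else 0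
  let J : Matrix V V (ZMod ℓ) := Matrix.of fun _ _ => 1
  have hBB : B * B = J := by
    ext a b
    simp only [Matrix.mul_apply, B, J, Matrix.of_apply]
    have : ∀ c, (if adj a c then (1 : ZMod ℓ) else 0) * (if adj c b then 1 else 0) =
        if adj a c ∧ adj c b then 1 else 0 := by
      intro c
      by_cases h1 : adj a c <;> by_cases h2 : adj c b <;> simp [h1, h2]
    simp only [this]
    rw [Finset.sum_boole]
    by_cases hab : a = b
    · subst hab
      have : (Finset.univ.filter (fun c => adj a c ∧ adj c a)) =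
          Finset.univ.filter (fun c => adj a c) := by
        ext c
        simp only [Finset.mem_filter, Finset.mem_univ, true_and]
        exact ⟨fun h => h.1, fun h => ⟨h, hsymm _ _ h⟩⟩
      rw [this, hdeg, hℓd]
    · obtain ⟨c, hc, huq⟩ := huniq a b hab
      have : (Finset.univ.filter (fun c => adj a c ∧ adj c b)) = {c} := by
        ext x
        simp only [Finset.mem_filter, Finset.mem_univ, true_and, Finset.mem_singleton]
        exact ⟨fun h => huq x h, fun h => h ▸ hc⟩
      rw [this]
      simp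
  have hBJ : B * J = J := by
    ext a b
    simp only [Matrix.mul_apply, B, J, Matrix.of_apply, mul_one]
    rw [Finset.sum_boole, hdeg, hℓd]
  have hpow : ∀ k : ℕ, B ^ (k + 2) = J := by
    intro k
    induction k with
    | zero => rw [zero_add, pow_two, hBB]
    | succ k ih => rw [show k + 1 + 2 = (k + 2) + 1 by ring, pow_succ', ih, hBJ]
  have hJJ : J * J = (Fintype.card V : ZMod ℓ) • J := by
    ext a b
    simp only [Matrix.mul_apply, J, Matrix.of_apply, mul_one, Finset.sum_const, Finset.card_univ,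
      Matrix.smul_apply, smul_eq_mul, nsmul_eq_mul]
  have hJJ' : J * J = J := by
    have : J * J = B ^ 4 := by
      rw [← hBB, show (4 : ℕ) = 2 + 2 by norm_num, pow_add, pow_two]
    rw [this]
    exact hpow 2
  have hcard : (Fintype.card V : ZMod ℓ) = 1 := by
    obtain ⟨a⟩ := ‹Nonempty V›
    have h := congrFun (congrFun hJJ a) a
    rw [hJJ'] at h
    simpa [J] using h.symm
  have htr1 : Matrix.trace (B ^ ℓ) = 0 := by
    rw [ZMod.trace_pow_card]
    have : Matrix.trace B = 0 := by
      simp [Matrix.trace, B, hirr]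
    rw [this, zero_pow hℓp.out.ne_zero]
  have htr2 : Matrix.trace (B ^ ℓ) = (Fintype.card V : ZMod ℓ) := by
    obtain ⟨k, hk⟩ : ∃ k, ℓ = k + 2 := ⟨ℓ - 2, by have := hℓp.out.two_le; omega⟩
    have hB : B ^ ℓ = J := by
      have := hpow k
      rwa [← hk] at this
    rw [hB]
    simp [Matrix.trace, J]
  rw [htr2, hcard] at htr1
  exact one_ne_zero htr1



variable {G : Type*} [Group G]

/-- `z` is a `3`-element. -/
def Is3 (z : G) : Prop := ∃ n : ℕ, orderOf z = 3 ^ n

lemma inv_eq_self_of_order_two {a : G} (ha : orderOf a = 2) : a⁻¹ = a := by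
  have h : a ^ 2 = 1 := ha ▸ pow_orderOf_eq_one a
  rw [pow_two] at h
  exact inv_eq_of_mul_eq_one_left h

lemma ne_one_of_order_two {a : G} (ha : orderOf a = 2) : a ≠ 1 := by
  rintro rfl
  simp at ha

lemma mul_self_of_order_two {a : G} (ha : orderOf a = 2) : a * a = 1 := by
  have h : a ^ 2 = 1 := ha ▸ pow_orderOf_eq_one a
  rwa [pow_two] at h

lemma order_two_mul {a b : G} (ha : orderOf a = 2) (hb : orderOf b = 2) (hab : Commute a b)
    (hne : a ≠ b) : orderOf (a * b) = 2 := by
  have hp : Nat.Prime 2 := Nat.prime_two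
  haveI : Fact (Nat.Prime 2) := ⟨hp⟩
  apply orderOf_eq_prime
  · rw [hab.mul_pow, pow_two, pow_two, mul_self_of_order_two ha, mul_self_of_order_two hb, one_mul]
  · intro h
    apply hne
    have := eq_inv_of_mul_eq_one_left h
    rwa [inv_eq_self_of_order_two hb] at this

lemma order_conj (x z : G) : orderOf (x * z * x⁻¹) = orderOf z := by
  have := (MulAut.conj x).orderOf_eq z
  simpa using this

lemma zpowers_le_normalizer_of_commute {H : Subgroup G} {w : G}
    (h : H ≤ Subgroup.centralizer ({w} : Set G)) :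
    Subgroup.zpowers w ≤ Subgroup.normalizer (H : Set G) := by
  rw [Subgroup.zpowers_le, Subgroup.mem_normalizer_iff]
  intro x
  constructor
  · intro hx
    have h1 := Subgroup.mem_centralizer_iff.1 (h hx) w (Set.mem_singleton w)
    rw [h1, mul_inv_cancel_right]
    exact hx
  · intro hx
    have h1 := Subgroup.mem_centralizer_iff.1 (h hx) w (Set.mem_singleton w)
    have h2 : x = w * x * w⁻¹ := by
      have h3 : w * (w * x * w⁻¹) = (w * x * w⁻¹) * w := h1
      have h4 : w * x * w⁻¹ * w = w * x := by group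
      rw [h4] at h3
      have h5 := mul_left_cancel h3
      exact h5.symm
    rw [h2]
    exact hx

lemma mem_centralizer_singleton {w x : G} : x ∈ Subgroup.centralizer ({w} : Set G) ↔ Commute x w := by
  rw [Subgroup.mem_centralizer_iff]
  constructor
  · intro h
    exact (h w (Set.mem_singleton w)).symm
  · rintro h _ rfl
    exact h.symm

lemma isPGroup_zpowers_of_order {p n : ℕ} {a : G} (h : orderOf a = p ^ n) :
    IsPGroup p (Subgroup.zpowers a) :=
  IsPGroup.of_card (n := n) (by rw [Nat.card_zpowers, h])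

lemma card_ge_of_finset [Finite G] {H : Subgroup G} (F : Finset G) (h : ∀ x ∈ F, x ∈ H) :
    F.card ≤ Nat.card H := by
  have h1 : ((F : Set G)) ⊆ (H : Set G) := fun x hx => h x hx
  have h2 := Set.ncard_le_ncard h1 (Set.toFinite _)
  rw [Set.ncard_coe_finset] at h2
  rwa [show (H : Set G).ncard = Nat.card H from (Nat.card_coe_set_eq _).symm] at h2

/-- Two distinct commuting involutions have only their product as common third neighbour when
`8` does not divide the order. -/
lemma no_extra_commuting [Finite G] (hno8 : ¬ 8 ∣ Nat.card G) {a b w : G}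
    (ha : orderOf a = 2) (hb : orderOf b = 2) (hw : orderOf w = 2)
    (hab : Commute a b) (hne : a ≠ b) (haw : Commute a w) (hbw : Commute b w)
    (h1 : w ≠ a) (h2 : w ≠ b) : w = a * b := by
  classical
  by_contra hw3
  haveI : Fact (Nat.Prime 2) := ⟨Nat.prime_two⟩
  have hpa : IsPGroup 2 (Subgroup.zpowers a) := isPGroup_zpowers_of_order (n := 1) (by simpa using ha)
  have hpb : IsPGroup 2 (Subgroup.zpowers b) := isPGroup_zpowers_of_order (n := 1) (by simpa using hb)
  have hpw : IsPGroup 2 (Subgroup.zpowers w) := isPGroup_zpowers_of_order (n := 1) (by simpa using hw)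
  have hab' : IsPGroup 2 (Subgroup.zpowers a ⊔ Subgroup.zpowers b : Subgroup G) := by
    apply IsPGroup.to_sup_of_normal_left' hpa hpb
    apply zpowers_le_normalizer_of_commute
    rw [Subgroup.zpowers_le, mem_centralizer_singleton]
    exact hab
  set A : Subgroup G := Subgroup.zpowers a ⊔ Subgroup.zpowers b with hA
  have hE : IsPGroup 2 (A ⊔ Subgroup.zpowers w : Subgroup G) := by
    apply IsPGroup.to_sup_of_normal_left' hab' hpw
    apply zpowers_le_normalizer_of_commute
    rw [hA, sup_le_iff, Subgroup.zpowers_le, Subgroup.zpowers_le, mem_centralizer_singleton,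
      mem_centralizer_singleton]
    exact ⟨haw, hbw⟩
  set E : Subgroup G := A ⊔ Subgroup.zpowers w with hEdef
  obtain ⟨k, hk⟩ := IsPGroup.iff_card.1 hE
  have haA : a ∈ A := Subgroup.mem_sup_left (Subgroup.mem_zpowers a)
  have hbA : b ∈ A := Subgroup.mem_sup_right (Subgroup.mem_zpowers b)
  have haE : a ∈ E := Subgroup.mem_sup_left haA
  have hbE : b ∈ E := Subgroup.mem_sup_left hbA
  have hwE : w ∈ E := Subgroup.mem_sup_right (Subgroup.mem_zpowers w)
  have habne : a * b ≠ 1 := ne_one_of_order_two (order_two_mul ha hb hab hne)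
  have hane := ne_one_of_order_two ha
  have hbne := ne_one_of_order_two hb
  have hwne := ne_one_of_order_two hw
  have hc1 : a ≠ a * b := fun h => hbne (by simpa using h.symm)
  have hc2 : b ≠ a * b := fun h => hane (by
    have : a * b = 1 * b := by rw [one_mul]; exact h.symm
    exact mul_right_cancel this)
  let F : Finset G := {1, a, b, a * b, w}
  have hFcard : F.card = 5 := by
    have e1 : (1 : G) ∉ ({a, b, a * b, w} : Finset G) := by
      simp only [Finset.mem_insert, Finset.mem_singleton, not_or]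
      exact ⟨hane.symm, hbne.symm, habne.symm, hwne.symm⟩
    have e2 : a ∉ ({b, a * b, w} : Finset G) := by
      simp only [Finset.mem_insert, Finset.mem_singleton, not_or]
      exact ⟨hne, hc1, h1.symm⟩
    have e3 : b ∉ ({a * b, w} : Finset G) := by
      simp only [Finset.mem_insert, Finset.mem_singleton, not_or]
      exact ⟨hc2, h2.symm⟩
    have e4 : a * b ∉ ({w} : Finset G) := by
      simp only [Finset.mem_singleton]
      exact fun h => hw3 h.symm
    simp only [F]
    rw [Finset.card_insert_of_notMem e1, Finset.card_insert_of_notMem e2,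
      Finset.card_insert_of_notMem e3, Finset.card_insert_of_notMem e4, Finset.card_singleton]
  have hle : F.card ≤ Nat.card E := by
    apply card_ge_of_finset
    intro x hx
    simp only [F, Finset.mem_insert, Finset.mem_singleton] at hx
    rcases hx with rfl | rfl | rfl | rfl | rfl
    · exact E.one_mem
    · exact haE
    · exact hbE
    · exact E.mul_mem haE hbE
    · exact hwE
  rw [hFcard, hk] at hle
  have hk3 : 3 ≤ k := by
    by_contra hlt
    have : k ≤ 2 := by omega
    have : 2 ^ k ≤ 2 ^ 2 := Nat.pow_le_pow_right (by norm_num) this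
    omega
  apply hno8
  calc 8 = 2 ^ 3 := by norm_num
    _ ∣ 2 ^ k := pow_dvd_pow 2 hk3
    _ = Nat.card E := hk.symm
    _ ∣ Nat.card G := Subgroup.card_subgroup_dvd_card E

lemma zpowers_le_normalizer_of_inv {a c : G} (ha : orderOf a = 2) (hc : a * c * a⁻¹ = c⁻¹) :
    Subgroup.zpowers a ≤ Subgroup.normalizer ((Subgroup.zpowers c : Subgroup G) : Set G) := by
  rw [Subgroup.zpowers_le, Subgroup.mem_normalizer_iff]
  have hinv : a⁻¹ = a := inv_eq_self_of_order_two ha
  have key : ∀ x ∈ Subgroup.zpowers c, a * x * a⁻¹ ∈ Subgroup.zpowers c := by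
    rintro x ⟨k, rfl⟩
    simp only [← MulAut.conj_apply, map_zpow]
    rw [MulAut.conj_apply, hc]
    exact Subgroup.zpow_mem _ (Subgroup.inv_mem _ (Subgroup.mem_zpowers c)) k
  intro x
  refine ⟨key x, fun hx => ?_⟩
  have := key _ hx
  have h2 : a * (a * x * a⁻¹) * a⁻¹ = x := by
    rw [hinv]
    have e : a * a = 1 := mul_self_of_order_two ha
    calc a * (a * x * a) * a = (a * a) * x * (a * a) := by group
      _ = x := by rw [e]; group
  rwa [h2] at this

lemma inv_pow_conj {a y : G} (h : a * y * a⁻¹ = y⁻¹) (k : ℕ) :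
    a * y ^ k * a⁻¹ = (y ^ k)⁻¹ := by
  rw [← conj_pow, h, inv_pow]

/-- The order of the product of two noncommuting involutions is divisible by 3. -/
lemma three_dvd_order [Finite G] (hs : IsSimpleGroup G) (hnab : ¬ ∀ a b : G, a * b = b * a)
    (hno8 : ¬ 8 ∣ Nat.card G) {e : ℕ} (heven : ∀ H : Subgroup G, H ≠ ⊤ → 2 ∣ Nat.card H →
      Nat.card H ∣ 4 * 3 ^ e) {a b : G}
    (ha : orderOf a = 2) (hb : orderOf b = 2) (hnc : a * b ≠ b * a) :
    3 ∣ orderOf (a * b) := by
  haveI : Fact (Nat.Prime 2) := ⟨Nat.prime_two⟩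
  have hainv := inv_eq_self_of_order_two ha
  have hbinv := inv_eq_self_of_order_two hb
  set y := a * b with hy
  have hinvy : a * y * a⁻¹ = y⁻¹ := by
    rw [hy, mul_inv_rev, hainv, hbinv, ← mul_assoc, mul_self_of_order_two ha, one_mul]
  have ho0 : orderOf y ≠ 0 := (orderOf_pos y).ne'
  have hprimes : ∀ q : ℕ, q.Prime → q ∣ orderOf y → q = 2 ∨ q = 3 := by
    intro q hq hqo
    by_contra hcon
    push Not at hcon
    set y' := y ^ (orderOf y / q) with hy'
    have hoy' : orderOf y' = q := orderOf_pow_orderOf_div ho0 hqo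
    have hinvy' : a * y' * a⁻¹ = y'⁻¹ := inv_pow_conj hinvy _
    have hnorm := zpowers_le_normalizer_of_inv ha hinvy'
    let H : Subgroup G := Subgroup.zpowers a ⊔ Subgroup.zpowers y'
    have hHnorm : H ≤ Subgroup.normalizer ((Subgroup.zpowers y' : Subgroup G) : Set G) :=
      sup_le hnorm (Subgroup.le_normalizer)
    by_cases hH : H = ⊤
    · have hN : (Subgroup.zpowers y').Normal := by
        rw [← Subgroup.normalizer_eq_top_iff]
        exact top_le_iff.1 (hH ▸ hHnorm)
      rcases hs.eq_bot_or_eq_top_of_normal _ hN with h | h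
      · have : y' = 1 := Subgroup.zpowers_eq_bot.1 h
        rw [this, orderOf_one] at hoy'
        exact hq.one_lt.ne hoy'
      · apply hnab
        intro u v
        have hu : u ∈ Subgroup.zpowers y' := h ▸ Subgroup.mem_top u
        have hv : v ∈ Subgroup.zpowers y' := h ▸ Subgroup.mem_top v
        obtain ⟨i, rfl⟩ := hu
        obtain ⟨j, rfl⟩ := hv
        exact ((Commute.refl y').zpow_zpow i j).eq
    · have h2 : 2 ∣ Nat.card H := by
        have : Nat.card (Subgroup.zpowers a) ∣ Nat.card H :=
          Subgroup.card_dvd_of_le le_sup_left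
        rw [Nat.card_zpowers, ha] at this
        exact this
      have hq' : q ∣ Nat.card H := by
        have : Nat.card (Subgroup.zpowers y') ∣ Nat.card H :=
          Subgroup.card_dvd_of_le le_sup_right
        rw [Nat.card_zpowers, hoy'] at this
        exact this
      have := (heven H hH h2)
      have hq4 := hq'.trans this
      rcases (Nat.Prime.dvd_mul hq).1 hq4 with h4 | h3
      · have : q ∣ 2 ^ 2 := by simpa using h4
        exact hcon.1 ((Nat.prime_dvd_prime_iff_eq hq Nat.prime_two).1 (hq.dvd_of_dvd_pow this))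
      · exact hcon.2 ((Nat.prime_dvd_prime_iff_eq hq Nat.prime_three).1 (hq.dvd_of_dvd_pow h3))
  by_contra h3
  have h2 : ∀ {d : ℕ}, Nat.Prime d → d ∣ orderOf y → d = 2 := by
    intro d hd hdo
    rcases hprimes d hd hdo with h | h
    · exact h
    · subst h; exact absurd hdo h3
  have ho := Nat.eq_prime_pow_of_unique_prime_dvd ho0 h2
  set k := (orderOf y).primeFactorsList.length with hk
  have hy1 : y ≠ 1 := by
    intro h1
    apply hnc
    have : a = b := by
      have := eq_inv_of_mul_eq_one_left h1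
      rwa [hbinv] at this
    rw [hy, this]
  have hy2 : ¬ y ^ 2 = 1 := by
    intro h
    apply hnc
    have h4 : a * b * (a * b) = 1 := by rw [← pow_two]; exact h
    calc a * b = a * b * (a * b * (b * a)) := by
          rw [show a * b * (b * a) = a * (b * b) * a by group, mul_self_of_order_two hb, mul_one,
            mul_self_of_order_two ha, mul_one]
      _ = (a * b * (a * b)) * (b * a) := by group
      _ = b * a := by rw [h4, one_mul]
  have hk2 : 2 ≤ k := by
    by_contra hlt
    have : k = 0 ∨ k = 1 := by omega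
    rcases this with h | h
    · rw [h, pow_zero] at ho
      exact hy1 (orderOf_eq_one_iff.1 ho)
    · rw [h, pow_one] at ho
      apply hy2
      rw [← ho]
      exact pow_orderOf_eq_one y
  have h4o : 4 ∣ orderOf y := by
    rw [ho]
    calc 4 = 2 ^ 2 := by norm_num
      _ ∣ 2 ^ k := pow_dvd_pow 2 hk2
  set c := y ^ (orderOf y / 4) with hc
  have hoc : orderOf c = 4 := orderOf_pow_orderOf_div ho0 h4o
  have hinvc : a * c * a⁻¹ = c⁻¹ := inv_pow_conj hinvy _
  have hpa : IsPGroup 2 (Subgroup.zpowers a) := isPGroup_zpowers_of_order (n := 1) (by simpa using ha)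
  have hpc : IsPGroup 2 (Subgroup.zpowers c) := isPGroup_zpowers_of_order (n := 2) (by simpa using hoc)
  have hE := IsPGroup.to_sup_of_normal_right' hpa hpc (zpowers_le_normalizer_of_inv ha hinvc)
  set E : Subgroup G := Subgroup.zpowers a ⊔ Subgroup.zpowers c with hEdef
  obtain ⟨j, hj⟩ := IsPGroup.iff_card.1 hE
  have hj2 : j ≤ 2 := by
    by_contra hlt
    apply hno8
    calc 8 = 2 ^ 3 := by norm_num
      _ ∣ 2 ^ j := pow_dvd_pow 2 (by omega)
      _ = Nat.card E := hj.symm
      _ ∣ Nat.card G := Subgroup.card_subgroup_dvd_card E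
  have hEc : Subgroup.zpowers c = E := by
    apply Subgroup.eq_of_le_of_card_ge le_sup_right
    rw [Nat.card_zpowers, hoc, hj]
    calc 2 ^ j ≤ 2 ^ 2 := Nat.pow_le_pow_right (by norm_num) hj2
      _ = 4 := by norm_num
  have haz : a ∈ Subgroup.zpowers c := hEc ▸ Subgroup.mem_sup_left (Subgroup.mem_zpowers a)
  obtain ⟨i, hi⟩ := haz
  have hcomm : a * c * a⁻¹ = c := by
    rw [← hi, (Commute.zpow_self c i).eq]
    group
  rw [hcomm] at hinvc
  have : c ^ 2 = 1 := by
    rw [pow_two]
    nth_rw 1 [hinvc]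
    simp
  have := orderOf_dvd_of_pow_eq_one this
  rw [hoc] at this
  omega


/-- The main combinatorial contradiction. -/
theorem friend_key [Finite G] (hs : IsSimpleGroup G) (hnab : ¬ ∀ a b : G, a * b = b * a)
    (hno8 : ¬ 8 ∣ Nat.card G) {e : ℕ}
    (heven : ∀ H : Subgroup G, H ≠ ⊤ → 2 ∣ Nat.card H → Nat.card H ∣ 4 * 3 ^ e)
    (t : G) (ht : orderOf t = 2)
    (hconj : ∀ s : G, orderOf s = 2 → ∃ x, s = x * t * x⁻¹)
    (hL3 : ∀ s₁ s₂ z : G, orderOf s₁ = 2 → orderOf s₂ = 2 → z ≠ 1 → Is3 z →
      Commute z s₁ → Commute z s₂ → s₁ = s₂)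
    (h3inv : ∀ z : G, Is3 z → ∃ w, orderOf w = 2 ∧ Commute z w)
    (u c : G) (hu : orderOf u = 2) (hut : u ≠ t) (hcu : Commute u t) (hc : c ≠ 1) (hc3 : Is3 c)
    (hct : Commute c t) : False := by
  classical
  have huniq : ∀ a b : G, orderOf a = 2 → orderOf b = 2 → a ≠ b →
      ∃ w, orderOf w = 2 ∧ (a ≠ w ∧ a * w = w * a) ∧ (w ≠ b ∧ w * b = b * w) ∧
        ∀ w', orderOf w' = 2 → (a ≠ w' ∧ a * w' = w' * a) → (w' ≠ b ∧ w' * b = b * w') →
          w' = w := by
    intro a b ha hb hne
    by_cases hcomm : a * b = b * a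
    · have hone : a * a = 1 := mul_self_of_order_two ha
      have hone' : b * b = 1 := mul_self_of_order_two hb
      refine ⟨a * b, order_two_mul ha hb hcomm hne, ⟨?_, ?_⟩, ⟨?_, ?_⟩, ?_⟩
      · intro h
        exact ne_one_of_order_two hb (by simpa using h.symm)
      · rw [← mul_assoc, hone, one_mul, hcomm, mul_assoc, hone, mul_one]
      · intro h
        apply ne_one_of_order_two ha
        have : a * b = 1 * b := by rw [one_mul]; exact h
        exact mul_right_cancel this
      · rw [mul_assoc, hone', mul_one, hcomm, ← mul_assoc, hone', one_mul]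
      · rintro w' hw' ⟨h1, h2⟩ ⟨h3, h4⟩
        exact no_extra_commuting hno8 ha hb hw' hcomm hne h2 h4.symm h1.symm h3
    · have h3 := three_dvd_order hs hnab hno8 heven ha hb hcomm
      have hainv := inv_eq_self_of_order_two ha
      have hbinv := inv_eq_self_of_order_two hb
      set y := a * b with hy
      have ho0 : orderOf y ≠ 0 := (orderOf_pos y).ne'
      set z := y ^ (orderOf y / 3) with hz
      have hoz : orderOf z = 3 := orderOf_pow_orderOf_div ho0 h3
      have hinvy : a * y * a⁻¹ = y⁻¹ := by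
        rw [hy, mul_inv_rev, hainv, hbinv, ← mul_assoc, mul_self_of_order_two ha, one_mul]
      have hinvy' : b * y * b⁻¹ = y⁻¹ := by
        rw [hy, mul_inv_rev, hainv, hbinv, mul_assoc, mul_assoc, mul_self_of_order_two hb, mul_one]
      have hazinv : a * z * a⁻¹ = z⁻¹ := inv_pow_conj hinvy _
      have hbzinv : b * z * b⁻¹ = z⁻¹ := inv_pow_conj hinvy' _
      have hz1 : z ≠ 1 := by
        intro h
        rw [h, orderOf_one] at hoz
        omega
      have hz3 : Is3 z := ⟨1, by simpa using hoz⟩
      have hnz : ∀ a : G, a * z * a⁻¹ = z⁻¹ → ¬ Commute z a := by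
        intro a ha hc'
        have : a * z * a⁻¹ = z := by
          rw [hc'.eq.symm]
          group
        rw [this] at ha
        have h2 : z ^ 2 = 1 := by
          rw [pow_two]
          nth_rw 1 [ha]
          simp
        have := orderOf_dvd_of_pow_eq_one h2
        rw [hoz] at this
        omega
      obtain ⟨w, hw, hzw⟩ := h3inv z hz3
      have hfix : ∀ a : G, orderOf a = 2 → a * z * a⁻¹ = z⁻¹ → a * w = w * a := by
        intro a ha hinv
        have h1 : Commute z (a * w * a⁻¹) := by
          have h2 : Commute z⁻¹ w := hzw.inv_left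
          have h3 := h2.map (MulAut.conj a)
          simp only [MulAut.conj_apply] at h3
          rw [show a * z⁻¹ * a⁻¹ = (a * z * a⁻¹)⁻¹ by group, hinv, inv_inv] at h3
          exact h3
        have h4 := hL3 (a * w * a⁻¹) w z (by rw [order_conj]; exact hw) hw hz1 hz3 h1 hzw
        calc a * w = a * w * a⁻¹ * a := by group
          _ = w * a := by rw [h4]
      refine ⟨w, hw, ⟨?_, hfix a ha hazinv⟩, ⟨?_, (hfix b hb hbzinv).symm⟩, ?_⟩
      · rintro rfl
        exact hnz a hazinv hzw
      · rintro rfl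
        exact hnz w hbzinv hzw
      · rintro w' hw' ⟨h1, h2⟩ ⟨h3, h4⟩
        have hcw'y : Commute w' y := by
          have h5 : Commute w' a := Commute.symm h2
          have h6 : Commute w' b := h4
          exact h5.mul_right h6
        have hcz : Commute z w' := (hcw'y.pow_right _).symm
        exact hL3 w' w z hw' hw hz1 hz3 hcz hzw
  -- build the graph
  let V := {g : G // orderOf g = 2}
  letI : Fintype V := Fintype.ofFinite V
  let adj : V → V → Prop := fun a b => (a : G) ≠ b ∧ (a : G) * b = b * a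
  let t₀ : V := ⟨t, ht⟩
  haveI : Nonempty V := ⟨t₀⟩
  -- conjugation on `V`
  let cj : G → V ≃ V := fun x =>
    { toFun := fun b => ⟨x * b * x⁻¹, by rw [order_conj]; exact b.2⟩
      invFun := fun b => ⟨x⁻¹ * b * x, by
        have := order_conj x⁻¹ (b : G)
        rw [inv_inv] at this
        rw [this]; exact b.2⟩
      left_inv := fun b => Subtype.ext (by simp [mul_assoc])
      right_inv := fun b => Subtype.ext (by simp [mul_assoc]) }
  have hadjcj : ∀ (x : G) (a b : V), adj a b ↔ adj (cj x a) (cj x b) := by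
    intro x a b
    simp only [adj, cj, Equiv.coe_fn_mk]
    constructor
    · rintro ⟨h1, h2⟩
      refine ⟨fun h => h1 ?_, ?_⟩
      · have := mul_left_cancel (mul_right_cancel h)
        exact this
      · have h3 : Commute (x * (a : G) * x⁻¹) (x * (b : G) * x⁻¹) := by
          have h3 : Commute (a : G) (b : G) := h2
          have h4 := h3.map (MulAut.conj x)
          simpa only [MulAut.conj_apply] using h4
        exact h3
    · rintro ⟨h1, h2⟩
      refine ⟨fun h => h1 (by rw [h]), ?_⟩
      have h3 : x * ((a : G) * b) * x⁻¹ = x * ((b : G) * a) * x⁻¹ := by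
        calc x * ((a : G) * b) * x⁻¹ = (x * (a : G) * x⁻¹) * (x * (b : G) * x⁻¹) := by group
          _ = (x * (b : G) * x⁻¹) * (x * (a : G) * x⁻¹) := h2
          _ = _ := by group
      exact mul_left_cancel (mul_right_cancel h3)
  have hdeg : ∀ a : V, (Finset.univ.filter (fun b => adj a b)).card =
      (Finset.univ.filter (fun b => adj t₀ b)).card := by
    intro a
    obtain ⟨x, hx⟩ := hconj a a.2
    have hax : a = cj x t₀ := Subtype.ext hx
    symm
    apply Finset.card_equiv (cj x)
    intro b
    simp only [Finset.mem_filter, Finset.mem_univ, true_and]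
    rw [hax]
    exact hadjcj x t₀ b
  have hut' : t * u ≠ u := by
    intro h
    apply ne_one_of_order_two ht
    have : t * u = 1 * u := by rw [one_mul]; exact h
    exact mul_right_cancel this
  have hotu : orderOf (t * u) = 2 := order_two_mul ht hu hcu.symm hut.symm
  have hcu1 : c * u * c⁻¹ ≠ u := by
    intro h
    have h1 : Commute c u := by
      have h2 : c * u = u * c := by
        calc c * u = c * u * c⁻¹ * c := by group
          _ = u * c := by rw [h]
      exact h2
    exact hut (hL3 u t c hu ht hc hc3 h1 hct)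
  have hcu2 : c * u * c⁻¹ ≠ t * u := by
    intro h
    -- then `c ^ 2` commutes with `u`
    have hctt : c * t * c⁻¹ = t := by
      have : c * t = t * c := hct
      rw [this]; group
    have h1 : c * (t * u) * c⁻¹ = u := by
      have h2 : c * (t * u) * c⁻¹ = (c * t * c⁻¹) * (c * u * c⁻¹) := by group
      rw [h2, hctt, h, ← mul_assoc, mul_self_of_order_two ht, one_mul]
    have h2 : (c * c) * u * (c * c)⁻¹ = u := by
      have h3 : (c * c) * u * (c * c)⁻¹ = c * (c * u * c⁻¹) * c⁻¹ := by group
      rw [h3, h, h1]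
    have h3 : Commute (c * c) u := by
      have : (c * c) * u = u * (c * c) := by
        calc (c * c) * u = (c * c) * u * (c * c)⁻¹ * (c * c) := by group
          _ = u * (c * c) := by rw [h2]
      exact this
    obtain ⟨n, hn⟩ := hc3
    have hodd : Odd (orderOf c) := by
      rw [hn]
      exact Odd.pow (by decide)
    have hcc1 : c * c ≠ 1 := by
      intro h4
      have h5 : c ^ 2 = 1 := by rw [pow_two]; exact h4
      have h6 := orderOf_dvd_of_pow_eq_one h5
      have h7 : orderOf c = 1 := by
        rcases (Nat.dvd_prime Nat.prime_two).1 h6 with h | h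
        · exact h
        · rw [h] at hodd
          exact absurd hodd (by decide)
      exact hc (orderOf_eq_one_iff.1 h7)
    have hcc3 : Is3 (c * c) := by
      rw [← pow_two]
      refine ⟨n, ?_⟩
      rw [orderOf_pow' c (by norm_num), hn]
      have : Nat.gcd (3 ^ n) 2 = 1 := Nat.Coprime.pow_left n (by norm_num)
      simp [this]
    have hcct : Commute (c * c) t := hct.mul_left hct
    exact hut (hL3 u t (c * c) hu ht hcc1 hcc3 h3 hcct)
  let u₀ : V := ⟨u, hu⟩
  let u₁ : V := ⟨t * u, hotu⟩
  let u₂ : V := cj c u₀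
  have h3 : 3 ≤ (Finset.univ.filter (fun b => adj t₀ b)).card := by
    have hsub : ({u₀, u₁, u₂} : Finset V) ⊆ Finset.univ.filter (fun b => adj t₀ b) := by
      intro x hx
      simp only [Finset.mem_insert, Finset.mem_singleton] at hx
      simp only [Finset.mem_filter, Finset.mem_univ, true_and]
      rcases hx with rfl | rfl | rfl
      · exact ⟨hut.symm, hcu.symm.eq⟩
      · refine ⟨?_, ?_⟩
        · intro h
          apply ne_one_of_order_two hu
          have h5 : t * 1 = t * u := by rw [mul_one]; exact h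
          exact (mul_left_cancel h5).symm
        · change t * (t * u) = t * u * t
          rw [mul_assoc, ← hcu.eq]
      · have h1 : adj t₀ u₀ := ⟨hut.symm, hcu.symm.eq⟩
        have h2 := (hadjcj c t₀ u₀).1 h1
        have h3 : cj c t₀ = t₀ := by
          apply Subtype.ext
          change c * t * c⁻¹ = t
          have : c * t = t * c := hct
          rw [this]; group
        rw [h3] at h2
        exact h2
    have hcard : ({u₀, u₁, u₂} : Finset V).card = 3 := by
      apply Finset.card_eq_three.2
      refine ⟨u₀, u₁, u₂, ?_, ?_, ?_, rfl⟩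
      · intro h
        exact hut' (congrArg Subtype.val h).symm
      · intro h
        exact hcu1 (congrArg Subtype.val h).symm
      · intro h
        exact hcu2 (congrArg Subtype.val h).symm
    rw [← hcard]
    exact Finset.card_le_card hsub
  refine no_regular_friendship (V := V) adj (fun a h => h.1 rfl) (fun a b h => ⟨h.1.symm, h.2.symm⟩)
    _ hdeg h3 ?_
  intro a b hab
  have hab' : (a : G) ≠ b := fun h => hab (Subtype.ext h)
  obtain ⟨w, hw, h1, h2, h4⟩ := huniq a b a.2 b.2 hab'
  refine ⟨⟨w, hw⟩, ⟨h1, h2⟩, ?_⟩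
  rintro ⟨w', hw'⟩ ⟨h5, h6⟩
  exact Subtype.ext (h4 w' hw' h5 h6)


open scoped Pointwise in
lemma exists_conj_mem_sylow {p : ℕ} [Fact p.Prime] [Finite G] (V : Sylow p G) {s : G} {n : ℕ}
    (hs : orderOf s = p ^ n) : ∃ y : G, y * s * y⁻¹ ∈ (V : Subgroup G) := by
  obtain ⟨V', hV'⟩ := IsPGroup.exists_le_sylow (isPGroup_zpowers_of_order hs)
  obtain ⟨y, hy⟩ := MulAction.exists_smul_eq G V' V
  refine ⟨y, ?_⟩
  have hsV : s ∈ (V' : Subgroup G) := hV' (Subgroup.mem_zpowers s)
  have h1 : MulAut.conj y • s ∈ MulAut.conj y • (V' : Subgroup G) :=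
    Subgroup.smul_mem_pointwise_smul _ _ _ hsV
  have h2 : ((y • V' : Sylow p G) : Subgroup G) = MulAut.conj y • (V' : Subgroup G) := by
    rw [Sylow.smul_def]; rfl
  rw [← h2, hy] at h1
  simpa [MulAut.smul_def] using h1

lemma mem_sylow_of_normalizer {p : ℕ} [Fact p.Prime] (V : Sylow p G) {s : G} {n : ℕ}
    (hs : orderOf s = p ^ n) (hN : s ∈ Subgroup.normalizer (((V : Subgroup G)) : Set G)) :
    s ∈ (V : Subgroup G) := by
  have h1 : IsPGroup p (Subgroup.zpowers s ⊔ (V : Subgroup G) : Subgroup G) := by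
    apply IsPGroup.to_sup_of_normal_right' (isPGroup_zpowers_of_order hs) V.isPGroup'
    rwa [Subgroup.zpowers_le]
  have h2 := V.is_maximal' h1 le_sup_right
  have h3 : s ∈ (Subgroup.zpowers s ⊔ (V : Subgroup G) : Subgroup G) :=
    Subgroup.mem_sup_left (Subgroup.mem_zpowers s)
  rw [h2] at h3
  exact h3

lemma order_pow_of_mem_sylow {p : ℕ} [Fact p.Prime] [Finite G] (V : Sylow p G) {s : G}
    (hs : s ∈ (V : Subgroup G)) : ∃ n : ℕ, orderOf s = p ^ n := by
  obtain ⟨k, hk⟩ := IsPGroup.iff_card.1 V.isPGroup'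
  have h1 : orderOf s ∣ p ^ k := by
    rw [← hk]
    exact Subgroup.orderOf_dvd_natCard _ hs
  obtain ⟨j, -, hj⟩ := (Nat.dvd_prime_pow (Fact.out)).1 h1
  exact ⟨j, hj⟩

end Cfsg.Agent.S4018

namespace Cfsg.Agent.S4018

/-- Let G be a finite group with an abelian Sylow 3-subgroup P such that the normalizer of P has order 4·#P, the centralizer C of P has order 2·#P, C meets each of its conjugates by elements outside its normalizer trivially, and every proper subgroup of G of even order has order dividing 4·#P. Then G is not simple. -/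
theorem result {G : Type*} [Group G] [Finite G]
    (P : Sylow 3 G) (hab : IsMulCommutative P)
    (hN : Nat.card (Subgroup.normalizer ((P : Subgroup G) : Set G)) = 4 * Nat.card P)
    (hC : Nat.card (Subgroup.centralizer (P : Set G)) = 2 * Nat.card P)
    (hTI : Cfsg.IsTISubset (Subgroup.centralizer (P : Set G) : Set G))
    (heven : ∀ H : Subgroup G, H ≠ ⊤ → 2 ∣ Nat.card H → Nat.card H ∣ 4 * Nat.card P) :
    ¬ IsSimpleGroup G := by
  intro hs
  classical
  haveI f3 : Fact (Nat.Prime 3) := ⟨Nat.prime_three⟩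
  haveI f2 : Fact (Nat.Prime 2) := ⟨Nat.prime_two⟩
  obtain ⟨e, he⟩ := IsPGroup.iff_card.1 P.isPGroup'
  rw [he] at hN hC heven
  have h3pos : 0 < 3 ^ e := by positivity
  set C : Subgroup G := Subgroup.centralizer ((P : Subgroup G) : Set G) with hCdef
  set N : Subgroup G := Subgroup.normalizer ((P : Subgroup G) : Set G) with hNdef
  have hC' : Nat.card C = 2 * 3 ^ e := hC
  have hCN : C ≤ N := Subgroup.centralizer_le_normalizer _
  have hPC : (P : Subgroup G) ≤ C := by
    haveI : IsMulCommutative (P : Subgroup G) := hab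
    exact Subgroup.le_centralizer _
  -- `C ≠ ⊤`
  have hCne : C ≠ ⊤ := by
    intro h
    have h1 : N = ⊤ := top_le_iff.1 (h ▸ hCN)
    rw [h1, Subgroup.card_top] at hN
    rw [h, Subgroup.card_top] at hC'
    omega
  have hnab : ¬ ∀ a b : G, a * b = b * a := by
    intro hcomm
    apply hCne
    rw [eq_top_iff]
    intro x _
    rw [hCdef, Subgroup.mem_centralizer_iff]
    intro h _
    exact hcomm h x
  have he1 : e ≠ 0 := by
    intro h0
    apply hCne
    rw [eq_top_iff]
    intro x _
    rw [hCdef, Subgroup.mem_centralizer_iff]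
    intro h hh
    rw [h0, pow_zero] at he
    have : h = 1 := by
      have h1 : (P : Subgroup G) = ⊥ := Subgroup.eq_bot_of_card_eq _ he
      have h2 : h ∈ (P : Subgroup G) := hh
      rw [h1] at h2
      exact h2
    simp [this]
  have h3odd : ¬ 2 ∣ 3 ^ e := by
    intro h
    have := Nat.prime_two.dvd_of_dvd_pow h
    omega
  -- an involution of `C`
  obtain ⟨t', ht'⟩ := exists_prime_orderOf_dvd_card' (G := C) 2 (by rw [hC']; exact dvd_mul_right _ _)
  set t : G := (t' : G) with htdef
  have ht : orderOf t = 2 := by rw [htdef, Subgroup.orderOf_coe]; exact ht'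
  have htC : t ∈ C := t'.2
  have hnotP : ∀ s : G, orderOf s = 2 → s ∉ (P : Subgroup G) := by
    intro s hs' hsP
    have : orderOf s ∣ Nat.card (P : Subgroup G) := Subgroup.orderOf_dvd_natCard _ hsP
    rw [hs', he] at this
    exact h3odd this
  have huq : ∀ s ∈ C, orderOf s = 2 → s = t := by
    intro s hsC hs2
    let PC : Subgroup C := (P : Subgroup G).subgroupOf C
    have hPCcard : Nat.card PC = 3 ^ e := by
      rw [← he]
      exact Nat.card_congr (Subgroup.subgroupOfEquivOfLe hPC).toEquiv
    have hidx : PC.index = 2 := by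
      have h1 := PC.index_mul_card
      rw [hPCcard, hC'] at h1
      exact Nat.eq_of_mul_eq_mul_right h3pos h1
    have hmul : (⟨s, hsC⟩ : C) * t' ∈ PC := by
      rw [Subgroup.mul_mem_iff_of_index_two hidx]
      constructor
      · intro h
        exact absurd (Subgroup.mem_subgroupOf.1 h) (hnotP s hs2)
      · intro h
        exact absurd (Subgroup.mem_subgroupOf.1 h) (hnotP t ht)
    have hx : s * t ∈ (P : Subgroup G) := Subgroup.mem_subgroupOf.1 hmul
    set x := s * t with hxdef
    have hxt : Commute x t := (Subgroup.mem_centralizer_iff.1 htC x hx)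
    have hst : s = x * t := by
      rw [hxdef, mul_assoc, mul_self_of_order_two ht, mul_one]
    have hx2 : x ^ 2 = 1 := by
      have h1 : s ^ 2 = 1 := hs2 ▸ pow_orderOf_eq_one s
      rw [hst, hxt.mul_pow, pow_two t, mul_self_of_order_two ht, mul_one] at h1
      exact h1
    have hx1 : x = 1 := by
      have h1 : orderOf x ∣ 2 := orderOf_dvd_of_pow_eq_one hx2
      have h2 : orderOf x ∣ 3 ^ e := by
        rw [← he]
        exact Subgroup.orderOf_dvd_natCard _ hx
      have h3 : orderOf x ∣ Nat.gcd 2 (3 ^ e) := Nat.dvd_gcd h1 h2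
      have h4 : Nat.gcd 2 (3 ^ e) = 1 := Nat.Coprime.pow_right e (by norm_num)
      rw [h4] at h3
      exact orderOf_eq_one_iff.1 (Nat.dvd_one.1 h3)
    rw [hst, hx1, one_mul]
  -- `N ≤ C(t)`
  have hconjC : ∀ n ∈ N, n * t * n⁻¹ ∈ C := by
    intro n hn
    rw [hCdef, Subgroup.mem_centralizer_iff]
    intro h hh
    have h2 : n⁻¹ * h * n ∈ (P : Subgroup G) := by
      have hn' := N.inv_mem hn
      have := (Subgroup.mem_normalizer_iff.1 hn' h).1 hh
      simpa using this
    have h3 := Subgroup.mem_centralizer_iff.1 htC _ h2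
    calc h * (n * t * n⁻¹) = n * ((n⁻¹ * h * n) * t) * n⁻¹ := by group
      _ = n * (t * (n⁻¹ * h * n)) * n⁻¹ := by rw [h3]
      _ = _ := by group
  have hNt : N ≤ Subgroup.centralizer ({t} : Set G) := by
    intro n hn
    rw [mem_centralizer_singleton]
    have := huq _ (hconjC n hn) (by rw [order_conj]; exact ht)
    have h1 : n * t = t * n := by
      calc n * t = n * t * n⁻¹ * n := by group
        _ = t * n := by rw [this]
    exact h1
  have hCtne : Subgroup.centralizer ({t} : Set G) ≠ ⊤ := by
    intro h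
    have htc : t ∈ Subgroup.center G := by
      rw [Subgroup.mem_center_iff]
      intro g
      have : g ∈ Subgroup.centralizer ({t} : Set G) := h ▸ Subgroup.mem_top g
      exact (mem_centralizer_singleton.1 this).eq
    rcases hs.eq_bot_or_eq_top_of_normal _ (inferInstance : (Subgroup.center G).Normal) with h1 | h1
    · rw [h1] at htc
      exact ne_one_of_order_two ht htc
    · apply hnab
      intro a b
      have : a ∈ Subgroup.center G := h1 ▸ Subgroup.mem_top a
      exact (Subgroup.mem_center_iff.1 this b).symm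
  have hNeq : N = Subgroup.centralizer ({t} : Set G) := by
    apply Subgroup.eq_of_le_of_card_ge hNt
    have h2 : 2 ∣ Nat.card (Subgroup.centralizer ({t} : Set G)) := by
      have h3 : Subgroup.zpowers t ≤ Subgroup.centralizer ({t} : Set G) := by
        rw [Subgroup.zpowers_le, mem_centralizer_singleton]
      have := Subgroup.card_dvd_of_le h3
      rwa [Nat.card_zpowers, ht] at this
    have h4 := heven _ hCtne h2
    rw [hN]
    exact Nat.le_of_dvd (by positivity) h4
  -- (P2)
  have hP2 : ∀ z : G, Is3 z → Commute z t → z ∈ (P : Subgroup G) := by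
    rintro z ⟨n, hn⟩ hzt
    apply mem_sylow_of_normalizer P hn
    change z ∈ N
    rw [hNeq, mem_centralizer_singleton]
    exact hzt
  -- (P3)
  have hP3 : ∀ g x : G, x ∈ (P : Subgroup G) → x ≠ 1 → g * x * g⁻¹ ∈ (P : Subgroup G) →
      g * t * g⁻¹ = t := by
    intro g x hx hx1 hgx
    by_cases hg : g ∈ Subgroup.normalizer (C : Set G)
    · apply huq _ _ (by rw [order_conj]; exact ht)
      exact (Subgroup.mem_normalizer_iff.1 hg t).1 htC
    · exact absurd (hTI g hg x (hPC hx) (hPC hgx)) hx1
  -- no subgroup of order 8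
  have hdvdN : Nat.card N ∣ Nat.card G := Subgroup.card_subgroup_dvd_card N
  have h3G : 3 ∣ Nat.card G := by
    rw [hN] at hdvdN
    refine dvd_trans ?_ hdvdN
    exact dvd_mul_of_dvd_right (dvd_pow_self 3 he1) 4
  have hno8 : ¬ 8 ∣ Nat.card G := by
    intro h8
    obtain ⟨E, hE⟩ := Sylow.exists_subgroup_card_pow_prime (G := G) 2 (n := 3) (by simpa using h8)
    have hEne : E ≠ ⊤ := by
      rintro rfl
      rw [Subgroup.card_top] at hE
      rw [hE] at h3G
      revert h3G
      decide
    have h1 := heven E hEne (by rw [hE]; exact dvd_pow_self 2 (by norm_num))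
    rw [hE] at h1
    have h2 : 2 ∣ 3 ^ e := by
      have h3 : 2 ^ 3 = 2 * 4 := by norm_num
      rw [h3, mul_comm] at h1
      exact Nat.dvd_of_mul_dvd_mul_left (by norm_num) h1
    exact h3odd h2
  -- Sylow `2`-subgroup through `t`
  obtain ⟨V, hVt⟩ := IsPGroup.exists_le_sylow (isPGroup_zpowers_of_order (p := 2) (n := 1) (a := t)
    (by simpa using ht))
  have htV : t ∈ (V : Subgroup G) := hVt (Subgroup.mem_zpowers t)
  have hVcard : Nat.card (V : Subgroup G) = 4 := by
    obtain ⟨k, hk⟩ := IsPGroup.iff_card.1 V.isPGroup'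
    have h4 : 2 ^ 2 ∣ Nat.card G := by
      rw [hN] at hdvdN
      exact dvd_trans (by norm_num) hdvdN
    have h5 := V.pow_dvd_card_of_pow_dvd_card h4
    rw [hk] at h5
    have h6 : 2 ≤ k := (Nat.pow_dvd_pow_iff_le_right (by norm_num)).1 h5
    have h7 : k ≤ 2 := by
      by_contra hlt
      apply hno8
      calc 8 = 2 ^ 3 := by norm_num
        _ ∣ 2 ^ k := pow_dvd_pow 2 (by omega)
        _ = Nat.card (V : Subgroup G) := hk.symm
        _ ∣ Nat.card G := Subgroup.card_subgroup_dvd_card _
    have : k = 2 := by omega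
    rw [hk, this]
    norm_num
  have hVab : ∀ a ∈ (V : Subgroup G), ∀ b ∈ (V : Subgroup G), a * b = b * a := by
    intro a ha b hb
    have h := IsPGroup.commutative_of_card_eq_prime_sq (p := 2) (G := (V : Subgroup G))
      (by rw [hVcard]; norm_num) ⟨a, ha⟩ ⟨b, hb⟩
    exact congrArg Subtype.val h
  -- Burnside transfer
  have hBurn : ¬ Subgroup.normalizer ((V : Subgroup G) : Set G) ≤
      Subgroup.centralizer ((V : Subgroup G) : Set G) := by
    intro hle
    have hcompl := MonoidHom.ker_transferSylow_isComplement' V hle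
    have hcard := hcompl.card_mul_card
    rcases hs.eq_bot_or_eq_top_of_normal _ (MonoidHom.normal_ker (MonoidHom.transferSylow V hle))
      with h | h
    · rw [h, Subgroup.card_bot, one_mul, hVcard] at hcard
      rw [← hcard] at h3G
      revert h3G
      decide
    · rw [h, Subgroup.card_top, hVcard] at hcard
      have h0 : 0 < Nat.card G := Nat.card_pos
      omega
  obtain ⟨g, hgN, hgC⟩ := Set.not_subset.1 hBurn
  obtain ⟨k, o', hodd, ho⟩ := Nat.exists_eq_two_pow_mul_odd (orderOf_pos g).ne'
  set h := g ^ (2 ^ k) with hh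
  have hhN : h ∈ Subgroup.normalizer ((V : Subgroup G) : Set G) :=
    Subgroup.pow_mem _ hgN _
  have hhodd : h ^ o' = 1 := by
    rw [hh, ← pow_mul, ← ho, pow_orderOf_eq_one]
  have hhC : h ∉ Subgroup.centralizer ((V : Subgroup G) : Set G) := by
    intro hmem
    apply hgC
    -- the `2`-part lies in `V`
    have h2 : g ^ o' ∈ (V : Subgroup G) := by
      have h3 : orderOf (g ^ o') ∣ 2 ^ k := by
        apply orderOf_dvd_of_pow_eq_one
        rw [← pow_mul, mul_comm, ← ho, pow_orderOf_eq_one]
      obtain ⟨j, -, hj⟩ := (Nat.dvd_prime_pow Nat.prime_two).1 h3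
      exact mem_sylow_of_normalizer V hj (Subgroup.pow_mem _ hgN _)
    have h2C : g ^ o' ∈ Subgroup.centralizer ((V : Subgroup G) : Set G) := by
      rw [Subgroup.mem_centralizer_iff]
      intro x hx
      exact hVab x hx _ h2
    have hcop : IsCoprime ((2 ^ k : ℕ) : ℤ) (o' : ℤ) := by
      rw [Nat.isCoprime_iff_coprime]
      exact Nat.Coprime.pow_left k (Nat.coprime_two_left.2 hodd)
    obtain ⟨a, b, hab'⟩ := hcop
    have : g = (g ^ (2 ^ k)) ^ a * (g ^ o') ^ b := by
      rw [← zpow_natCast, ← zpow_natCast g o', ← zpow_mul, ← zpow_mul, ← zpow_add]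
      have : ((2 ^ k : ℕ) : ℤ) * a + (o' : ℤ) * b = 1 := by linarith
      rw [this, zpow_one]
    rw [this]
    exact Subgroup.mul_mem _ (Subgroup.zpow_mem _ hmem _) (Subgroup.zpow_mem _ h2C _)
  rw [Subgroup.mem_centralizer_iff] at hhC
  push Not at hhC
  obtain ⟨v, hvV, hvh⟩ := hhC
  have hv1 : v ≠ 1 := by
    rintro rfl
    simp at hvh
  set v₁ := h * v * h⁻¹ with hv₁
  set v₂ := h * v₁ * h⁻¹ with hv₂
  have hv₁V : v₁ ∈ (V : Subgroup G) := (Subgroup.mem_normalizer_iff.1 hhN v).1 hvV
  have hv₂V : v₂ ∈ (V : Subgroup G) := (Subgroup.mem_normalizer_iff.1 hhN v₁).1 hv₁V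
  have hv₁ne : v₁ ≠ 1 := by
    intro h'
    apply hv1
    have : h * v * h⁻¹ = h * 1 * h⁻¹ := by rw [mul_one, mul_inv_cancel]; exact h'
    exact mul_left_cancel (mul_right_cancel this)
  have hv₂ne : v₂ ≠ 1 := by
    intro h'
    apply hv₁ne
    have : h * v₁ * h⁻¹ = h * 1 * h⁻¹ := by rw [mul_one, mul_inv_cancel]; exact h'
    exact mul_left_cancel (mul_right_cancel this)
  have hne01 : v ≠ v₁ := by
    intro h'
    apply hvh
    calc v * h = (h * v * h⁻¹) * h := by rw [← hv₁, ← h']
      _ = h * v := by group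
  have hne12 : v₁ ≠ v₂ := by
    intro h'
    apply hne01
    exact mul_left_cancel (mul_right_cancel h')
  have hne02 : v ≠ v₂ := by
    intro h'
    -- `h * h` commutes with `v`, hence so does `h`
    have h1 : Commute (h ^ 2) v := by
      have : h ^ 2 * v = v * h ^ 2 := by
        calc h ^ 2 * v = (h * (h * v * h⁻¹) * h⁻¹) * h ^ 2 := by simp only [pow_two]; group
          _ = v * h ^ 2 := by rw [← hv₁, ← hv₂, ← h']
      exact this
    obtain ⟨r, hr⟩ := hodd
    have h2 : h = (h ^ 2) ^ (r + 1) := by
      rw [← pow_mul, show 2 * (r + 1) = o' + 1 by omega, pow_succ, hhodd, one_mul]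
    have h3 : Commute h v := by
      rw [h2]
      exact h1.pow_left _
    exact hvh h3.eq.symm
  -- `V` consists of these
  have hVF : ∀ x ∈ (V : Subgroup G), x ≠ 1 → x = v ∨ x = v₁ ∨ x = v₂ := by
    let F : Finset G := {1, v, v₁, v₂}
    have hFc : F.card = 4 := by
      have e1 : (1 : G) ∉ ({v, v₁, v₂} : Finset G) := by
        simp only [Finset.mem_insert, Finset.mem_singleton, not_or]
        exact ⟨hv1.symm, hv₁ne.symm, hv₂ne.symm⟩
      have e2 : v ∉ ({v₁, v₂} : Finset G) := by
        simp only [Finset.mem_insert, Finset.mem_singleton, not_or]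
        exact ⟨hne01, hne02⟩
      have e3 : v₁ ∉ ({v₂} : Finset G) := by
        simp only [Finset.mem_singleton]
        exact hne12
      simp only [F]
      rw [Finset.card_insert_of_notMem e1, Finset.card_insert_of_notMem e2,
        Finset.card_insert_of_notMem e3, Finset.card_singleton]
    have hFV : (F : Set G) ⊆ ((V : Subgroup G) : Set G) := by
      intro x hx
      simp only [F, Finset.coe_insert, Finset.coe_singleton, Set.mem_insert_iff,
        Set.mem_singleton_iff] at hx
      rcases hx with rfl | rfl | rfl | rfl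
      · exact Subgroup.one_mem _
      · exact hvV
      · exact hv₁V
      · exact hv₂V
    have heq : (F : Set G) = ((V : Subgroup G) : Set G) := by
      apply Set.eq_of_subset_of_ncard_le hFV
      rw [Set.ncard_coe_finset, hFc, ← Nat.card_coe_set_eq]
      exact hVcard.le
    intro x hx hx1
    have : x ∈ (F : Set G) := heq ▸ hx
    simp only [F, Finset.coe_insert, Finset.coe_singleton, Set.mem_insert_iff,
      Set.mem_singleton_iff] at this
    rcases this with h' | h' | h' | h'
    · exact absurd h' hx1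
    · exact Or.inl h'
    · exact Or.inr (Or.inl h')
    · exact Or.inr (Or.inr h')
  -- all of these are conjugate to `t`
  have hconjV : ∀ x ∈ (V : Subgroup G), x ≠ 1 → ∃ y, x = y * t * y⁻¹ := by
    have h0 : ∃ y, v = y * t * y⁻¹ := by
      rcases hVF t htV (ne_one_of_order_two ht) with h' | h' | h'
      · exact ⟨1, by simp [h']⟩
      · refine ⟨h⁻¹, ?_⟩
        rw [h', hv₁]
        group
      · refine ⟨h⁻¹ * h⁻¹, ?_⟩
        rw [h', hv₂, hv₁]
        group
    obtain ⟨y, hy⟩ := h0
    intro x hx hx1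
    rcases hVF x hx hx1 with h' | h' | h'
    · exact ⟨y, by rw [h', hy]⟩
    · refine ⟨h * y, ?_⟩
      rw [h', hv₁, hy]
      group
    · refine ⟨h * h * y, ?_⟩
      rw [h', hv₂, hv₁, hy]
      group
  have hconj : ∀ s : G, orderOf s = 2 → ∃ x, s = x * t * x⁻¹ := by
    intro s hs2
    obtain ⟨y, hy⟩ := exists_conj_mem_sylow V (s := s) (n := 1) (by simpa using hs2)
    have hne : y * s * y⁻¹ ≠ 1 := by
      have := order_conj y s
      intro h'
      rw [h', orderOf_one, hs2] at this
      omega
    obtain ⟨x, hx⟩ := hconjV _ hy hne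
    refine ⟨y⁻¹ * x, ?_⟩
    have : s = y⁻¹ * (y * s * y⁻¹) * y := by group
    rw [this, hx]
    group
  have hconjIs3 : ∀ (z y : G), Is3 z → Is3 (y * z * y⁻¹) := by
    rintro z y ⟨n, hn⟩
    exact ⟨n, by rw [order_conj]; exact hn⟩
  have hL3 : ∀ s₁ s₂ z : G, orderOf s₁ = 2 → orderOf s₂ = 2 → z ≠ 1 → Is3 z →
      Commute z s₁ → Commute z s₂ → s₁ = s₂ := by
    intro s₁ s₂ z h1 h2 hz1 hz3 hc1 hc2
    obtain ⟨x, hx⟩ := hconj s₁ h1
    obtain ⟨y, hy⟩ := hconj s₂ h2
    have key : ∀ w : G, Commute z (w * t * w⁻¹) → w⁻¹ * z * w ∈ (P : Subgroup G) := by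
      intro w hw
      apply hP2
      · have := hconjIs3 z w⁻¹ hz3
        rwa [inv_inv] at this
      · have h3 := hw.map (MulAut.conj w⁻¹)
        simp only [MulAut.conj_apply, inv_inv] at h3
        have h4 : w⁻¹ * (w * t * w⁻¹) * w = t := by group
        rwa [h4] at h3
    have hxP := key x (hx ▸ hc1)
    have hyP := key y (hy ▸ hc2)
    have hne : x⁻¹ * z * x ≠ 1 := by
      intro h'
      apply hz1
      have : z = x * (x⁻¹ * z * x) * x⁻¹ := by group
      rw [this, h']
      group
    have hcj : (y⁻¹ * x) * (x⁻¹ * z * x) * (y⁻¹ * x)⁻¹ ∈ (P : Subgroup G) := by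
      have : (y⁻¹ * x) * (x⁻¹ * z * x) * (y⁻¹ * x)⁻¹ = y⁻¹ * z * y := by group
      rw [this]
      exact hyP
    have h5 := hP3 _ _ hxP hne hcj
    rw [hx, hy]
    have h6 : x * t * x⁻¹ = y * ((y⁻¹ * x) * t * (y⁻¹ * x)⁻¹) * y⁻¹ := by group
    rw [h6, h5]
  have h3inv : ∀ z : G, Is3 z → ∃ w, orderOf w = 2 ∧ Commute z w := by
    rintro z ⟨n, hn⟩
    obtain ⟨y, hy⟩ := exists_conj_mem_sylow P hn
    refine ⟨y⁻¹ * t * y, ?_, ?_⟩
    · have := order_conj y⁻¹ t
      rw [inv_inv] at this
      rw [this]
      exact ht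
    · have h1 : Commute (y * z * y⁻¹) t := (Subgroup.mem_centralizer_iff.1 htC _ hy)
      have h2 := h1.map (MulAut.conj y⁻¹)
      simp only [MulAut.conj_apply, inv_inv] at h2
      have h3 : y⁻¹ * (y * z * y⁻¹) * y = z := by group
      rwa [h3] at h2
  -- the element `u`
  have hu : ∃ u ∈ (V : Subgroup G), u ≠ 1 ∧ u ≠ t := by
    by_cases h' : v = t
    · refine ⟨v₁, hv₁V, hv₁ne, ?_⟩
      rw [← h']
      exact hne01.symm
    · exact ⟨v, hvV, hv1, h'⟩
  obtain ⟨u, huV, hu1, hut⟩ := hu
  have huo : orderOf u = 2 := by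
    obtain ⟨y, hy⟩ := hconjV u huV hu1
    rw [hy, order_conj]
    exact ht
  -- the element `c`
  obtain ⟨c', hc'⟩ := exists_prime_orderOf_dvd_card' (G := (P : Subgroup G)) 3
    (by rw [he]; exact dvd_pow_self 3 he1)
  have hco : orderOf (c' : G) = 3 := by rw [Subgroup.orderOf_coe]; exact hc'
  have hc1 : (c' : G) ≠ 1 := by
    intro h'
    rw [h', orderOf_one] at hco
    omega
  refine friend_key hs hnab hno8 (e := e) heven t ht hconj hL3 h3inv u c' huo hut
    (hVab u huV t htV) hc1 ⟨1, by simpa using hco⟩ (Subgroup.mem_centralizer_iff.1 htC _ c'.2)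

end Cfsg.Agent.S4018
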