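import Cfsg.Statements.S0496
import Cfsg.Agent.Lib.Small.Low2
import Cfsg.Agent.Lib.Small.Low4
import Cfsg.Agent.Lib.Small.Ord720c

set_option autoImplicit false
open Cfsg

namespace Cfsg.Agent.S0496

open Cfsg.Agent.Lib.Small.Basic Cfsg.Agent.Lib.Small.Sieve Cfsg.Agent.Lib.Small.Low2
  Cfsg.Agent.Lib.Small.Low4 Cfsg.Agent.Lib.Small.Ord720c

theorem key : ∀ n ∈ List.range 1093, n = 0 ∨ n = 1 ∨ n ∈ [60, 168, 360, 504, 660, 1092] ∨
    n ∈ [264, 288, 336, 420, 432, 480, 528, 560, 576, 612, 672, 720, 756, 760, 792, 800, 840, 864, 960, 1008, 1040, 1053, 1056, 1080] ∨ sieve n = true := by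
  decide +kernel

/-- A non-abelian finite simple group of order at most 1092 has order 60, 168, 360, 504, 660 or 1092. -/
theorem result {G : Type*} [Group G] [Finite G] [IsSimpleGroup G]
    (hG : ¬ IsMulCommutative G) (h : Nat.card G ≤ 1092) :
    Nat.card G = 60 ∨ Nat.card G = 168 ∨ Nat.card G = 360 ∨ Nat.card G = 504 ∨ Nat.card G = 660 ∨
      Nat.card G = 1092 := by
  have hpos : 0 < Nat.card G := Nat.card_pos
  have hone : Nat.card G ≠ 1 := by
    intro h1
    exact (Finite.one_lt_card (α := G)).ne' h1
  rcases key (Nat.card G) (List.mem_range.mpr (by omega)) with h0 | h1 | hv | hsp | hs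
  · omega
  · exact absurd h1 hone
  · simpa using hv
  · simp only [List.mem_cons, List.not_mem_nil, or_false] at hsp
    rcases hsp with hn | hn | hn | hn | hn | hn | hn | hn | hn | hn | hn | hn | hn | hn | hn | hn | hn | hn | hn | hn | hn | hn | hn | hn
    · exact (false_264 hG hn).elim
    · exact (false_288 hG hn).elim
    · exact (false_336 hG hn).elim
    · exact (false_420 hG hn).elim
    · exact (false_432 hG hn).elim
    · exact (false_480 hG hn).elim
    · exact (false_528 hG hn).elim
    · exact (false_560 hG hn).elim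
    · exact (false_576 hG hn).elim
    · exact (false_612 hG hn).elim
    · exact (false_672 hG hn).elim
    · exact (false_720 hG hn).elim
    · exact (false_756 hG hn).elim
    · exact (false_760 hG hn).elim
    · exact (false_792 hG hn).elim
    · exact (false_800 hG hn).elim
    · exact (false_840 hG hn).elim
    · exact (false_864 hG hn).elim
    · exact (false_960 hG hn).elim
    · exact (false_1008 hG hn).elim
    · exact (false_1040 hG hn).elim
    · exact (false_1053 hG hn).elim
    · exact (false_1056 hG hn).elim
    · exact (false_1080 hG hn).elim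
  · exact (false_of_sieve hG rfl hs).elim

end Cfsg.Agent.S0496
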