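import Mathlib
import Cfsg.Statements.S4118
import Cfsg.Agent.Lib.Coprime.Action
import Cfsg.Agent.Lib.Coprime.Generation
import Cfsg.Agent.Lib.Frobenius.Theorem
import Cfsg.Agent.Lib.Frobenius.Normal
import Cfsg.Agent.Lib.Frobenius.Conjugacy
import Cfsg.Agent.Lib.Frobenius.Construct
import Cfsg.Agent.Lib.Zassen.QuatAut
import Cfsg.Agent.S3359
import Cfsg.Agent.S0016
import Cfsg.Agent.Lib.Classical.Transvections
import Cfsg.Agent.Lib.Frobenius.SL2Table

set_option autoImplicit false
set_option linter.all false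
open Cfsg

namespace Cfsg.Agent.S4118

open Subgroup Cfsg.Agent.Lib.Coprime.SchurZassenhaus Cfsg.Agent.Lib.Coprime.Action
open Cfsg.Agent.Lib.Frobenius.Theorem Cfsg.Agent.Lib.Frobenius.Normal Cfsg.Agent.Lib.Frobenius.Conjugacy
open scoped Pointwise

section Conj

variable {G : Type*} [Group G] [Finite G]

lemma mem_normalizer_of_ti {D : Subgroup G} (hTI : IsTISubset (D : Set G)) {g x : G} (hx : x ∈ D)
    (hx1 : x ≠ 1) (hg : g * x * g⁻¹ ∈ D) : g ∈ normalizer (D : Set G) := by
  by_contra h
  exact hx1 (hTI g h x hx hg)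

lemma mem_normalizer_of_normal (O : Subgroup G) [hO : O.Normal] (a : G) : a ∈ normalizer (O : Set G) := by
  rw [mem_normalizer_iff]
  intro h
  constructor
  · intro hh
    exact hO.conj_mem h hh a
  · intro hh
    have := hO.conj_mem _ hh a⁻¹
    simpa [mul_assoc] using this

lemma pow_card_mem {D : Subgroup G} {g : G} (hg : g ∈ D) : g ^ Nat.card D = 1 := by
  have h := pow_card_eq_one' (x := (⟨g, hg⟩ : D))
  exact congrArg Subtype.val h

lemma eq_one_of_coprime_pow {x : G} {a b : ℕ} (hab : a.Coprime b) (h1 : x ^ a = 1) (h2 : x ^ b = 1) :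
    x = 1 := by
  have h := pow_gcd_eq_one.2 ⟨h1, h2⟩
  rw [hab.gcd_eq_one, pow_one] at h
  exact h

/-- Elements of `O ∩ N(D)` centralize `D`. -/
lemma comm_of_mem_normalizer {D O : Subgroup G} [O.Normal] (hdisj : O ⊓ D = ⊥) {o d : G} (ho : o ∈ O)
    (hon : o ∈ normalizer (D : Set G)) (hd : d ∈ D) : o * d = d * o := by
  have h1 : o * d * o⁻¹ * d⁻¹ ∈ O := by
    have : o * (d * o⁻¹ * d⁻¹) ∈ O := O.mul_mem ho (Subgroup.Normal.conj_mem inferInstance _ (O.inv_mem ho) d)
    simpa [mul_assoc] using this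
  have h2 : o * d * o⁻¹ * d⁻¹ ∈ D := by
    have h3 : o * d * o⁻¹ ∈ D := (mem_normalizer_iff.mp hon d).mp hd
    exact D.mul_mem h3 (D.inv_mem hd)
  have h3 : o * d * o⁻¹ * d⁻¹ ∈ O ⊓ D := ⟨h1, h2⟩
  rw [hdisj, mem_bot] at h3
  have h4 : o * d * o⁻¹ = d := by
    have := mul_eq_one_iff_eq_inv.mp h3
    simpa using this
  calc o * d = (o * d * o⁻¹) * o := by group
    _ = d * o := by rw [h4]

/-- An element of `N(D) ∩ OD` of order dividing `|D|` lies in `D`. -/
lemma mem_of_normalizer_sup {D O : Subgroup G} [O.Normal] (hcop : (Nat.card D).Coprime (Nat.card O))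
    {g : G} (hgn : g ∈ normalizer (D : Set G)) (hgs : g ∈ O ⊔ D) (hpow : g ^ Nat.card D = 1) : g ∈ D := by
  have hdisj : O ⊓ D = ⊥ := disjoint_of_coprime_card hcop.symm
  obtain ⟨o, ho, d, hd, rfl⟩ := exists_mul_of_mem_sup (A := D) (K := O)
    (fun a _ => mem_normalizer_of_normal O a) hgs
  have hon : o ∈ normalizer (D : Set G) := by
    have : o = (o * d) * d⁻¹ := by group
    rw [this]
    exact mul_mem hgn (inv_mem (le_normalizer hd))
  have hcomm : Commute o d := comm_of_mem_normalizer hdisj ho hon hd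
  have h1 : o ^ Nat.card D = 1 := by
    have h2 := hcomm.mul_pow (Nat.card D)
    rw [hpow, pow_card_mem hd, mul_one] at h2
    exact h2.symm
  have h3 : o = 1 := eq_one_of_coprime_pow hcop h1 (pow_card_mem ho)
  rw [h3, one_mul]
  exact hd

/-- If `g ∈ D₁` moves a nontrivial element of the block of `x` back into it, then `g` lies in the block. -/
lemma block_mem {D O D₁ : Subgroup G} [O.Normal] (hTI : IsTISubset (D : Set G))
    (hcop : (Nat.card D).Coprime (Nat.card O)) (hD₁ : D₁ ≤ O ⊔ D) (hcard : Nat.card D₁ = Nat.card D)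
    {x g y : G} (hx : x ∈ O) (hg : g ∈ D₁) (hy : x * y * x⁻¹ ∈ D) (hy1 : y ≠ 1)
    (hgy : x * (g * y * g⁻¹) * x⁻¹ ∈ D) : x * g * x⁻¹ ∈ D := by
  have hy1' : x * y * x⁻¹ ≠ 1 := by
    intro h
    apply hy1
    have : y = x⁻¹ * (x * y * x⁻¹) * x := by group
    rw [this, h]
    group
  have hn : x * g * x⁻¹ ∈ normalizer (D : Set G) := by
    apply mem_normalizer_of_ti hTI hy hy1'
    have : x * g * x⁻¹ * (x * y * x⁻¹) * (x * g * x⁻¹)⁻¹ = x * (g * y * g⁻¹) * x⁻¹ := by group
    rw [this]
    exact hgy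
  apply mem_of_normalizer_sup hcop hn
  · have hxs : x ∈ O ⊔ D := (le_sup_left : O ≤ O ⊔ D) hx
    exact mul_mem (mul_mem hxs (hD₁ hg)) (inv_mem hxs)
  · have h1 : g ^ Nat.card D = 1 := by
      rw [← hcard]
      exact pow_card_mem hg
    have h2 : (x * g * x⁻¹) ^ Nat.card D = x * g ^ Nat.card D * x⁻¹ := by
      simp [conj_pow]
    rw [h2, h1]
    group

/-- **Complements are conjugate** (without any solvability assumption) when the complement is TI. -/
theorem conj_of_ti (D O D₁ : Subgroup G) [O.Normal] (hTI : IsTISubset (D : Set G))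
    (hcop : (Nat.card D).Coprime (Nat.card O)) (hD₁ : D₁ ≤ O ⊔ D) (hcard : Nat.card D₁ = Nat.card D) :
    ∃ x ∈ O, MulAut.conj x • D₁ = D := by
  classical
  by_contra hno
  push_neg at hno
  have hnorm : ∀ {A : Subgroup G}, A ≤ normalizer (O : Set G) := by
    intro A a _
    exact mem_normalizer_of_normal O a
  -- the blocks
  let B : G → Subgroup D₁ := fun x => (MulAut.conj x⁻¹ • D).subgroupOf D₁
  have hB : ∀ (x : G) (u : D₁), u ∈ B x ↔ x * (u : G) * x⁻¹ ∈ D := by
    intro x u
    show (u : G) ∈ MulAut.conj x⁻¹ • D ↔ _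
    rw [mem_conj_smul_iff, inv_inv]
  have hclaim : ∀ u : D₁, ∃ x ∈ O, u ∈ B x := by
    intro u
    have hcop' : (Nat.card (zpowers (u : G))).Coprime (Nat.card O) := by
      refine Nat.Coprime.coprime_dvd_left ?_ hcop
      rw [← hcard, Nat.card_zpowers]
      exact Subgroup.orderOf_dvd_natCard D₁ u.2
    obtain ⟨k, hk, hk'⟩ := glauberman_exists (A := zpowers (u : G)) (K := O) D hnorm hcop'
      (Or.inl inferInstance) (fun a ha => by
        have ha' : a ∈ D₁ := (zpowers_le.mpr u.2) ha
        obtain ⟨o, ho, d, hd, rfl⟩ := exists_mul_of_mem_sup (A := D) (K := O) hnorm (hD₁ ha')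
        exact ⟨o⁻¹, O.inv_mem ho, by simpa using hd⟩)
    refine ⟨k⁻¹, O.inv_mem hk, ?_⟩
    rw [hB, inv_inv]
    exact hk' _ (mem_zpowers _)
  -- no block is everything
  have hne : ∀ x ∈ O, B x ≠ ⊤ := by
    intro x hx hBx
    apply hno x hx
    apply Subgroup.eq_of_le_of_card_ge
    · intro z hz
      rw [mem_conj_smul_iff] at hz
      have h1 : (⟨x⁻¹ * z * x, hz⟩ : D₁) ∈ B x := by rw [hBx]; trivial
      rw [hB] at h1
      have h2 : x * (x⁻¹ * z * x) * x⁻¹ = z := by group
      simp only [h2] at h1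
      exact h1
    · rw [Cfsg.Agent.Lib.Coprime.SchurZassenhaus.card_conj_smul, hcard]
  -- Frobenius
  have hF : ∀ x ∈ O, B x ≠ ⊥ → IsFrobeniusComplement (B x) := by
    intro x hx hb
    refine ⟨hb, hne x hx, ?_⟩
    intro g hg
    rw [eq_bot_iff]
    rintro z ⟨hz1, hz2⟩
    have hz1 : z ∈ B x := hz1
    have hz2 : z ∈ MulAut.conj g • B x := hz2
    rw [mem_bot]
    by_contra hz
    apply hg
    rw [hB]
    have hz2' : g⁻¹ * z * g ∈ B x := by
      rw [← mem_conj_smul_iff]
      exact hz2
    rw [hB] at hz1 hz2'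
    refine block_mem hTI hcop hD₁ hcard hx g.2 (y := ((g⁻¹ * z * g : D₁) : G)) hz2' ?_ ?_
    · intro h
      apply hz
      have h' : g⁻¹ * z * g = 1 := Subtype.ext h
      have : z = g * (g⁻¹ * z * g) * g⁻¹ := by group
      rw [this, h']
      group
    · have : (g : G) * ((g⁻¹ * z * g : D₁) : G) * (g : G)⁻¹ = (z : G) := by
        push_cast
        group
      rw [this]
      exact hz1
  -- a nontrivial element
  have hD1 : D₁ ≠ ⊥ := by
    intro h
    have h1 : Nat.card D = 1 := by rw [← hcard, h]; simp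
    have h2 : D = ⊥ := (Subgroup.card_eq_one).mp h1
    apply hno 1 O.one_mem
    rw [h, h2]
    ext z
    simp [mem_conj_smul_iff]
  obtain ⟨u₀, hu₀⟩ := (Subgroup.ne_bot_iff_exists_ne_one).mp hD1
  have hex : ∃ n : ℕ, ∃ x ∈ O, B x ≠ ⊥ ∧ Nat.card (kernel (B x)) = n := by
    obtain ⟨x, hx, hux⟩ := hclaim u₀
    refine ⟨_, x, hx, ?_, rfl⟩
    intro h
    rw [h, mem_bot] at hux
    exact hu₀ hux
  classical
  obtain ⟨x₀, hx₀, hb₀, hn₀⟩ := Nat.find_spec hex
  have hmin : ∀ x ∈ O, B x ≠ ⊥ → Nat.card (kernel (B x₀)) ≤ Nat.card (kernel (B x)) := by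
    intro x hx hb
    rw [hn₀]
    exact Nat.find_min' hex ⟨x, hx, hb, rfl⟩
  have hF₀ := hF x₀ hx₀ hb₀
  have hK₀ : kernel (B x₀) ≠ ⊥ := by
    intro h
    have h1 := card_kernel hF₀
    rw [h] at h1
    simp at h1
    exact hne x₀ hx₀ (Subgroup.index_eq_one.mp h1.symm)
  obtain ⟨k, hk⟩ := (Subgroup.ne_bot_iff_exists_ne_one).mp hK₀
  obtain ⟨x₁, hx₁, hkx⟩ := hclaim (k : D₁)
  have hb₁ : B x₁ ≠ ⊥ := by
    intro h
    rw [h, mem_bot] at hkx
    exact hk (Subtype.ext hkx)
  have hF₁ := hF x₁ hx₁ hb₁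
  have hkK : (k : D₁) ∈ kernel (B x₁) := by
    rcases kernel_le_or_le_kernel hF₁ (kernel (B x₀)) with h | h
    · have h2 : kernel (B x₁) = kernel (B x₀) :=
        Subgroup.eq_of_le_of_card_ge h (hmin x₁ hx₁ hb₁)
      rw [h2]
      exact k.2
    · exact h k.2
  have h3 : (k : D₁) ∈ kernel (B x₁) ⊓ B x₁ := ⟨hkK, hkx⟩
  rw [kernel_inf_eq_bot hF₁, mem_bot] at h3
  exact hk (Subtype.ext h3)

end Conj

section Core

variable {G : Type*} [Group G] [Finite G]

lemma coprime_of_primes {a b c : ℕ} (h : a.Coprime c) (hb : ∀ q : ℕ, q.Prime → q ∣ b → q ∣ c) : a.Coprime b := by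
  by_contra hn
  obtain ⟨q, hq, h1, h2⟩ := Nat.Prime.not_coprime_iff_dvd.mp hn
  exact hq.one_lt.ne' (Nat.eq_one_of_dvd_coprimes h h1 (hb q hq h2))

lemma exists_complement_in (O X : Subgroup G) [O.Normal] (hOX : O ≤ X)
    (hcop : (Nat.card O).Coprime (O.relIndex X)) :
    ∃ S : Subgroup G, S ≤ X ∧ Nat.card S = O.relIndex X ∧ S ⊔ O = X := by
  haveI : (O.subgroupOf X).Normal := inferInstance
  have h1 : (Nat.card (O.subgroupOf X)).Coprime (O.subgroupOf X).index := by
    rw [card_subgroupOf_of_le hOX]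
    exact hcop
  obtain ⟨S', hS'⟩ := Subgroup.exists_right_complement'_of_coprime h1
  have hc : Nat.card S' = O.relIndex X := (hS'.symm.index_eq_card).symm
  have hcS : Nat.card (S'.map X.subtype) = O.relIndex X := by
    rw [Subgroup.card_map_of_injective X.subtype_injective, hc]
  refine ⟨S'.map X.subtype, Subgroup.map_subtype_le _, hcS, ?_⟩
  apply Subgroup.eq_of_le_of_card_ge (sup_le (Subgroup.map_subtype_le _) hOX)
  have hdisj : S'.map X.subtype ⊓ O = ⊥ := by
    apply disjoint_of_coprime_card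
    rw [hcS]
    exact hcop.symm
  rw [card_sup_of_disjoint O _ hdisj, hcS, ← card_eq_card_mul_relIndex hOX]

/-- The main structure statement. -/
theorem core (H O : Subgroup G) [hOn : O.Normal] (hTI : IsTISubset (H : Set G)) (hnn : ¬ H.Normal)
    (hHall : (Nat.card H).Coprime (H.subgroupOf (normalizer (H : Set G))).index)
    (hsep : ∃ (n : ℕ) (M : Fin (n + 1) → Subgroup G), M 0 = ⊥ ∧ M (Fin.last n) = ⊤ ∧ Monotone M ∧ (∀ i, (M i).Normal) ∧
      ∀ i : Fin n, (∀ q : ℕ, q.Prime → q ∣ (M i.castSucc).relIndex (M i.succ) → q ∣ Nat.card H) ∨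
        ((M i.castSucc).relIndex (M i.succ)).Coprime (Nat.card H))
    (hOcop : (Nat.card O).Coprime (Nat.card H))
    (hOmax : ∀ K : Subgroup G, K.Normal → (Nat.card K).Coprime (Nat.card H) → K ≤ O) :
    O ⊔ normalizer (H : Set G) = ⊤ := by
  classical
  have hH1 : H ≠ ⊥ := by
    intro h
    apply hnn
    rw [h]
    infer_instance
  have hdisj : O ⊓ H = ⊥ := disjoint_of_coprime_card hOcop
  have hnotHO : ¬ H ≤ O := by
    intro h
    apply hH1
    rw [eq_bot_iff, ← hdisj]
    exact le_inf h le_rfl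
  obtain ⟨n, M, h0, hlast, hmono, hnorm, hfac⟩ := hsep
  obtain ⟨i, hi1, hi2⟩ : ∃ i : Fin n, M i.castSucc ≤ O ∧ ¬ M i.succ ≤ O := by
    by_contra hcon
    push_neg at hcon
    have hall : ∀ j : Fin (n + 1), M j ≤ O := by
      intro j
      induction j using Fin.induction with
      | zero => rw [h0]; exact bot_le
      | succ i ih => exact hcon i ih
    apply hnotHO
    have := hall (Fin.last n)
    rw [hlast] at this
    exact le_top.trans this
  set A := M i.castSucc with hA
  set B := M i.succ with hB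
  haveI hBn : B.Normal := hnorm _
  have hAB : A ≤ B := hmono (Fin.castSucc_lt_succ).le
  have hr : ∀ q : ℕ, q.Prime → q ∣ A.relIndex B → q ∣ Nat.card H := by
    rcases hfac i with h | h
    · exact h
    · exfalso
      apply hi2
      apply hOmax B hBn
      rw [card_eq_card_mul_relIndex hAB]
      apply Nat.Coprime.mul_left
      · exact Nat.Coprime.coprime_dvd_left (Subgroup.card_dvd_of_le hi1) hOcop
      · exact h
  -- the subgroup `L`
  set L := B ⊔ O with hL
  haveI hLn : L.Normal := Subgroup.sup_normal B O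
  have hOL : O ≤ L := le_sup_right
  have hLO : O ≠ L := by
    intro h
    apply hi2
    rw [h]
    exact le_sup_left
  have hrLO : ∀ q : ℕ, q.Prime → q ∣ O.relIndex L → q ∣ Nat.card H := by
    intro q hq hd
    apply hr q hq
    refine hd.trans ?_
    rw [hL, Subgroup.relIndex_sup_right, ← Subgroup.inf_relIndex_right]
    exact Subgroup.relIndex_dvd_of_le_left B (le_inf hi1 hAB)
  -- the subgroup `X`
  set X := H ⊔ L with hX
  have hOX : O ≤ X := hOL.trans le_sup_right
  have hLX : L ≤ X := le_sup_right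
  have hrX : ∀ q : ℕ, q.Prime → q ∣ O.relIndex X → q ∣ Nat.card H := by
    intro q hq hd
    rw [← Subgroup.relIndex_mul_relIndex O L X hOL hLX] at hd
    rcases (Nat.Prime.dvd_mul hq).mp hd with h | h
    · exact hrLO q hq h
    · rw [hX, Subgroup.relIndex_sup_right] at h
      exact h.trans (Subgroup.relIndex_dvd_card L H)
  obtain ⟨S, hSX, hScard, hSO⟩ := exists_complement_in O X hOX (coprime_of_primes hOcop hrX)
  -- the block `S₁`
  set S₁ := S ⊓ (O ⊔ H) with hS₁
  have hOHX : O ⊔ H ≤ X := sup_le hOX le_sup_left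
  have hS₁O : S₁ ⊓ O = ⊥ := by
    apply disjoint_of_coprime_card
    exact Nat.Coprime.coprime_dvd_left (Subgroup.card_dvd_of_le inf_le_left)
      (by rw [hScard]; exact (coprime_of_primes hOcop hrX).symm)
  have hS₁sup : S₁ ⊔ O = H ⊔ O := by
    apply le_antisymm
    · apply sup_le
      · exact inf_le_right.trans (by rw [sup_comm])
      · exact le_sup_right
    · apply sup_le _ le_sup_right
      intro h hh
      have hhX : h ∈ X := le_sup_left (a := H) (b := L) hh
      rw [← hSO] at hhX
      obtain ⟨s, hs, o, ho, rfl⟩ := Subgroup.mem_sup_of_normal_right.mp hhX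
      have hsm : s ∈ S₁ := by
        refine ⟨hs, ?_⟩
        have : s = (s * o) * o⁻¹ := by group
        rw [this]
        exact mul_mem ((le_sup_right : H ≤ O ⊔ H) hh) ((le_sup_left : O ≤ O ⊔ H) (O.inv_mem ho))
      exact Subgroup.mul_mem_sup hsm ho
  have hS₁card : Nat.card S₁ = Nat.card H := by
    have h1 := card_sup_of_disjoint O S₁ hS₁O
    rw [hS₁sup, card_sup_of_disjoint O H (by rw [inf_comm]; exact hdisj)] at h1
    exact (Nat.eq_of_mul_eq_mul_left Nat.card_pos h1).symm
  obtain ⟨x, hxO, hx⟩ := conj_of_ti H O S₁ hTI hOcop.symm inf_le_right hS₁card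
  -- `T`
  set T := MulAut.conj x • S with hT
  have hHT : H ≤ T := by
    rw [← hx]
    intro y hy
    rw [mem_conj_smul_iff] at hy ⊢
    exact hy.1
  have hTcard : Nat.card T = O.relIndex X := by
    rw [hT, Cfsg.Agent.Lib.Coprime.SchurZassenhaus.card_conj_smul, hScard]
  have hTprimes : ∀ q : ℕ, q.Prime → q ∣ Nat.card T → q ∣ Nat.card H := by
    intro q hq hd
    rw [hTcard] at hd
    exact hrX q hq hd
  -- the normalizer in `T`
  have hW : normalizer (H : Set G) ⊓ T ≤ H := by
    set W := normalizer (H : Set G) ⊓ T with hWdef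
    have hHW : H ≤ W := le_inf le_normalizer hHT
    have hWN : W ≤ normalizer (H : Set G) := inf_le_left
    have h1 : H.relIndex W = 1 := by
      rw [Nat.eq_one_iff_not_exists_prime_dvd]
      intro q hq hd
      have h2 : q ∣ Nat.card T := by
        refine dvd_trans hd ?_
        refine dvd_trans ?_ (Subgroup.card_dvd_of_le (inf_le_right : W ≤ T))
        rw [card_eq_card_mul_relIndex hHW]
        exact Dvd.intro_left _ rfl
      have h3 : q ∣ Nat.card H := hTprimes q hq h2
      have h4 : q ∣ (H.subgroupOf (normalizer (H : Set G))).index := by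
        show q ∣ H.relIndex (normalizer (H : Set G))
        rw [← Subgroup.relIndex_mul_relIndex H W _ hHW hWN]
        exact Dvd.dvd.mul_right hd _
      exact hq.one_lt.ne' (Nat.eq_one_of_dvd_coprimes hHall h3 h4)
    exact Subgroup.relIndex_eq_one.mp h1
  have hTH : T = H := by
    by_contra hne
    have hF : IsFrobeniusComplement (H.subgroupOf T) := by
      refine ⟨?_, ?_, ?_⟩
      · intro h
        apply hH1
        have h1 := card_subgroupOf_of_le hHT
        rw [h] at h1
        simp at h1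
        exact Subgroup.card_eq_one.mp h1.symm
      · intro h
        apply hne
        exact le_antisymm (Subgroup.subgroupOf_eq_top.mp h) hHT
      · intro g hg
        rw [eq_bot_iff]
        rintro z ⟨hz1, hz2⟩
        have hz1 : z ∈ H.subgroupOf T := hz1
        have hz2 : z ∈ MulAut.conj g • H.subgroupOf T := hz2
        rw [mem_bot]
        by_contra hz
        apply hg
        rw [mem_conj_smul_iff, mem_subgroupOf] at hz2
        rw [mem_subgroupOf] at hz1
        have hz' : (z : G) ≠ 1 := fun h => hz (Subtype.ext h)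
        have hgn : ((g : G))⁻¹ ∈ normalizer (H : Set G) := by
          apply mem_normalizer_of_ti hTI hz1 hz'
          have : (g : G)⁻¹ * z * ((g : G)⁻¹)⁻¹ = ((g⁻¹ * z * g : T) : G) := by
            push_cast
            group
          rw [this]
          exact hz2
        rw [mem_subgroupOf]
        exact hW ⟨by simpa using inv_mem hgn, g.2⟩
    have hc := coprime_index_card hF
    rw [card_subgroupOf_of_le hHT] at hc
    have h1 : (H.subgroupOf T).index = 1 := by
      rw [Nat.eq_one_iff_not_exists_prime_dvd]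
      intro q hq hd
      have h2 : q ∣ Nat.card T := hd.trans (Subgroup.index_dvd_card _)
      exact hq.one_lt.ne' (Nat.eq_one_of_dvd_coprimes hc hd (hTprimes q hq h2))
    exact hF.2.1 (Subgroup.index_eq_one.mp h1)
  have hXeq : X ≤ H ⊔ O := by
    have h1 : H ⊔ O ≤ X := sup_le le_sup_left hOX
    have h2 : Nat.card X ≤ Nat.card (H ⊔ O : Subgroup G) := by
      rw [card_sup_of_disjoint O H (by rw [inf_comm]; exact hdisj), card_eq_card_mul_relIndex hOX,
        ← hTcard, hTH]
    exact (Subgroup.eq_of_le_of_card_ge h1 h2).ge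
  -- the subgroup `D`
  set D := H ⊓ L with hD
  have hLD : L ≤ O ⊔ D := by
    intro y hy
    have hy' : y ∈ H ⊔ O := hXeq (hLX hy)
    obtain ⟨h, hh, o, ho, rfl⟩ := Subgroup.mem_sup_of_normal_right.mp hy'
    have hhL : h ∈ L := by
      have : h = (h * o) * o⁻¹ := by group
      rw [this]
      exact mul_mem hy (hOL (O.inv_mem ho))
    rw [sup_comm]
    exact Subgroup.mul_mem_sup (⟨hh, hhL⟩ : h ∈ D) ho
  have hD1 : D ≠ ⊥ := by
    intro h
    rw [h, sup_bot_eq] at hLD
    exact hLO (le_antisymm hOL hLD)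
  have hND : normalizer (D : Set G) ≤ normalizer (H : Set G) := by
    intro g hg
    obtain ⟨⟨y, hy⟩, hy1⟩ := (Subgroup.ne_bot_iff_exists_ne_one).mp hD1
    have hy1' : y ≠ 1 := fun h => hy1 (Subtype.ext h)
    apply mem_normalizer_of_ti hTI hy.1 hy1'
    exact ((mem_normalizer_iff.mp hg y).mp hy).1
  have hNH : normalizer (H : Set G) ≤ normalizer (D : Set G) := by
    intro g hg
    rw [mem_normalizer_iff]
    intro y
    constructor
    · rintro ⟨h1, h2⟩
      exact ⟨(mem_normalizer_iff.mp hg y).mp h1, hLn.conj_mem y h2 g⟩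
    · rintro ⟨h1, h2⟩
      refine ⟨(mem_normalizer_iff.mp hg y).mpr h1, ?_⟩
      have := hLn.conj_mem _ h2 g⁻¹
      simpa [mul_assoc] using this
  have hTID : IsTISubset (D : Set G) := by
    intro g hg x hx hgx
    exact hTI g (fun h => hg (hNH h)) x hx.1 hgx.1
  have hDcop : (Nat.card D).Coprime (Nat.card O) :=
    Nat.Coprime.coprime_dvd_left (Subgroup.card_dvd_of_le inf_le_left) hOcop.symm
  rw [eq_top_iff]
  intro g _
  have hle : MulAut.conj g • D ≤ O ⊔ D := by
    intro y hy
    rw [mem_conj_smul_iff] at hy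
    apply hLD
    have h1 := hLn.conj_mem _ hy.2 g
    have h2 : g * (g⁻¹ * y * g) * g⁻¹ = y := by group
    rwa [h2] at h1
  obtain ⟨x', hx', hx'D⟩ := conj_of_ti D O (MulAut.conj g • D) hTID hDcop hle
    (Cfsg.Agent.Lib.Coprime.SchurZassenhaus.card_conj_smul g D)
  have h1 : x' * g ∈ normalizer (D : Set G) := by
    apply mem_normalizer_of_conj_smul_eq
    rw [conj_mul_smul, hx'D]
  have h2 : g = x'⁻¹ * (x' * g) := by group
  rw [h2]
  exact Subgroup.mul_mem_sup (O.inv_mem hx') (hND h1)

end Core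

section Facts

variable {G : Type*} [Group G] [Finite G]

theorem sSup_facts (H O : Subgroup G)
    (hO : O = sSup {K : Subgroup G | K.Normal ∧ (Nat.card K).Coprime (Nat.card H)}) :
    O.Normal ∧ (Nat.card O).Coprime (Nat.card H) ∧
      ∀ K : Subgroup G, K.Normal → (Nat.card K).Coprime (Nat.card H) → K ≤ O := by
  classical
  set S := {K : Subgroup G | K.Normal ∧ (Nat.card K).Coprime (Nat.card H)} with hS
  have hbot : (⊥ : Subgroup G) ∈ S := ⟨inferInstance, by simp⟩
  obtain ⟨K₀, -, hmax⟩ := Finite.exists_le_maximal (p := fun K => K ∈ S) (a := ⊥) hbot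
  obtain ⟨hK₀n, hK₀c⟩ := hmax.prop
  have hall : ∀ K ∈ S, K ≤ K₀ := by
    intro K hK
    obtain ⟨hKn, hKc⟩ := hK
    have h1 : K ⊔ K₀ ∈ S := by
      refine ⟨Subgroup.sup_normal K K₀, ?_⟩
      rw [card_eq_card_mul_relIndex (le_sup_right : K₀ ≤ K ⊔ K₀), Subgroup.relIndex_sup_right]
      exact Nat.Coprime.mul_left hK₀c (Nat.Coprime.coprime_dvd_left (Subgroup.relIndex_dvd_card _ _) hKc)
    have h2 := hmax.le_of_ge h1 le_sup_right
    exact le_sup_left.trans h2
  have hOK : O = K₀ := by
    rw [hO]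
    exact le_antisymm (sSup_le hall) (le_sSup hmax.prop)
  rw [hOK]
  exact ⟨hK₀n, hK₀c, fun K h1 h2 => hall K ⟨h1, h2⟩⟩

theorem comm_cent {H O : Subgroup G} [O.Normal] (hTI : IsTISubset (H : Set G)) (hdisj : O ⊓ H = ⊥)
    {a x : G} (ha : a ∈ H) (ha1 : a ≠ 1) (hx : x ∈ O) (hc : x * a = a * x) :
    x ∈ centralizer (H : Set G) := by
  have hxn : x ∈ normalizer (H : Set G) := by
    apply mem_normalizer_of_ti hTI ha ha1
    rw [hc]
    simpa using ha
  rw [mem_centralizer_iff]
  intro h hh
  exact (comm_of_mem_normalizer hdisj hx hxn hh).symm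

theorem isCyclic_of_comm {H O E : Subgroup G} [O.Normal] (hTI : IsTISubset (H : Set G))
    (hcop : (Nat.card O).Coprime (Nat.card H)) (hno : ¬ O ≤ centralizer (H : Set G))
    (hEH : E ≤ H) (hE : IsMulCommutative E) : IsCyclic E := by
  by_contra hnc
  have hdisj : O ⊓ H = ⊥ := disjoint_of_coprime_card hcop
  have hcop' : (Nat.card E).Coprime (Nat.card O) :=
    Nat.Coprime.coprime_dvd_left (Subgroup.card_dvd_of_le hEH) hcop.symm
  have h1 := Cfsg.Agent.Lib.Coprime.Generation.iSup_centralizer_eq (A := E) (K := O) hnc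
    (fun a _ => mem_normalizer_of_normal O a) hcop'
  apply hno
  rw [← h1]
  apply iSup₂_le
  rintro a ⟨haE, ha1⟩ x ⟨hxO, hxC⟩
  refine comm_cent hTI hdisj (hEH haE) ha1 hxO ?_
  have hxC' : x ∈ centralizer {a} := hxC
  rw [mem_centralizer_iff] at hxC'
  exact (hxC' a (by simp)).symm

/-- `p`-subgroups of `H` are cyclic or generalized quaternion. -/
theorem p_struct {H O P : Subgroup G} [O.Normal] (hTI : IsTISubset (H : Set G))
    (hcop : (Nat.card O).Coprime (Nat.card H)) (hno : ¬ O ≤ centralizer (H : Set G))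
    (hPH : P ≤ H) {p : ℕ} [hp : Fact p.Prime] (hP : IsPGroup p P) :
    IsCyclic P ∨ (p = 2 ∧ ∃ n : ℕ, Nonempty (P ≃* QuaternionGroup (2 ^ n))) := by
  apply Cfsg.Agent.S0016.result p hP
  intro A B hA hB
  by_cases hnt : Nontrivial P
  swap
  · rw [not_nontrivial_iff_subsingleton] at hnt
    exact Subsingleton.elim _ _
  haveI := hnt
  have hcn : Nontrivial (center P) := hP.center_nontrivial
  have hcP : IsPGroup p (center P) := hP.to_subgroup _
  have hdvd : p ∣ Nat.card (center P) := by
    obtain ⟨k, hk⟩ := IsPGroup.iff_card.mp hcP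
    rw [hk]
    have : k ≠ 0 := by
      intro h0
      rw [h0, pow_zero] at hk
      have := Finite.one_lt_card (α := center P)
      omega
    exact dvd_pow_self p this
  obtain ⟨z, hz⟩ := exists_prime_orderOf_dvd_card' p hdvd
  have hz' : orderOf (z : P) = p := by
    rw [Subgroup.orderOf_coe]
    exact hz
  have key : ∀ A : Subgroup P, Nat.card A = p → A = zpowers (z : P) := by
    intro A hA
    by_contra hne
    set Z : Subgroup P := zpowers (z : P) with hZ
    have hZcard : Nat.card Z = p := by rw [hZ, Nat.card_zpowers, hz']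
    have hZc : Z ≤ center P := by
      rw [hZ, zpowers_le]
      exact z.2
    haveI hZn : Z.Normal := by
      constructor
      intro n hn g
      have := hZc hn
      rw [mem_center_iff] at this
      rw [this g]
      simpa using hn
    haveI : Fact (Nat.card A).Prime := ⟨hA ▸ hp.out⟩
    haveI hAc : IsCyclic A := isCyclic_of_prime_card rfl
    have hAcomm : ∀ u v : A, u * v = v * u := by
      intro u v
      letI := IsCyclic.commGroup (α := A)
      exact mul_comm u v
    set E' : Subgroup P := A ⊔ Z with hE'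
    have hE'comm : ∀ u ∈ E', ∀ v ∈ E', u * v = v * u := by
      intro u hu v hv
      obtain ⟨a, ha, w, hw, rfl⟩ := Subgroup.mem_sup_of_normal_right.mp hu
      obtain ⟨a', ha', w', hw', rfl⟩ := Subgroup.mem_sup_of_normal_right.mp hv
      have h1 := mem_center_iff.mp (hZc hw)
      have h2 := mem_center_iff.mp (hZc hw')
      have h3 : a * a' = a' * a := congrArg Subtype.val (hAcomm ⟨a, ha⟩ ⟨a', ha'⟩)
      calc a * w * (a' * w') = a * (w * a') * w' := by group
        _ = a * (a' * w) * w' := by rw [← h1 a']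
        _ = (a * a') * (w * w') := by group
        _ = (a' * a) * (w' * w) := by rw [h3, ← h1 w']
        _ = a' * (a * w') * w := by group
        _ = a' * (w' * a) * w := by rw [← h2 a]
        _ = a' * w' * (a * w) := by group
    set E : Subgroup G := E'.map P.subtype with hE
    have hEH : E ≤ H := (Subgroup.map_subtype_le _).trans hPH
    have hEc : IsMulCommutative E := by
      constructor
      constructor
      rintro ⟨_, u, hu, rfl⟩ ⟨_, v, hv, rfl⟩
      apply Subtype.ext
      show ((u : G) * (v : G)) = (v : G) * (u : G)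
      exact congrArg Subtype.val (hE'comm u hu v hv)
    haveI hcyc : IsCyclic E := isCyclic_of_comm hTI hcop hno hEH hEc
    let e := Subgroup.equivMapOfInjective E' P.subtype P.subtype_injective
    haveI hcyc' : IsCyclic E' := isCyclic_of_surjective e.symm e.symm.surjective
    have hsub : A.subgroupOf E' = Z.subgroupOf E' := by
      apply Cfsg.Agent.Lib.FPF.UniqueOrderP.subgroup_eq_of_card_eq
      rw [card_subgroupOf_of_le le_sup_left, card_subgroupOf_of_le le_sup_right, hA, hZcard]
    apply hne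
    rw [Subgroup.subgroupOf_inj, inf_eq_left.mpr le_sup_left, inf_eq_left.mpr le_sup_right] at hsub
    exact hsub
  rw [key A hA, key B hB]

/-- On cyclic or quaternion groups, coprime actions are abelian. -/
theorem comm_on_struct {P Q : Subgroup G} {p : ℕ} (hQP : Q ≤ normalizer (P : Set G))
    (hcop : (Nat.card Q).Coprime (Nat.card P))
    (hS : IsCyclic P ∨ (p = 2 ∧ ∃ n : ℕ, Nonempty (P ≃* QuaternionGroup (2 ^ n))))
    {q₁ q₂ : G} (hq₁ : q₁ ∈ Q) (hq₂ : q₂ ∈ Q) {y : G} (hy : y ∈ P) :
    (q₁ * q₂ * q₁⁻¹ * q₂⁻¹) * y = y * (q₁ * q₂ * q₁⁻¹ * q₂⁻¹) := by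
  classical
  let ψ : Q →* MulAut P := P.normalizerMonoidHom.comp (Subgroup.inclusion hQP)
  have hψ : ∀ (q : Q) (v : P), ((ψ q v : P) : G) = (q : G) * v * (q : G)⁻¹ := fun q v => rfl
  have hcyc : IsCyclic P → Commute (ψ ⟨q₁, hq₁⟩) (ψ ⟨q₂, hq₂⟩) := by
    intro hc
    let e := IsCyclic.mulAutMulEquiv P
    show _ * _ = _ * _
    apply e.injective
    rw [map_mul, map_mul, mul_comm]
  have hcomm : Commute (ψ ⟨q₁, hq₁⟩) (ψ ⟨q₂, hq₂⟩) := by
    rcases hS with hc | ⟨-, n, ⟨e⟩⟩
    · exact hcyc hc
    · obtain rfl | rfl | hn : n = 0 ∨ n = 1 ∨ 2 ≤ n := by omega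
      · apply hcyc
        haveI : IsCyclic (QuaternionGroup (2 ^ 0)) := QuaternionGroup.quaternionGroup_one_isCyclic
        exact isCyclic_of_surjective e.symm e.symm.surjective
      · let τ : Q →* MulAut (QuaternionGroup (2 ^ 1)) := (MulAut.congr e).toMonoidHom.comp ψ
        have hPc : Nat.card P = 8 := by
          rw [Nat.card_congr e.toEquiv, Nat.card_eq_fintype_card, QuaternionGroup.card]
          norm_num
        rw [hPc] at hcop
        have h1 : Nat.card τ.range ∣ Nat.card Q := Subgroup.card_range_dvd τ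
        have h2 : Nat.card τ.range ∣ 24 := (Subgroup.card_subgroup_dvd_card _).trans
          Cfsg.Agent.Lib.PermMod.MinNormal.card_mulAut_quaternion_dvd
        have h3 : (Nat.card τ.range).Coprime 8 := Nat.Coprime.coprime_dvd_left h1 hcop
        have h4 : Nat.card τ.range ∣ 3 := h3.dvd_of_dvd_mul_left (by simpa using h2)
        have hcr : IsCyclic τ.range := by
          rcases (Nat.dvd_prime Nat.prime_three).mp h4 with h5 | h5
          · haveI : Subsingleton τ.range := (Nat.card_eq_one_iff_unique.mp h5).1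
            exact isCyclic_of_subsingleton
          · haveI : Fact (Nat.card τ.range).Prime := ⟨h5 ▸ Nat.prime_three⟩
            exact isCyclic_of_prime_card rfl
        have h5 : (⟨τ ⟨q₁, hq₁⟩, ⟨_, rfl⟩⟩ : τ.range) * ⟨τ ⟨q₂, hq₂⟩, ⟨_, rfl⟩⟩ =
            ⟨τ ⟨q₂, hq₂⟩, ⟨_, rfl⟩⟩ * ⟨τ ⟨q₁, hq₁⟩, ⟨_, rfl⟩⟩ := by
          letI := IsCyclic.commGroup (α := τ.range)
          exact mul_comm _ _
        have h6 : τ ⟨q₁, hq₁⟩ * τ ⟨q₂, hq₂⟩ = τ ⟨q₂, hq₂⟩ * τ ⟨q₁, hq₁⟩ := congrArg Subtype.val h5
        show _ * _ = _ * _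
        apply (MulAut.congr e).injective
        rw [map_mul, map_mul]
        exact h6
      · let τ : Q →* MulAut (QuaternionGroup (2 ^ n)) := (MulAut.congr e).toMonoidHom.comp ψ
        have hodd : Odd (Nat.card Q) := by
          have h2 : 2 ∣ Nat.card P := by
            rw [Nat.card_congr e.toEquiv, Nat.card_eq_fintype_card, QuaternionGroup.card]
            exact ⟨2 * 2 ^ n, by ring⟩
          rw [← Nat.not_even_iff_odd]
          intro he
          have := Nat.eq_one_of_dvd_coprimes hcop he.two_dvd h2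
          omega
        have ht : ∀ q : Q, ψ q = 1 := by
          intro q
          have h1 : τ q = 1 := by
            apply Cfsg.Agent.Lib.Zassen.QuatAut.quat_large_odd_aut n hn (τ q) hodd
            rw [← map_pow, pow_card_eq_one', map_one]
          apply (MulAut.congr e).injective
          rw [map_one]
          exact h1
        rw [ht, ht]
  have h1 : ψ (⟨q₁, hq₁⟩ * ⟨q₂, hq₂⟩ * ⟨q₁, hq₁⟩⁻¹ * ⟨q₂, hq₂⟩⁻¹) = 1 := by
    rw [map_mul, map_mul, map_mul, map_inv, map_inv, hcomm.eq]
    simp
  have h2 := hψ (⟨q₁, hq₁⟩ * ⟨q₂, hq₂⟩ * ⟨q₁, hq₁⟩⁻¹ * ⟨q₂, hq₂⟩⁻¹) ⟨y, hy⟩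
  rw [h1] at h2
  simp only [MulAut.one_apply] at h2
  push_cast at h2
  have h3 : (q₁ * q₂ * q₁⁻¹ * q₂⁻¹) * y * (q₁ * q₂ * q₁⁻¹ * q₂⁻¹)⁻¹ = y := h2.symm
  calc (q₁ * q₂ * q₁⁻¹ * q₂⁻¹) * y = ((q₁ * q₂ * q₁⁻¹ * q₂⁻¹) * y * (q₁ * q₂ * q₁⁻¹ * q₂⁻¹)⁻¹) * (q₁ * q₂ * q₁⁻¹ * q₂⁻¹) := by group
    _ = y * (q₁ * q₂ * q₁⁻¹ * q₂⁻¹) := by rw [h3]

end Facts

section Final

section
variable {G : Type*} [Group G] [Finite G]

/-- Commutators of a coprime operator group act trivially on a solvable TI Hall subgroup. -/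
theorem comm_all {H O Q : Subgroup G} [O.Normal] (hTI : IsTISubset (H : Set G))
    (hcop : (Nat.card O).Coprime (Nat.card H)) (hno : ¬ O ≤ centralizer (H : Set G))
    (hsolv : Group.IsSolvable H) (hQH : Q ≤ normalizer (H : Set G))
    (hQc : (Nat.card Q).Coprime (Nat.card H)) {q₁ q₂ : G} (hq₁ : q₁ ∈ Q) (hq₂ : q₂ ∈ Q) :
    q₁ * q₂ * q₁⁻¹ * q₂⁻¹ ∈ centralizer (H : Set G) := by
  classical
  set q := q₁ * q₂ * q₁⁻¹ * q₂⁻¹ with hq
  set K := H ⊓ centralizer ({q} : Set G) with hK
  have hdvd : Nat.card H ∣ Nat.card K := by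
    rw [Nat.dvd_iff_prime_pow_dvd_dvd]
    intro p k hp hpk
    haveI : Fact p.Prime := ⟨hp⟩
    obtain ⟨P, hP, hQP⟩ := exists_invariant_sylowIn (p := p) hQH hQc (Or.inr hsolv)
    have hPK : P ≤ K := by
      intro y hy
      refine ⟨hP.1 hy, ?_⟩
      show y ∈ centralizer ({q} : Set G)
      rw [mem_centralizer_iff]
      intro t ht
      rw [Set.mem_singleton_iff] at ht
      rw [ht]
      have hst := p_struct hTI hcop hno hP.1 hP.2.1
      have hPc : (Nat.card Q).Coprime (Nat.card P) :=
        Nat.Coprime.coprime_dvd_right (Subgroup.card_dvd_of_le hP.1) hQc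
      exact comm_on_struct (p := p) hQP hPc hst hq₁ hq₂ hy
    have h1 : p ^ k ∣ Nat.card P := by
      have h2 : Nat.card H = Nat.card P * P.relIndex H := card_eq_card_mul_relIndex hP.1
      rw [h2] at hpk
      have h3 : (p ^ k).Coprime (P.relIndex H) :=
        Nat.Coprime.pow_left k ((Nat.Prime.coprime_iff_not_dvd hp).mpr hP.2.2)
      exact h3.dvd_of_dvd_mul_right hpk
    exact h1.trans (Subgroup.card_dvd_of_le hPK)
  have hKH : K = H := Subgroup.eq_of_le_of_card_ge inf_le_left
    (Nat.le_of_dvd Nat.card_pos hdvd)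
  rw [mem_centralizer_iff]
  intro h hh
  have h1 : h ∈ K := by rw [hKH]; exact hh
  have h2 := mem_centralizer_iff.mp h1.2 q (Set.mem_singleton q)
  exact h2.symm

/-- Central elements whose order divides `|N(H) : H|` lie in `O`. -/
theorem central_le {H O : Subgroup G} [hOn : O.Normal]
    (hcop : (Nat.card O).Coprime (Nat.card H))
    (hHall : (Nat.card H).Coprime (H.subgroupOf (normalizer (H : Set G))).index)
    (hsup : O ⊔ normalizer (H : Set G) = ⊤)
    (hOmax : ∀ K : Subgroup G, K.Normal → (Nat.card K).Coprime (Nat.card H) → K ≤ O)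
    {g : G} (hg : g ∈ centralizer (H : Set G))
    (hgm : g ^ (H.subgroupOf (normalizer (H : Set G))).index = 1) : g ∈ O := by
  classical
  set N := normalizer (H : Set G) with hN
  set m := (H.subgroupOf N).index with hm
  set E := centralizer (H : Set G) with hE
  have hEN : E ≤ N := Subgroup.centralizer_le_normalizer _
  -- `T = H ∩ E` is central in `E`
  set T := H ⊓ E with hT
  have hTE : T ≤ E := inf_le_right
  have hTc : ∀ t ∈ T, ∀ e ∈ E, t * e = e * t := by
    intro t ht e he
    exact (mem_centralizer_iff.mp he) t ht.1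
  have hrel : T.relIndex E ∣ m := by
    have h1 : T.relIndex E = H.relIndex E := by
      rw [hT, Subgroup.inf_relIndex_right]
    rw [h1]
    have h2 : (H.subgroupOf N).Normal := Subgroup.normal_in_normalizer
    have h3 : (H.subgroupOf N).relIndex (E.subgroupOf N) ∣ (H.subgroupOf N).index :=
      Subgroup.relIndex_dvd_index_of_normal _ _
    rwa [Subgroup.relIndex_subgroupOf hEN] at h3
  haveI hTn : (T.subgroupOf E).Normal := by
    constructor
    intro t ht e
    rw [mem_subgroupOf] at ht ⊢
    have h1 := hTc t ht e e.2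
    have : ((e * t * e⁻¹ : E) : G) = t := by
      push_cast
      rw [← h1]
      group
    rw [this]
    exact ht
  have hcT : (Nat.card (T.subgroupOf E)).Coprime (T.subgroupOf E).index := by
    rw [card_subgroupOf_of_le hTE]
    show (Nat.card T).Coprime (T.relIndex E)
    exact Nat.Coprime.coprime_dvd_left (Subgroup.card_dvd_of_le inf_le_left)
      (Nat.Coprime.coprime_dvd_right hrel hHall)
  obtain ⟨E₀', hE₀'⟩ := Subgroup.exists_right_complement'_of_coprime hcT
  set E₀ := E₀'.map E.subtype with hE₀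
  have hE₀E : E₀ ≤ E := Subgroup.map_subtype_le _
  have hE₀card : Nat.card E₀ = T.relIndex E := by
    rw [hE₀, Subgroup.card_map_of_injective E.subtype_injective]
    exact (hE₀'.symm.index_eq_card).symm
  have hE₀m : ∀ e ∈ E₀, e ^ m = 1 := by
    intro e he
    have h1 : e ^ Nat.card E₀ = 1 := pow_card_mem he
    rw [hE₀card] at h1
    obtain ⟨c, hc⟩ := hrel
    rw [hc, pow_mul, h1, one_pow]
  -- characterization of `E₀`
  have hchar : ∀ x ∈ E, x ^ m = 1 → x ∈ E₀ := by
    intro x hx hxm
    have hx' : (⟨x, hx⟩ : E) ∈ (T.subgroupOf E) ⊔ E₀' := by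
      have := hE₀'.sup_eq_top
      rw [this]
      trivial
    obtain ⟨t, ht, e, he, hte⟩ := Subgroup.mem_sup_of_normal_left.mp hx'
    have hxe : x = (t : G) * (e : G) := by
      have := congrArg Subtype.val hte
      simpa using this.symm
    have ht' : (t : G) ∈ T := ht
    have he' : (e : G) ∈ E₀ := ⟨e, he, rfl⟩
    have hcm : Commute (t : G) (e : G) := hTc t ht' e e.2
    have h1 : (t : G) ^ m = 1 := by
      have h2 := hcm.mul_pow m
      rw [← hxe, hxm, hE₀m _ he', mul_one] at h2
      exact h2.symm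
    have h3 : (t : G) = 1 := by
      have h4 : (t : G) ^ Nat.card H = 1 := pow_card_mem ht'.1
      exact eq_one_of_coprime_pow hHall.symm h1 h4
    rw [hxe, h3, one_mul]
    exact he'
  have hE₀cop : (Nat.card E₀).Coprime (Nat.card H) := by
    rw [hE₀card]
    exact Nat.Coprime.coprime_dvd_left hrel hHall.symm
  set M := O ⊔ E₀ with hM
  have hNconj : ∀ n ∈ N, ∀ x ∈ M, n * x * n⁻¹ ∈ M := by
    intro n hn x hx
    obtain ⟨o, ho, e, he, rfl⟩ := Subgroup.mem_sup_of_normal_left.mp hx
    have h1 : n * (o * e) * n⁻¹ = (n * o * n⁻¹) * (n * e * n⁻¹) := by group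
    rw [h1]
    refine Subgroup.mul_mem_sup (hOn.conj_mem o ho n) ?_
    apply hchar
    · rw [mem_centralizer_iff]
      intro h hh
      have h2 : n⁻¹ * h * n ∈ H := by
        have := (mem_normalizer_iff.mp (inv_mem hn) h).mp hh
        simpa using this
      have h3 := (mem_centralizer_iff.mp (hE₀E he)) _ h2
      calc h * (n * e * n⁻¹) = n * ((n⁻¹ * h * n) * e) * n⁻¹ := by group
        _ = n * (e * (n⁻¹ * h * n)) * n⁻¹ := by rw [h3]
        _ = n * e * n⁻¹ * h := by group
    · rw [conj_pow, hE₀m e he]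
      group
  have hMn : M.Normal := by
    rw [← Subgroup.normalizer_eq_top_iff, eq_top_iff, ← hsup]
    apply sup_le
    · exact (le_sup_left : O ≤ M).trans le_normalizer
    · intro n hn
      rw [mem_normalizer_iff]
      intro x
      constructor
      · exact hNconj n hn x
      · intro hx
        have := hNconj n⁻¹ (inv_mem hn) _ hx
        simpa [mul_assoc] using this
  have hMc : (Nat.card M).Coprime (Nat.card H) := by
    have h2 : O.relIndex M = O.relIndex E₀ := by rw [hM, sup_comm, Subgroup.relIndex_sup_right]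
    rw [card_eq_card_mul_relIndex (le_sup_left : O ≤ M), h2]
    exact Nat.Coprime.mul_left hcop
      (Nat.Coprime.coprime_dvd_left (Subgroup.relIndex_dvd_card _ _) hE₀cop)
  have hMO := hOmax M hMn hMc
  exact hMO ((le_sup_right : E₀ ≤ M) (hchar g hg hgm))

end

universe u

/-- Abelian sections with fixed point condition give fixed-point-free actions. -/
theorem exists_fpf_section {V Y : Type u} [CommGroup V] [Finite V] [Group Y] [Finite Y]
    (φ : Y →* MulAut V) (hcop : (Nat.card V).Coprime (Nat.card Y)) (hnt : ∃ y v, φ y v ≠ v)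
    (hfix : ∀ y, y ≠ 1 → ∀ v, φ y v = v → ∀ y', φ y' v = v) :
    ∃ (W : Type u) (_ : Group W) (_ : Finite W) (ψ : Y →* MulAut W), Nontrivial W ∧
      ∀ y, y ≠ 1 → ∀ w, ψ y w = w → w = 1 := by
  classical
  haveI := Fintype.ofFinite Y
  let N : V →* V :=
    { toFun := fun v => ∏ y : Y, φ y v
      map_one' := by simp
      map_mul' := by
        intro a b
        simp [Finset.prod_mul_distrib] }
  have hN : ∀ v, N v = ∏ y : Y, φ y v := fun v => rfl
  have hNinv : ∀ y v, N (φ y v) = N v := by
    intro y v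
    rw [hN, hN]
    refine Fintype.prod_equiv (Equiv.mulRight y) _ _ ?_
    intro y'
    simp [map_mul]
  let K : Subgroup V := N.ker
  have hK : ∀ y, ∀ v ∈ K, φ y v ∈ K := by
    intro y v hv
    rw [MonoidHom.mem_ker] at hv ⊢
    rw [hNinv, hv]
  let ψ : Y →* MulAut K :=
    { toFun := fun y =>
        { toFun := fun w => ⟨φ y w, hK y w w.2⟩
          invFun := fun w => ⟨φ y⁻¹ w, hK y⁻¹ w w.2⟩
          left_inv := by
            intro w
            apply Subtype.ext
            simp
          right_inv := by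
            intro w
            apply Subtype.ext
            simp
          map_mul' := by
            intro a b
            apply Subtype.ext
            simp }
      map_one' := by
        ext w
        simp
      map_mul' := by
        intro a b
        ext w
        simp }
  have hψ : ∀ (y : Y) (w : K), ((ψ y w : K) : V) = φ y w := fun y w => rfl
  refine ⟨K, inferInstance, inferInstance, ψ, ?_, ?_⟩
  · obtain ⟨y, v, hv⟩ := hnt
    have hw : φ y v * v⁻¹ ∈ K := by
      rw [MonoidHom.mem_ker, map_mul, map_inv, hNinv, mul_inv_cancel]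
    refine ⟨⟨⟨_, hw⟩, 1, ?_⟩⟩
    intro h
    apply hv
    have := congrArg Subtype.val h
    simp only [OneMemClass.coe_one] at this
    exact mul_inv_eq_one.mp this
  · intro y hy w hw
    have h1 : φ y (w : V) = w := by
      have := congrArg Subtype.val hw
      simpa [hψ] using this
    have h2 := hfix y hy w h1
    have h3 : N (w : V) = (w : V) ^ Nat.card Y := by
      rw [hN, Finset.prod_congr rfl (fun y' _ => h2 y')]
      simp [Nat.card_eq_fintype_card]
    have h4 : (w : V) ^ Nat.card Y = 1 := by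
      rw [← h3]
      exact w.2
    have h5 : (w : V) = 1 := eq_one_of_coprime_pow hcop.symm h4 pow_card_eq_one'
    exact Subtype.ext h5

theorem fc_to_type0 {L : Type u} [Group L] [Finite L] (H' : Subgroup L) (h : IsFrobeniusComplement H') :
    ∃ (L₀ : Type) (_ : Group L₀) (_ : Finite L₀) (H₀ : Subgroup L₀), IsFrobeniusComplement H₀ ∧
      Nonempty (H' ≃* H₀) := by
  classical
  let e : L ≃ {k : ℕ // k < Nat.card L} := (Finite.equivFin L).trans Fin.equivSubtype
  letI g0 : Group {k : ℕ // k < Nat.card L} := e.symm.group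
  let f : L ≃* {k : ℕ // k < Nat.card L} := (e.symm.mulEquiv).symm
  refine ⟨{k : ℕ // k < Nat.card L}, g0, inferInstance, H'.map f.toMonoidHom, ?_, ⟨f.subgroupMap H'⟩⟩
  obtain ⟨h1, h2, h3⟩ := h
  refine ⟨?_, ?_, ?_⟩
  · intro hb
    apply h1
    rwa [Subgroup.map_eq_bot_iff_of_injective _ f.injective] at hb
  · intro ht
    apply h2
    rw [eq_top_iff]
    intro x _
    have : f x ∈ H'.map f.toMonoidHom := by rw [ht]; trivial
    obtain ⟨y, hy, hyx⟩ := this
    have hxy : y = x := f.injective hyx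
    rwa [← hxy]
  · intro g hg
    rw [eq_bot_iff]
    rintro z ⟨hz1, hz2⟩
    have hz1 : z ∈ H'.map f.toMonoidHom := hz1
    have hz2 : z ∈ MulAut.conj g • H'.map f.toMonoidHom := hz2
    rw [mem_bot]
    obtain ⟨z₀, hz₀, rfl⟩ := hz1
    obtain ⟨g₀, rfl⟩ := f.surjective g
    rw [mem_conj_smul_iff] at hz2
    obtain ⟨w, hw, hwe⟩ := hz2
    have hg₀ : g₀ ∉ H' := by
      intro hh
      exact hg ⟨g₀, hh, rfl⟩
    have h4 := h3 g₀ hg₀
    have hz₀' : z₀ ∈ H' ⊓ MulAut.conj g₀ • H' := by
      refine ⟨hz₀, ?_⟩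
      show z₀ ∈ MulAut.conj g₀ • H'
      rw [mem_conj_smul_iff]
      have : g₀⁻¹ * z₀ * g₀ = w := by
        apply f.injective
        change f (g₀⁻¹ * z₀ * g₀) = f w
        have hwe' : f w = (f g₀)⁻¹ * f z₀ * f g₀ := hwe
        rw [hwe', map_mul, map_mul, map_inv]
      rw [this]
      exact hw
    rw [h4, mem_bot] at hz₀'
    change f z₀ = 1
    rw [hz₀', map_one]

/-- The action of the automorphisms on the abelianization, as a homomorphism. -/
noncomputable def abAut (A : Type u) [Group A] : MulAut A →* MulAut (Abelianization A) where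
  toFun f := f.abelianizationCongr
  map_one' := by
    ext x
    induction x using QuotientGroup.induction_on with
    | H z =>
      show (MulEquiv.abelianizationCongr (1 : MulAut A)) (Abelianization.of z) = Abelianization.of z
      rw [abelianizationCongr_of]
      rfl
  map_mul' := by
    intro f g
    ext x
    induction x using QuotientGroup.induction_on with
    | H z =>
      show (MulEquiv.abelianizationCongr (f * g)) (Abelianization.of z) =
        f.abelianizationCongr (g.abelianizationCongr (Abelianization.of z))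
      rw [abelianizationCongr_of, abelianizationCongr_of,
        abelianizationCongr_of]
      rfl

theorem exists_fc_of_solvable {G : Type u} [Group G] [Finite G] {H O : Subgroup G} [hOn : O.Normal]
    (hTI : IsTISubset (H : Set G))
    (hcop : (Nat.card O).Coprime (Nat.card H)) (hno : ¬ O ≤ centralizer (H : Set G))
    (hsolv : Group.IsSolvable O) :
    ∃ (L₀ : Type) (_ : Group L₀) (_ : Finite L₀) (H₀ : Subgroup L₀), IsFrobeniusComplement H₀ ∧
      Nonempty (H ≃* H₀) := by
  classical
  have hdisj : O ⊓ H = ⊥ := disjoint_of_coprime_card hcop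
  -- the derived series inside `G`
  let D : ℕ → Subgroup G := fun i => (derivedSeries O i).map O.subtype
  have hD0 : D 0 = O := by
    show (derivedSeries O 0).map O.subtype = O
    rw [derivedSeries_zero, ← MonoidHom.range_eq_map, Subgroup.range_subtype]
  have hDs : ∀ i, D (i + 1) = ⁅D i, D i⁆ := by
    intro i
    show (derivedSeries O (i + 1)).map O.subtype = ⁅(derivedSeries O i).map O.subtype, (derivedSeries O i).map O.subtype⁆
    rw [derivedSeries_succ, Subgroup.map_commutator]
  have hDn : ∀ i, (D i).Normal := by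
    intro i
    induction i with
    | zero => rw [hD0]; exact hOn
    | succ i ih =>
      rw [hDs]
      haveI := ih
      exact Subgroup.commutator_normal _ _
  have hDO : ∀ i, D i ≤ O := fun i => Subgroup.map_subtype_le _
  have hex : ∃ j, D j ≤ centralizer (H : Set G) := by
    obtain ⟨m, hm⟩ := (Group.isSolvable_def O).mp hsolv
    refine ⟨m, ?_⟩
    show (derivedSeries O m).map O.subtype ≤ _
    rw [hm, Subgroup.map_bot]
    exact bot_le
  have hjne : Nat.find hex ≠ 0 := by
    intro h0
    have := Nat.find_spec hex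
    rw [h0, hD0] at this
    exact hno this
  obtain ⟨i, hi⟩ : ∃ i, Nat.find hex = i + 1 := Nat.exists_eq_succ_of_ne_zero hjne
  have hi1 : ¬ D i ≤ centralizer (H : Set G) := Nat.find_min hex (by omega)
  have hi2 : D (i + 1) ≤ centralizer (H : Set G) := by
    rw [← hi]
    exact Nat.find_spec hex
  set A := D i with hA
  haveI hAn : A.Normal := hDn i
  have hAO : A ≤ O := hDO i
  set B := D (i + 1) with hB
  haveI hBn : B.Normal := hDn (i + 1)
  have hBeq : B = ⁅A, A⁆ := hDs i
  have hBA : B ≤ A := by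
    rw [hBeq]
    exact Subgroup.commutator_le_left A A
  have hHnt : Nontrivial H := by
    rw [Subgroup.nontrivial_iff_ne_bot]
    intro h
    apply hno
    rw [h]
    intro x _
    rw [mem_centralizer_iff]
    intro y hy
    have : y = 1 := by simpa using hy
    simp [this]
  -- the action on the abelianization
  let ρ : H →* MulAut A := A.normalizerMonoidHom.comp
    (Subgroup.inclusion (fun h _ => mem_normalizer_of_normal A h))
  have hρ : ∀ (y : H) (v : A), ((ρ y v : A) : G) = (y : G) * v * (y : G)⁻¹ := fun y v => rfl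
  let φ : H →* MulAut (Abelianization A) := (abAut A).comp ρ
  have hφ : ∀ (y : H) (v : A), φ y (Abelianization.of v) = Abelianization.of (ρ y v) := by
    intro y v
    exact abelianizationCongr_of (ρ y) v
  have hof : ∀ a b : A, Abelianization.of a = Abelianization.of b → (a : G)⁻¹ * b ∈ B := by
    intro a b hab
    have h1 : a⁻¹ * b ∈ commutator A := QuotientGroup.eq.mp hab
    have h2 : ((a⁻¹ * b : A) : G) ∈ (commutator A).map A.subtype := ⟨_, h1, rfl⟩
    rw [_root_.commutator_def, Subgroup.map_commutator, ← MonoidHom.range_eq_map, Subgroup.range_subtype] at h2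
    rw [hBeq]
    simpa using h2
  have hof' : ∀ a b : A, (a : G)⁻¹ * b ∈ B → Abelianization.of a = Abelianization.of b := by
    intro a b hab
    apply QuotientGroup.eq.mpr
    rw [_root_.commutator_def]
    rw [hBeq] at hab
    have h2 : ⁅A, A⁆ = (⁅(⊤ : Subgroup A), ⊤⁆ : Subgroup A).map A.subtype := by
      rw [Subgroup.map_commutator, ← MonoidHom.range_eq_map, Subgroup.range_subtype]
    rw [h2] at hab
    obtain ⟨c, hc, hce⟩ := hab
    have : c = a⁻¹ * b := Subtype.ext (by simpa using hce)
    rwa [← this]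
  have hcardV : Nat.card (Abelianization A) ∣ Nat.card A :=
    Subgroup.card_dvd_of_surjective (Abelianization.of) (QuotientGroup.mk'_surjective _)
  have hcopV : (Nat.card (Abelianization A)).Coprime (Nat.card H) :=
    Nat.Coprime.coprime_dvd_left (hcardV.trans (Subgroup.card_dvd_of_le hAO)) hcop
  have hnt : ∃ y v, φ y v ≠ v := by
    by_contra hcon
    push_neg at hcon
    apply hi1
    intro a ha
    rw [mem_centralizer_iff]
    intro y hy
    have h1 := hcon ⟨y, hy⟩ (Abelianization.of ⟨a, ha⟩)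
    rw [hφ] at h1
    have h2 := hof _ _ h1
    rw [hρ] at h2
    set b := (y * a * y⁻¹)⁻¹ * a with hb
    have hbC : b * y = y * b := by
      have := (mem_centralizer_iff.mp (hi2 h2)) y hy
      exact this.symm
    have hyab : y * a * y⁻¹ * b = a := by rw [hb]; group
    have hpow : ∀ k : ℕ, y ^ k * a * (y ^ k)⁻¹ * b ^ k = a := by
      intro k
      induction k with
      | zero => simp
      | succ k ih =>
        have hbk : y * b ^ k = b ^ k * y := by
          have : Commute b y := hbC
          exact (this.pow_left k).eq.symm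
        calc y ^ (k + 1) * a * (y ^ (k + 1))⁻¹ * b ^ (k + 1)
            = y * (y ^ k * a * (y ^ k)⁻¹) * y⁻¹ * (b ^ k * b) := by rw [pow_succ', pow_succ]; group
          _ = y * (y ^ k * a * (y ^ k)⁻¹ * b ^ k) * y⁻¹ * b := by
              have : y⁻¹ * b ^ k = b ^ k * y⁻¹ := ((Commute.pow_left (show Commute b y from hbC) k).inv_right).eq.symm
              calc y * (y ^ k * a * (y ^ k)⁻¹) * y⁻¹ * (b ^ k * b)
                  = y * (y ^ k * a * (y ^ k)⁻¹) * (y⁻¹ * b ^ k) * b := by group
                _ = _ := by rw [this]; group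
          _ = y * a * y⁻¹ * b := by rw [ih]
          _ = a := hyab
    have h3 := hpow (Nat.card H)
    rw [pow_card_mem hy] at h3
    have h4 : b ^ Nat.card H = 1 := by simpa using h3
    have hbO : b ∈ O := hAO (hBA h2)
    have h5 : b = 1 := eq_one_of_coprime_pow hcop.symm h4 (pow_card_mem hbO)
    rw [hb, inv_mul_eq_one] at h5
    calc y * a = (y * a * y⁻¹) * y := by group
      _ = a * y := by rw [h5]
  have hfix : ∀ y : H, y ≠ 1 → ∀ v, φ y v = v → ∀ y', φ y' v = v := by
    intro y hy vb hv y'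
    obtain ⟨v, rfl⟩ := QuotientGroup.mk'_surjective _ vb
    change φ y (Abelianization.of v) = Abelianization.of v at hv
    change φ y' (Abelianization.of v) = Abelianization.of v
    have hy1 : (y : G) ≠ 1 := fun h => hy (Subtype.ext h)
    have hpowfix : ∀ a' ∈ zpowers (y : G), a' * v * a'⁻¹ * (v : G)⁻¹ ∈ B := by
      intro a' ha'
      obtain ⟨n, rfl⟩ := mem_zpowers_iff.mp ha'
      have h1 : (φ y ^ n) (Abelianization.of v) = Abelianization.of v := by
        have hs : φ y ∈ ({
            carrier := {α | α (Abelianization.of v) = Abelianization.of v}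
            mul_mem' := by
              intro a b ha hb
              show a (b _) = _
              rw [show b (Abelianization.of v) = _ from hb]
              exact ha
            one_mem' := rfl
            inv_mem' := by
              intro a ha
              show a⁻¹ _ = _
              rw [MulAut.inv_apply, MulEquiv.symm_apply_eq]
              exact ha.symm } : Subgroup (MulAut (Abelianization A))) := hv
        exact Subgroup.zpow_mem _ hs n
      have h2 : φ (y ^ n) (Abelianization.of v) = Abelianization.of v := by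
        rw [map_zpow]
        exact h1
      rw [hφ] at h2
      have h3 := hof _ _ h2
      rw [hρ] at h3
      have h4 : ((y ^ n : H) : G) = (y : G) ^ n := by simp
      rw [h4] at h3
      set w := (y : G) ^ n * v * ((y : G) ^ n)⁻¹ with hw
      have h5 : (v : G)⁻¹ * w ∈ B := by
        have := inv_mem h3
        have e : ((w⁻¹ * (v : G)))⁻¹ = (v : G)⁻¹ * w := by group
        rwa [e] at this
      have h6 := hBn.conj_mem _ h5 (v : G)
      have e : (v : G) * ((v : G)⁻¹ * w) * (v : G)⁻¹ = w * (v : G)⁻¹ := by group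
      rwa [e] at h6
    have hcop' : (Nat.card (zpowers (y : G))).Coprime (Nat.card A) := by
      rw [Nat.card_zpowers]
      exact Nat.Coprime.coprime_dvd_left (Subgroup.orderOf_dvd_natCard H y.2)
        (Nat.Coprime.coprime_dvd_right (Subgroup.card_dvd_of_le hAO) hcop.symm)
    obtain ⟨c, hc, hvc⟩ := exists_fixed_of_fixed_mod (A := zpowers (y : G)) (K := A) B
      (fun a _ => mem_normalizer_of_normal A a) hcop' (Or.inl inferInstance) hBA
      (fun a _ => mem_normalizer_of_normal B a) (fun a _ => mem_normalizer_of_normal B a) v.2 hpowfix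
    have hcA : c ∈ A := hc.1
    have hcy : c * y = y * c := by
      have := mem_centralizer_iff.mp hc.2 y (by simp)
      exact this.symm
    have hcC := comm_cent hTI hdisj y.2 hy1 (hAO hcA) hcy
    have hofv : Abelianization.of v = Abelianization.of (⟨c, hcA⟩ : A) := hof' _ _ hvc
    rw [hofv, hφ]
    congr 1
    apply Subtype.ext
    rw [hρ]
    have := mem_centralizer_iff.mp hcC y' y'.2
    show (y' : G) * c * (y' : G)⁻¹ = c
    rw [this]
    group
  obtain ⟨W, _, _, ψ, hWnt, hfpf⟩ := exists_fpf_section φ hcopV hnt hfix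
  haveI := hWnt
  have hF := Cfsg.Agent.Lib.Frobenius.Construct.inr_range_isFrobeniusComplement ψ hfpf
  haveI : Finite (W ⋊[ψ] H) := Finite.of_equiv _ (SemidirectProduct.equivProd (N := W) (G := H) (φ := ψ)).symm
  obtain ⟨L₀, g₀, f₀, H₀, hF₀, ⟨e₀⟩⟩ := fc_to_type0 _ hF
  refine ⟨L₀, g₀, f₀, H₀, hF₀, ⟨?_⟩⟩
  exact (MonoidHom.ofInjective SemidirectProduct.inr_injective).trans e₀

/-- `SL₂(5)` is not solvable. -/
theorem sl25_not_solvable : ¬ Group.IsSolvable (Matrix.SpecialLinearGroup (Fin 2) (ZMod 5)) := by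
  have h2 : (2 : ZMod 5) ≠ 0 := by decide
  have h3 : (2 : ZMod 5) ^ 2 ≠ 1 := by decide
  haveI : Fact (Nat.Prime 5) := ⟨by norm_num⟩
  haveI : Nontrivial (Matrix.SpecialLinearGroup (Fin 2) (ZMod 5)) := Cfsg.Agent.Lib.Frobenius.SL2Table.nontrivial_sl2 5
  haveI : Group.IsPerfect (Matrix.SpecialLinearGroup (Fin 2) (ZMod 5)) := by
    constructor
    rw [eq_top_iff]
    intro M _
    refine Cfsg.Agent.Lib.Classical.Transvections.transvection_induction (fun x => x ∈ commutator _) M ?_ (fun _ _ => mul_mem)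
    intro i j hij a
    rw [commutator_eq_closure]
    exact Subgroup.subset_closure
      (Cfsg.Agent.Lib.Classical.Transvections.transvection_mem_commutatorSet_two h2 h3 hij a)
  exact Group.IsPerfect.not_isSolvable _

end Final

/-- Let G be a finite group and H a non-normal subgroup meeting each of its conjugates by elements outside N_G(H) trivially, with the order of H coprime to its index in N_G(H); let π be the set of primes dividing the order of H and suppose G is π-separable (it has a chain of normal subgroups from 1 to G each of whose factors has order divisible only by primes in π or coprime to the order of H). Let O be the largest normal subgroup of G of order coprime to the order of H. Then G = O·N_G(H), O·H is normal in G, and G is solvable if and only if O is solvable and H has no subgroup isomorphic to SL₂(5). -/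
theorem result {G : Type*} [Group G] [Finite G] (H : Subgroup G)
    (hTI : Cfsg.IsTISubset (H : Set G)) (hnn : ¬ H.Normal)
    (hHall : (Nat.card H).Coprime (H.subgroupOf (Subgroup.normalizer (H : Set G))).index)
    (hsep : ∃ (n : ℕ) (M : Fin (n + 1) → Subgroup G), M 0 = ⊥ ∧ M (Fin.last n) = ⊤ ∧ Monotone M ∧ (∀ i, (M i).Normal) ∧
      ∀ i : Fin n, (∀ q : ℕ, q.Prime → q ∣ (M i.castSucc).relIndex (M i.succ) → q ∣ Nat.card H) ∨
        ((M i.castSucc).relIndex (M i.succ)).Coprime (Nat.card H))
    (O : Subgroup G) (hO : O = sSup {K : Subgroup G | K.Normal ∧ (Nat.card K).Coprime (Nat.card H)}) :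
    O ⊔ Subgroup.normalizer (H : Set G) = ⊤ ∧ (O ⊔ H).Normal ∧
    (Group.IsSolvable G ↔ Group.IsSolvable O ∧
      ∀ K : Subgroup G, K ≤ H → ¬ Nonempty (K ≃* Matrix.SpecialLinearGroup (Fin 2) (ZMod 5))) := by
  classical
  obtain ⟨hOn, hOcop, hOmax⟩ := sSup_facts H O hO
  haveI := hOn
  have hsup := core H O hTI hnn hHall hsep hOcop hOmax
  have hdisj : O ⊓ H = ⊥ := disjoint_of_coprime_card hOcop
  have hRn : (O ⊔ H).Normal := by
    rw [← Subgroup.normalizer_eq_top_iff, eq_top_iff, ← hsup]
    apply sup_le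
    · exact (le_sup_left : O ≤ O ⊔ H).trans le_normalizer
    · intro n hn
      have hconj : ∀ n ∈ normalizer (H : Set G), ∀ x ∈ O ⊔ H, n * x * n⁻¹ ∈ O ⊔ H := by
        intro n hn x hx
        obtain ⟨o, ho, h, hh, rfl⟩ := Subgroup.mem_sup_of_normal_left.mp hx
        have h1 : n * (o * h) * n⁻¹ = (n * o * n⁻¹) * (n * h * n⁻¹) := by group
        rw [h1]
        exact Subgroup.mul_mem_sup (hOn.conj_mem o ho n) ((mem_normalizer_iff.mp hn h).mp hh)
      rw [mem_normalizer_iff]
      intro x
      constructor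
      · exact hconj n hn x
      · intro hx
        have := hconj n⁻¹ (inv_mem hn) _ hx
        simpa [mul_assoc] using this
  refine ⟨hsup, hRn, ?_, ?_⟩
  · intro hG
    refine ⟨inferInstance, ?_⟩
    rintro K hKH ⟨e⟩
    apply sl25_not_solvable
    have : Group.IsSolvable K := inferInstance
    exact solvable_of_surjective (f := e.toMonoidHom) e.surjective
  · rintro ⟨hOs, hno⟩
    have hOC : ¬ O ≤ centralizer (H : Set G) := by
      intro h
      apply hnn
      have h1 : O ≤ normalizer (H : Set G) := h.trans (Subgroup.centralizer_le_normalizer _)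
      rw [sup_eq_right.mpr h1] at hsup
      exact Subgroup.normalizer_eq_top_iff.mp hsup
    -- `H` is solvable
    have hHs : Group.IsSolvable H := by
      by_contra hns
      obtain ⟨G₀, -, -, S, M, -, -, -, ⟨e⟩, -⟩ :=
        Cfsg.Agent.S3359.result hns (exists_fc_of_solvable hTI hOcop hOC hOs)
      apply hno (S.map H.subtype) (Subgroup.map_subtype_le _)
      exact ⟨(Subgroup.equivMapOfInjective S H.subtype H.subtype_injective).symm.trans e⟩
    -- the complement `Q`
    set N := normalizer (H : Set G) with hN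
    have hHN : (H.subgroupOf N).Normal := Subgroup.normal_in_normalizer
    have hcN : (Nat.card (H.subgroupOf N)).Coprime (H.subgroupOf N).index := by
      rw [card_subgroupOf_of_le le_normalizer]
      exact hHall
    obtain ⟨Q', hQ'⟩ := Subgroup.exists_right_complement'_of_coprime hcN
    set Q := Q'.map N.subtype with hQ
    have hQN : Q ≤ N := Subgroup.map_subtype_le _
    have hQcard : Nat.card Q = (H.subgroupOf N).index := by
      rw [hQ, Subgroup.card_map_of_injective N.subtype_injective]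
      exact (hQ'.symm.index_eq_card).symm
    have hQc : (Nat.card Q).Coprime (Nat.card H) := by
      rw [hQcard]
      exact hHall.symm
    have hNQ : ∀ n ∈ N, ∃ h ∈ H, ∃ q ∈ Q, n = h * q := by
      intro n hn
      have hn' : (⟨n, hn⟩ : N) ∈ (H.subgroupOf N) ⊔ Q' := by
        rw [hQ'.sup_eq_top]
        trivial
      obtain ⟨h, hh, q, hq, hhq⟩ := Subgroup.mem_sup_of_normal_left.mp hn'
      refine ⟨h, hh, q, ⟨q, hq, rfl⟩, ?_⟩
      have := congrArg Subtype.val hhq
      simpa using this.symm
    have hcomm : ∀ q₁ ∈ Q, ∀ q₂ ∈ Q, q₁ * q₂ * q₁⁻¹ * q₂⁻¹ ∈ O := by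
      intro q₁ h₁ q₂ h₂
      apply central_le hOcop hHall hsup hOmax
      · exact comm_all hTI hOcop hOC hHs hQN hQc h₁ h₂
      · rw [← hQcard]
        apply pow_card_mem
        exact mul_mem (mul_mem (mul_mem h₁ h₂) (inv_mem h₁)) (inv_mem h₂)
    haveI hRn' : (O ⊔ H).Normal := hRn
    -- `R` is solvable
    have hRs : Group.IsSolvable (O ⊔ H : Subgroup G) := by
      let f : O →* (O ⊔ H : Subgroup G) := Subgroup.inclusion le_sup_left
      let g : (O ⊔ H : Subgroup G) →* ((O ⊔ H : Subgroup G) ⧸ O.subgroupOf (O ⊔ H)) :=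
        QuotientGroup.mk' (O.subgroupOf (O ⊔ H))
      haveI : Group.IsSolvable ((O ⊔ H : Subgroup G) ⧸ O.subgroupOf (O ⊔ H)) := by
        let k : H →* ((O ⊔ H : Subgroup G) ⧸ O.subgroupOf (O ⊔ H)) :=
          g.comp (Subgroup.inclusion le_sup_right)
        apply solvable_of_surjective (f := k)
        intro x
        obtain ⟨r, rfl⟩ := QuotientGroup.mk'_surjective _ x
        obtain ⟨o, ho, h, hh, hoh⟩ := Subgroup.mem_sup_of_normal_left.mp r.2
        refine ⟨⟨h, hh⟩, ?_⟩
        show (QuotientGroup.mk' _ ) _ = _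
        apply QuotientGroup.eq.mpr
        have hval : ((O ⊔ H).subtype (((Subgroup.inclusion le_sup_right ⟨h, hh⟩ : (O ⊔ H : Subgroup G))⁻¹ * r : (O ⊔ H : Subgroup G)))) = h⁻¹ * (o * h) := by
          simp [hoh]
        show ((O ⊔ H).subtype (((Subgroup.inclusion le_sup_right ⟨h, hh⟩ : (O ⊔ H : Subgroup G))⁻¹ * r : (O ⊔ H : Subgroup G)))) ∈ O
        rw [hval, ← mul_assoc]
        have := hOn.conj_mem o ho h⁻¹
        simpa using this
      apply solvable_of_ker_le_range f g
      rw [QuotientGroup.ker_mk']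
      intro r hr
      exact ⟨⟨r, hr⟩, rfl⟩
    -- conclusion
    haveI : Group.IsSolvable (G ⧸ (O ⊔ H : Subgroup G)) := by
      apply isSolvable_of_comm
      intro a b
      obtain ⟨x, rfl⟩ := QuotientGroup.mk'_surjective _ a
      obtain ⟨y, rfl⟩ := QuotientGroup.mk'_surjective _ b
      have hreduce : ∀ z : G, ∃ q ∈ Q, (QuotientGroup.mk' (O ⊔ H : Subgroup G)) z = (QuotientGroup.mk' (O ⊔ H : Subgroup G)) q := by
        intro z
        have hz : z ∈ O ⊔ N := by rw [hsup]; trivial
        obtain ⟨o, ho, n, hn, rfl⟩ := Subgroup.mem_sup_of_normal_left.mp hz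
        obtain ⟨h, hh, q, hq, rfl⟩ := hNQ n hn
        refine ⟨q, hq, ?_⟩
        apply QuotientGroup.eq.mpr
        have e : (o * (h * q))⁻¹ * q = q⁻¹ * (o * h)⁻¹ * q := by group
        rw [e]
        have h1 : (o * h)⁻¹ ∈ O ⊔ H := inv_mem (Subgroup.mul_mem_sup ho hh)
        have := hRn.conj_mem _ h1 q⁻¹
        simpa using this
      obtain ⟨q₁, h₁, e₁⟩ := hreduce x
      obtain ⟨q₂, h₂, e₂⟩ := hreduce y
      rw [e₁, e₂, ← map_mul, ← map_mul]
      apply QuotientGroup.eq.mpr
      have h3 : (q₁ * q₂)⁻¹ * (q₂ * q₁) = (q₂⁻¹ * q₁⁻¹ * q₂ * q₁) := by group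
      rw [h3]
      have h4 := hcomm q₂⁻¹ (inv_mem h₂) q₁⁻¹ (inv_mem h₁)
      simp only [inv_inv] at h4
      exact (le_sup_left : O ≤ O ⊔ H) h4
    apply solvable_of_ker_le_range (O ⊔ H : Subgroup G).subtype (QuotientGroup.mk' (O ⊔ H : Subgroup G))
    rw [QuotientGroup.ker_mk']
    intro r hr
    exact ⟨⟨r, hr⟩, rfl⟩

end Cfsg.Agent.S4118
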