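import Mathlib
import Cfsg.Statements.S3999
import Cfsg.Agent.S0033
import Cfsg.Agent.S3359
import Cfsg.Agent.S4118
import Cfsg.Agent.Lib.FPF.Complement
import Cfsg.Agent.Lib.Frobenius.Nilpotent
import Cfsg.Agent.Lib.Frobenius.ClassSizes
import Cfsg.Agent.Lib.FG7.FrobeniusCoset
import Cfsg.Agent.Lib.Coprime.Action
import Cfsg.Agent.Lib.Coprime.SchurZassenhaus
import Cfsg.Agent.Lib.FPF.UniqueOrderP

set_option autoImplicit false
set_option linter.all false
open Cfsg

namespace Cfsg.Agent.S3999

open Cfsg.Agent.Lib.Frobenius.Basic Cfsg.Agent.Lib.Frobenius.Theorem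

universe u v

/-! ### Elements of order 15 in `SL₂(5)` -/

def mul4 (x y : ZMod 5 × ZMod 5 × ZMod 5 × ZMod 5) : ZMod 5 × ZMod 5 × ZMod 5 × ZMod 5 :=
  (x.1 * y.1 + x.2.1 * y.2.2.1, x.1 * y.2.1 + x.2.1 * y.2.2.2,
    x.2.2.1 * y.1 + x.2.2.2 * y.2.2.1, x.2.2.1 * y.2.1 + x.2.2.2 * y.2.2.2)

def pow34 (x : ZMod 5 × ZMod 5 × ZMod 5 × ZMod 5) := mul4 x (mul4 x x)

def pow54 (x : ZMod 5 × ZMod 5 × ZMod 5 × ZMod 5) := mul4 (mul4 x x) (pow34 x)

def chk (a b c d : ZMod 5) : Bool :=
  !(decide (a * d - b * c = 1)) || !(decide (pow34 (pow54 (a, b, c, d)) = (1, 0, 0, 1))) ||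
    decide (pow34 (a, b, c, d) = (1, 0, 0, 1)) || decide (pow54 (a, b, c, d) = (1, 0, 0, 1))

set_option maxRecDepth 100000 in
theorem chk_all : ∀ a b c d : ZMod 5, chk a b c d = true := by decide

theorem table15 (a b c d : ZMod 5) (h1 : a * d - b * c = 1)
    (h2 : pow34 (pow54 (a, b, c, d)) = (1, 0, 0, 1)) :
    pow34 (a, b, c, d) = (1, 0, 0, 1) ∨ pow54 (a, b, c, d) = (1, 0, 0, 1) := by
  have := chk_all a b c d
  simpa [chk, h1, h2] using this

def toQuad (g : Matrix (Fin 2) (Fin 2) (ZMod 5)) : ZMod 5 × ZMod 5 × ZMod 5 × ZMod 5 :=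
  (g 0 0, g 0 1, g 1 0, g 1 1)

theorem toQuad_mul (g h : Matrix (Fin 2) (Fin 2) (ZMod 5)) :
    toQuad (g * h) = mul4 (toQuad g) (toQuad h) := by
  simp [toQuad, mul4, Matrix.mul_apply, Fin.sum_univ_two]

theorem toQuad_inj {g h : Matrix (Fin 2) (Fin 2) (ZMod 5)} (e : toQuad g = toQuad h) : g = h := by
  simp only [toQuad, Prod.mk.injEq] at e
  obtain ⟨h1, h2, h3, h4⟩ := e
  ext i j
  fin_cases i <;> fin_cases j <;> assumption

theorem toQuad_one : toQuad (1 : Matrix (Fin 2) (Fin 2) (ZMod 5)) = (1, 0, 0, 1) := by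
  simp [toQuad]

theorem toQuad_pow3 (g : Matrix (Fin 2) (Fin 2) (ZMod 5)) : toQuad (g * (g * g)) = pow34 (toQuad g) := by
  rw [toQuad_mul, toQuad_mul]; rfl

theorem toQuad_pow5 (g : Matrix (Fin 2) (Fin 2) (ZMod 5)) :
    toQuad ((g * g) * (g * (g * g))) = pow54 (toQuad g) := by
  rw [toQuad_mul, toQuad_mul, toQuad_pow3]; rfl

theorem sl25_no15 (g : Matrix.SpecialLinearGroup (Fin 2) (ZMod 5)) : orderOf g ≠ 15 := by
  intro ho
  have hdet : (g.1 : Matrix (Fin 2) (Fin 2) (ZMod 5)).det = 1 := g.2
  rw [Matrix.det_fin_two] at hdet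
  have hg15 : g ^ 15 = 1 := by rw [← ho]; exact pow_orderOf_eq_one g
  have h1 : (g.1 : Matrix (Fin 2) (Fin 2) (ZMod 5)) ^ 15 = 1 := by
    have := congrArg (fun x : Matrix.SpecialLinearGroup (Fin 2) (ZMod 5) => (x.1 : Matrix (Fin 2) (Fin 2) (ZMod 5))) hg15
    simpa using this
  set m : Matrix (Fin 2) (Fin 2) (ZMod 5) := g.1 with hm
  have h3 : m * (m * m) = m ^ 3 := by noncomm_ring
  have h5 : (m * m) * (m * (m * m)) = m ^ 5 := by noncomm_ring
  have h15 : (m ^ 5) * ((m ^ 5) * (m ^ 5)) = m ^ 15 := by noncomm_ring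
  have e1 : pow54 (toQuad m) = toQuad (m ^ 5) := by
    have := toQuad_pow5 m
    rw [h5] at this
    exact this.symm
  have e2 : pow34 (toQuad (m ^ 5)) = toQuad (m ^ 15) := by
    have := toQuad_pow3 (m ^ 5)
    rw [h15] at this
    exact this.symm
  have e3 : toQuad (m ^ 15) = (1, 0, 0, 1) := by
    rw [h1]; exact toQuad_one
  have e4 : pow34 (toQuad m) = toQuad (m ^ 3) := by
    have := toQuad_pow3 m
    rw [h3] at this
    exact this.symm
  have hinp : pow34 (pow54 (toQuad m)) = (1, 0, 0, 1) :=
    (congrArg pow34 e1).trans (e2.trans e3)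
  have key := table15 (m 0 0) (m 0 1) (m 1 0) (m 1 1) hdet hinp
  replace key : pow34 (toQuad m) = (1, 0, 0, 1) ∨ pow54 (toQuad m) = (1, 0, 0, 1) := key
  rw [e4, e1, ← toQuad_one] at key
  have hne : ∀ d, d ∣ 15 → d < 15 → g ^ d ≠ 1 := by
    intro d hd hlt hp
    have := orderOf_dvd_of_pow_eq_one hp
    rw [ho] at this
    have hd0 : 0 < d := Nat.pos_of_dvd_of_pos hd (by norm_num)
    have := Nat.le_of_dvd hd0 this
    omega
  rcases key with key | key
  · apply hne 3 (by norm_num) (by norm_num)
    apply Subtype.ext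
    simpa using toQuad_inj key
  · apply hne 5 (by norm_num) (by norm_num)
    apply Subtype.ext
    simpa using toQuad_inj key

theorem sl25_15_dvd : 15 ∣ Nat.card (Matrix.SpecialLinearGroup (Fin 2) (ZMod 5)) := by
  let g5 : Matrix.SpecialLinearGroup (Fin 2) (ZMod 5) := ⟨!![1, 1; 0, 1], by
    rw [Matrix.det_fin_two]; decide⟩
  let g3 : Matrix.SpecialLinearGroup (Fin 2) (ZMod 5) := ⟨!![0, 4; 1, 4], by
    rw [Matrix.det_fin_two]; decide⟩
  haveI : Fact (Nat.Prime 5) := ⟨by norm_num⟩
  haveI : Fact (Nat.Prime 3) := ⟨by norm_num⟩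
  have h5 : orderOf g5 = 5 := by
    apply orderOf_eq_prime
    · apply Subtype.ext
      ext i j
      fin_cases i <;> fin_cases j <;> decide
    · intro h
      have := congrArg (fun x : Matrix.SpecialLinearGroup (Fin 2) (ZMod 5) => (x.1 : Matrix (Fin 2) (Fin 2) (ZMod 5)) 0 1) h
      revert this
      decide
  have h3 : orderOf g3 = 3 := by
    apply orderOf_eq_prime
    · apply Subtype.ext
      ext i j
      fin_cases i <;> fin_cases j <;> decide
    · intro h
      have := congrArg (fun x : Matrix.SpecialLinearGroup (Fin 2) (ZMod 5) => (x.1 : Matrix (Fin 2) (Fin 2) (ZMod 5)) 0 0) h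
      revert this
      decide
  have d5 : 5 ∣ Nat.card (Matrix.SpecialLinearGroup (Fin 2) (ZMod 5)) := by
    have := orderOf_dvd_natCard g5
    rwa [h5] at this
  have d3 : 3 ∣ Nat.card (Matrix.SpecialLinearGroup (Fin 2) (ZMod 5)) := by
    have := orderOf_dvd_natCard g3
    rwa [h3] at this
  exact Nat.Coprime.mul_dvd_of_dvd_of_dvd (by norm_num : Nat.Coprime 3 5) d3 d5

/-! ### The nonsolvable case -/

theorem nonsolvable_facts {L : Type u} [Group L] [Finite L] (X : Subgroup L)
    (hX : IsFrobeniusComplement X) (hns : ¬ Group.IsSolvable X) :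
    15 ∣ Nat.card X ∧ ∀ x ∈ X, orderOf x ≠ 15 := by
  classical
  obtain ⟨G₀, hG₀n, hidx, S, M, hSM, hdisj, hcomm, ⟨eS⟩, hM, hMc⟩ :=
    Cfsg.Agent.S3359.result hns (Cfsg.Agent.S4118.fc_to_type0 X hX)
  constructor
  · have h1 : Nat.card S = Nat.card (Matrix.SpecialLinearGroup (Fin 2) (ZMod 5)) := Nat.card_congr eS.toEquiv
    have h2 : Nat.card S ∣ Nat.card X := Subgroup.card_subgroup_dvd_card S
    rw [h1] at h2
    exact sl25_15_dvd.trans h2
  · intro x hx ho
    -- work in `X`
    let x' : X := ⟨x, hx⟩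
    have ho' : orderOf x' = 15 := by
      rw [← Subgroup.orderOf_coe]
      exact ho
    -- the square lies in `G₀`
    have hsq : x' ^ 2 ∈ G₀ := by
      rcases hidx with h1 | h1
      · rw [Subgroup.index_eq_one.1 h1]; trivial
      · haveI := hG₀n
        exact Subgroup.sq_mem_of_index_two h1 x'
    have hoy : orderOf (x' ^ 2) = 15 := by
      rw [orderOf_pow' _ (by norm_num), ho']
      rfl
    rw [← hSM] at hsq
    have hSnorm : M ≤ Subgroup.normalizer ((S : Subgroup X) : Set X) := by
      intro m hm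
      rw [Subgroup.mem_normalizer_iff]
      intro s
      have : s ∈ S ↔ m * s * m⁻¹ ∈ S := by
        have hs' : s ∈ S → m * s * m⁻¹ = s := fun hs => by
          rw [← hcomm s hs m hm]; group
        constructor
        · intro hs
          rw [hs' hs]; exact hs
        · intro hs
          have h2 := hcomm _ hs m hm
          have h3 : s = m * s * m⁻¹ := by
            have h4 : m * s = m * (m * s * m⁻¹) := by
              rw [← h2]; group
            exact mul_left_cancel h4
          rw [h3]; exact hs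
      exact this
    obtain ⟨s, hs, m, hm, hy⟩ :=
      Cfsg.Agent.Lib.Coprime.Action.exists_mul_of_mem_sup hSnorm hsq
    have hsm : s * m = m * s := hcomm s hs m hm
    have hp15 : (x' ^ 2) ^ 15 = 1 := by rw [← hoy]; exact pow_orderOf_eq_one _
    rw [hy, (show Commute s m from hsm).mul_pow] at hp15
    have hinf : m ^ 15 ∈ S ⊓ M := by
      refine ⟨?_, M.pow_mem hm _⟩
      have : m ^ 15 = (s ^ 15)⁻¹ := by
        rw [eq_inv_iff_mul_eq_one]
        rw [(show Commute s m from hsm).pow_pow 15 15 |>.eq.symm]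
        exact hp15
      rw [this]
      exact S.inv_mem (S.pow_mem hs _)
    rw [hdisj] at hinf
    have hm15 : m ^ 15 = 1 := hinf
    have hm1 : m = 1 := by
      have h1 : orderOf m ∣ 15 := orderOf_dvd_of_pow_eq_one hm15
      have h2 : orderOf (⟨m, hm⟩ : M) ∣ Nat.card M := orderOf_dvd_natCard _
      rw [Subgroup.orderOf_mk] at h2
      have h3 : Nat.Coprime (orderOf m) 30 := Nat.Coprime.coprime_dvd_left h2 hMc
      have h4 : orderOf m = 1 := by
        have h5 : orderOf m ∣ 30 := h1.trans (by norm_num)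
        exact Nat.Coprime.eq_one_of_dvd h3 h5
      exact orderOf_eq_one_iff.1 h4
    rw [hm1, mul_one] at hy
    rw [hy] at hoy
    have : orderOf (eS ⟨s, hs⟩) = 15 := by
      rw [MulEquiv.orderOf_eq, Subgroup.orderOf_mk, hoy]
    exact sl25_no15 _ this

/-! ### Groups in which `3`-subgroups and `5`-subgroups are cyclic -/

theorem commute_of_normal_prime {Y : Type u} [Group Y] [Finite Y] {a b : ℕ} (ha : a.Prime) (hb : b.Prime)
    (hab : Nat.Coprime a (b - 1)) (Z : Subgroup Y) (hZ : Z.Normal) (hZc : Nat.card Z = b)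
    (y : Y) (hy : y ^ a = 1) (z : Y) (hz : z ∈ Z) : y * z = z * y := by
  classical
  haveI := hZ
  haveI : Fact b.Prime := ⟨hb⟩
  haveI : IsCyclic Z := isCyclic_of_prime_card hZc
  let φ : MulAut Z := MulAut.conjNormal y
  have h1 : φ ^ a = 1 := by
    have : (MulAut.conjNormal : Y →* MulAut Z) (y ^ a) = 1 := by rw [hy, map_one]
    rwa [map_pow] at this
  have h2 : orderOf φ ∣ a := orderOf_dvd_of_pow_eq_one h1
  have h3 : orderOf φ ∣ b - 1 := by
    have := orderOf_dvd_natCard φ
    rw [IsCyclic.card_mulAut, hZc, Nat.totient_prime hb] at this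
    exact this
  have h4 : orderOf φ = 1 := Nat.Coprime.eq_one_of_dvd (Nat.Coprime.coprime_dvd_left h2 hab) h3
  have h5 : φ = 1 := orderOf_eq_one_iff.1 h4
  have h6 : φ ⟨z, hz⟩ = ⟨z, hz⟩ := by rw [h5]; rfl
  have h7 := congrArg Subtype.val h6
  have h8 : y * z * y⁻¹ = z := by
    simpa [φ, MulAut.conjNormal_apply] using h7
  calc y * z = y * z * y⁻¹ * y := by group
    _ = z * y := by rw [h8]

/-- The inductive lemma: a solvable group of order divisible by 15, with cyclic 3- and 5-subgroups,
has an element of order 15. -/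
theorem exists_order15 : ∀ (n : ℕ) (Y : Type u) [Group Y] [Finite Y] [Group.IsSolvable Y],
    Nat.card Y = n →
    (∀ (B : Subgroup Y) (p : ℕ) [Fact p.Prime], (p = 3 ∨ p = 5) → IsPGroup p B → IsCyclic B) →
    15 ∣ Nat.card Y → ∃ y : Y, orderOf y = 15 := by
  intro n
  induction n using Nat.strong_induction_on with
  | _ n ih =>
  intro Y _ _ _ hn hcyc h15
  classical
  haveI : Nontrivial Y := by
    apply Finite.one_lt_card_iff_nontrivial.mp
    have h0 : 0 < Nat.card Y := Nat.card_pos
    have := Nat.le_of_dvd h0 h15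
    omega
  -- descending to subgroups
  have hsub : ∀ K : Subgroup Y, K ≠ ⊤ → 15 ∣ Nat.card K → ∃ y : Y, orderOf y = 15 := by
    intro K hK h15K
    have hlt : Nat.card K < n := by
      have h1 := Subgroup.card_mul_index K
      have h2 : K.index ≠ 1 := fun h => hK (Subgroup.index_eq_one.1 h)
      have h3 : K.index ≠ 0 := Subgroup.index_ne_zero_of_finite
      have h4 : 0 < Nat.card K := Nat.card_pos
      rw [← hn, ← h1]
      have h5 : 2 ≤ K.index := by omega
      nlinarith
    obtain ⟨y, hy⟩ := ih _ hlt K rfl (by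
      intro B p _ hp hB
      have h1 : IsPGroup p (B.map K.subtype) := hB.map K.subtype
      have h2 := hcyc _ p hp h1
      exact isCyclic_of_surjective (B.equivMapOfInjective K.subtype K.subtype_injective).symm
        (MulEquiv.surjective _)) h15K
    exact ⟨y, by rw [← Subgroup.orderOf_coe] at hy; exact hy⟩
  obtain ⟨K, hKn, hKp⟩ := Cfsg.Agent.Lib.FG7.FrobeniusCoset.exists_normal_prime_index (G := Y)
  haveI := hKn
  have hKt : K ≠ ⊤ := by
    intro h
    rw [h, Subgroup.index_top] at hKp
    exact Nat.not_prime_one hKp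
  by_cases h15K : 15 ∣ Nat.card K
  · exact hsub K hKt h15K
  have hcardK : K.index * Nat.card K = Nat.card Y := by
    rw [mul_comm]; exact Subgroup.card_mul_index K
  -- key step with parameters
  have step : ∀ (a b : ℕ), a.Prime → b.Prime → a * b = 15 → Nat.Coprime a b → Nat.Coprime a (b - 1) →
      (b = 3 ∨ b = 5) → K.index = a → ∃ y : Y, orderOf y = 15 := by
    intro a b ha hb hab hcop hcop1 hb35 hidx
    haveI : Fact b.Prime := ⟨hb⟩
    haveI : Fact a.Prime := ⟨ha⟩
    have hbK : b ∣ Nat.card K := by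
      have h1 : a * b ∣ a * Nat.card K := by
        rw [hab, ← hidx, hcardK]; exact h15
      exact Nat.dvd_of_mul_dvd_mul_left ha.pos h1
    obtain ⟨P⟩ : Nonempty (Sylow b K) := inferInstance
    let P' : Subgroup Y := (P : Subgroup K).map K.subtype
    have hP'p : IsPGroup b P' := P.isPGroup'.map K.subtype
    have hbP : b ∣ Nat.card P' := by
      rw [Subgroup.card_map_of_injective K.subtype_injective]
      exact P.dvd_card_of_dvd_card hbK
    let N := Subgroup.normalizer (P' : Set Y)
    have hfr : N ⊔ K = ⊤ := Sylow.normalizer_sup_eq_top P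
    have hbN : b ∣ Nat.card N := by
      have hle : P' ≤ N := Subgroup.le_normalizer
      exact hbP.trans (Subgroup.card_dvd_of_le hle)
    have haN : a ∣ Nat.card N := by
      have h1 : K.relIndex N = K.relIndex (N ⊔ K) := (Subgroup.relIndex_sup_right N K).symm
      rw [hfr, Subgroup.relIndex_top_right, hidx] at h1
      rw [← h1]
      exact Subgroup.relIndex_dvd_card K N
    have h15N : 15 ∣ Nat.card N := by
      rw [← hab]
      exact Nat.Coprime.mul_dvd_of_dvd_of_dvd hcop haN hbN
    by_cases hNt : N = ⊤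
    · -- `P'` is normal and cyclic
      have hP'n : P'.Normal := Subgroup.normalizer_eq_top_iff.1 hNt
      haveI : IsCyclic P' := hcyc P' b hb35 hP'p
      obtain ⟨z, hz⟩ := exists_prime_orderOf_dvd_card' b hbP
      have hzY : orderOf (z : Y) = b := by rw [Subgroup.orderOf_coe, hz]
      let Z : Subgroup Y := Subgroup.zpowers (z : Y)
      have hZc : Nat.card Z = b := by
        rw [Nat.card_zpowers, hzY]
      have hZle : Z ≤ P' := by
        rw [Subgroup.zpowers_le]; exact z.2
      have hZn : Z.Normal := by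
        constructor
        intro w hw g
        have hconj : g * (z : Y) * g⁻¹ ∈ Z := by
          let z' : P' := ⟨g * (z : Y) * g⁻¹, hP'n.conj_mem _ z.2 g⟩
          have hoz' : orderOf z' = b := by
            rw [← Subgroup.orderOf_coe]
            have h1 := (MulAut.conj g).orderOf_eq (z : Y)
            rw [MulAut.conj_apply] at h1
            rw [h1, hzY]
          have h2 : Subgroup.zpowers z = Subgroup.zpowers z' :=
            Cfsg.Agent.Lib.FPF.UniqueOrderP.subgroup_eq_of_card_eq (by
              rw [Nat.card_zpowers, Nat.card_zpowers, hz, hoz'])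
          have h3 : z' ∈ Subgroup.zpowers z := by
            rw [h2]; exact Subgroup.mem_zpowers z'
          obtain ⟨i, hi⟩ := h3
          refine ⟨i, ?_⟩
          have := congrArg Subtype.val hi
          simpa using this
        obtain ⟨i, rfl⟩ := hw
        have h4 : g * (z : Y) ^ i * g⁻¹ = (g * (z : Y) * g⁻¹) ^ i := (conj_zpow).symm
        show g * (z : Y) ^ i * g⁻¹ ∈ Z
        rw [h4]
        exact Z.zpow_mem hconj i
      obtain ⟨y, hy⟩ := exists_prime_orderOf_dvd_card' (G := Y) a (by
        rw [← hidx, ← hcardK, hidx]; exact dvd_mul_right _ _)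
      have hcomm : y * (z : Y) = (z : Y) * y :=
        commute_of_normal_prime ha hb hcop1 Z hZn hZc y (by rw [← hy]; exact pow_orderOf_eq_one y) z
          (Subgroup.mem_zpowers _)
      refine ⟨y * z, ?_⟩
      rw [(show Commute y (z : Y) from hcomm).orderOf_mul_eq_mul_orderOf_of_coprime (by rw [hy, hzY]; exact hcop),
        hy, hzY, hab]
    · exact hsub N hNt h15N
  have hidx : K.index = 3 ∨ K.index = 5 := by
    by_contra hne
    push_neg at hne
    apply h15K
    have h1 : Nat.Coprime 15 K.index := by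
      have h3 : Nat.Coprime 3 K.index := (Nat.coprime_primes (by norm_num) hKp).2 (Ne.symm hne.1)
      have h5 : Nat.Coprime 5 K.index := (Nat.coprime_primes (by norm_num) hKp).2 (Ne.symm hne.2)
      exact Nat.Coprime.mul_left h3 h5
    rw [← hcardK] at h15
    exact h1.dvd_of_dvd_mul_left h15
  rcases hidx with h | h
  · exact step 3 5 (by norm_num) (by norm_num) (by norm_num) (by norm_num) (by norm_num) (Or.inr rfl) h
  · exact step 5 3 (by norm_num) (by norm_num) (by norm_num) (by norm_num) (by norm_num) (Or.inl rfl) h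

/-! ### Frobenius complements -/

theorem solvable_has15 {L : Type u} [Group L] [Finite L] (X : Subgroup L)
    (hX : IsFrobeniusComplement X) (hs : Group.IsSolvable X) (h15 : 15 ∣ Nat.card X) :
    ∃ x ∈ X, orderOf x = 15 := by
  classical
  have hc := kernel_isComplement' hX
  have hK := Cfsg.Agent.Lib.Frobenius.ClassSizes.kernel_ne_bot hX
  haveI := kernel_normal X
  have hfpf := (isFrobeniusComplement_iff_of_isComplement' (kernel X) hc hK hX.1).1 hX
  obtain ⟨y, hy⟩ := exists_order15 _ X rfl (by
    intro B p _ hp hB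
    have h1 : IsPGroup p (B.map X.subtype) := hB.map X.subtype
    have hp2 : p ≠ 2 := by omega
    have h2 : IsCyclic (B.map X.subtype) :=
      Cfsg.Agent.Lib.FPF.Complement.isCyclic_of_isPGroup hc hK hfpf _ (Subgroup.map_subtype_le B) hp2 h1
    exact isCyclic_of_surjective (B.equivMapOfInjective X.subtype X.subtype_injective).symm
      (MulEquiv.surjective _)) h15
  exact ⟨y, y.2, by rw [Subgroup.orderOf_coe]; exact hy⟩

theorem coprime_kernel {F : Type u} [Group F] [Finite F] {C : Subgroup F}
    (hC : IsFrobeniusComplement C) : (Nat.card (kernel C)).Coprime (Nat.card C) := by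
  rw [card_kernel hC]
  have h := index_mod hC
  have h2 : Nat.gcd C.index (Nat.card C) = Nat.gcd 1 (Nat.card C) := Nat.ModEq.gcd_eq h
  rw [Nat.Coprime, h2]
  simp

theorem order_dvd_or {F : Type u} [Group F] [Finite F] {C : Subgroup F}
    (hC : IsFrobeniusComplement C) (f : F) :
    orderOf f ∣ Nat.card (kernel C) ∨ (∃ c ∈ C, orderOf c = orderOf f) := by
  by_cases hf : f ∈ kernel C
  · left
    have := Subgroup.orderOf_dvd_natCard (kernel C) hf
    exact this
  · right
    obtain ⟨u, hu⟩ := Cfsg.Agent.Lib.Frobenius.ClassSizes.exists_conj_of_not_mem_kernel hC hf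
    refine ⟨_, hu, ?_⟩
    have h1 := (MulAut.conj u⁻¹).orderOf_eq f
    rw [MulAut.conj_apply] at h1
    rw [inv_inv] at h1
    exact h1

theorem order15_of {F : Type u} [Group F] [Finite F] {C : Subgroup F}
    (hC : IsFrobeniusComplement C) (h15 : 15 ∣ Nat.card C) (f : F) (hf : orderOf f = 15) :
    ∃ c ∈ C, orderOf c = 15 := by
  rcases order_dvd_or hC f with h | ⟨c, hc, hco⟩
  · exfalso
    rw [hf] at h
    have := Nat.dvd_gcd h h15
    rw [coprime_kernel hC] at this
    omega
  · exact ⟨c, hc, hco.trans hf⟩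

theorem solvable_transfer {L : Type u} {L' : Type v} [Group L] [Finite L] [Group L'] [Finite L']
    (X : Subgroup L) (X' : Subgroup L') (hX : IsFrobeniusComplement X) (hX' : IsFrobeniusComplement X')
    (hcard : Nat.card X = Nat.card X') (h : (∃ f : L, orderOf f = 15) → ∃ g : L', orderOf g = 15)
    (hs : Group.IsSolvable X) : Group.IsSolvable X' := by
  by_contra hns
  obtain ⟨h15, hno⟩ := nonsolvable_facts X' hX' hns
  obtain ⟨x, _, hx⟩ := solvable_has15 X hX hs (hcard ▸ h15)
  obtain ⟨g, hg⟩ := h ⟨x, hx⟩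
  obtain ⟨c, hc, hco⟩ := order15_of hX' h15 g hg
  exact hno c hc hco

theorem solvable_iff_complement {G : Type u} [Group G] [Finite G] (K H : Subgroup G) [K.Normal]
    (hc : Subgroup.IsComplement' K H) (hK : Group.IsSolvable K) :
    Group.IsSolvable G ↔ Group.IsSolvable H := by
  constructor
  · intro h
    exact solvable_of_solvable_injective H.subtype_injective
  · intro h
    haveI : Group.IsSolvable (G ⧸ K) := by
      apply solvable_of_surjective (f := (QuotientGroup.mk' K).comp H.subtype)
      intro q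
      obtain ⟨x, rfl⟩ := QuotientGroup.mk'_surjective K q
      obtain ⟨⟨k, h'⟩, hkh⟩ := hc.2 x
      refine ⟨h', ?_⟩
      have hkh' : (k : G) * (h' : G) = x := hkh
      show (QuotientGroup.mk' K) (h' : G) = _
      rw [← hkh', map_mul]
      have h1 : (QuotientGroup.mk' K) (k : G) = 1 := (QuotientGroup.eq_one_iff _).2 k.2
      rw [h1, one_mul]
    exact solvable_of_ker_le_range K.subtype (QuotientGroup.mk' K) (by
      intro x hx
      rw [QuotientGroup.ker_mk'] at hx
      exact ⟨⟨x, hx⟩, rfl⟩)

/-! ### Order types -/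

theorem exists_order_equiv {F : Type u} {G : Type v} [Group F] [Finite F] [Group G] [Finite G]
    (hT : ∀ m : ℕ, Nat.card {g : F // orderOf g = m} = Nat.card {h : G // orderOf h = m}) :
    ∃ e : F ≃ G, ∀ f, orderOf (e f) = orderOf f := by
  classical
  have hfib : ∀ m, Nonempty ({g : F // orderOf g = m} ≃ {h : G // orderOf h = m}) :=
    fun m => Finite.card_eq.1 (hT m)
  let e₀ : ∀ m, ({g : F // orderOf g = m} ≃ {h : G // orderOf h = m}) := fun m => (hfib m).some
  refine ⟨(Equiv.sigmaFiberEquiv (orderOf : F → ℕ)).symm.trans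
    ((Equiv.sigmaCongrRight e₀).trans (Equiv.sigmaFiberEquiv (orderOf : G → ℕ))), ?_⟩
  intro g
  exact (e₀ (orderOf g) ⟨g, rfl⟩).2

theorem sylow_normal_transfer {F : Type u} {G : Type v} [Group F] [Finite F] [Group G] [Finite G]
    (e : F ≃ G) (he : ∀ f, orderOf (e f) = orderOf f) {p : ℕ} [hp : Fact p.Prime] (P : Sylow p F)
    (hPn : (P : Subgroup F).Normal) (Q : Sylow p G) : (Q : Subgroup G).Normal := by
  classical
  have hpp : p.Prime := hp.out
  have hcard : Nat.card F = Nat.card G := Nat.card_congr e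
  have hPmem : ∀ g : F, (∃ k, orderOf g = p ^ k) → g ∈ (P : Subgroup F) := by
    rintro g ⟨k, hk⟩
    have h1 : IsPGroup p (Subgroup.zpowers g ⊔ (P : Subgroup F) : Subgroup F) := by
      apply IsPGroup.to_sup_of_normal_right' (IsPGroup.of_card (n := k) (by rw [Nat.card_zpowers, hk]))
        P.isPGroup'
      rw [Subgroup.zpowers_le, Subgroup.normalizer_eq_top_iff.2 hPn]
      exact Subgroup.mem_top g
    have h2 := P.is_maximal' h1 le_sup_right
    have h3 : g ∈ (Subgroup.zpowers g ⊔ (P : Subgroup F) : Subgroup F) :=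
      Subgroup.mem_sup_left (Subgroup.mem_zpowers g)
    rw [h2] at h3
    exact h3
  have hQord : ∀ h ∈ (Q : Subgroup G), ∃ k, orderOf h = p ^ k := by
    intro h hh
    obtain ⟨m, hm⟩ := IsPGroup.iff_card.1 Q.isPGroup'
    have h6 : orderOf h ∣ p ^ m := hm ▸ Subgroup.orderOf_dvd_natCard _ hh
    obtain ⟨j, -, hj⟩ := (Nat.dvd_prime_pow hpp).1 h6
    exact ⟨j, hj⟩
  have hcardPQ : Nat.card (P : Subgroup F) = Nat.card (Q : Subgroup G) := by
    rw [Sylow.card_eq_multiplicity, Sylow.card_eq_multiplicity, hcard]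
  have hQall : ∀ h : G, (∃ k, orderOf h = p ^ k) → h ∈ (Q : Subgroup G) := by
    have hsub : e.symm '' ((Q : Subgroup G) : Set G) ⊆ ((P : Subgroup F) : Set F) := by
      rintro _ ⟨h, hh, rfl⟩
      apply hPmem
      obtain ⟨k, hk⟩ := hQord h hh
      refine ⟨k, ?_⟩
      rw [← he, e.apply_symm_apply, hk]
    have himg : e.symm '' ((Q : Subgroup G) : Set G) = ((P : Subgroup F) : Set F) := by
      apply Set.eq_of_subset_of_ncard_le hsub
      rw [Set.ncard_image_of_injective _ e.symm.injective, ← Nat.card_coe_set_eq,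
        ← Nat.card_coe_set_eq]
      exact hcardPQ.le
    rintro h ⟨k, hk⟩
    have h1 : e.symm h ∈ ((P : Subgroup F) : Set F) := by
      apply hPmem
      refine ⟨k, ?_⟩
      rw [← he, e.apply_symm_apply, hk]
    rw [← himg] at h1
    obtain ⟨h2, hh2, hh3⟩ := h1
    rw [e.symm.injective hh3] at hh2
    exact hh2
  constructor
  intro n hn g
  apply hQall
  obtain ⟨k, hk⟩ := hQord n hn
  refine ⟨k, ?_⟩
  have := (MulAut.conj g).orderOf_eq n
  rw [MulAut.conj_apply] at this
  rw [this, hk]

/-- A nilpotent normal Hall subgroup has normal Sylow subgroups in the whole group. -/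
theorem sylow_normal_of_nilpotent {F : Type u} [Group F] [Finite F] (N : Subgroup F) [N.Normal]
    (hN : Group.IsNilpotent N) (hcop : (Nat.card N).Coprime N.index) {p : ℕ} [hp : Fact p.Prime]
    (hpN : p ∣ Nat.card N) (P : Sylow p F) : (P : Subgroup F).Normal := by
  classical
  obtain ⟨R'⟩ : Nonempty (Sylow p N) := inferInstance
  have hR'n : (R' : Subgroup N).Normal :=
    (Group.isNilpotent_of_finite_tfae (G := N)).out 0 3 rfl rfl |>.mp hN p hp R'
  haveI hR'c : (R' : Subgroup N).Characteristic := Sylow.characteristic_of_normal R' hR'n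
  let R : Subgroup F := (R' : Subgroup N).map N.subtype
  have hRn : R.Normal := by
    constructor
    rintro _ ⟨r, hr, rfl⟩ g
    let c : N ≃* N := MulAut.conjNormal g
    have h1 : c r ∈ (R' : Subgroup N) := by
      have h2 := Subgroup.characteristic_iff_map_le.1 hR'c c
      exact h2 ⟨r, hr, rfl⟩
    exact ⟨c r, h1, by simp [c, MulAut.conjNormal_apply]⟩
  have hRp : IsPGroup p R := R'.isPGroup'.map N.subtype
  -- `P` lies in `N`
  have hpI : ¬ p ∣ N.index := fun h => by
    have := Nat.dvd_gcd hpN h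
    rw [hcop] at this
    exact hp.out.one_lt.ne' (Nat.dvd_one.1 this)
  have hPN : (P : Subgroup F) ≤ N := by
    have h1 : IsPGroup p ((P : Subgroup F).map (QuotientGroup.mk' N)) := P.isPGroup'.map _
    have h2 : Nat.card ((P : Subgroup F).map (QuotientGroup.mk' N)) ∣ N.index :=
      Subgroup.card_subgroup_dvd_card _
    have h3 : Nat.card ((P : Subgroup F).map (QuotientGroup.mk' N)) = 1 := by
      obtain ⟨m, hm⟩ := IsPGroup.iff_card.1 h1
      rw [hm] at h2 ⊢
      rcases m with _ | m
      · rfl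
      · exfalso
        exact hpI ((dvd_pow_self p (Nat.succ_ne_zero m)).trans h2)
    have h4 := Subgroup.card_eq_one.1 h3
    intro x hx
    have h5 : (QuotientGroup.mk' N) x ∈ (P : Subgroup F).map (QuotientGroup.mk' N) := ⟨x, hx, rfl⟩
    rw [h4] at h5
    have h6 : (QuotientGroup.mk' N) x = 1 := h5
    rwa [← MonoidHom.mem_ker, QuotientGroup.ker_mk'] at h6
  -- `P` lies in `R`
  have hPR : (P : Subgroup F) ≤ R := by
    have h1 : IsPGroup p ((P : Subgroup F).subgroupOf N) :=
      P.isPGroup'.comap_of_injective _ (Subgroup.subtype_injective _) |> fun h => h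
    obtain ⟨R'', hR''⟩ := h1.exists_le_sylow
    have h3 : R'' = R' := by
      haveI := Sylow.unique_of_normal R' hR'n
      exact Subsingleton.elim _ _
    intro x hx
    have h4 : (⟨x, hPN hx⟩ : N) ∈ (P : Subgroup F).subgroupOf N := hx
    have h5 := hR'' h4
    rw [h3] at h5
    exact ⟨_, h5, rfl⟩
  have hPeq : (P : Subgroup F) = R := (P.is_maximal' hRp hPR).symm
  rw [hPeq]
  exact hRn

/-- Normal Sylow subgroups assemble to a normal Hall subgroup. -/
theorem exists_normal_of_sylow_normal {G : Type v} [Group G] [Finite G] (n m : ℕ)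
    (hnm : n * m = Nat.card G) (hcop : n.Coprime m)
    (hS : ∀ p : ℕ, p.Prime → p ∣ n → ∀ [Fact p.Prime] (Q : Sylow p G), (Q : Subgroup G).Normal) :
    ∃ A : Subgroup G, A.Normal ∧ Nat.card A = n := by
  classical
  have hG0 : Nat.card G ≠ 0 := Nat.card_pos.ne'
  have hn0 : n ≠ 0 := by
    rintro rfl
    simp at hnm
    exact hG0 hnm.symm
  have hm0 : m ≠ 0 := by
    rintro rfl
    simp at hnm
    exact hG0 hnm.symm
  have key : ∀ s : Finset ℕ, s ⊆ n.primeFactors →
      ∃ A : Subgroup G, A.Normal ∧ Nat.card A = ∏ p ∈ s, p ^ n.factorization p := by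
    intro s
    induction s using Finset.induction_on with
    | empty =>
      intro _
      exact ⟨⊥, inferInstance, by simp⟩
    | insert q s hq ih =>
      intro hs
      obtain ⟨A, hAn, hAc⟩ := ih (fun x hx => hs (Finset.mem_insert_of_mem hx))
      have hqn := hs (Finset.mem_insert_self q s)
      have hqp : q.Prime := Nat.prime_of_mem_primeFactors hqn
      have hqd : q ∣ n := Nat.dvd_of_mem_primeFactors hqn
      haveI : Fact q.Prime := ⟨hqp⟩
      obtain ⟨Q⟩ : Nonempty (Sylow q G) := inferInstance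
      have hQn := hS q hqp hqd Q
      have hQc : Nat.card (Q : Subgroup G) = q ^ n.factorization q := by
        rw [Sylow.card_eq_multiplicity, ← hnm, Nat.factorization_mul hn0 hm0]
        have : m.factorization q = 0 := by
          apply Nat.factorization_eq_zero_of_not_dvd
          intro h
          have := Nat.dvd_gcd hqd h
          rw [hcop] at this
          exact hqp.one_lt.ne' (Nat.dvd_one.1 this)
        simp [this]
      haveI := hAn
      haveI := hQn
      have hdisj : A ⊓ (Q : Subgroup G) = ⊥ := by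
        apply Cfsg.Agent.Lib.Coprime.SchurZassenhaus.disjoint_of_coprime_card
        rw [hAc, hQc]
        apply Nat.Coprime.prod_left
        intro p hp
        apply Nat.Coprime.pow
        have hpn := hs (Finset.mem_insert_of_mem hp)
        rw [Nat.coprime_primes (Nat.prime_of_mem_primeFactors hpn) hqp]
        rintro rfl
        exact hq hp
      have hcard := Cfsg.Agent.Lib.Coprime.Action.card_sup_of_le_normalizer
        (A := (Q : Subgroup G)) (K := A) (by
          rw [Subgroup.normalizer_eq_top_iff.2 hAn]; exact le_top) hdisj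
      refine ⟨A ⊔ (Q : Subgroup G), inferInstance, ?_⟩
      rw [← hcard, hAc, hQc, Finset.prod_insert hq, mul_comm]
  obtain ⟨A, hAn, hAc⟩ := key n.primeFactors subset_rfl
  refine ⟨A, hAn, ?_⟩
  rw [hAc]
  have := Nat.factorization_prod_pow_eq_self hn0
  rw [Finsupp.prod, Nat.support_factorization] at this
  exact this

/-- Let F be a finite Frobenius group (it has a Frobenius complement) and G a finite group with the same order type as F (for every m the same number of elements of order m). Then G is a Frobenius group; moreover G is solvable if and only if F is. -/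
theorem result {F G : Type*} [Group F] [Finite F] [Group G] [Finite G] (hF : (∃ C : Subgroup F, Cfsg.IsFrobeniusComplement C)) (hT : (∀ m : ℕ, Nat.card {g : F // orderOf g = m} = Nat.card {h : G // orderOf h = m})) :
    (∃ C : Subgroup G, Cfsg.IsFrobeniusComplement C) ∧ (Group.IsSolvable G ↔ Group.IsSolvable F) := by
  classical
  obtain ⟨C, hC⟩ := hF
  obtain ⟨e, he⟩ := exists_order_equiv hT
  have hcardG : Nat.card F = Nat.card G := Nat.card_congr e
  haveI hNn : (kernel C).Normal := kernel_normal C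
  have hc := kernel_isComplement' hC
  have hNne := Cfsg.Agent.Lib.Frobenius.ClassSizes.kernel_ne_bot hC
  have hcop := coprime_kernel hC
  have hnk : Nat.card (kernel C) * Nat.card C = Nat.card F := hc.card_mul
  have hNidx : (kernel C).index = Nat.card C := by
    have h1 := Subgroup.card_mul_index (kernel C)
    rw [← hnk] at h1
    exact Nat.eq_of_mul_eq_mul_left Nat.card_pos h1
  have hNnil : Group.IsNilpotent (kernel C) := by
    obtain ⟨N', hN', -, hN'n⟩ := Cfsg.Agent.Lib.Frobenius.Nilpotent.kernel_nilpotent_of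
      (fun X _ _ φ h p hp ho => Cfsg.Agent.S0033.result φ h p hp ho) hC
    have : N' = kernel C := SetLike.coe_injective (hN'.trans (coe_kernel hC).symm)
    rwa [this] at hN'n
  have hSylG : ∀ p : ℕ, p.Prime → p ∣ Nat.card (kernel C) → ∀ [Fact p.Prime] (Q : Sylow p G),
      (Q : Subgroup G).Normal := by
    intro p hp hpn _ Q
    obtain ⟨P⟩ : Nonempty (Sylow p F) := inferInstance
    have hPn := sylow_normal_of_nilpotent (kernel C) hNnil (by rw [hNidx]; exact hcop) hpn P
    exact sylow_normal_transfer e he P hPn Q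
  obtain ⟨A, hAn, hAc⟩ := exists_normal_of_sylow_normal (G := G) _ _ (hnk.trans hcardG) hcop hSylG
  haveI := hAn
  have hAidx : A.index = Nat.card C := by
    have h1 := Subgroup.card_mul_index A
    rw [hAc, ← hcardG, ← hnk] at h1
    exact Nat.eq_of_mul_eq_mul_left Nat.card_pos h1
  obtain ⟨T, hAT⟩ := Subgroup.exists_right_complement'_of_coprime (N := A) (by
    rw [hAc, hAidx]; exact hcop)
  have hTc : Nat.card T = Nat.card C := by
    have h1 := hAT.card_mul
    have h2 := Subgroup.card_mul_index A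
    rw [← h2, hAidx] at h1
    exact Nat.eq_of_mul_eq_mul_left Nat.card_pos h1
  -- orders in `G`
  have hord : ∀ g : G, orderOf g ∣ Nat.card (kernel C) ∨ orderOf g ∣ Nat.card C := by
    intro g
    have h1 : orderOf (e.symm g) = orderOf g := by
      rw [← he, e.apply_symm_apply]
    rcases order_dvd_or hC (e.symm g) with h | ⟨c, hc', hco⟩
    · left; rwa [h1] at h
    · right
      rw [← h1, ← hco]
      exact Subgroup.orderOf_dvd_natCard C hc'
  have hCne : 1 < Nat.card C := by
    haveI : Nontrivial C := (Subgroup.nontrivial_iff_ne_bot C).2 hC.1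
    exact Finite.one_lt_card
  have hNcard : 1 < Nat.card (kernel C) := by
    haveI : Nontrivial (kernel C) := (Subgroup.nontrivial_iff_ne_bot _).2 hNne
    exact Finite.one_lt_card
  have hTne : T ≠ ⊥ := by
    rintro rfl
    rw [Subgroup.card_bot] at hTc
    omega
  have hAne : A ≠ ⊥ := by
    rintro rfl
    rw [Subgroup.card_bot] at hAc
    omega
  have hfpf : ∀ t ∈ T, t ≠ 1 → A ⊓ Subgroup.centralizer {t} = ⊥ := by
    intro t ht ht1
    rw [eq_bot_iff]
    rintro x ⟨hxA, hxc⟩
    have hxc' : x ∈ Subgroup.centralizer {t} := hxc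
    have hcomm : x * t = t * x := (Subgroup.mem_centralizer_singleton_iff.1 hxc')
    by_contra hx1
    have hx1' : x ≠ 1 := hx1
    have h1 : orderOf x ∣ Nat.card (kernel C) := by
      rw [← hAc]; exact Subgroup.orderOf_dvd_natCard A hxA
    have h2 : orderOf t ∣ Nat.card C := by
      rw [← hTc]; exact Subgroup.orderOf_dvd_natCard T ht
    have hco : Nat.Coprime (orderOf x) (orderOf t) := Nat.Coprime.coprime_dvd_left h1 (Nat.Coprime.coprime_dvd_right h2 hcop)
    have h3 := (show Commute x t from hcomm).orderOf_mul_eq_mul_orderOf_of_coprime hco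
    rcases hord (x * t) with h | h
    · rw [h3] at h
      have h4 : orderOf t ∣ Nat.card (kernel C) := (dvd_mul_left _ _).trans h
      have h5 := Nat.dvd_gcd h4 h2
      rw [hcop] at h5
      exact ht1 (orderOf_eq_one_iff.1 (Nat.dvd_one.1 h5))
    · rw [h3] at h
      have h4 : orderOf x ∣ Nat.card C := (dvd_mul_right _ _).trans h
      have h5 := Nat.dvd_gcd h1 h4
      rw [hcop] at h5
      exact hx1' (orderOf_eq_one_iff.1 (Nat.dvd_one.1 h5))
  have hFT : IsFrobeniusComplement T :=
    (isFrobeniusComplement_iff_of_isComplement' A hAT hAne hTne).2 hfpf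
  refine ⟨⟨T, hFT⟩, ?_⟩
  -- solvability
  have hAnil : Group.IsSolvable A := by
    have hker : kernel T = A := (Cfsg.Agent.Lib.Frobenius.Normal.kernel_eq_of_isComplement' hFT hAT).symm
    obtain ⟨N', hN', -, hN'n⟩ := Cfsg.Agent.Lib.Frobenius.Nilpotent.kernel_nilpotent_of
      (fun X _ _ φ h p hp ho => Cfsg.Agent.S0033.result φ h p hp ho) hFT
    have : N' = A := SetLike.coe_injective (hN'.trans ((coe_kernel hFT).symm.trans (by rw [hker])))
    rw [this] at hN'n
    haveI := hN'n
    infer_instance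
  have hNs : Group.IsSolvable (kernel C) := by
    haveI := hNnil
    infer_instance
  rw [solvable_iff_complement A T hAT hAnil, solvable_iff_complement (kernel C) C hc hNs]
  have hfwd : (∃ f : F, orderOf f = 15) → ∃ g : G, orderOf g = 15 := by
    rintro ⟨f, hf⟩
    exact ⟨e f, by rw [he, hf]⟩
  have hbwd : (∃ g : G, orderOf g = 15) → ∃ f : F, orderOf f = 15 := by
    rintro ⟨g, hg⟩
    exact ⟨e.symm g, by rw [← he, e.apply_symm_apply, hg]⟩
  exact ⟨solvable_transfer T C hFT hC hTc hbwd, solvable_transfer C T hC hFT hTc.symm hfwd⟩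

end Cfsg.Agent.S3999
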