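import Cfsg.Statements.S5398
import Cfsg.Agent.Lib.ThreeT.M22k

set_option autoImplicit false
open Cfsg

namespace Cfsg.Agent.S5398

open Cfsg.Agent.Lib.ThreeT.M22 Cfsg.Agent.Lib.ThreeT.Basic Cfsg.Agent.Lib.ThreeT.Relations
open Cfsg.Agent.Lib.ThreeT.Rank3 Cfsg.Agent.Lib.ThreeT.Class

section aux

variable {G : Type*} [Group G] {D : Set G}

open scoped _root_.Classical

/-- Two commuting sets with the same product give a relation. -/
theorem sdiff_rel (hD : IsThreeTranspositionSet D) {S T : Finset G} (hSD : ∀ a ∈ S, a ∈ D) (hTD : ∀ a ∈ T, a ∈ D)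
    (hc : ∀ a ∈ S ∪ T, ∀ b ∈ S ∪ T, Commute a b) (h : prd S = prd T) : IsR D ((S \ T) ∪ (T \ S)) := by
  have hdS : Disjoint (S \ T) (S ∩ T) := Finset.disjoint_sdiff_inter S T
  have hdT : Disjoint (T \ S) (T ∩ S) := Finset.disjoint_sdiff_inter T S
  have e1 : prd S = prd (S \ T) * prd (S ∩ T) := by
    conv_lhs => rw [← Finset.sdiff_union_inter S T]
    apply prd_union hdS
    rw [Finset.sdiff_union_inter]
    exact fun a ha b hb => hc a (Finset.mem_union_left _ ha) b (Finset.mem_union_left _ hb)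
  have e2 : prd T = prd (T \ S) * prd (T ∩ S) := by
    conv_lhs => rw [← Finset.sdiff_union_inter T S]
    apply prd_union hdT
    rw [Finset.sdiff_union_inter]
    exact fun a ha b hb => hc a (Finset.mem_union_right _ ha) b (Finset.mem_union_right _ hb)
  have e3 : prd (S \ T) = prd (T \ S) := by
    rw [e1, e2, Finset.inter_comm T S] at h
    exact mul_right_cancel h
  have hmem : ∀ a ∈ (S \ T) ∪ (T \ S), a ∈ S ∪ T := by
    intro a ha
    rcases Finset.mem_union.1 ha with h1 | h1
    · exact Finset.mem_union_left _ (Finset.mem_sdiff.1 h1).1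
    · exact Finset.mem_union_right _ (Finset.mem_sdiff.1 h1).1
  have hD' : ∀ a ∈ S ∪ T, a ∈ D := by
    intro a ha
    rcases Finset.mem_union.1 ha with h1 | h1
    · exact hSD a h1
    · exact hTD a h1
  refine ⟨fun a ha => hD' a (hmem a ha), fun a ha b hb => hc a (hmem a ha) b (hmem b hb), ?_⟩
  rw [prd_union disjoint_sdiff_sdiff
    (fun a ha b hb => hc a (hmem a ha) b (hmem b hb)), e3]
  apply prd_sq
  · exact fun a ha b hb => hc a (Finset.mem_union_right _ (Finset.mem_sdiff.1 ha).1) b (Finset.mem_union_right _ (Finset.mem_sdiff.1 hb).1)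
  · exact fun a ha => mul_self_of_mem hD (hTD a (Finset.mem_sdiff.1 ha).1)

end aux


/-- Let G be a finite group with trivial centre generated by a conjugation-invariant set D of 3-transpositions on which it acts primitively, such that for some d in D the subgroup generated by the members of D other than d commuting with d has central largest normal 2- and 3-subgroups, and suppose G with D is of type M(22). Then G has exactly 3 conjugacy classes of involutions: every involution is a product of m distinct pairwise commuting members of D for some m between 1 and 3; for each such m these products form one non-empty conjugacy class; and the value of m is determined by the involution. -/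
theorem result {G : Type*} [Group G] [Finite G] {D : Set G} (hD : Cfsg.IsThreeTranspositionGroup D) (hprim : Cfsg.IsPrimitiveUnderConj D) (d : G) (hd : d ∈ D) (h3 : Cfsg.pCore 3 ↥(Subgroup.closure {y : G | y ∈ D ∧ y ≠ d ∧ Commute d y}) ≤ Subgroup.center ↥(Subgroup.closure {y : G | y ∈ D ∧ y ≠ d ∧ Commute d y})) (h2 : Cfsg.pCore 2 ↥(Subgroup.closure {y : G | y ∈ D ∧ y ≠ d ∧ Commute d y}) ≤ Subgroup.center ↥(Subgroup.closure {y : G | y ∈ D ∧ y ≠ d ∧ Commute d y})) (ht : Cfsg.IsOfTypeM22 G D) : (∀ x : G, orderOf x = 2 → ∃ m : ℕ, 1 ≤ m ∧ m ≤ 3 ∧ (∃ l : List G, l.Nodup ∧ l.length = m ∧ (∀ a ∈ l, a ∈ D) ∧ (∀ a ∈ l, ∀ b ∈ l, Commute a b) ∧ l.prod = x)) ∧ (∀ m : ℕ, 1 ≤ m → m ≤ 3 → (∃ x : G, orderOf x = 2 ∧ (∃ l : List G, l.Nodup ∧ l.length = m ∧ (∀ a ∈ l, a ∈ D) ∧ (∀ a ∈ l, ∀ b ∈ l, Commute a b) ∧ l.prod = x)) ∧ ∀ x y : G, (∃ l : List G, l.Nodup ∧ l.length = m ∧ (∀ a ∈ l, a ∈ D) ∧ (∀ a ∈ l, ∀ b ∈ l, Commute a b) ∧ l.prod = x) → (∃ l : List G, l.Nodup ∧ l.length = m ∧ (∀ a ∈ l, a ∈ D)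 ∧ (∀ a ∈ l, ∀ b ∈ l, Commute a b) ∧ l.prod = y) → IsConj x y) ∧ ∀ (m m' : ℕ) (x : G), 1 ≤ m → m ≤ 3 → 1 ≤ m' → m' ≤ 3 → (∃ l : List G, l.Nodup ∧ l.length = m ∧ (∀ a ∈ l, a ∈ D) ∧ (∀ a ∈ l, ∀ b ∈ l, Commute a b) ∧ l.prod = x) → (∃ l : List G, l.Nodup ∧ l.length = m' ∧ (∀ a ∈ l, a ∈ D) ∧ (∀ a ∈ l, ∀ b ∈ l, Commute a b) ∧ l.prod = x) → m = m' := by
  classical
  haveI := Fintype.ofFinite G
  obtain ⟨F, _, _, _, data⟩ := Cfsg.Agent.Lib.ThreeT.M22.exists_data ht hD hprim
  have hmem1 : ∀ {a : G}, a ∈ D → a * a = 1 := fun ha => mul_self_of_mem hD.1 ha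
  have hne1 : ∀ {a : G}, a ∈ D → a ≠ 1 := fun ha => ne_one_of_mem hD.1 ha
  -- the basic lists
  let P : ℕ → G → Prop := fun m x => ∃ l : List G, l.Nodup ∧ l.length = m ∧ (∀ a ∈ l, a ∈ D) ∧ (∀ a ∈ l, ∀ b ∈ l, Commute a b) ∧ l.prod = x
  have hPS : ∀ {m x}, P m x → ∃ S : Finset G, S.card = m ∧ (∀ a ∈ S, a ∈ D) ∧ (∀ a ∈ S, ∀ b ∈ S, Commute a b) ∧ prd S = x := by
    rintro m x ⟨l, h1, h2, h3, h4, h5⟩
    refine ⟨l.toFinset, by rw [List.toFinset_card_of_nodup h1, h2], fun a ha => h3 a (by simpa using ha),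
      fun a ha b hb => h4 a (by simpa using ha) b (by simpa using hb), ?_⟩
    rw [prd_eq_of_list h1 (fun a => by simp) (fun a ha b hb => h4 a (by simpa using ha) b (by simpa using hb)), h5]
  -- uniqueness of the length
  have huniq : ∀ (m m' : ℕ) (x : G), 1 ≤ m → m < m' → m ≤ 2 → m' ≤ 3 → P m x → P m' x → False := by
    intro m m' x h1 hlt h2 h3 hP hP'
    obtain ⟨l, hnd, hlen, hlD, hlc, hlp⟩ := hP
    set S := l.toFinset with hSd
    have hS1 : S.card = m := by rw [hSd, List.toFinset_card_of_nodup hnd, hlen]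
    have hS2 : ∀ a ∈ S, a ∈ D := fun a ha => hlD a (by simpa [hSd] using ha)
    have hS3 : ∀ a ∈ S, ∀ b ∈ S, Commute a b := fun a ha b hb => hlc a (by simpa [hSd] using ha) b (by simpa [hSd] using hb)
    have hS4 : prd S = x := by
      rw [prd_eq_of_list hnd (fun a => by simp [hSd]) hS3, hlp]
    obtain ⟨T, hT1, hT2, hT3, hT4⟩ := hPS hP'
    have hcx : ∀ t ∈ T, Commute t x := by
      intro t ht
      rw [← hT4]
      exact (prd_comm (fun a ha => hT3 a ha t ht)).symm
    have hcs : ∀ t ∈ T, ∀ a ∈ S, Commute t a := by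
      intro t ht a ha
      have hml : a ∈ l := by simpa [hSd] using ha
      have hm : m = 1 ∨ m = 2 := by omega
      rcases hm with rfl | rfl
      · obtain ⟨a', rfl⟩ := List.length_eq_one_iff.1 hlen
        have : a = a' := by simpa using hml
        subst this
        simpa [← hlp] using hcx t ht
      · obtain ⟨a', b', rfl⟩ := List.length_eq_two.1 hlen
        have hab : a' ≠ b' := by simpa using hnd
        have hc' : Commute a' b' := hlc a' (by simp) b' (by simp)
        have h4 : Commute t (a' * b') := by simpa [← hlp] using hcx t ht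
        obtain ⟨h5, h6⟩ := comm_two hD.1 (hlD a' (by simp)) (hlD b' (by simp)) (hT2 t ht) hab hc' h4
        have : a = a' ∨ a = b' := by simpa using hml
        rcases this with rfl | rfl
        · exact h5
        · exact h6
    have hc : ∀ a ∈ S ∪ T, ∀ b ∈ S ∪ T, Commute a b := by
      intro a ha b hb
      rcases Finset.mem_union.1 ha with h1 | h1 <;> rcases Finset.mem_union.1 hb with h2 | h2
      · exact hS3 a h1 b h2
      · exact (hcs b h2 a h1).symm
      · exact hcs a h1 b h2
      · exact hT3 a h1 b h2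
    have hR := sdiff_rel hD.1 hS2 hT2 hc (hS4.trans hT4.symm)
    have hne : ((S \ T) ∪ (T \ S)).Nonempty := by
      by_contra hcon
      rw [Finset.not_nonempty_iff_eq_empty] at hcon
      have h1 : T \ S = ∅ := by
        apply Finset.eq_empty_of_forall_notMem
        intro a ha
        have : a ∈ (S \ T) ∪ (T \ S) := Finset.mem_union_right _ ha
        rw [hcon] at this
        simp at this
      have h2 : T ⊆ S := Finset.sdiff_eq_empty_iff_subset.1 h1
      have := Finset.card_le_card h2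
      omega
    have h6 := isR_ge_six hD hprim ht hR hne
    have h7 : ((S \ T) ∪ (T \ S)).card ≤ S.card + T.card :=
      (Finset.card_union_le _ _).trans (Nat.add_le_add (Finset.card_le_card Finset.sdiff_subset) (Finset.card_le_card Finset.sdiff_subset))
    omega
  -- existence of long commuting sets
  have hcomm_prod : ∀ {a b : G}, a ∈ D → b ∈ D → Commute a b → (a * b) * (a * b) = 1 := by
    intro a b ha hb hab
    calc (a * b) * (a * b) = a * (b * a) * b := by group
      _ = a * (a * b) * b := by rw [hab.symm.eq]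
      _ = (a * a) * (b * b) := by group
      _ = 1 := by rw [hmem1 ha, hmem1 hb, one_mul]
  have hord : ∀ {x : G}, x * x = 1 → x ≠ 1 → orderOf x = 2 := by
    intro x h1 h2
    haveI : Fact (Nat.Prime 2) := ⟨Nat.prime_two⟩
    exact orderOf_eq_prime (by rw [pow_two]; exact h1) h2
  have hP1 : ∀ {a : G}, a ∈ D → P 1 a := fun {a} ha => ⟨[a], by simp, by simp, by simpa using ha, by simp, by simp⟩
  have hP2 : ∀ {a b : G}, a ∈ D → b ∈ D → a ≠ b → Commute a b → P 2 (a * b) := by
    intro a b ha hb hab c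
    refine ⟨[a, b], by simpa using hab, by simp, ?_, ?_, by simp⟩
    · intro z hz
      simp only [List.mem_cons, List.not_mem_nil, or_false] at hz
      rcases hz with rfl | rfl <;> assumption
    · intro y hy z hz
      simp only [List.mem_cons, List.not_mem_nil, or_false] at hy hz
      rcases hy with rfl | rfl <;> rcases hz with rfl | rfl
      · exact Commute.refl _
      · exact c
      · exact c.symm
      · exact Commute.refl _
  have hP3 : ∀ {a b c : G}, a ∈ D → b ∈ D → c ∈ D → a ≠ b → a ≠ c → b ≠ c → Commute a b → Commute a c → Commute b c → P 3 (a * b * c) := by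
    intro a b c ha hb hc hab hac hbc c1 c2 c3
    refine ⟨[a, b, c], by simp [hab, hac, hbc], by simp, ?_, ?_, by simp [mul_assoc]⟩
    · intro z hz
      simp only [List.mem_cons, List.not_mem_nil, or_false] at hz
      rcases hz with rfl | rfl | rfl <;> assumption
    · intro y hy z hz
      simp only [List.mem_cons, List.not_mem_nil, or_false] at hy hz
      rcases hy with rfl | rfl | rfl <;> rcases hz with rfl | rfl | rfl
      · exact Commute.refl _
      · exact c1
      · exact c2
      · exact c1.symm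
      · exact Commute.refl _
      · exact c3
      · exact c2.symm
      · exact c3.symm
      · exact Commute.refl _
  obtain ⟨M₀, hM₀, hd₀M⟩ := exists_MC (D := D) ({d} : Finset G) (by simpa using hd) (by simp)
  have hcardM : M₀.card = 22 := by
    obtain ⟨U⟩ := data d hd
    exact hM₀.card_eq (hd₀M (by simp)) U
  obtain ⟨x₁, hx₁, x₂, hx₂, x₃, hx₃, h12, h13, h23⟩ := Finset.two_lt_card.1 (by omega : 2 < M₀.card)
  have hx₁D := hM₀.mem x₁ hx₁
  have hx₂D := hM₀.mem x₂ hx₂
  have hx₃D := hM₀.mem x₃ hx₃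
  have c12 := hM₀.comm x₁ hx₁ x₂ hx₂
  have c13 := hM₀.comm x₁ hx₁ x₃ hx₃
  have c23 := hM₀.comm x₂ hx₂ x₃ hx₃
  refine ⟨?_, ?_, ?_⟩
  · -- every involution is such a product
    intro x hx
    have hxx : x * x = 1 := by
      have := pow_orderOf_eq_one x
      rw [hx, pow_two] at this
      exact this
    have hx1 : x ≠ 1 := by
      rintro rfl
      simp at hx
    obtain ⟨l, h1, h2, h3⟩ := invol_product hD hprim ht.1 data hxx
    obtain ⟨M, hM, hsub⟩ := exists_MC (D := D) l.toFinset (fun s hs => h1 s (by simpa using hs))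
      (fun s hs t ht => h2 s (by simpa using hs) t (by simpa using ht))
    have hmem : x ∈ Subgroup.closure (M : Set G) := by
      rw [h3]
      apply Subgroup.list_prod_mem
      intro y hy
      exact Subgroup.subset_closure (hsub (by simpa using hy))
    rcases (hM.wt_of_mem hD hprim ht data hmem).cases hM.comm with h | ⟨s, hs, e⟩ | ⟨s, hs, t, ht', hst, e⟩ | ⟨s, hs, t, ht', u, hu, hst, hsu, htu, e⟩
    · exact absurd h hx1
    · exact ⟨1, le_refl _, by norm_num, by rw [e]; exact hP1 (hM.mem s hs)⟩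
    · exact ⟨2, by norm_num, by norm_num, by rw [e]; exact hP2 (hM.mem s hs) (hM.mem t ht') hst (hM.comm s hs t ht')⟩
    · exact ⟨3, by norm_num, by norm_num, by rw [e]; exact hP3 (hM.mem s hs) (hM.mem t ht') (hM.mem u hu) hst hsu htu (hM.comm s hs t ht') (hM.comm s hs u hu) (hM.comm t ht' u hu)⟩
  · intro m hm1 hm3
    have hm : m = 1 ∨ m = 2 ∨ m = 3 := by omega
    rcases hm with rfl | rfl | rfl
    · refine ⟨⟨x₁, hord (hmem1 hx₁D) (hne1 hx₁D), hP1 hx₁D⟩, ?_⟩
      rintro x y ⟨l, -, hlen, hD1, -, rfl⟩ ⟨l', -, hlen', hD1', -, rfl⟩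
      obtain ⟨a, rfl⟩ := List.length_eq_one_iff.1 hlen
      obtain ⟨a', rfl⟩ := List.length_eq_one_iff.1 hlen'
      obtain ⟨t, ht'⟩ := hprim.1 a (hD1 a (by simp)) a' (hD1' a' (by simp))
      rw [isConj_iff]
      exact ⟨t, by simpa using ht'⟩
    · refine ⟨⟨x₁ * x₂, hord (hcomm_prod hx₁D hx₂D c12) ?_, hP2 hx₁D hx₂D h12 c12⟩, ?_⟩
      · intro h1
        exact h12 (eq_of_mul_inv_eq_one (by rw [inv_of_mem hD.1 hx₂D]; exact h1))
      rintro x y ⟨l, hnd, hlen, hD1, hc1, rfl⟩ ⟨l', hnd', hlen', hD1', hc1', rfl⟩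
      obtain ⟨a, b, rfl⟩ := List.length_eq_two.1 hlen
      obtain ⟨a', b', rfl⟩ := List.length_eq_two.1 hlen'
      have ha := hD1 a (by simp)
      have hb := hD1 b (by simp)
      have ha' := hD1' a' (by simp)
      have hb' := hD1' b' (by simp)
      have hab : a ≠ b := by simpa using hnd
      have hab' : a' ≠ b' := by simpa using hnd'
      have cab := hc1 a (by simp) b (by simp)
      have cab' := hc1' a' (by simp) b' (by simp)
      obtain ⟨t, ht'⟩ := hprim.1 a ha a' ha'
      have h1 : t * b * t⁻¹ ∈ Da D a' := by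
        have := mem_Da_conj hD.2.1 t (show b ∈ Da D a from ⟨hb, hab.symm, cab⟩)
        rwa [ht'] at this
      obtain ⟨g, hg, hge⟩ := exists_conj_of_mem_Da hD hprim ha' h1 (show b' ∈ Da D a' from ⟨hb', hab'.symm, cab'⟩)
      have hga : Commute g a' := by
        have : g ∈ Subgroup.centralizer ({a'} : Set G) := by
          refine (Subgroup.closure_le _).2 ?_ hg
          intro u hu
          rw [SetLike.mem_coe, Subgroup.mem_centralizer_iff]
          intro z hz
          rw [Set.mem_singleton_iff] at hz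
          rw [hz]
          exact hu.2.2
        have h2 := Subgroup.mem_centralizer_iff.1 this a' (Set.mem_singleton _)
        exact h2.symm
      rw [isConj_iff]
      refine ⟨g * t, ?_⟩
      simp only [List.prod_cons, List.prod_nil, mul_one]
      calc g * t * (a * b) * (g * t)⁻¹ = g * (t * a * t⁻¹) * g⁻¹ * (g * (t * b * t⁻¹) * g⁻¹) := by group
        _ = g * a' * g⁻¹ * b' := by rw [ht', hge]
        _ = a' * b' := by rw [hga.eq]; group
    · refine ⟨⟨x₁ * x₂ * x₃, ?_, hP3 hx₁D hx₂D hx₃D h12 h13 h23 c12 c13 c23⟩, ?_⟩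
      · apply hord
        · have h1 := hcomm_prod hx₁D hx₂D c12
          have c : Commute (x₁ * x₂) x₃ := c13.mul_left c23
          calc x₁ * x₂ * x₃ * (x₁ * x₂ * x₃) = (x₁ * x₂) * (x₃ * (x₁ * x₂)) * x₃ := by group
            _ = (x₁ * x₂) * ((x₁ * x₂) * x₃) * x₃ := by rw [c.symm.eq]
            _ = ((x₁ * x₂) * (x₁ * x₂)) * (x₃ * x₃) := by group
            _ = 1 := by rw [h1, hmem1 hx₃D, one_mul]
        · intro h1
          have e : x₁ = x₂ * x₃ := by
            have h2 : x₁ * (x₂ * x₃) = 1 := by rw [← h1]; group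
            have h3 := eq_inv_of_mul_eq_one_left h2
            rw [h3, mul_inv_rev, inv_of_mem hD.1 hx₃D, inv_of_mem hD.1 hx₂D]
            exact c23.symm.eq
          exact huniq 1 2 x₁ (le_refl _) (by norm_num) (by norm_num) (by norm_num) (hP1 hx₁D) (by rw [e]; exact hP2 hx₂D hx₃D h23 c23)
      rintro x y ⟨l, hnd, hlen, hD1, hc1, rfl⟩ ⟨l', hnd', hlen', hD1', hc1', rfl⟩
      obtain ⟨a, b, c, rfl⟩ := List.length_eq_three.1 hlen
      obtain ⟨a', b', c', rfl⟩ := List.length_eq_three.1 hlen'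
      simp only [List.nodup_cons, List.mem_cons, List.not_mem_nil, or_false, not_or, List.nodup_nil, and_true] at hnd hnd'
      obtain ⟨⟨h1, h2⟩, h3, -⟩ := hnd
      obtain ⟨⟨h1', h2'⟩, h3', -⟩ := hnd'
      obtain ⟨g, hg1, hg2, hg3⟩ := exists_conj_triple hD hprim data (hD1 a (by simp)) (hD1 b (by simp)) (hD1 c (by simp)) (hD1' a' (by simp)) (hD1' b' (by simp)) (hD1' c' (by simp))
        h1 h2 h3 h1' h2' h3' (hc1 a (by simp) b (by simp)) (hc1 a (by simp) c (by simp)) (hc1 b (by simp) c (by simp))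
        (hc1' a' (by simp) b' (by simp)) (hc1' a' (by simp) c' (by simp)) (hc1' b' (by simp) c' (by simp))
      rw [isConj_iff]
      refine ⟨g, ?_⟩
      simp only [List.prod_cons, List.prod_nil, mul_one]
      calc g * (a * (b * c)) * g⁻¹ = (g * a * g⁻¹) * ((g * b * g⁻¹) * (g * c * g⁻¹)) := by group
        _ = a' * (b' * c') := by rw [hg1, hg2, hg3]
  · intro m m' x h1 h2 h3 h4 hP hP'
    by_contra hne
    have hlt : m < m' ∨ m' < m := by omega
    rcases hlt with hlt | hlt
    · exact huniq m m' x h1 hlt (by omega) h4 hP hP'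
    · exact huniq m' m x h3 hlt (by omega) h2 hP' hP

end Cfsg.Agent.S5398
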