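import Cfsg.Statements.S5400
import Cfsg.Agent.Lib.ThreeT.F24.InvD
import Cfsg.Agent.Lib.ThreeT.F24.FactsTC
import Cfsg.Agent.Lib.ThreeT.F24.Iso
import Cfsg.Agent.Lib.ThreeT.F23.Main
import Cfsg.Agent.Lib.PermComp.OutP.Fi23I.Final

set_option autoImplicit false
open Cfsg

namespace Cfsg.Agent.S5400

/-- Let G be a finite group with trivial centre generated by a conjugation-invariant set D of 3-transpositions on which it acts primitively, such that for some d in D the subgroup generated by the members of D other than d commuting with d has central largest normal 2- and 3-subgroups, and suppose G with D is of type M(24). Then G has exactly 4 conjugacy classes of involutions: every involution is a product of m distinct pairwise commuting members of D for some m between 1 and 4; for each such m these products form one non-empty conjugacy class; and the value of m is determined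 by the involution. -/
theorem result {G : Type*} [Group G] [Finite G] {D : Set G} (hD : Cfsg.IsThreeTranspositionGroup D) (hprim : Cfsg.IsPrimitiveUnderConj D) (d : G) (hd : d ∈ D) (h3 : Cfsg.pCore 3 ↥(Subgroup.closure {y : G | y ∈ D ∧ y ≠ d ∧ Commute d y}) ≤ Subgroup.center ↥(Subgroup.closure {y : G | y ∈ D ∧ y ≠ d ∧ Commute d y})) (h2 : Cfsg.pCore 2 ↥(Subgroup.closure {y : G | y ∈ D ∧ y ≠ d ∧ Commute d y}) ≤ Subgroup.center ↥(Subgroup.closure {y : G | y ∈ D ∧ y ≠ d ∧ Commute d y})) (ht : Cfsg.IsOfTypeM24 G D) : (∀ x : G, orderOf x = 2 → ∃ m : ℕ, 1 ≤ m ∧ m ≤ 4 ∧ (∃ l : List G, l.Nodup ∧ l.length = m ∧ (∀ a ∈ l, a ∈ D) ∧ (∀ a ∈ l, ∀ b ∈ l, Commute a b) ∧ l.prod = x)) ∧ (∀ m : ℕ, 1 ≤ m → m ≤ 4 → (∃ x : G, orderOf x = 2 ∧ (∃ l : List G, l.Nodup ∧ l.length = m ∧ (∀ a ∈ l, a ∈ D) ∧ (∀ a ∈ l, ∀ b ∈ l, Commute a b) ∧ l.prod = x)) ∧ ∀ x y : G, (∃ l : List G, l.Nodup ∧ l.length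 = m ∧ (∀ a ∈ l, a ∈ D) ∧ (∀ a ∈ l, ∀ b ∈ l, Commute a b) ∧ l.prod = x) → (∃ l : List G, l.Nodup ∧ l.length = m ∧ (∀ a ∈ l, a ∈ D) ∧ (∀ a ∈ l, ∀ b ∈ l, Commute a b) ∧ l.prod = y) → IsConj x y) ∧ ∀ (m m' : ℕ) (x : G), 1 ≤ m → m ≤ 4 → 1 ≤ m' → m' ≤ 4 → (∃ l : List G, l.Nodup ∧ l.length = m ∧ (∀ a ∈ l, a ∈ D) ∧ (∀ a ∈ l, ∀ b ∈ l, Commute a b) ∧ l.prod = x) → (∃ l : List G, l.Nodup ∧ l.length = m' ∧ (∀ a ∈ l, a ∈ D) ∧ (∀ a ∈ l, ∀ b ∈ l, Commute a b) ∧ l.prod = x) → m = m' := by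
  obtain ⟨φ, hφ⟩ := Cfsg.Agent.Lib.ThreeT.F24.Iso.exists_iso hD hprim hd h3 h2 ht
  obtain ⟨d₁, d₂, F, i1, i2, i3, P⟩ := Cfsg.Agent.Lib.ThreeT.M24.exists_pk4 hD hprim hd h3 h2 ht
  have hF := Cfsg.Agent.Lib.ThreeT.F24.FactsTC.facts
  have hL := Cfsg.Agent.Lib.ThreeT.F24.Facts.index_commutator_two hF φ
  have hcl := (Cfsg.Agent.Lib.ThreeT.F24.Facts.closure_main hF φ hφ P.hd₁).2.symm
  obtain ⟨φ₁, hφ₁⟩ := Cfsg.Agent.Lib.ThreeT.F23.exists_iso P.hG₁ P.hp₁ P.P.h23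
  obtain ⟨c1, c2, -⟩ := Cfsg.Agent.Lib.PermComp.OutP.Fi23I.main φ₁ hφ₁
  exact Cfsg.Agent.Lib.ThreeT.F24.InvD.main_of_level P hL hcl c1 (fun m h1 h3 x y hx hy => (c2 m h1 h3).2 x y hx hy)
    (fun m h1 h3 => (c2 m h1 h3).1.imp fun x hx => hx.2)

end Cfsg.Agent.S5400
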