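import Cfsg.Statements.S2286
import Cfsg.Agent.Lib.PresSL2.TwoCore

set_option autoImplicit false
open Cfsg

namespace Cfsg.Agent.S2286

/-- For every finite field F, SL_2(F) and PSL_2(F) have presentations with 3 generators and at most 9 relations; when F has characteristic 2, PSL_2(F) has a presentation with 3 generators and at most 5 relations. -/
theorem result {F : Type*} [Field F] [Fintype F] :
    (∃ rels : Finset (FreeGroup (Fin 3)), rels.card ≤ 9 ∧ Nonempty (PresentedGroup (↑rels : Set (FreeGroup (Fin 3))) ≃* Matrix.SpecialLinearGroup (Fin 2) F)) ∧ (∃ rels : Finset (FreeGroup (Fin 3)), rels.card ≤ 9 ∧ Nonempty (PresentedGroup (↑rels : Set (FreeGroup (Fin 3))) ≃* Matrix.ProjectiveSpecialLinearGroup (Fin 2) F)) ∧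
    (CharP F 2 → ∃ rels : Finset (FreeGroup (Fin 3)), rels.card ≤ 5 ∧ Nonempty (PresentedGroup (↑rels : Set (FreeGroup (Fin 3))) ≃* Matrix.ProjectiveSpecialLinearGroup (Fin 2) F)) := by
  classical
  haveI : Finite F := inferInstance
  by_cases h2 : (2 : F) = 0
  · haveI : CharP F 2 := CharTwo.of_one_ne_zero_of_two_eq_zero one_ne_zero h2
    letI : Algebra (ZMod 2) F := ZMod.algebra F 2
    obtain ⟨rels, hc, h1, h3⟩ := Cfsg.Agent.Lib.PresSL2.TwoCore.two_main (F := F) h2
    exact ⟨⟨rels, hc.trans (by norm_num), h1⟩, ⟨rels, hc.trans (by norm_num), h3⟩,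
      fun _ => ⟨rels, hc, h3⟩⟩
  · obtain ⟨p, hp⟩ := CharP.exists F
    haveI := hp
    have hpp : p.Prime := (CharP.char_is_prime_or_zero F p).resolve_right (by
      intro h0
      subst h0
      exact CharP.char_ne_zero_of_finite F 0 rfl)
    haveI : Fact p.Prime := ⟨hpp⟩
    letI : Algebra (ZMod p) F := ZMod.algebra F p
    have hp3 : 3 ≤ p := by
      have hp2 := hpp.two_le
      by_contra hlt
      have : p = 2 := by omega
      subst this
      exact h2 (by exact_mod_cast CharP.cast_eq_zero F 2)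
    obtain ⟨h3, h4⟩ := Cfsg.Agent.Lib.PresSL2.OddFinal.odd_main (F := F) hp3 h2
    refine ⟨h3, h4, fun hc => ?_⟩
    exact absurd (by exact_mod_cast CharP.cast_eq_zero F 2) h2

end Cfsg.Agent.S2286
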