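import Cfsg.Statements.S2472
import Cfsg.Agent.Lib.SpSpec.Graph

set_option autoImplicit false
open Cfsg

namespace Cfsg.Agent.S2472

open Polynomial Module
open Lib.SpSpec.Graph Lib.SpSpec.FormAlg Lib.SLn.PrimeGraph

/-- Adjacency of a prime and the characteristic in the prime graph of PSp(2n,q): let F be a finite field of characteristic p with q elements, n ≥ 2 with PSp(2n,F) simple, and let r ≠ p be an odd prime dividing the order of PSp(2n,F), with k the multiplicative order of q modulo r and η(k) = k for odd k, k/2 for even k. Then PSp(2n,F) has NO element of order r·p if and only if η(k) > n − 1. -/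
theorem result {F : Type*} [Field F] [Fintype F] (p : ℕ) [Fact p.Prime] [CharP F p] (n : ℕ) (hn : 2 ≤ n) (hsmall : n = 2 → 3 ≤ Fintype.card F)
    (r : ℕ) (hr : r.Prime) (hr2 : r ≠ 2) (hrp : r ≠ p) (hrG : r ∣ Nat.card (Cfsg.PSp n F))
    (k ηk : ℕ) (hk : k = orderOf ((Fintype.card F : ℕ) : ZMod r)) (hηk : (Odd k ∧ ηk = k) ∨ (Even k ∧ 2 * ηk = k)) :
    (r * p ∉ Set.range (orderOf : Cfsg.PSp n F → ℕ)) ↔ n - 1 < ηk := by
  classical
  have hfr : Fact r.Prime := ⟨hr⟩
  have hpp : p.Prime := Fact.out
  have hk0 : 0 < k := by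
    rw [hk]
    exact Lib.SLn.PrimeGraph.ord_pos (F := F) p hrp
  have hrF : (r : F) ≠ 0 := by
    rw [Ne, CharP.cast_eq_zero_iff F p]
    intro h
    exact hrp ((Nat.prime_dvd_prime_iff_eq hpp hr).mp h).symm
  have hrodd : Odd r := hr.odd_of_ne_two hr2
  have hcop : Nat.Coprime r p := (Nat.coprime_primes hr hpp).mpr hrp
  constructor
  · intro hno
    by_contra hle
    push Not at hle
    apply hno
    refine torus_prime (F := F) p hr hrp hk hηk ?_
    intro S _ _ _ σ τ hform hdim s hs hso
    have hform2 := hform.prod (formAlg_dual (F := F))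
    have hdim2 : finrank F (S × Dual F) = 2 * (ηk + 1) := by
      rw [Module.finrank_prod, hdim, finrank_dual]
      ring
    have hηk0 : 0 < ηk := eta_pos hk0 hηk
    obtain ⟨g, hg⟩ := exists_psp_rest hform2 (by omega : 1 ≤ n) (by omega : ηk + 1 ≤ n) hdim2
      ((s, u1) : S × Dual F) (by
        apply Prod.ext
        · exact hs
        · exact u1_sigma) (r * p) (by
        apply Prod.ext
        · change s ^ (r * p) = 1
          rw [pow_mul, ← hso, pow_orderOf_eq_one, one_pow]
        · change (u1 : Dual F) ^ (r * p) = 1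
          apply u1_pow_eq_one
          rw [Nat.cast_mul, CharP.cast_eq_zero F p, mul_zero]) (by
        intro m hm
        have h1 : s ^ m = 1 ∨ s ^ m = -1 := by
          rcases hm with hm | hm
          · exact Or.inl (congrArg Prod.fst hm)
          · exact Or.inr (congrArg Prod.fst hm)
        have h2 : (u1 : Dual F) ^ m = 1 ∨ (u1 : Dual F) ^ m = -1 := by
          rcases hm with hm | hm
          · exact Or.inl (congrArg Prod.snd hm)
          · exact Or.inr (congrArg Prod.snd hm)
        have h3 := dvd_of_pow_eq_pm hrodd hso h1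
        have h4 : p ∣ m := (CharP.cast_eq_zero_iff F p m).mp (u1_pow_cases h2)
        exact hcop.mul_dvd_of_dvd_of_dvd h3 h4)
    exact ⟨g, hg⟩
  · rintro hlt ⟨x, hx⟩
    have hnη : n ≤ ηk := by omega
    have hodd_or : Odd (orderOf x) ∨ (2 : F) = 0 := by
      by_cases hp2 : p = 2
      · right
        subst hp2
        exact_mod_cast CharP.cast_eq_zero F 2
      · left
        rw [hx]
        exact hrodd.mul (hpp.odd_of_ne_two hp2)
    obtain ⟨X, hXx, hXo⟩ := exists_lift (by omega : 1 ≤ n) hodd_or
    rw [hx] at hXo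
    set A : Matrix (Fin n ⊕ Fin n) (Fin n ⊕ Fin n) F := X.1 with hAdef
    have hA : A ^ (p * r) = 1 := by
      have := congrArg Subtype.val hXo
      rw [mul_comm]
      exact this
    have hne : ∀ j, ¬ r * p ∣ j → A ^ j ≠ 1 := by
      intro j hj h1
      apply hj
      rw [← hx, ← hXx]
      apply orderOf_dvd_of_pow_eq_one
      rw [← QuotientGroup.mk_pow]
      have h2 : X ^ j = 1 := Subtype.ext h1
      rw [h2]
      rfl
    have hAp : A ^ p ≠ 1 := by
      apply hne
      intro h
      have h1 := Nat.le_of_dvd hpp.pos h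
      have h2 := hr.two_le
      have h3 := hpp.pos
      nlinarith
    have hAr : A ^ r ≠ 1 := by
      apply hne
      intro h
      have h1 := Nat.le_of_dvd hr.pos h
      have h2 := hpp.two_le
      have h3 := hr.pos
      nlinarith
    obtain ⟨π, hm, hπ, hπχ, hπH⟩ := exists_factor A hA hAp
    haveI : Fact (Irreducible π) := ⟨hπ⟩
    have hv := order_root hπ hr hrF hπH
    obtain ⟨G, hGm, hGχ, hGd, hGD⟩ := exists_G p X hπ hm hπχ hr2 hk hηk hv
    have hchar : CharP (AdjoinRoot π) p :=
      charP_of_injective_algebraMap (algebraMap F (AdjoinRoot π)).injective p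
    have hθr : (AdjoinRoot.root π) ^ r = 1 := by
      have h1 : ((AdjoinRoot.root π) ^ r) ^ p = 1 := by
        rw [← pow_mul, mul_comm, pow_mul, ← hv, pow_orderOf_eq_one]
      have h2 := sub_pow_char ((AdjoinRoot.root π) ^ r) (1 : AdjoinRoot π) (p := p)
      rw [h1, one_pow, sub_self] at h2
      exact sub_eq_zero.mp (pow_eq_zero_iff hpp.ne_zero |>.mp h2)
    have hθ1 : AdjoinRoot.root π ≠ 1 := by
      intro h
      rw [h, one_pow, orderOf_one] at hv
      exact hr.one_lt.ne hv
    have hD : π ∣ ∑ i ∈ Finset.range r, (Polynomial.X : F[X]) ^ i := by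
      rw [← AdjoinRoot.mk_eq_zero, map_sum]
      simp only [map_pow, AdjoinRoot.mk_X]
      have h1 := mul_geom_sum (AdjoinRoot.root π) r
      rw [hθr, sub_self] at h1
      exact (mul_eq_zero.mp h1).resolve_left (sub_ne_zero.mpr hθ1)
    have hGD' := hGD _ (reverse_geom r hr.pos) hD
    have hdeg : A.charpoly.natDegree ≤ G.natDegree := by
      rw [hAdef, natDegree_charpoly]
      omega
    have heq : A.charpoly = G := eq_of_monic_of_dvd_of_natDegree_le hGm (Matrix.charpoly_monic A) hGχ hdeg
    apply hAr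
    have h3 : A.charpoly ∣ Polynomial.X ^ r - 1 := by
      rw [heq]
      exact hGD'.trans ⟨Polynomial.X - 1, by rw [← mul_geom_sum, mul_comm]⟩
    obtain ⟨Q, hQ⟩ := h3
    have h4 := congrArg (aeval A) hQ
    rw [map_mul, Matrix.aeval_self_charpoly, zero_mul, map_sub, map_pow, aeval_X, map_one] at h4
    exact sub_eq_zero.mp h4

end Cfsg.Agent.S2472
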