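import Cfsg.Statements.S0111
import Mathlib.GroupTheory.IndexNormal
import Mathlib.GroupTheory.SpecificGroups.Cyclic

set_option autoImplicit false
open Cfsg

namespace Cfsg.Agent.S0111

/-- The Thompson transfer lemma states that an involution of a Sylow 2-subgroup P lying outside a subgroup Q of index 2 in P either lies outside some normal subgroup of index 2 in G or is conjugate to an element of Q. -/
theorem result {G : Type*} [Group G] [Finite G] (P : Sylow 2 G) (Q : Subgroup G) (hQP : Q ≤ (P : Subgroup G)) (hQi : Q.relIndex (P : Subgroup G) = 2) (u : G) (hu : orderOf u = 2) (huP : u ∈ (P : Subgroup G)) (huQ : u ∉ Q) : (∃ M : Subgroup G, M.Normal ∧ M.index = 2 ∧ u ∉ M) ∨ ∃ g : G, g * u * g⁻¹ ∈ Q := by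
  classical
  by_cases h : ∃ g : G, g * u * g⁻¹ ∈ Q
  · exact Or.inr h
  left
  push Not at h
  let Q' : Subgroup (P : Subgroup G) := Q.subgroupOf (P : Subgroup G)
  have hQ'i : Q'.index = 2 := hQi
  have hn : Q'.Normal := Subgroup.normal_of_index_eq_two hQ'i
  have hcard : Nat.card ((P : Subgroup G) ⧸ Q') = 2 := hQ'i
  have hcyc : IsCyclic ((P : Subgroup G) ⧸ Q') := isCyclic_of_prime_card hcard
  have hcomm : IsMulCommutative ((P : Subgroup G) ⧸ Q') := hcyc.isMulCommutative
  let _ : CommGroup ((P : Subgroup G) ⧸ Q') :=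
    { (inferInstance : Group ((P : Subgroup G) ⧸ Q')) with
      mul_comm := mul_comm' }
  let ϕ : (P : Subgroup G) →* ((P : Subgroup G) ⧸ Q') := QuotientGroup.mk' Q'
  have hϕ1 : ∀ x : (P : Subgroup G), ϕ x = 1 ↔ (x : G) ∈ Q := by
    intro x
    change ((x : (P : Subgroup G)⧸Q') = 1) ↔ _
    rw [QuotientGroup.eq_one_iff]
    exact Subgroup.mem_subgroupOf
  let c := ϕ ⟨u, huP⟩
  have hc : c ≠ 1 := fun hc => huQ ((hϕ1 _).1 hc)
  have hc2 : ∀ a : (P : Subgroup G) ⧸ Q', a ≠ 1 → a = c := by
    intro a ha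
    by_contra hac
    have h3 : Nat.card ((P : Subgroup G) ⧸ Q') ≥ 3 := by
      have hf : Finite ((P : Subgroup G) ⧸ Q') := inferInstance
      have := Fintype.ofFinite ((P : Subgroup G) ⧸ Q')
      rw [Nat.card_eq_fintype_card]
      have h4 : ({1, a, c} : Finset ((P : Subgroup G) ⧸ Q')).card = 3 := by
        rw [Finset.card_eq_three]
        exact ⟨1, a, c, ha.symm, hc.symm, hac, rfl⟩
      rw [← h4]
      exact Finset.card_le_univ _
    omega
  have hcc : c ^ 2 = 1 := by
    have : c ^ Nat.card ((P : Subgroup G) ⧸ Q') = 1 := pow_card_eq_one'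
    rwa [hcard] at this
  have hu2 : u ^ 2 = 1 := by
    have := pow_orderOf_eq_one u
    rwa [hu] at this
  -- transfer computation
  have hfix : Fintype (Quotient (MulAction.orbitRel (Subgroup.zpowers u) (G ⧸ (P : Subgroup G)))) :=
    Fintype.ofFinite _
  have hfac : ∀ (g : G) (n : ℕ) (_ : n = 1 ∨ n = 2) (hg : g⁻¹ * u ^ n * g ∈ (P : Subgroup G)),
      ϕ ⟨g⁻¹ * u ^ n * g, hg⟩ = c ^ n := by
    rintro g n (rfl | rfl) hg
    · change ϕ ⟨g⁻¹ * u ^ 1 * g, hg⟩ = c ^ 1
      rw [pow_one c]
      apply hc2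
      intro hone
      rw [hϕ1] at hone
      apply h g⁻¹
      simpa [pow_one] using hone
    · have hone : ϕ ⟨g⁻¹ * u ^ 2 * g, hg⟩ = 1 := by
        rw [hϕ1]
        simp [hu2, Q.one_mem]
      rw [hone, hcc]
  have hper : ∀ x : G ⧸ (P : Subgroup G), Function.minimalPeriod (u • ·) x = 1 ∨
      Function.minimalPeriod (u • ·) x = 2 := by
    intro x
    have hm2 : Function.minimalPeriod (u • ·) x ∣ 2 := by
      apply Function.IsPeriodicPt.minimalPeriod_dvd
      change (u • ·)^[2] x = x
      simp only [Function.iterate_succ, Function.iterate_zero, Function.comp, id]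
      rw [smul_smul, ← pow_two, hu2, one_smul]
    exact (Nat.dvd_prime Nat.prime_two).1 hm2
  have hV : MonoidHom.transfer ϕ u = c ^ (P : Subgroup G).index := by
    rw [Subgroup.index_eq_sum_minimalPeriod (P : Subgroup G) u, ← Finset.prod_pow_eq_pow_sum,
      MonoidHom.transfer_eq_prod_quotient_orbitRel_zpowers_quot]
    apply Finset.prod_congr rfl
    intro q _
    exact hfac _ _ (hper _) _
  have hodd : Odd (P : Subgroup G).index := by
    rw [← Nat.not_even_iff_odd, even_iff_two_dvd]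
    exact P.not_dvd_index
  have hVc : MonoidHom.transfer ϕ u = c := by
    rw [hV]
    obtain ⟨k, hk⟩ := hodd
    rw [hk, pow_succ, pow_mul, hcc, one_pow, one_mul]
  refine ⟨(MonoidHom.transfer ϕ).ker, inferInstance, ?_, ?_⟩
  · rw [Subgroup.index_ker]
    have h5 : (MonoidHom.transfer ϕ).range = ⊤ := by
      rw [eq_top_iff]
      intro a _
      by_cases ha : a = 1
      · rw [ha]; exact Subgroup.one_mem _
      · rw [hc2 a ha, ← hVc]; exact ⟨u, rfl⟩
    rw [h5, Subgroup.card_top, hcard]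
  · rw [MonoidHom.mem_ker, hVc]
    exact hc

end Cfsg.Agent.S0111
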