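import Cfsg.Statements.S1018
import Cfsg.Agent.Lib.SmallSimple.Count
import Mathlib.Tactic
-- import your own Cfsg.Agent.* helpers here

set_option autoImplicit false
open Cfsg

namespace Cfsg.Agent.S1018

/-- Let P be a Sylow p-subgroup of order p of a finite group G, and consider the action of G on the left cosets of the normalizer N of P. Then every element of order p fixes exactly one coset, and an element of N that does not centralize P fixes at most as many cosets as there are orbits of P. -/
theorem result {G : Type*} [Group G] [Finite G] (p : ℕ) [Fact p.Prime] (P : Sylow p G) (hP : Nat.card ↥(P : Subgroup G) = p) : (∀ y : G, orderOf y = p → Nat.card (MulAction.fixedBy (G ⧸ Subgroup.normalizer ((P : Subgroup G) : Set G)) y) = 1) ∧ ∀ x : G, x ∈ Subgroup.normalizer ((P : Subgroup G) : Set G) → x ∉ Subgroup.centralizer ((P : Subgroup G) : Set G) → Nat.card (MulAction.fixedBy (G ⧸ Subgroup.normalizer ((P : Subgroup G) : Set G)) x) ≤ Nat.card (MulAction.orbitRel.Quotient ↥(P : Subgroup G) (G ⧸ Subgroup.normalizer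 ((P : Subgroup G) : Set G))) := by
  classical
  have hp := (Fact.out : p.Prime)
  set N := Subgroup.normalizer ((P : Subgroup G) : Set G) with hN
  have hQ : ∀ Q : Sylow p G, Nat.card (Q : Subgroup G) = p := fun Q =>
    Cfsg.Agent.Lib.SmallSimple.Count.card_sylow_of_card P Q hP
  have hsm : ∀ (g : G) (Q : Sylow p G), g • Q = Q ↔
      g ∈ Subgroup.normalizer ((Q : Subgroup G) : Set G) := fun g Q =>
    Sylow.smul_eq_iff_mem_normalizer
  -- the fixed point condition
  have hfix : ∀ (y g : G), y • (QuotientGroup.mk g : G ⧸ N) = QuotientGroup.mk g ↔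
      y ∈ Subgroup.normalizer (((g • P : Sylow p G) : Subgroup G) : Set G) := by
    intro y g
    have h1 : y • (QuotientGroup.mk g : G ⧸ N) = QuotientGroup.mk (y * g) := rfl
    rw [h1, QuotientGroup.eq]
    have h2 : (y * g)⁻¹ * g ∈ N ↔ g⁻¹ * y * g ∈ N := by
      rw [← Subgroup.inv_mem_iff]
      simp only [mul_inv_rev, inv_inv, mul_assoc]
    rw [h2, hN, ← hsm, ← hsm]
    constructor
    · intro h
      have : y • (g • P) = g • ((g⁻¹ * y * g) • P) := by
        simp only [smul_smul]; congr 1; group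
      rw [this, h]
    · intro h
      have : (g⁻¹ * y * g) • P = g⁻¹ • (y • (g • P)) := by
        simp only [smul_smul]; congr 1; group
      rw [this, h]
      simp
  refine ⟨?_, ?_⟩
  · intro y hy
    have hy1 : y ≠ 1 := by
      rintro rfl
      rw [orderOf_one] at hy
      exact hp.one_lt.ne hy
    have hpg : IsPGroup p (Subgroup.zpowers y) := by
      apply IsPGroup.of_card (n := 1)
      rw [Nat.card_zpowers, hy, pow_one]
    obtain ⟨Q₀, hQ₀⟩ := hpg.exists_le_sylow
    have hyQ₀ : y ∈ (Q₀ : Subgroup G) := hQ₀ (Subgroup.mem_zpowers y)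
    have hzQ : ∀ Q : Sylow p G, y ∈ Subgroup.normalizer ((Q : Subgroup G) : Set G) → Q = Q₀ := by
      intro Q hyQ
      have h8 : y ∈ Subgroup.zpowers y ⊓ Subgroup.normalizer ((Q : Subgroup G) : Set G) :=
        ⟨Subgroup.mem_zpowers _, hyQ⟩
      have h9 : y ∈ (Q : Subgroup G) := ((hpg.inf_normalizer_sylow Q).le h8).2
      apply Sylow.ext
      rw [Cfsg.Agent.Lib.SmallSimple.Count.sylow_eq_zpowers_of_card Q (hQ Q) h9 hy1,
        Cfsg.Agent.Lib.SmallSimple.Count.sylow_eq_zpowers_of_card Q₀ (hQ Q₀) hyQ₀ hy1]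
    obtain ⟨g₀, hg₀⟩ := MulAction.exists_smul_eq G P Q₀
    rw [Nat.card_eq_one_iff_unique]
    refine ⟨?_, ⟨⟨QuotientGroup.mk g₀, ?_⟩⟩⟩
    · constructor
      rintro ⟨c, hc⟩ ⟨c', hc'⟩
      obtain ⟨g, rfl⟩ := QuotientGroup.mk_surjective c
      obtain ⟨g', rfl⟩ := QuotientGroup.mk_surjective c'
      have h1 := hzQ _ ((hfix y g).mp hc)
      have h2 := hzQ _ ((hfix y g').mp hc')
      apply Subtype.ext
      show (QuotientGroup.mk g : G ⧸ N) = QuotientGroup.mk g'
      rw [QuotientGroup.eq, hN, ← hsm, mul_smul]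
      rw [h2, ← h1]
      simp
    · show y • (QuotientGroup.mk g₀ : G ⧸ N) = QuotientGroup.mk g₀
      rw [hfix, hg₀]
      exact Subgroup.le_normalizer hyQ₀
  · intro x hxN hxC
    -- generators of `P`
    have hgen : ∀ u ∈ (P : Subgroup G), u ≠ 1 → (P : Subgroup G) = Subgroup.zpowers u := fun u hu hu1 =>
      Cfsg.Agent.Lib.SmallSimple.Count.sylow_eq_zpowers_of_card P hP hu hu1
    let f : MulAction.fixedBy (G ⧸ N) x → MulAction.orbitRel.Quotient ↥(P : Subgroup G) (G ⧸ N) :=
      fun c => Quotient.mk'' c.1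
    apply Nat.card_le_card_of_injective f
    rintro ⟨c, hc⟩ ⟨c', hc'⟩ hcc
    have hcc' : c ∈ MulAction.orbit ↥(P : Subgroup G) c' := Quotient.eq''.mp hcc
    obtain ⟨⟨u, hu⟩, hu'⟩ := hcc'
    have hu2 : u • c' = c := hu'
    have hxc : x • c = c := hc
    have hxc' : x • c' = c' := hc'
    apply Subtype.ext
    show c = c'
    -- `v = u⁻¹ (x u x⁻¹)` fixes `c'`
    have hxux : x * u * x⁻¹ ∈ (P : Subgroup G) := (Subgroup.mem_set_normalizer_iff.mp hxN u).mp hu
    have hv : (x * u * x⁻¹) • c' = c := by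
      have : (x * u * x⁻¹) • c' = x • u • (x⁻¹ • c') := by simp only [mul_smul]
      rw [this]
      have h1 : x⁻¹ • c' = c' := by
        rw [inv_smul_eq_iff, hxc']
      rw [h1, hu2, hxc]
    by_cases hu1 : u = 1
    · subst hu1
      rw [← hu2, one_smul]
    by_cases hcomm : x * u * x⁻¹ = u
    · exfalso
      apply hxC
      rw [Subgroup.mem_centralizer_iff]
      intro h hh
      rw [hgen u hu hu1] at hh
      obtain ⟨k, rfl⟩ := Subgroup.mem_zpowers_iff.mp hh
      have hc2 : Commute u x := by
        show u * x = x * u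
        calc u * x = (x * u * x⁻¹) * x := by rw [hcomm]
          _ = x * u := by group
      exact (hc2.zpow_left k)
    · -- so `u⁻¹ x u x⁻¹` is a generator of `P`, fixing `c'`
      set v := (x * u * x⁻¹)⁻¹ * u with hvdef
      have hvP : v ∈ (P : Subgroup G) := (P : Subgroup G).mul_mem ((P : Subgroup G).inv_mem hxux) hu
      have hv1 : v ≠ 1 := by
        intro h
        apply hcomm
        have : (x * u * x⁻¹)⁻¹ * u = 1 := h
        exact (inv_mul_eq_one.mp this)
      have hvfix : v • c' = c' := by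
        have h1 : u • c' = (x * u * x⁻¹) • c' := by rw [hu2, hv]
        rw [hvdef, mul_smul, h1, inv_smul_smul]
      -- therefore `P` fixes `c'`
      have hPfix : ∀ w ∈ (P : Subgroup G), w • c' = c' := by
        intro w hw
        rw [hgen v hvP hv1] at hw
        obtain ⟨k, rfl⟩ := Subgroup.mem_zpowers_iff.mp hw
        have hst : v ∈ MulAction.stabilizer G c' := hvfix
        exact (MulAction.stabilizer G c').zpow_mem hst k
      rw [← hu2]
      exact hPfix u hu

end Cfsg.Agent.S1018
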