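import Cfsg.Statements.S1019
import Mathlib.Tactic.Group
-- import your own Cfsg.Agent.* helpers here

set_option autoImplicit false
open Cfsg

namespace Cfsg.Agent.S1019

/-- Let H be a subgroup of a finite group G and x an element of H. In the action of G on the left cosets of H, the number of cosets fixed by x, multiplied by the size of the conjugacy class of x, equals the index of H multiplied by the number of conjugates of x that lie in H. -/
theorem result {G : Type*} [Group G] [Finite G] (H : Subgroup G) (x : G) (hx : x ∈ H) : Nat.card (MulAction.fixedBy (G ⧸ H) x) * Nat.card {g : G // IsConj x g} = H.index * Nat.card {g : G // IsConj x g ∧ g ∈ H} := by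
  classical
  have := Fintype.ofFinite G
  -- double count pairs (coset, conjugate fixing the coset)
  let A := {p : (G ⧸ H) × G // IsConj x p.2 ∧ p.2 • p.1 = p.1}
  have e1 : A ≃ Σ y : {g : G // IsConj x g}, MulAction.fixedBy (G ⧸ H) (y : G) :=
    { toFun := fun p => ⟨⟨p.1.2, p.2.1⟩, ⟨p.1.1, p.2.2⟩⟩
      invFun := fun q => ⟨(q.2.1, q.1.1), q.1.2, q.2.2⟩
      left_inv := fun p => rfl
      right_inv := fun q => rfl }
  have e2 : A ≃ Σ c : G ⧸ H, {g : G // IsConj x g ∧ g • c = c} :=
    { toFun := fun p => ⟨p.1.1, ⟨p.1.2, p.2⟩⟩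
      invFun := fun q => ⟨(q.1, q.2.1), q.2.2⟩
      left_inv := fun p => rfl
      right_inv := fun q => rfl }
  have hfib1 : ∀ y : {g : G // IsConj x g},
      Nat.card (MulAction.fixedBy (G ⧸ H) (y : G)) = Nat.card (MulAction.fixedBy (G ⧸ H) x) := by
    rintro ⟨y, hy⟩
    obtain ⟨u, rfl⟩ := isConj_iff.mp hy
    refine Nat.card_congr
      { toFun := fun c => ⟨u⁻¹ • c.1, ?_⟩
        invFun := fun c => ⟨u • c.1, ?_⟩
        left_inv := fun c => ?_
        right_inv := fun c => ?_ }
    · have hc : (u * x * u⁻¹) • c.1 = c.1 := c.2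
      simp only [MulAction.mem_fixedBy]
      have : x • (u⁻¹ • c.1) = u⁻¹ • ((u * x * u⁻¹) • c.1) := by
        simp only [smul_smul]; congr 1; group
      rw [this, hc]
    · have hc : x • c.1 = c.1 := c.2
      simp only [MulAction.mem_fixedBy]
      show (u * x * u⁻¹) • (u • c.1) = u • c.1
      have : (u * x * u⁻¹) • (u • c.1) = u • (x • c.1) := by
        simp only [smul_smul]; congr 1; group
      rw [this, hc]
    · apply Subtype.ext; simp
    · apply Subtype.ext; simp
  have hfib2 : ∀ c : G ⧸ H,
      Nat.card {g : G // IsConj x g ∧ g • c = c} = Nat.card {g : G // IsConj x g ∧ g ∈ H} := by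
    intro c
    obtain ⟨u, rfl⟩ := QuotientGroup.mk_surjective c
    refine Nat.card_congr
      { toFun := fun y => ⟨u⁻¹ * y.1 * u, ?_, ?_⟩
        invFun := fun y => ⟨u * y.1 * u⁻¹, ?_, ?_⟩
        left_inv := fun y => ?_
        right_inv := fun y => ?_ }
    · refine y.2.1.trans (isConj_iff.mpr ⟨u⁻¹, ?_⟩)
      simp [mul_assoc]
    · have hy := y.2.2
      have : (y.1 • (u : G ⧸ H)) = ((y.1 * u : G) : G ⧸ H) := rfl
      rw [this, QuotientGroup.eq] at hy
      have h3 := H.inv_mem hy
      simpa [mul_assoc] using h3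
    · refine y.2.1.trans (isConj_iff.mpr ⟨u, rfl⟩)
    · have : ((u * y.1 * u⁻¹) • (u : G ⧸ H)) = ((u * y.1 : G) : G ⧸ H) := by
        show (((u * y.1 * u⁻¹) * u : G) : G ⧸ H) = _
        simp
      rw [this, QuotientGroup.eq]
      simpa using y.2.2
    · apply Subtype.ext; simp [mul_assoc]
    · apply Subtype.ext; simp [mul_assoc]
  have key1 := Nat.card_congr e1
  have key2 := Nat.card_congr e2
  rw [Nat.card_sigma, Finset.sum_congr rfl (fun y _ => hfib1 y)] at key1
  rw [Nat.card_sigma, Finset.sum_congr rfl (fun c _ => hfib2 c)] at key2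
  simp only [Finset.sum_const, Finset.card_univ, smul_eq_mul, ← Nat.card_eq_fintype_card] at key1 key2
  rw [Subgroup.index]
  rw [key1] at key2
  rw [mul_comm]
  exact key2

end Cfsg.Agent.S1019
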