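import Cfsg.Statements.S3559
import Cfsg.Agent.Lib.PermRec.SchurCyclic

set_option autoImplicit false
open Cfsg

namespace Cfsg.Agent.S3559

/-- Let G act faithfully and transitively on a finite set whose number of points n ≥ 2 is not a prime power, and suppose G has a cyclic subgroup acting regularly (transitively with trivial point stabilizers). Then G is imprimitive or doubly transitive. -/
theorem result {G Ω : Type*} [Group G] [Finite G] [MulAction G Ω] [FaithfulSMul G Ω] [Finite Ω]
    (htrans : MulAction.IsPretransitive G Ω) (hn : 2 ≤ Nat.card Ω) (hnp : ¬ IsPrimePow (Nat.card Ω))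
    (C : Subgroup G) (hcyc : IsCyclic ↥C) (hC : MulAction.IsPretransitive ↥C Ω ∧ ∀ a : Ω, MulAction.stabilizer ↥C a = ⊥) :
    ¬ MulAction.IsPreprimitive G Ω ∨ MulAction.IsMultiplyPretransitive G Ω 2 := by
  classical
  by_cases hprim : MulAction.IsPreprimitive G Ω
  swap
  · exact Or.inl hprim
  right
  obtain ⟨hreg, hfree⟩ := hC
  obtain ⟨ω₀⟩ : Nonempty Ω := by
    have : 0 < Nat.card Ω := by omega
    exact (Nat.card_pos_iff.mp this).1
  have hcard : Nat.card C = Nat.card Ω :=
    Nat.card_congr (Cfsg.Agent.Lib.PermRec.RegularStar.regEquiv C hreg hfree ω₀)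
  obtain ⟨p, hp, q, hq, hpq⟩ := (Nat.not_isPrimePow_iff_nontrivial_of_two_le hn).mp hnp
  have hp' := Nat.prime_of_mem_primeFactors hp
  have hq' := Nat.prime_of_mem_primeFactors hq
  have hpd := Nat.dvd_of_mem_primeFactors hp
  have hqd := Nat.dvd_of_mem_primeFactors hq
  rw [← hcard] at hpd hqd
  apply Cfsg.Agent.Lib.PermRec.RegularStar.two_trans_of_gamma C hreg hfree ω₀
  intro x y hx hy
  haveI := Fintype.ofFinite C
  letI hcomm : CommGroup C := IsCyclic.commGroup
  rw [Nat.card_eq_fintype_card] at hpd hqd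
  exact Cfsg.Agent.Lib.PermRec.SchurCyclic.core
    (Cfsg.Agent.Lib.PermRec.RegularStar.isStar_gammaOf C hreg hfree ω₀)
    (Cfsg.Agent.Lib.PermRec.RegularStar.prim_of_preprimitive C hprim hreg hfree ω₀)
    hp' hq' hpq hpd hqd x y hx hy

end Cfsg.Agent.S3559
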