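import Cfsg.Statements.S1305
import Cfsg.Agent.Lib.StdComp.Pump
import Cfsg.Agent.Lib.LBal.Main
import Cfsg.Agent.Lib.BpBalance.Basic
import Cfsg.Agent.Lib.Zassen.Unique

set_option autoImplicit false
open Cfsg

namespace Cfsg.Agent.S1305

open Subgroup Cfsg.Agent.Lib.Components.Basic Cfsg.Agent.Lib.StdComp.Pump Cfsg.Agent.Lib.Core.Basic
open scoped commutatorElement

/-- A subnormal quasisimple subgroup of even order is a `2`-component. -/
theorem isPComponent_two {X : Type*} [Group X] [Finite X] {K : Subgroup X} (hs : K.IsSubnormal)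
    (hq : IsQuasisimple K) (h2 : 2 ∣ Nat.card K) : IsPComponent 2 K := by
  haveI hp2 : Fact (Nat.Prime 2) := ⟨Nat.prime_two⟩
  rw [Cfsg.Agent.Lib.BpBalance.Basic.isPComponent_iff]
  refine ⟨hs, ⟨⊥, inferInstance, by simp, quasisimple_of_mulEquiv (QuotientGroup.quotientBot).symm hq⟩, ?_⟩
  intro M hM hi
  rcases normal_eq_top_or_le_center hq M with ht | hc
  · exact ht
  exfalso
  obtain ⟨x, hx⟩ := exists_prime_orderOf_dvd_card' (G := K) 2 h2
  have hpz : IsPGroup 2 (zpowers x) :=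
    IsPGroup.of_card (n := 1) (by rw [Nat.card_zpowers, hx, pow_one])
  obtain ⟨S, hS⟩ := hpz.exists_le_sylow
  -- every `2`-element lies in `M`
  have hSM : ∀ y ∈ (S : Subgroup K), y ∈ M := by
    intro y hy
    obtain ⟨n, hn⟩ := S.isPGroup' ⟨y, hy⟩
    have hn' : y ^ 2 ^ n = 1 := congrArg Subtype.val hn
    have h1 : ((y : K) : K ⧸ M) ^ 2 ^ n = 1 := by
      rw [← QuotientGroup.mk_pow, hn']; rfl
    have h3 : orderOf ((y : K) : K ⧸ M) ∣ 2 ^ n := orderOf_dvd_of_pow_eq_one h1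
    have h4 : orderOf ((y : K) : K ⧸ M) ∣ M.index := by
      rw [Subgroup.index]
      exact orderOf_dvd_natCard _
    have hco : Nat.Coprime (2 ^ n) M.index := Nat.Coprime.pow_left n ((Nat.Prime.coprime_iff_not_dvd Nat.prime_two).mpr hi)
    have h5 : orderOf ((y : K) : K ⧸ M) = 1 := Nat.eq_one_of_dvd_coprimes hco h3 h4
    exact (QuotientGroup.eq_one_iff y).mp (orderOf_eq_one_iff.mp h5)
  have hx1 : x ≠ 1 := by
    intro h
    rw [h, orderOf_one] at hx
    omega
  refine Cfsg.Agent.Lib.Zassen.Unique.false_of_central (quasisimple_perfect hq) S ?_ (hS (mem_zpowers x)) ?_ hx1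
  · intro u hu v hv
    exact (mem_center_iff.mp (hc (hSM v hv)) u).symm ▸ rfl
  · intro g
    exact (mem_center_iff.mp (hc (hSM x (hS (mem_zpowers x)))) g)

/-- With the `B`-property the `2`-layer lies in the layer. -/
theorem pLayer_le_layer {X : Type*} [Group X] [Finite X] (h : ⁅pLayer 2 X, pPrimeCore 2 X⁆ = ⊥) :
    pLayer 2 X ≤ layer X := by
  haveI hp2 : Fact (Nat.Prime 2) := ⟨Nat.prime_two⟩
  rw [pLayer]
  apply sSup_le
  intro P hP
  have hq : IsQuasisimple P := by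
    apply Cfsg.Agent.Lib.Signal.PComp.quasisimple_of_core_central hP
    rw [eq_bot_iff, ← h]
    apply commutator_mono (le_sSup hP)
    rw [map_pPrimeCore_of_isSubnormal hP.1]
    exact inf_le_left
  exact le_layer_of_isComponent ⟨hP.1, hq⟩

/-- Joins of commuting elementary abelian `2`-subgroups. -/
theorem ea_sup {G : Type*} [Group G] {A B : Subgroup G} (hA : Cfsg.IsElementaryAbelian 2 A)
    (hB : Cfsg.IsElementaryAbelian 2 B) (hc : ∀ x ∈ A, ∀ y ∈ B, x * y = y * x) :
    Cfsg.IsElementaryAbelian 2 (A ⊔ B) := by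
  have hb : ⁅A, B⁆ = ⊥ := by
    rw [commutator_eq_bot_iff_le_centralizer]
    intro x hx
    rw [mem_centralizer_iff]
    intro y hy
    exact (hc x hx y hy).symm
  have hAc : ∀ x ∈ A, ∀ y ∈ A, x * y = y * x := by
    haveI := hA.1
    intro x hx y hy
    exact congrArg Subtype.val (mul_comm' (⟨x, hx⟩ : A) ⟨y, hy⟩)
  have hBc : ∀ x ∈ B, ∀ y ∈ B, x * y = y * x := by
    haveI := hB.1
    intro x hx y hy
    exact congrArg Subtype.val (mul_comm' (⟨x, hx⟩ : B) ⟨y, hy⟩)
  refine ⟨⟨⟨?_⟩⟩, ?_⟩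
  · rintro ⟨x, hx⟩ ⟨y, hy⟩
    apply Subtype.ext
    obtain ⟨x₁, hx₁, x₂, hx₂, rfl⟩ := mem_sup_of_commutator_eq_bot hb hx
    obtain ⟨y₁, hy₁, y₂, hy₂, rfl⟩ := mem_sup_of_commutator_eq_bot hb hy
    show x₁ * x₂ * (y₁ * y₂) = y₁ * y₂ * (x₁ * x₂)
    calc x₁ * x₂ * (y₁ * y₂) = x₁ * (x₂ * y₁) * y₂ := by group
      _ = x₁ * (y₁ * x₂) * y₂ := by rw [hc y₁ hy₁ x₂ hx₂]
      _ = (x₁ * y₁) * (x₂ * y₂) := by group
      _ = (y₁ * x₁) * (y₂ * x₂) := by rw [hAc x₁ hx₁ y₁ hy₁, hBc x₂ hx₂ y₂ hy₂]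
      _ = y₁ * (x₁ * y₂) * x₂ := by group
      _ = y₁ * (y₂ * x₁) * x₂ := by rw [hc x₁ hx₁ y₂ hy₂]
      _ = _ := by group
  · intro x hx
    obtain ⟨x₁, hx₁, x₂, hx₂, rfl⟩ := mem_sup_of_commutator_eq_bot hb hx
    have h1 := hA.2 x₁ hx₁
    have h2 := hB.2 x₂ hx₂
    rw [pow_two] at h1 h2 ⊢
    calc x₁ * x₂ * (x₁ * x₂) = x₁ * (x₂ * x₁) * x₂ := by group
      _ = x₁ * (x₁ * x₂) * x₂ := by rw [hc x₁ hx₁ x₂ hx₂]
      _ = (x₁ * x₁) * (x₂ * x₂) := by group
      _ = 1 := by rw [h1, h2, one_mul]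

/-- Components of a subgroup: conjugation. -/
theorem conj_comp {G : Type*} [Group G] {C J : Subgroup G} (hJ : J ≤ C) (hc : IsComponent (J.subgroupOf C))
    {g : G} (hg : g ∈ C) : J.map (MulAut.conj g).toMonoidHom ≤ C ∧
      IsComponent ((J.map (MulAut.conj g).toMonoidHom).subgroupOf C) := by
  have hle : J.map (MulAut.conj g).toMonoidHom ≤ C := by
    rintro _ ⟨j, hj, rfl⟩
    simp only [MulEquiv.coe_toMonoidHom, MulAut.conj_apply]
    exact C.mul_mem (C.mul_mem hg (hJ hj)) (C.inv_mem hg)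
  refine ⟨hle, ?_⟩
  have e : (J.map (MulAut.conj g).toMonoidHom).subgroupOf C =
      (J.subgroupOf C).map (MulAut.conj (⟨g, hg⟩ : C)).toMonoidHom := by
    ext x
    constructor
    · rintro ⟨j, hj, hjx⟩
      refine ⟨⟨j, hJ hj⟩, hj, ?_⟩
      apply Subtype.ext
      exact hjx
    · rintro ⟨j, hj, rfl⟩
      exact ⟨j, hj, rfl⟩
  rw [e]
  exact isComponent_conj _ hc

/-- Components of a subgroup are equal or commute. -/
theorem comp_eq_or_comm {G : Type*} [Group G] {C J L : Subgroup G} (hJ : J ≤ C) (hc : IsComponent (J.subgroupOf C))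
    (hL : L ≤ C) (hc' : IsComponent (L.subgroupOf C)) : J = L ∨ ∀ x ∈ J, ∀ y ∈ L, x * y = y * x := by
  rcases component_eq_or_commutator_eq_bot hc hc' with he | hb
  · left
    ext x
    constructor
    · intro hx
      have : (⟨x, hJ hx⟩ : C) ∈ L.subgroupOf C := by rw [← he]; exact hx
      exact this
    · intro hx
      have : (⟨x, hL hx⟩ : C) ∈ J.subgroupOf C := by rw [he]; exact hx
      exact this
  · right
    intro x hx y hy
    have h1 := Subgroup.commutator_mem_commutator (show (⟨x, hJ hx⟩ : C) ∈ J.subgroupOf C from hx)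
      (show (⟨y, hL hy⟩ : C) ∈ L.subgroupOf C from hy)
    rw [hb, mem_bot, commutatorElement_eq_one_iff_mul_comm] at h1
    exact congrArg Subtype.val h1


/-- Elementary abelian images. -/
theorem ea_map {G H : Type*} [Group G] [Group H] (f : G →* H) {A : Subgroup G}
    (hc : IsMulCommutative A) (he : ∀ x ∈ A, x ^ 2 = 1) : Cfsg.IsElementaryAbelian 2 (A.map f) := by
  refine ⟨⟨⟨?_⟩⟩, ?_⟩
  · rintro ⟨_, x, hx, rfl⟩ ⟨_, y, hy, rfl⟩
    apply Subtype.ext
    show f x * f y = f y * f x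
    rw [← map_mul, ← map_mul]
    exact congrArg f (congrArg Subtype.val (mul_comm' (⟨x, hx⟩ : A) ⟨y, hy⟩))
  · rintro _ ⟨x, hx, rfl⟩
    rw [← map_pow, he x hx, map_one]

/-- Subnormality of a subgroup in the centralizer of `a` passes to centralizers in subgroups. -/
theorem subnormal_transfer {G : Type*} [Group G] {a : G} {K C : Subgroup G}
    (hs : (K.subgroupOf (centralizer ({a} : Set G))).IsSubnormal) (Z : Subgroup C)
    (hZ : ∀ z ∈ Z, ((z : C) : G) * a = a * z) :
    ((K.subgroupOf C).subgroupOf Z).IsSubnormal := by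
  let ι : Z →* centralizer ({a} : Set G) :=
    { toFun := fun z => ⟨z.1.1, by rw [mem_centralizer_singleton_iff]; exact hZ z.1 z.2⟩,
      map_one' := rfl, map_mul' := fun _ _ => rfl }
  have h : (K.subgroupOf C).subgroupOf Z = (K.subgroupOf (centralizer ({a} : Set G))).comap ι := by
    ext z; rfl
  rw [h]
  exact hs.comap ι

/-- The diagonal case of pumping up contradicts the maximal choice. -/
theorem diag_contra {G : Type*} [Group G] [Finite G] {C J K B : Subgroup G} {a : G} (ha : a * a = 1)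
    (hJC : J ≤ C) (hJc : IsComponent (J.subgroupOf C)) (haC : a ∈ C)
    (hne : J.map (MulAut.conj a).toMonoidHom ≠ J)
    (hiff : ∀ k, k ∈ K ↔ ∃ j ∈ J, k = j * (a * j * a⁻¹))
    (hcard : Nat.card J ≤ Nat.card K)
    (hnc : ¬ ∀ k ∈ K, ∀ j ∈ J, k * j = j * k)
    (hBC : B ≤ C) (hBa : ∀ β ∈ B, β * a = a * β) (haB : a ∈ B)
    (hBK : ∀ β ∈ B, ∀ k ∈ K, β * k = k * β)
    (hBel : Cfsg.IsElementaryAbelian 2 B) (hrk : ¬ Cfsg.PRankLE 2 1 K) :
    Nat.card J = Nat.card K ∧ ∃ F : Subgroup G, F ≤ C ⊓ centralizer (J : Set G) ∧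
      Cfsg.IsElementaryAbelian 2 F ∧ Nat.card B < Nat.card F := by
  classical
  obtain ⟨hJ'C, hJ'c⟩ := conj_comp hJC hJc haC
  set J' := J.map (MulAut.conj a).toMonoidHom with hJ'
  have hcomm : ∀ x ∈ J, ∀ y ∈ J', x * y = y * x := by
    rcases comp_eq_or_comm hJC hJc hJ'C hJ'c with h | h
    · exact absurd h.symm hne
    · exact h
  have hainv : a⁻¹ = a := inv_eq_of_mul_eq_one_left ha
  have hconj : ∀ j ∈ J, a * j * a⁻¹ ∈ J' := fun j hj => ⟨j, hj, rfl⟩
  let ψ : J →* K :=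
    { toFun := fun j => ⟨j.1 * (a * j.1 * a⁻¹), (hiff _).2 ⟨j.1, j.2, rfl⟩⟩
      map_one' := by
        apply Subtype.ext
        show (1 : G) * (a * 1 * a⁻¹) = 1
        group
      map_mul' := by
        rintro ⟨x, hx⟩ ⟨y, hy⟩
        apply Subtype.ext
        show x * y * (a * (x * y) * a⁻¹) = x * (a * x * a⁻¹) * (y * (a * y * a⁻¹))
        have h := hcomm y hy _ (hconj x hx)
        calc x * y * (a * (x * y) * a⁻¹) = x * (y * (a * x * a⁻¹)) * (a * y * a⁻¹) := by group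
          _ = x * ((a * x * a⁻¹) * y) * (a * y * a⁻¹) := by rw [h]
          _ = _ := by group }
  have hψv : ∀ j : J, ((ψ j : K) : G) = j.1 * (a * j.1 * a⁻¹) := fun _ => rfl
  have hsurj : Function.Surjective ψ := by
    rintro ⟨k, hk⟩
    obtain ⟨j, hj, rfl⟩ := (hiff k).1 hk
    exact ⟨⟨j, hj⟩, rfl⟩
  have hbij : Function.Bijective ψ := hsurj.bijective_of_nat_card_le hcard
  have hinj := hbij.1
  have hinj' : ∀ x ∈ J, ∀ y ∈ J, x * (a * x * a⁻¹) = y * (a * y * a⁻¹) → x = y := by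
    intro x hx y hy h
    have : ψ ⟨x, hx⟩ = ψ ⟨y, hy⟩ := Subtype.ext h
    exact congrArg Subtype.val (hinj this)
  refine ⟨Nat.card_congr (Equiv.ofBijective ψ hbij), ?_⟩
  -- how `B` moves `J`
  have hmove : ∀ β ∈ B, (∀ j ∈ J, β * j * β⁻¹ ∈ J) ∨ (∀ j ∈ J, β * j * β⁻¹ ∈ J') := by
    intro β hβ
    obtain ⟨hJβC, hJβc⟩ := conj_comp hJC hJc (hBC hβ)
    rcases comp_eq_or_comm hJβC hJβc hJC hJc with h | h
    · left
      intro j hj
      rw [← h]
      exact ⟨j, hj, rfl⟩
    rcases comp_eq_or_comm hJβC hJβc hJ'C hJ'c with h' | h'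
    · right
      intro j hj
      rw [← h']
      exact ⟨j, hj, rfl⟩
    exfalso
    apply hnc
    intro k hk j hj
    obtain ⟨j₁, hj₁, rfl⟩ := (hiff k).1 hk
    have hy : β * j * β⁻¹ ∈ J.map (MulAut.conj β).toMonoidHom := ⟨j, hj, rfl⟩
    have h1 := h _ hy j₁ hj₁
    have h2 := h' _ hy _ (hconj j₁ hj₁)
    set k₁ := j₁ * (a * j₁ * a⁻¹) with hk₁
    have hky : (β * j * β⁻¹) * k₁ = k₁ * (β * j * β⁻¹) := by
      rw [hk₁]
      calc (β * j * β⁻¹) * (j₁ * (a * j₁ * a⁻¹)) = ((β * j * β⁻¹) * j₁) * (a * j₁ * a⁻¹) := by group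
        _ = (j₁ * (β * j * β⁻¹)) * (a * j₁ * a⁻¹) := by rw [h1]
        _ = j₁ * ((β * j * β⁻¹) * (a * j₁ * a⁻¹)) := by group
        _ = j₁ * ((a * j₁ * a⁻¹) * (β * j * β⁻¹)) := by rw [h2]
        _ = _ := by group
    have hβk := hBK β hβ k₁ hk
    have h3 : β * (k₁ * j) * β⁻¹ = β * (j * k₁) * β⁻¹ := by
      calc β * (k₁ * j) * β⁻¹ = (β * k₁) * j * β⁻¹ := by group
        _ = (k₁ * β) * j * β⁻¹ := by rw [hβk]
        _ = k₁ * (β * j * β⁻¹) := by group
        _ = (β * j * β⁻¹) * k₁ := hky.symm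
        _ = β * j * (β⁻¹ * (k₁ * β)) * β⁻¹ := by group
        _ = β * j * (β⁻¹ * (β * k₁)) * β⁻¹ := by rw [hβk]
        _ = _ := by group
    exact mul_left_cancel (mul_right_cancel h3)
  have hcen : ∀ β ∈ B, (∀ j ∈ J, β * j * β⁻¹ ∈ J) → ∀ j ∈ J, β * j = j * β := by
    intro β hβ hn j hj
    have h1 := hinj' _ (hn j hj) j hj (by
      have hβk := hBK β hβ _ ((hiff _).2 ⟨j, hj, rfl⟩)
      have hβa := hBa β hβ
      calc (β * j * β⁻¹) * (a * (β * j * β⁻¹) * a⁻¹)
          = (β * j * β⁻¹) * ((a * β) * j * β⁻¹ * a⁻¹) := by group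
        _ = (β * j * β⁻¹) * ((β * a) * j * (a * β)⁻¹) := by rw [hβa]; group
        _ = (β * j * β⁻¹) * ((β * a) * j * (β * a)⁻¹) := by rw [hβa]
        _ = (β * (j * (a * j * a⁻¹))) * β⁻¹ := by group
        _ = ((j * (a * j * a⁻¹)) * β) * β⁻¹ := by rw [hβk]
        _ = _ := by group)
    calc β * j = (β * j * β⁻¹) * β := by group
      _ = j * β := by rw [h1]
  -- the subgroup `B₁`
  set B₁ : Subgroup G := B ⊓ centralizer (J : Set G) with hB₁
  have hmemB₁ : ∀ β ∈ B, (∀ j ∈ J, β * j = j * β) → β ∈ B₁ := by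
    intro β hβ h
    refine Subgroup.mem_inf.mpr ⟨hβ, mem_centralizer_iff.mpr ?_⟩
    intro j hj
    exact (h j hj).symm
  have hcov : ∀ β ∈ B, β ∈ B₁ ∨ a * β ∈ B₁ := by
    intro β hβ
    rcases hmove β hβ with h | h
    · left
      exact hmemB₁ β hβ (hcen β hβ h)
    · right
      have hab : a * β ∈ B := B.mul_mem haB hβ
      refine hmemB₁ _ hab (hcen _ hab ?_)
      intro j hj
      obtain ⟨j₂, hj₂, hj₂e⟩ := h j hj
      have hj₂e' : a * j₂ * a⁻¹ = β * j * β⁻¹ := hj₂e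
      have : a * β * j * (a * β)⁻¹ = j₂ := by
        calc a * β * j * (a * β)⁻¹ = a * (β * j * β⁻¹) * a⁻¹ := by group
          _ = a * (a * j₂ * a⁻¹) * a⁻¹ := by rw [hj₂e']
          _ = (a * a) * j₂ * (a * a)⁻¹ := by group
          _ = j₂ := by rw [ha]; group
      rw [this]
      exact hj₂
  -- `|B| ≤ 2 |B₁|`
  have hBB₁ : Nat.card B ≤ Nat.card B₁ * 2 := by
    let φ : B → B₁ × Bool := fun β =>
      if h : β.1 ∈ B₁ then (⟨β.1, h⟩, true)
      else (⟨a * β.1, (hcov β.1 β.2).resolve_left h⟩, false)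
    have hφ : Function.Injective φ := by
      rintro ⟨x, hx⟩ ⟨y, hy⟩ h
      apply Subtype.ext
      show x = y
      simp only [φ] at h
      by_cases h1 : x ∈ B₁ <;> by_cases h2 : y ∈ B₁
      · simpa [h1, h2] using h
      · simp [h1, h2] at h
      · simp [h1, h2] at h
      · simpa [h1, h2] using h
    have := Nat.card_le_card_of_injective φ hφ
    simpa [Nat.card_prod] using this
  -- the subgroup `E`
  unfold Cfsg.PRankLE at hrk
  push Not at hrk
  obtain ⟨A, hAc, hAe, hAcard⟩ := hrk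
  let e : J →* G := (MulAut.conj a).toMonoidHom.comp J.subtype
  have heinj : Function.Injective e := by
    intro x y h
    have h' : a * x.1 * a⁻¹ = a * y.1 * a⁻¹ := h
    exact Subtype.ext (mul_left_cancel (mul_right_cancel h'))
  let E₀ : Subgroup J := A.comap ψ
  have hE₀card : Nat.card E₀ = Nat.card A := by
    have h1 : E₀.map ψ = A := Subgroup.map_comap_eq_self_of_surjective hsurj A
    rw [← h1]
    exact (Subgroup.card_map_of_injective hinj).symm
  have hE₀c : IsMulCommutative E₀ := by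
    refine ⟨⟨?_⟩⟩
    rintro ⟨x, hx⟩ ⟨y, hy⟩
    apply Subtype.ext
    apply hinj
    show ψ (x * y) = ψ (y * x)
    rw [map_mul, map_mul]
    exact congrArg Subtype.val (mul_comm' (⟨ψ x, hx⟩ : A) ⟨ψ y, hy⟩)
  have hE₀e : ∀ x ∈ E₀, x ^ 2 = 1 := by
    intro x hx
    apply hinj
    rw [map_pow, map_one]
    exact hAe _ hx
  set E : Subgroup G := E₀.map e with hE
  have hEel : Cfsg.IsElementaryAbelian 2 E := ea_map e hE₀c hE₀e
  have hEcard : Nat.card E = Nat.card A := by
    rw [hE, Subgroup.card_map_of_injective heinj, hE₀card]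
  have hEJ' : E ≤ J' := by
    rintro _ ⟨x, -, rfl⟩
    exact hconj x.1 x.2
  have hB₁el : Cfsg.IsElementaryAbelian 2 B₁ := by
    refine ⟨⟨⟨?_⟩⟩, fun x hx => hBel.2 x hx.1⟩
    rintro ⟨x, hx⟩ ⟨y, hy⟩
    haveI := hBel.1
    apply Subtype.ext
    have h := mul_comm' (⟨x, hx.1⟩ : B) ⟨y, hy.1⟩
    have h' : x * y = y * x := congrArg Subtype.val h
    exact h'
  have hB₁cen : ∀ β ∈ B₁, ∀ j ∈ J, β * j = j * β := by
    intro β hβ j hj
    exact ((mem_centralizer_iff.mp hβ.2) j hj).symm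
  have hB₁E : ∀ x ∈ B₁, ∀ y ∈ E, x * y = y * x := by
    rintro β hβ _ ⟨x, -, rfl⟩
    show β * (a * x.1 * a⁻¹) = (a * x.1 * a⁻¹) * β
    have h1 := hB₁cen β hβ x.1 x.2
    have h2 := hBa β hβ.1
    have h3 : β * a⁻¹ = a⁻¹ * β := by rw [hainv, h2]
    calc β * (a * x.1 * a⁻¹) = (β * a) * x.1 * a⁻¹ := by group
      _ = a * (β * x.1) * a⁻¹ := by rw [h2]; group
      _ = a * x.1 * (β * a⁻¹) := by rw [h1]; group
      _ = _ := by rw [h3]; group
  have hinter : ∀ x ∈ B₁, x ∈ E → x = 1 := by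
    rintro x hx ⟨j, -, rfl⟩
    have hxv : e j = a * j.1 * a⁻¹ := rfl
    have hxa := hBa _ hx.1
    have h1 : a * (e j) * a⁻¹ = j.1 := by
      rw [hxv]
      calc a * (a * j.1 * a⁻¹) * a⁻¹ = (a * a) * j.1 * (a * a)⁻¹ := by group
        _ = j.1 := by rw [ha]; group
    have h2 : a * (e j) * a⁻¹ = e j := by
      rw [← hxa]; group
    have h3 : e j = j.1 := h2.symm.trans h1
    have h4 : e j * e j = 1 := by
      rw [← pow_two]; exact hBel.2 _ hx.1
    have h5 : j.1 * (a * j.1 * a⁻¹) = (1 : J).1 * (a * (1 : J).1 * a⁻¹) := by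
      rw [← hxv, ← h3, h4]
      simp
    have h6 := hinj' _ j.2 _ (1 : J).2 h5
    rw [h3, h6]
    rfl
  refine ⟨B₁ ⊔ E, ?_, ea_sup hB₁el hEel hB₁E, ?_⟩
  · apply sup_le
    · intro x hx
      refine ⟨hBC hx.1, hx.2⟩
    · intro x hx
      refine Subgroup.mem_inf.mpr ⟨hJ'C (hEJ' hx), mem_centralizer_iff.mpr ?_⟩
      intro j hj
      exact hcomm j hj x (hEJ' hx)
  · have h1 : Nat.card B₁ * Nat.card E ≤ Nat.card (B₁ ⊔ E : Subgroup G) := by
      rw [← Nat.card_prod]
      let m : B₁ × E → (B₁ ⊔ E : Subgroup G) := fun p =>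
        ⟨p.1.1 * p.2.1, (B₁ ⊔ E).mul_mem (mem_sup_left p.1.2) (mem_sup_right p.2.2)⟩
      apply Nat.card_le_card_of_injective m
      rintro ⟨⟨x₁, hx₁⟩, ⟨y₁, hy₁⟩⟩ ⟨⟨x₂, hx₂⟩, ⟨y₂, hy₂⟩⟩ h
      have h' : x₁ * y₁ = x₂ * y₂ := congrArg Subtype.val h
      have h2 : x₂⁻¹ * x₁ = y₂ * y₁⁻¹ := by
        calc x₂⁻¹ * x₁ = x₂⁻¹ * (x₁ * y₁) * y₁⁻¹ := by group
          _ = x₂⁻¹ * (x₂ * y₂) * y₁⁻¹ := by rw [h']
          _ = _ := by group
      have h3 := hinter (x₂⁻¹ * x₁) (B₁.mul_mem (B₁.inv_mem hx₂) hx₁)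
        (by rw [h2]; exact E.mul_mem hy₂ (E.inv_mem hy₁))
      have hx : x₁ = x₂ := by
        calc x₁ = x₂ * (x₂⁻¹ * x₁) := by group
          _ = x₂ := by rw [h3, mul_one]
      have hy : y₁ = y₂ := by
        rw [hx] at h'
        exact mul_left_cancel h'
      subst hx hy
      rfl
    have h2 : 2 < Nat.card E := by
      rw [hEcard]
      simpa using hAcard
    have h3 : 0 < Nat.card B₁ := Nat.card_pos
    nlinarith


/-- Let G be a finite group of component type with the B-property and no nontrivial normal subgroup of odd order. Let a be an involution and K a component of C_G(a) such that (a) |K| is maximal among the orders of components of centralizers of involutions of G, (b) subject to (a) the 2-rank of the centralizer of K in C_G(a) is as large as possible, and (c) K has 2-rank at least 2. If B is an elementary abelian 2-subgroup of that centralizer of the largest possible order, then K is a component of C_G(b) for every non-identity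 b ∈ B. -/
theorem result {G : Type*} [Group G] [Finite G] (hO : Cfsg.oddCore G = ⊥) (hB : Cfsg.HasBProperty G) (hct : Cfsg.IsComponentType G) (a : G) (ha : orderOf a = 2) (K : Subgroup G) (hKa : K ≤ Subgroup.centralizer ({a} : Set G)) (hK : Cfsg.IsComponent (K.subgroupOf (Subgroup.centralizer ({a} : Set G)))) (hmax : ∀ y : G, orderOf y = 2 → ∀ K' : Subgroup G, K' ≤ Subgroup.centralizer ({y} : Set G) → Cfsg.IsComponent (K'.subgroupOf (Subgroup.centralizer ({y} : Set G))) → Nat.card ↥K' ≤ Nat.card ↥K ∧ (Nat.card ↥K' = Nat.card ↥K → ∀ k : ℕ, Cfsg.PRankLE 2 k ↥(Subgroup.centralizer ({a} : Set G) ⊓ Subgroup.centralizer (K : Set G)) → Cfsg.PRankLE 2 k ↥(Subgroup.centralizer ({y} : Set G) ⊓ Subgroup.centralizer (K' : Set G)))) (hrk : ¬ Cfsg.PRankLE 2 1 ↥K) (B : Subgroup G) (hBle : B ≤ Subgroup.centralizer ({a} : Set G) ⊓ Subgroup.centralizer (K : Set G)) (hBel : Cfsg.IsElementaryAbelian 2 B) (hBmax : ∀ B' : Subgroup G, B' ≤ Subgroup.centralizer ({a}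 : Set G) ⊓ Subgroup.centralizer (K : Set G) → Cfsg.IsElementaryAbelian 2 B' → Nat.card ↥B' ≤ Nat.card ↥B) (b : G) (hb : b ∈ B) (hb1 : b ≠ 1) : K ≤ Subgroup.centralizer ({b} : Set G) ∧ Cfsg.IsComponent (K.subgroupOf (Subgroup.centralizer ({b} : Set G))) := by
  classical
  haveI hp2 : Fact (Nat.Prime 2) := ⟨Nat.prime_two⟩
  have ha2 : a * a = 1 := by rw [← pow_two, ← ha]; exact pow_orderOf_eq_one a
  have hBcomm : ∀ x ∈ B, ∀ y ∈ B, x * y = y * x := by
    haveI := hBel.1
    intro x hx y hy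
    exact congrArg Subtype.val (mul_comm' (⟨x, hx⟩ : B) ⟨y, hy⟩)
  have haKc : ∀ k ∈ K, k * a = a * k := fun k hk => mem_centralizer_singleton_iff.mp (hKa hk)
  have haB : a ∈ B := by
    have hzp : Cfsg.IsElementaryAbelian 2 (zpowers a) := by
      refine ⟨inferInstance, ?_⟩
      rintro _ ⟨n, rfl⟩
      show (a ^ n) ^ 2 = 1
      rw [← zpow_natCast, ← zpow_mul, mul_comm, zpow_mul, zpow_natCast, pow_two, ha2, one_zpow]
    have h1 := hBmax (B ⊔ zpowers a) (by
        apply sup_le hBle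
        rw [zpowers_le]
        refine Subgroup.mem_inf.mpr ⟨mem_centralizer_singleton_iff.mpr rfl, mem_centralizer_iff.mpr ?_⟩
        intro k hk
        exact haKc k hk) (ea_sup hBel hzp (by
          rintro x hx _ ⟨n, rfl⟩
          have hxa : x * a = a * x := mem_centralizer_singleton_iff.mp (hBle hx).1
          exact (Commute.zpow_right hxa n)))
    have h2 : B = B ⊔ zpowers a := Subgroup.eq_of_le_of_card_ge le_sup_left h1
    rw [h2]
    exact mem_sup_right (mem_zpowers a)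
  have hb2 : orderOf b = 2 := orderOf_eq_prime (hBel.2 b hb) hb1
  set C : Subgroup G := centralizer ({b} : Set G) with hC
  have hKC : K ≤ C := by
    intro k hk
    rw [hC, mem_centralizer_singleton_iff]
    exact (mem_centralizer_iff.mp (hBle hb).2 k hk)
  have hBC : B ≤ C := by
    intro x hx
    rw [hC, mem_centralizer_singleton_iff]
    exact hBcomm x hx b hb
  have haC : a ∈ C := hBC haB
  refine ⟨hKC, ?_⟩
  let ã : C := ⟨a, haC⟩
  have hã : ã * ã = 1 := Subtype.ext ha2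
  have hq : IsQuasisimple K := (quasisimple_subgroupOf_iff hKa).1 hK.2
  have hq' : IsQuasisimple (K.subgroupOf C) := (quasisimple_subgroupOf_iff hKC).2 hq
  -- the order of `K` is even
  have h2K : 2 ∣ Nat.card K := by
    unfold Cfsg.PRankLE at hrk
    push Not at hrk
    obtain ⟨A, -, hAe, hAcard⟩ := hrk
    have : Nontrivial A := by
      rw [← Finite.one_lt_card_iff_nontrivial]
      simp at hAcard
      omega
    obtain ⟨x, hx⟩ := exists_ne (1 : A)
    have hx1 : (x : K) ≠ 1 := fun h => hx (Subtype.ext h)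
    have hx2 : orderOf (x : K) = 2 := orderOf_eq_prime (hAe x x.2) hx1
    rw [← hx2]
    exact orderOf_dvd_natCard _
  -- `K` lies in the layer of `C`
  have hE : K.subgroupOf C ≤ layer C := by
    let T : Subgroup C := zpowers ã
    have hT : IsPGroup 2 T := IsPGroup.of_card (n := 1) (by
      rw [Nat.card_zpowers, pow_one]
      apply orderOf_eq_prime
      · rw [pow_two]; exact hã
      · intro h
        have h' : a = 1 := congrArg Subtype.val h
        rw [h', orderOf_one] at ha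
        omega)
    let Z : Subgroup C := centralizer (T : Set C)
    have hZa : ∀ z ∈ Z, ((z : C) : G) * a = a * z := by
      intro z hz
      have := mem_centralizer_iff.mp hz ã (mem_zpowers ã)
      exact (congrArg Subtype.val this).symm
    have hKZ : K.subgroupOf C ≤ Z := by
      intro k hk
      rw [mem_centralizer_iff]
      rintro _ ⟨n, rfl⟩
      have hka : ã * k = k * ã := by
        apply Subtype.ext
        exact (haKc k.1 hk).symm
      exact (Commute.zpow_left hka n)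
    have hMs := subnormal_transfer (K := K) (C := C) hK.1 Z hZa
    have hMq : IsQuasisimple ((K.subgroupOf C).subgroupOf Z) :=
      (quasisimple_subgroupOf_iff hKZ).2 hq'
    have hMc : 2 ∣ Nat.card ((K.subgroupOf C).subgroupOf Z) := by
      rw [Nat.card_congr (subgroupOfEquivOfLe hKZ).toEquiv, Nat.card_congr (subgroupOfEquivOfLe hKC).toEquiv]
      exact h2K
    have hM := isPComponent_two hMs hMq hMc
    have hMle : (K.subgroupOf C).subgroupOf Z ≤ pLayer 2 Z := le_sSup hM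
    have hbal := Cfsg.Agent.Lib.LBal.Main.lBalance T hT
    have hle : K.subgroupOf C ≤ pLayer 2 C := by
      intro k hk
      apply hbal
      exact ⟨⟨k, hKZ hk⟩, hMle hk, rfl⟩
    have hbB : ⁅pLayer 2 C, pPrimeCore 2 C⁆ = ⊥ := by
      have h1 := hB b hb2
      rw [hO, le_bot_iff] at h1
      exact (Subgroup.map_eq_bot_iff_of_injective _ C.subtype_injective).1 h1
    exact hle.trans (pLayer_le_layer hbB)
  have hKãc : ∀ k ∈ K.subgroupOf C, k * ã = ã * k := by
    intro k hk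
    apply Subtype.ext
    exact haKc k.1 hk
  obtain ⟨J₀, hJ₀c, hnc, hcase⟩ := pump (X := C) (a := ã) hã hKãc
    (subnormal_transfer (K := K) (C := C) hK.1 _ (by
      intro z hz
      have := mem_centralizer_singleton_iff.mp hz
      exact congrArg Subtype.val this)) hq' hE
  set J : Subgroup G := J₀.map C.subtype with hJ
  have hJC : J ≤ C := map_subtype_le J₀
  have hJsub : J.subgroupOf C = J₀ := Subgroup.comap_map_eq_self_of_injective C.subtype_injective J₀
  have hJc : IsComponent (J.subgroupOf C) := by rw [hJsub]; exact hJ₀c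
  obtain ⟨hcard, hsec⟩ := hmax b hb2 J hJC hJc
  rcases hcase with hle | ⟨hne, hd⟩
  · have hKJ : K ≤ J := by
      intro k hk
      exact ⟨⟨k, hKC hk⟩, hle hk, rfl⟩
    have : K = J := Subgroup.eq_of_le_of_card_ge hKJ hcard
    rw [this]
    exact hJc
  · exfalso
    have hne' : J.map (MulAut.conj a).toMonoidHom ≠ J := by
      intro h
      apply hne
      apply Subgroup.map_injective C.subtype_injective
      rw [Subgroup.map_map]
      have hcc : C.subtype.comp (MulAut.conj ã).toMonoidHom =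
          (MulAut.conj a).toMonoidHom.comp C.subtype := MonoidHom.ext fun _ => rfl
      rw [hcc, ← Subgroup.map_map]
      exact h
    have hiff : ∀ k, k ∈ K ↔ ∃ j ∈ J, k = j * (a * j * a⁻¹) := by
      intro k
      constructor
      · intro hk
        obtain ⟨j, hj, hjk⟩ := (hd ⟨k, hKC hk⟩).1 hk
        exact ⟨j.1, ⟨j, hj, rfl⟩, congrArg Subtype.val hjk⟩
      · rintro ⟨_, ⟨j, hj, rfl⟩, rfl⟩
        exact (hd (j * (ã * j * ã⁻¹))).2 ⟨j, hj, rfl⟩
    have hnc' : ¬ ∀ k ∈ K, ∀ j ∈ J, k * j = j * k := by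
      intro h
      apply hnc
      intro k hk j hj
      apply Subtype.ext
      exact h k.1 hk j.1 ⟨j, hj, rfl⟩
    obtain ⟨hcardEq, F, hFle, hFel, hFcard⟩ := diag_contra ha2 hJC hJc haC hne' hiff hcard hnc' hBC
      (fun β hβ => hBcomm β hβ a haB) haB
      (fun β hβ k hk => (mem_centralizer_iff.mp (hBle hβ).2 k hk).symm) hBel hrk
    have hBp : IsPGroup 2 B := by
      intro x
      refine ⟨1, ?_⟩
      apply Subtype.ext
      simpa using hBel.2 x.1 x.2
    obtain ⟨k, hk⟩ := IsPGroup.iff_card.1 hBp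
    have hrank : Cfsg.PRankLE 2 k ↥(centralizer ({a} : Set G) ⊓ centralizer (K : Set G)) := by
      intro A hAc hAe
      have h1 := hBmax (A.map (centralizer ({a} : Set G) ⊓ centralizer (K : Set G)).subtype)
        (map_subtype_le A) (ea_map _ hAc hAe)
      rw [Subgroup.card_map_of_injective (Subgroup.subtype_injective _), hk] at h1
      exact h1
    have h3 := hsec hcardEq k hrank (F.subgroupOf (C ⊓ centralizer (J : Set G))) ?_ ?_
    · rw [Nat.card_congr (subgroupOfEquivOfLe hFle).toEquiv, ← hk] at h3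
      omega
    · haveI := hFel.1
      refine ⟨⟨?_⟩⟩
      rintro ⟨x, hx⟩ ⟨y, hy⟩
      apply Subtype.ext
      apply Subtype.ext
      have h := mul_comm' (⟨x.1, hx⟩ : F) ⟨y.1, hy⟩
      have h' : x.1 * y.1 = y.1 * x.1 := congrArg Subtype.val h
      exact h'
    · intro x hx
      apply Subtype.ext
      simpa using hFel.2 x.1 hx

end Cfsg.Agent.S1305
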