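-- Statement S0157: 2-transitivity and irreducibility of the permutation character minus one.
import Cfsg.Statements.S0157
import Cfsg.Agent.Lib.Char.PermChar
import Cfsg.Agent.Lib.Char.IndRep
import Cfsg.Agent.Lib.CharX.Fixed

set_option autoImplicit false
open Cfsg

namespace Cfsg.Agent.S0157

open Cfsg.Agent.Lib.Char.Basic Cfsg.Agent.Lib.Char.Ortho Cfsg.Agent.Lib.Char.Complete
open Cfsg.Agent.Lib.CharX.Fixed Module MulAction
open scoped ComplexConjugate

variable {G : Type*} [Group G]

/-- Burnside's lemma with `Nat.card`. -/
theorem burnside [Fintype G] (Y : Type*) [MulAction G Y] [Finite Y] :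
    ∑ g : G, Nat.card (fixedBy Y g) = Nat.card (orbitRel.Quotient G Y) * Nat.card G := by
  classical
  let _ : Fintype Y := Fintype.ofFinite Y
  let _ : Fintype (orbitRel.Quotient G Y) := Fintype.ofFinite _
  have := MulAction.sum_card_fixedBy_eq_card_orbits_mul_card_group G Y
  simp only [Nat.card_eq_fintype_card]
  convert this

/-- The fixed points on pairs of distinct points. -/
theorem card_fixedBy_embedding (X : Type*) [MulAction G X] [Finite X] (g : G) :
    Nat.card (fixedBy (Fin 2 ↪ X) g) = (Nat.card (fixedBy X g)).descFactorial 2 := by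
  classical
  let _ : Fintype X := Fintype.ofFinite X
  let e : fixedBy (Fin 2 ↪ X) g ≃ (Fin 2 ↪ fixedBy X g) :=
    { toFun := fun f => ⟨fun i => ⟨f.1 i, by
          have h : g • f.1 = f.1 := f.2
          have h2 := congrArg (fun k : Fin 2 ↪ X => k i) h
          exact h2⟩, fun a b hab => f.1.injective (congrArg Subtype.val hab)⟩
      invFun := fun f => ⟨⟨fun i => (f i).1, fun a b hab => f.injective (Subtype.ext hab)⟩, by
          apply Function.Embedding.ext
          intro i
          exact (f i).2⟩
      left_inv := fun f => by
        apply Subtype.ext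
        apply Function.Embedding.ext
        intro i
        rfl
      right_inv := fun f => by
        apply Function.Embedding.ext
        intro i
        rfl }
  rw [Nat.card_congr e]
  simp only [Nat.card_eq_fintype_card]
  rw [Fintype.card_embedding_eq, Fintype.card_fin]

/-- For a transitive action of a finite group on a finite set with at least two points: the action is 2-transitive if and only if the function sending g to (number of fixed points of g) − 1 is an irreducible character. -/
theorem result {G : Type*} [Group G] [Finite G] (X : Type*) [MulAction G X] [Finite X] [MulAction.IsPretransitive G X] (hX : 2 ≤ Nat.card X) : Cfsg.IsIrrCharacter G (fun g => (Nat.card (MulAction.fixedBy X g) : ℂ) - 1) ↔ MulAction.IsMultiplyPretransitive G X 2 := by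
  classical
  let _ : Fintype G := Fintype.ofFinite G
  have := finite_irrCharacter (G := G)
  let _ : Fintype (IrrCharacter G) := Fintype.ofFinite _
  let _ : Fintype X := Fintype.ofFinite X
  have hXne : Nonempty X := by
    have : 0 < Nat.card X := by omega
    exact (Nat.card_pos_iff.mp this).1
  obtain ⟨x₀⟩ := hXne
  let π : G → ℂ := fun g => (Nat.card (fixedBy X g) : ℂ)
  have hπ : IsCharacter G π := by
    have h1 : π = Cfsg.indFun (stabilizer G x₀) (fun _ => 1) := by
      funext g
      exact Cfsg.Agent.Lib.Char.PermChar.card_fixedBy_eq_indFun X x₀ g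
    rw [h1]
    exact Cfsg.Agent.Lib.Char.IndRep.isCharacter_indFun _ isCharacter_one
  have hcardG : (Nat.card G : ℂ) ≠ 0 := card_ne_zero_complex
  -- Burnside on `X`
  have hb1 : ∑ g : G, π g = (Nat.card G : ℂ) := by
    have h1 := burnside (G := G) X
    have h2 : Nat.card (orbitRel.Quotient G X) = 1 := by
      have hs := (pretransitive_iff_subsingleton_quotient G X).mp inferInstance
      have hn : Nonempty (orbitRel.Quotient G X) := ⟨Quotient.mk'' x₀⟩
      exact Nat.card_eq_one_iff_unique.mpr ⟨hs, hn⟩
    rw [h2, one_mul] at h1
    simp only [π]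
    exact_mod_cast h1
  set r := Nat.card (orbitRel.Quotient G (Fin 2 ↪ X)) with hr
  -- Burnside on pairs
  have hb2 : ∑ g : G, (π g ^ 2 - π g) = (r : ℂ) * (Nat.card G : ℂ) := by
    have h1 := burnside (G := G) (Fin 2 ↪ X)
    have h3 : ∀ g : G, π g ^ 2 - π g = (Nat.card (fixedBy (Fin 2 ↪ X) g) : ℂ) := by
      intro g
      rw [card_fixedBy_embedding]
      simp only [π]
      rcases Nat.eq_zero_or_pos (Nat.card (fixedBy X g)) with h0 | h0
      · rw [h0]; simp
      · obtain ⟨m, hm⟩ := Nat.exists_eq_succ_of_ne_zero h0.ne'
        rw [hm]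
        simp [Nat.descFactorial]
        ring
    simp only [h3]
    exact_mod_cast h1
  -- the norm
  have hnorm : classInner (fun g => π g - 1) (fun g => π g - 1) = (r : ℂ) := by
    rw [classInner_def]
    have h1 : ∀ g : G, (π g - 1) * conj (π g - 1) = (π g ^ 2 - π g) - π g + 1 := by
      intro g
      simp only [π, map_sub, map_natCast, map_one]
      ring
    simp only [h1, Finset.sum_add_distrib, Finset.sum_sub_distrib, hb1, hb2]
    simp only [Finset.sum_const, Finset.card_univ, nsmul_eq_mul, mul_one, ← Nat.card_eq_fintype_card]
    field_simp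
    ring
  have hY : Nonempty (Fin 2 ↪ X) := by
    have : 2 ≤ Fintype.card X := by rwa [Nat.card_eq_fintype_card] at hX
    exact Function.Embedding.nonempty_of_card_le (by simpa using this)
  constructor
  · intro hirr
    have h1 := classInner_self_of_isIrr hirr
    rw [hnorm] at h1
    have h2 : r = 1 := by exact_mod_cast h1
    have h3 : Subsingleton (orbitRel.Quotient G (Fin 2 ↪ X)) :=
      (Nat.card_eq_one_iff_unique.mp h2).1
    exact (pretransitive_iff_subsingleton_quotient G (Fin 2 ↪ X)).mpr h3
  · intro htrans
    have hs : Subsingleton (orbitRel.Quotient G (Fin 2 ↪ X)) :=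
      (pretransitive_iff_subsingleton_quotient G (Fin 2 ↪ X)).mp htrans
    obtain ⟨y⟩ := hY
    have hn : Nonempty (orbitRel.Quotient G (Fin 2 ↪ X)) := ⟨Quotient.mk'' y⟩
    have hr1 : r = 1 := Nat.card_eq_one_iff_unique.mpr ⟨hs, hn⟩
    -- `π - 1` is a character
    obtain ⟨m, hm⟩ := exists_nat_combination hπ
    let i₁ : IrrCharacter G := ⟨fun _ => 1, isIrrCharacter_one⟩
    have hm1 : m i₁ = 1 := by
      have h1 := classInner_of_nat_combination m i₁
      rw [← hm] at h1
      have h2 : classInner π (i₁ : G → ℂ) = 1 := by
        change classInner π (fun _ => 1) = 1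
        rw [classInner_one_eq, hb1]
        exact inv_mul_cancel₀ hcardG
      rw [h2] at h1
      exact_mod_cast h1.symm
    have hchar : IsCharacter G (fun g => π g - 1) := by
      have h1 : (fun g => π g - 1) = ∑ j ∈ Finset.univ.erase i₁, m j • (j : G → ℂ) := by
        have h2 := Finset.add_sum_erase Finset.univ (fun j : IrrCharacter G => m j • (j : G → ℂ))
          (Finset.mem_univ i₁)
        rw [← hm] at h2
        funext g
        have h3 := congrFun h2 g
        simp only [Pi.add_apply, Pi.smul_apply, hm1, one_smul] at h3
        rw [← h3]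
        simp [i₁]
      rw [h1]
      refine isCharacter_sum _ _ fun j _ => isCharacter_nsmul (isCharacter_of_isIrrCharacter j.2) _
    refine isIrrCharacter_of_classInner_self_eq_one hchar ?_
    rw [hnorm, hr1]
    simp

end Cfsg.Agent.S0157
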