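import Cfsg.Statements.S0881
import Cfsg.Agent.Lib.Zass.IndLinear
import Cfsg.Agent.Lib.CharDeep.LinearChar

set_option autoImplicit false
open Cfsg

namespace Cfsg.Agent.S0881

/-- Let G be a finite simple Zassenhaus group on Ω with n points, a ≠ b points with two-point stabilizer E of odd order less than n - 2, and let H be the subgroup of the stabilizer of a consisting of the identity and the elements fixing no point other than a (given here as a subgroup of the stabilizer of order one less than the number of points whose non-identity elements fix only a; it is the Frobenius kernel of the stabilizer). Let μ be a character of degree 1 of the stabilizer of a that is identically 1 on H but not identically 1. Then the function induced from μ to G is an irreducible character of G, and it takes the value 1 at every non-identity element of H. -/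
theorem result {G Ω : Type*} [Group G] [Fintype G] [MulAction G Ω] [Fintype Ω] (hZ : Cfsg.IsZassenhausGroup G Ω) {a b : Ω} (hab : a ≠ b) [IsSimpleGroup G] (hodd : Odd (Nat.card ↥(MulAction.stabilizer G a ⊓ MulAction.stabilizer G b : Subgroup G))) (hlt : Nat.card ↥(MulAction.stabilizer G a ⊓ MulAction.stabilizer G b : Subgroup G) < Fintype.card Ω - 2) (H : Subgroup G) (hHa : H ≤ MulAction.stabilizer G a) (hHcard : Nat.card H + 1 = Fintype.card Ω) (hHfix : ∀ u ∈ H, u ≠ 1 → ∀ c : Ω, u • c = c → c = a) (μ : MulAction.stabilizer G a → ℂ) (hμ : Cfsg.IsCharacter (MulAction.stabilizer G a) μ ∧ μ 1 = 1) (hμH : ∀ u : MulAction.stabilizer G a, (u : G) ∈ H → μ u = 1) (hμne : μ ≠ fun _ => 1) : Cfsg.IsIrrCharacter G (Cfsg.indFun (MulAction.stabilizer G a) μ) ∧ ∀ u ∈ H, u ≠ 1 → Cfsg.indFun (MulAction.stabilizer G a) μ u = 1 := by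
  classical
  have hC := Cfsg.Agent.Lib.Zass.Inv.Ctx.of_simple hZ hab hodd
  let f := Cfsg.Agent.Lib.CharDeep.LinearChar.toHom hμ.1 hμ.2
  have hf : ∀ u : MulAction.stabilizer G a, (u : G) ∈ H → f u = 1 := by
    intro u hu
    apply Units.ext
    exact hμH u hu
  have hμf : μ = fun y => ((f y : ℂˣ) : ℂ) := rfl
  have hne : ∃ z, f z ≠ 1 := by
    by_contra hcon
    push Not at hcon
    apply hμne
    funext y
    have h0 : ((f y : ℂˣ) : ℂ) = ((1 : ℂˣ) : ℂ) := congrArg Units.val (hcon y)
    exact h0
  obtain ⟨z, hz⟩ := hne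
  refine ⟨?_, fun u hu hu1 => ?_⟩
  · apply Cfsg.Agent.Lib.Frobenius.Theorem.isIrrCharacter_of_generalized
    · exact Cfsg.Agent.Lib.Char.GenLattice.isGenChar_of_isCharacter
        (Cfsg.Agent.Lib.Char.IndRep.isCharacter_indFun _ hμ.1)
    · rw [hμf]
      exact Cfsg.Agent.Lib.Zass.IndLinear.classInner_indFun hC hHa hHcard hHfix f hf hz
    · rw [Cfsg.Agent.Lib.Char.Induced.indFun_one, hμ.2, mul_one]
      have : 0 < (MulAction.stabilizer G a).index := Nat.pos_of_ne_zero Subgroup.index_ne_zero_of_finite
      simpa using this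
  · rw [hμf]
    exact Cfsg.Agent.Lib.Zass.IndLinear.indFun_kernel hC hHa hHcard hHfix f hf hu hu1

end Cfsg.Agent.S0881
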