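-- Statement S2072.
import Cfsg.Statements.S2072
import Cfsg.Agent.Lib.PermComp.Conway.MHS
import Cfsg.Agent.Lib.PermComp.OutP.HSo.Thm

set_option autoImplicit false
open Cfsg

namespace Cfsg.Agent.S2072

open Cfsg.Agent.Lib.PermComp Cfsg.Agent.Lib.PermComp.OutP Cfsg.Agent.Lib.PermComp.Conway
open Cfsg.Agent.Lib.PermComp.Conway.MHS

/-- The outer automorphism group of the Higman–Sims group (as a two-vector stabiliser in the automorphism group of the rank-24 lattice) has order 2. -/
theorem result : Nat.card (Cfsg.Out ↥Cfsg.Spor.HS) = 2 := by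
  obtain ⟨e⟩ := iso_HS
  rw [card_out_congr e]
  exact out_of_model (rho hS) (by norm_num) card_Fix_HS (OutP.HSo.card_ge hX)
    fun h => OutP.HSo.card_out h hX

end Cfsg.Agent.S2072
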