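import Cfsg.Statements.S0346
import Cfsg.Agent.Lib.Zass.FeitMain
import Cfsg.Agent.Lib.Zass.NoSharp

set_option autoImplicit false
open Cfsg

namespace Cfsg.Agent.S0346

/-- The number of points of a finite simple Zassenhaus group is `p^k + 1` for some prime power `p^k` (the regular normal
subgroup of a point stabiliser is a `p`-group). -/
theorem result {G Ω : Type*} [Group G] [Finite G] [MulAction G Ω] [Fintype Ω]
    (hZ : Cfsg.IsZassenhausGroup G Ω) [IsSimpleGroup G] :
    IsPrimePow (Fintype.card Ω - 1) := by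
  classical
  haveI := Fintype.ofFinite G
  obtain ⟨a, b, hab⟩ : ∃ a b : Ω, a ≠ b := by
    obtain ⟨-, -, -, ⟨g, -, c, d, hcd, -, -⟩, -⟩ := hZ
    exact ⟨c, d, hcd⟩
  have D := Cfsg.Agent.Lib.Zass.AbFinal.data_kernelAt hZ hab
  set H := Cfsg.Agent.Lib.Zass.Basic.kernelAt (G := G) a b with hH
  have hHle : H ≤ MulAction.stabilizer G a := D.hHa
  have hHn : (H.subgroupOf (MulAction.stabilizer G a)).Normal := Cfsg.Agent.Lib.Zass.AbKernel.normal_sub D
  have hHreg : ∀ y z : Ω, y ≠ a → z ≠ a → ∃! u : H, (u : G) • y = z := by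
    intro y z hy hz
    exact Cfsg.Agent.Lib.Zass.Basic.kernelAt_regular hZ hab hy hz
  have hd := Cfsg.Agent.Lib.Zass.NonCoh.one_lt_card_E D
  have hcard := D.hHcard
  have key : Fintype.card Ω - 2 ≤ 2 * Nat.card ↥(MulAction.stabilizer G a ⊓ MulAction.stabilizer G b) → 
      IsPrimePow (Fintype.card Ω - 1) := by
    intro h
    obtain ⟨-, p, f, hp, -, hf⟩ := Cfsg.Agent.S0738.result hZ hab h H hHle hHn hHreg
    have hf0 : f ≠ 0 := by
      rintro rfl
      have hne := Cfsg.Agent.Lib.Zass.NonCoh.subgroupOf_ne_bot D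
      have h3 : Nat.card H = 1 := by
        simp at hf
        omega
      apply hne
      rw [Subgroup.card_eq_one.mp h3]
      simp
    rw [hf]
    simp only [Nat.add_sub_cancel]
    exact hp.isPrimePow.pow hf0
  rcases Nat.even_or_odd (Nat.card (Cfsg.Agent.Lib.Zass.Stab.E (G := G) a b)) with he | he
  · have h2 := Cfsg.Agent.Lib.Zass.NoSharp.two_of_even_simple hZ hab he
    apply key
    show _ ≤ 2 * Nat.card (Cfsg.Agent.Lib.Zass.Stab.E (G := G) a b)
    omega
  · rcases Cfsg.Agent.Lib.Zass.FeitMain.main D he with h1 | ⟨h1, -, -⟩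
    · apply key
      show _ ≤ 2 * Nat.card (Cfsg.Agent.Lib.Zass.Stab.E (G := G) a b)
      omega
    · obtain ⟨n, hn⟩ := IsPGroup.iff_card.mp h1
      have hn0 : n ≠ 0 := by
        rintro rfl
        have hne := Cfsg.Agent.Lib.Zass.NonCoh.subgroupOf_ne_bot D
        apply hne
        have h3 : Nat.card H = 1 := by simpa using hn
        rw [Subgroup.card_eq_one.mp h3]
        simp
      have : Fintype.card Ω - 1 = 2 ^ n := by omega
      rw [this]
      exact Nat.prime_two.isPrimePow.pow hn0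

end Cfsg.Agent.S0346
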