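import Cfsg.Statements.S0798
import Cfsg.Agent.Lib.OrthRefl.Basic
import Cfsg.Agent.Lib.QuadDisc.Classify
import Cfsg.Agent.Lib.OrthRefl.Singular

set_option autoImplicit false

open Cfsg

namespace Cfsg.Agent.S0798

open Matrix Cfsg.Agent.Lib.OrthRefl.Basic Cfsg.Agent.Lib.Orth.Bridge
  Cfsg.Agent.Lib.Orth.Omega Cfsg.Agent.Lib.Orth.Spin Cfsg.Agent.Lib.Orth.Refl Cfsg.Agent.Lib.Witt.Quadratic
  QuadraticMap

section plane

variable {F V : Type*} [Field F] [AddCommGroup V] [Module F V] (Q : QuadraticForm F V)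

theorem Q_combo (u w : V) (l m : F) :
    Q (l • u + m • w) = l ^ 2 * Q u + l * m * polar Q u w + m ^ 2 * Q w := by
  rw [Q_add, QuadraticMap.map_smul, QuadraticMap.map_smul, polar_smul_left, polar_smul_right]
  simp only [smul_eq_mul]
  ring

theorem coeff_identity (A C s l m p q : F) (hA : A ≠ 0) (hC : C ≠ 0) (hQ : l^2*A + l*m*s + m^2*C ≠ 0) :
   let Qa := l^2*A + l*m*s + m^2*C
   let xi := Qa⁻¹ * (l*p+m*q)
   let zeta := C⁻¹ * (q - xi*(l*s+2*m*C))
   let eta := A⁻¹ * (p - xi*(2*l*A+m*s) - zeta*s)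
   let b1 := l*s+m*C
   let b2 := -(l*A)
   let kappa := (A*C*Qa)⁻¹ * (b1*p+b2*q)
   xi*l+eta = kappa*b1 ∧ xi*m+zeta = kappa*b2 := by
  intro Qa xi zeta eta b1 b2 kappa
  have hQa : Qa ≠ 0 := hQ
  constructor
  · simp only [eta, zeta, kappa, b1, b2, xi]
    field_simp
    simp only [Qa]
    ring
  · simp only [zeta, kappa, b1, b2, xi]
    field_simp
    simp only [Qa]
    ring

theorem three_refl (u w : V) (l m : F) (hu : Q u ≠ 0) (hw : Q w ≠ 0) (ha : Q (l • u + m • w) ≠ 0) (x : V) :
    refl Q u (refl Q w (refl Q (l • u + m • w) x)) =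
      refl Q ((l * polar Q u w + m * Q w) • u + (-(l * Q u)) • w) x := by
  have hQa := Q_combo Q u w l m
  have hQb : Q ((l * polar Q u w + m * Q w) • u + (-(l * Q u)) • w) = Q u * Q w * Q (l • u + m • w) := by
    rw [Q_combo, hQa]
    ring
  obtain ⟨A, hA⟩ : ∃ A, A = Q u := ⟨_, rfl⟩
  obtain ⟨C, hC⟩ : ∃ C, C = Q w := ⟨_, rfl⟩
  obtain ⟨s, hs⟩ : ∃ s, s = polar Q u w := ⟨_, rfl⟩
  obtain ⟨p, hp⟩ : ∃ p, p = polar Q x u := ⟨_, rfl⟩
  obtain ⟨q, hq⟩ : ∃ q, q = polar Q x w := ⟨_, rfl⟩
  have hwu : polar Q w u = s := by rw [polar_comm, hs]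
  have huu : polar Q u u = 2 * A := by rw [polar_self_eq, hA]
  have hww : polar Q w w = 2 * C := by rw [polar_self_eq, hC]
  have hA0 : A ≠ 0 := hA ▸ hu
  have hC0 : C ≠ 0 := hC ▸ hw
  have hQa0 : l ^ 2 * A + l * m * s + m ^ 2 * C ≠ 0 := by
    rw [hA, hC, hs, ← hQa]
    exact ha
  obtain ⟨hc1, hc2⟩ := coeff_identity A C s l m p q hA0 hC0 hQa0
  -- the three steps
  set xi := (l ^ 2 * A + l * m * s + m ^ 2 * C)⁻¹ * (l * p + m * q) with hxi
  set zeta := C⁻¹ * (q - xi * (l * s + 2 * m * C)) with hzeta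
  set eta := A⁻¹ * (p - xi * (2 * l * A + m * s) - zeta * s) with heta
  have e1 : refl Q (l • u + m • w) x = x - xi • (l • u + m • w) := by
    rw [refl_apply, hQa, polar_add_right, polar_smul_right, polar_smul_right, ← hA, ← hC, ← hs, ← hp, ← hq]
    rfl
  have p1w : polar Q (x - xi • (l • u + m • w)) w = q - xi * (l * s + 2 * m * C) := by
    simp only [polar_sub_left, polar_smul_left, polar_add_left, smul_eq_mul, ← hq, ← hs, hww]
    ring
  have p1u : polar Q (x - xi • (l • u + m • w)) u = p - xi * (2 * l * A + m * s) := by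
    simp only [polar_sub_left, polar_smul_left, polar_add_left, smul_eq_mul, ← hp, hwu, huu]
    ring
  have e2 : refl Q w (x - xi • (l • u + m • w)) = (x - xi • (l • u + m • w)) - zeta • w := by
    rw [refl_apply, p1w, ← hC]
  have p2u : polar Q ((x - xi • (l • u + m • w)) - zeta • w) u = p - xi * (2 * l * A + m * s) - zeta * s := by
    rw [polar_sub_left, p1u, polar_smul_left, hwu]
    rfl
  have e3 : refl Q u ((x - xi • (l • u + m • w)) - zeta • w) =
      ((x - xi • (l • u + m • w)) - zeta • w) - eta • u := by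
    rw [refl_apply, p2u, ← hA]
  rw [e1, e2, e3, refl_apply, hQb, hQa, ← hA, ← hC, ← hs]
  have hpol : polar Q x ((l * s + m * C) • u + (-(l * A)) • w) = (l * s + m * C) * p + (-(l * A)) * q := by
    rw [polar_add_right, polar_smul_right, polar_smul_right, ← hp, ← hq]
    rfl
  rw [hpol]
  set kappa := (A * C * (l ^ 2 * A + l * m * s + m ^ 2 * C))⁻¹ * ((l * s + m * C) * p + (-(l * A)) * q) with hkappa
  have h1 : kappa • ((l * s + m * C) • u + (-(l * A)) • w) = (xi * l + eta) • u + (xi * m + zeta) • w := by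
    rw [smul_add, smul_smul, smul_smul, hc1, hc2]
  rw [h1]
  module

/-- Non-degenerate binary forms are universal. -/
theorem exists_binary [Fintype F] (h2 : (2 : F) ≠ 0) (A C s c : F) (hA : A ≠ 0) (hd : s ^ 2 ≠ 4 * A * C) :
    ∃ l m : F, l ^ 2 * A + l * m * s + m ^ 2 * C = c := by
  have hD : C - s ^ 2 / (4 * A) ≠ 0 := by
    intro h
    apply hd
    have h4 : (4 : F) ≠ 0 := by
      have : (4 : F) = 2 * 2 := by norm_num
      rw [this]
      exact mul_ne_zero h2 h2
    field_simp at h
    linear_combination -h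
  obtain ⟨X, Y, hXY⟩ := Cfsg.Agent.Lib.QuadDisc.Classify.exists_sum_sq h2 A _ c hA hD
  refine ⟨X - s / (2 * A) * Y, Y, ?_⟩
  rw [← hXY]
  have h4 : (4 : F) ≠ 0 := by
    have : (4 : F) = 2 * 2 := by norm_num
    rw [this]
    exact mul_ne_zero h2 h2
  field_simp
  ring

end plane

section main

variable {F : Type*} [Field F] [Fintype F] {n : ℕ}

theorem card_ne_two (h2 : (2 : F) ≠ 0) : Fintype.card F ≠ 2 := by
  intro hcard
  apply h2
  have := FiniteField.cast_card_eq_zero F
  rw [hcard] at this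
  exact_mod_cast this

/-- A quadratic form with non-degenerate polar form in dimension at least two represents everything. -/
theorem exists_Q_eq (h2 : (2 : F) ≠ 0) (hn : 2 ≤ n)
    (Q : QuadraticForm F (Fin n → F)) (hQ : (polarBilin Q).Nondegenerate) (a : F) :
    ∃ e, Q e = a := by
  obtain ⟨e, he⟩ := Cfsg.Agent.Lib.QuadDisc.Classify.exists_self_eq h2 (polarBilin Q) hQ
    ⟨fun x y => by
      show polar Q x y = polar Q y x
      exact polar_comm Q x y⟩ (by simpa using hn) (2 * a)
  refine ⟨e, ?_⟩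
  have h1 : polar Q e e = 2 * Q e := polar_self_eq Q e
  have h3 : polar Q e e = 2 * a := he
  rw [h1] at h3
  exact mul_left_cancel₀ h2 h3

/-- The subgroup in the statement. -/
def R (Q : QuadraticForm F (Fin n → F)) (c : F) : Subgroup (isometryGroup F ⇑Q) :=
  Subgroup.closure {g : ↥(Cfsg.isometryGroup F ⇑Q) | ∃ (v : Fin n → F) (t : F), t ≠ 0 ∧ Q v = c * t ^ 2 ∧ ((g : Matrix.GeneralLinearGroup (Fin n) F) : Matrix (Fin n) (Fin n) F) = Cfsg.reflectionMatrix ⇑Q v}

omit [Fintype F] in
theorem rG_mem_R (Q : QuadraticForm F (Fin n → F)) (c : F) {v : Fin n → F} {t : F} (ht : t ≠ 0)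
    (hv : Q v = c * t ^ 2) : rG Q v ∈ R Q c :=
  Subgroup.subset_closure ⟨v, t, ht, hv, rG_val Q v⟩

omit [Fintype F] in
theorem conj_mem_R (Q : QuadraticForm F (Fin n → F)) (c : F) (h : isometryGroup F ⇑Q) {g : isometryGroup F ⇑Q}
    (hg : g ∈ R Q c) : h * g * h⁻¹ ∈ R Q c := by
  induction hg using Subgroup.closure_induction with
  | mem x hx =>
    obtain ⟨v, t, ht, hv, hx⟩ := hx
    rw [eq_rG_of_val hx, conj_rG]
    refine rG_mem_R Q c ht ?_
    rw [← hv]
    exact (mem_isometryGroup_iff _ _).mp h.2 v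
  | one => simp
  | mul a b _ _ ha hb =>
    have : h * (a * b) * h⁻¹ = (h * a * h⁻¹) * (h * b * h⁻¹) := by group
    rw [this]
    exact Subgroup.mul_mem _ ha hb
  | inv a _ ha =>
    have : h * a⁻¹ * h⁻¹ = (h * a * h⁻¹)⁻¹ := by group
    rw [this]
    exact Subgroup.inv_mem _ ha

/-- The plane case. -/
theorem plane_case (h2 : (2 : F) ≠ 0) (Q : QuadraticForm F (Fin n → F)) (c : F) (hc : c ≠ 0) {u w : Fin n → F}
    (hu : Q u ≠ 0) (hw : Q w ≠ 0) (hsq : IsSquare (Q u * Q w)) (hd : (polar Q u w) ^ 2 ≠ 4 * Q u * Q w) :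
    rG Q u * rG Q w ∈ R Q c := by
  obtain ⟨l, m, hlm⟩ := exists_binary h2 (Q u) (Q w) (polar Q u w) c hu hd
  have hQa : Q (l • u + m • w) = c := by
    rw [Q_combo, ← hlm]
  have ha : Q (l • u + m • w) ≠ 0 := hQa ▸ hc
  obtain ⟨r, hr⟩ := hsq
  have hr0 : r ≠ 0 := by
    rintro rfl
    rw [mul_zero] at hr
    exact mul_ne_zero hu hw hr
  have hb : Q ((l * polar Q u w + m * Q w) • u + (-(l * Q u)) • w) = c * r ^ 2 := by
    rw [Q_combo]
    have : Q (l • u + m • w) = l ^ 2 * Q u + l * m * polar Q u w + m ^ 2 * Q w := Q_combo Q u w l m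
    rw [hQa] at this
    rw [this, sq r, ← hr]
    ring
  have key : rG Q u * rG Q w * rG Q (l • u + m • w) =
      rG Q ((l * polar Q u w + m * Q w) • u + (-(l * Q u)) • w) := by
    apply (toIso Q).injective
    apply Subtype.ext
    rw [toIso_rG, map_mul, map_mul]
    show ((toIso Q (rG Q u) : isoGroup Q) : (Fin n → F) ≃ₗ[F] (Fin n → F)) *
      (toIso Q (rG Q w) : isoGroup Q) * (toIso Q (rG Q (l • u + m • w)) : isoGroup Q) = _
    rw [toIso_rG, toIso_rG, toIso_rG]
    ext1 x
    exact three_refl Q u w l m hu hw ha x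
  have h3 : rG Q u * rG Q w = rG Q ((l * polar Q u w + m * Q w) • u + (-(l * Q u)) • w) * rG Q (l • u + m • w) := by
    rw [← key, mul_assoc, rG_mul_self, mul_one]
  rw [h3]
  refine Subgroup.mul_mem _ (rG_mem_R Q c hr0 hb) (rG_mem_R Q c one_ne_zero ?_)
  rw [hQa]
  ring

/-- The connecting vector. -/
theorem exists_connect (h2 : (2 : F) ≠ 0) (hn2 : 2 ≤ n) (heven : Even n) (Q : QuadraticForm F (Fin n → F))
    (hQ : (polarBilin Q).Nondegenerate) (h43 : ¬ (n = 4 ∧ Fintype.card F = 3)) {u z : Fin n → F}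
    (hu : Q u ≠ 0) (hz : z ≠ 0) (hQz : Q z = 0) (huz : polar Q u z = 0) :
    ∃ y, Q y = Q u ∧ (polar Q u y) ^ 2 ≠ 4 * Q u * Q u ∧ (polar Q (u + z) y) ^ 2 ≠ 4 * Q u * Q u := by
  classical
  have hzu : z ∉ Submodule.span F {u} := by
    intro h
    obtain ⟨k, rfl⟩ := Submodule.mem_span_singleton.mp h
    rw [QuadraticMap.map_smul, smul_eq_mul] at hQz
    have hk : k = 0 := by
      have := mul_eq_zero.mp hQz
      rcases this with h | h
      · have := mul_eq_zero.mp h
        rcases this with h | h <;> exact h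
      · exact absurd h hu
    apply hz
    simp [hk]
  have hUz : ∀ x ∈ Submodule.span F {u}, polar Q x z = 0 := by
    intro x hx
    obtain ⟨k, rfl⟩ := Submodule.mem_span_singleton.mp hx
    rw [polar_smul_left, huz]
    simp
  obtain ⟨z', hQz', hzz', hU'⟩ := Cfsg.Agent.Lib.OrthRefl.Singular.exists_singular_partner Q hQ _ hzu hQz hUz
  have huz' : polar Q u z' = 0 := hU' u (Submodule.mem_span_singleton_self u)
  have hzz : polar Q z z = 0 := by rw [polar_self_eq, hQz, mul_zero]
  have hz'z : polar Q z' z = 1 := by rw [polar_comm]; exact hzz'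
  have hz'z' : polar Q z' z' = 0 := by rw [polar_self_eq, hQz', mul_zero]
  have h4 : (4 : F) ≠ 0 := by
    have : (4 : F) = 2 * 2 := by norm_num
    rw [this]
    exact mul_ne_zero h2 h2
  have hcoef : ∀ a b d : F, polar Q u (a • u + b • z + d • z') = 0 → polar Q z (a • u + b • z + d • z') = 0 →
      polar Q z' (a • u + b • z + d • z') = 0 → a = 0 ∧ b = 0 ∧ d = 0 := by
    intro a b d e3 e1 e2
    simp only [polar_add_right, polar_smul_right, hzz, hzz', polar_comm Q z u, huz, smul_eq_mul] at e1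
    simp only [polar_add_right, polar_smul_right, hz'z, hz'z', polar_comm Q z' u, huz', smul_eq_mul] at e2
    simp only [polar_add_right, polar_smul_right, huz, huz', polar_self_eq, smul_eq_mul] at e3
    refine ⟨?_, ?_, ?_⟩
    · have : a * (2 * Q u) = 0 := by linear_combination e3
      exact (mul_eq_zero.mp this).resolve_right (mul_ne_zero h2 hu)
    · linear_combination e2
    · linear_combination e1
  by_cases hq3 : Fintype.card F = 3
  · -- large dimension: the perp of the three vectors
    have hnne : n ≠ 4 := fun h => h43 ⟨h, hq3⟩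
    have hind : n ≠ 2 := by
      rintro rfl
      -- three independent vectors in a plane
      have hli : LinearIndependent F ![u, z, z'] := by
        rw [Fintype.linearIndependent_iff]
        intro g hg
        simp only [Fin.sum_univ_three, Matrix.cons_val_zero, Matrix.cons_val_one, Matrix.cons_val] at hg
        obtain ⟨h0, h1, h3⟩ := hcoef (g 0) (g 1) (g 2) (by rw [hg]; simp) (by rw [hg]; simp) (by rw [hg]; simp)
        intro i
        fin_cases i
        · exact h0
        · exact h1
        · exact h3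
      have := hli.fintype_card_le_finrank
      simp at this
    have hn6 : 6 ≤ n := by
      obtain ⟨k, hk⟩ := heven
      omega
    let L : (Fin n → F) →ₗ[F] (Fin 3 → F) :=
      LinearMap.pi ![polarBilin Q u, polarBilin Q z, polarBilin Q z']
    have hfr : 3 ≤ Module.finrank F (LinearMap.ker L) := by
      have h1 := LinearMap.finrank_range_add_finrank_ker L
      have h5 := Submodule.finrank_le (LinearMap.range L)
      simp only [Module.finrank_fin_fun] at h1 h5
      omega
    obtain ⟨e, heL, he0, hQe⟩ := Cfsg.Agent.Lib.OrthRefl.Singular.exists_singular Q hQ (LinearMap.ker L) hfr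
    have heL' : L e = 0 := heL
    have h1 : polar Q u e = 0 := congrFun heL' 0
    have h3 : polar Q z e = 0 := congrFun heL' 1
    have h5 : polar Q z' e = 0 := congrFun heL' 2
    have heU : e ∉ Submodule.span F {u, z, z'} := by
      intro h
      obtain ⟨a, b, d, rfl⟩ := Submodule.mem_span_triple.mp h
      obtain ⟨h0, h6, h7⟩ := hcoef a b d h1 h3 h5
      apply he0
      simp [h0, h6, h7]
    obtain ⟨f, hf1, hf2⟩ := exists_partner hQ _ e heU
    have hfu : polar Q u f = 0 := hf1 u (Submodule.subset_span (by simp))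
    have hfz : polar Q z f = 0 := hf1 z (Submodule.subset_span (by simp))
    have hQy : Q ((Q u - Q f) • e + f) = Q u := by
      rw [Q_add, QuadraticMap.map_smul, hQe, polar_smul_left, hf2]
      simp
    have hpu : polar Q u ((Q u - Q f) • e + f) = 0 := by
      rw [polar_add_right, polar_smul_right, h1, hfu]
      simp
    have hpz : polar Q z ((Q u - Q f) • e + f) = 0 := by
      rw [polar_add_right, polar_smul_right, h3, hfz]
      simp
    have hne : (0 : F) ^ 2 ≠ 4 * Q u * Q u := by
      rw [zero_pow two_ne_zero]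
      exact (mul_ne_zero (mul_ne_zero h4 hu) hu).symm
    refine ⟨(Q u - Q f) • e + f, hQy, ?_, ?_⟩
    · rw [hpu]
      exact hne
    · rw [polar_add_left, hpu, hpz, add_zero]
      exact hne
  · -- large field
    have hc4 : 3 < Fintype.card F := by
      have h1 : Fintype.card F ≠ 2 := card_ne_two h2
      have h3 := Fintype.one_lt_card (α := F)
      omega
    obtain ⟨γ, hγ⟩ : ∃ γ : F, γ ∉ ({0, 2 * Q u, -(2 * Q u)} : Finset F) := by
      by_contra hcon
      push Not at hcon
      have h1 : (Finset.univ : Finset F) ⊆ {0, 2 * Q u, -(2 * Q u)} := fun x _ => hcon x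
      have h3 := Finset.card_le_card h1
      rw [Finset.card_univ] at h3
      have h5 : ({0, 2 * Q u, -(2 * Q u)} : Finset F).card ≤ 3 := Finset.card_le_three
      omega
    simp only [Finset.mem_insert, Finset.mem_singleton, not_or] at hγ
    obtain ⟨hγ0, hγ1, hγ2⟩ := hγ
    have hQy : Q ((Q u / γ) • z + γ • z') = Q u := by
      rw [Q_combo, hQz, hQz', hzz']
      field_simp
      ring
    have hpu : polar Q u ((Q u / γ) • z + γ • z') = 0 := by
      rw [polar_add_right, polar_smul_right, polar_smul_right, huz, huz']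
      simp
    have hpz : polar Q z ((Q u / γ) • z + γ • z') = γ := by
      rw [polar_add_right, polar_smul_right, polar_smul_right, hzz, hzz']
      simp
    refine ⟨(Q u / γ) • z + γ • z', hQy, ?_, ?_⟩
    · rw [hpu, zero_pow two_ne_zero]
      exact (mul_ne_zero (mul_ne_zero h4 hu) hu).symm
    · rw [polar_add_left, hpu, hpz, zero_add]
      intro h
      have : (γ - 2 * Q u) * (γ + 2 * Q u) = 0 := by linear_combination h
      rcases mul_eq_zero.mp this with h | h
      · exact hγ1 (by linear_combination h)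
      · exact hγ2 (by linear_combination h)

/-- The key lemma: products of two reflections with square product of norms lie in `R`. -/
theorem key (h2 : (2 : F) ≠ 0) (hn2 : 2 ≤ n) (heven : Even n) (Q : QuadraticForm F (Fin n → F))
    (hQ : (polarBilin Q).Nondegenerate) (h43 : ¬ (n = 4 ∧ Fintype.card F = 3)) (c : F) (hc : c ≠ 0)
    {u w : Fin n → F} (hu : Q u ≠ 0) (hw : Q w ≠ 0) (hsq : IsSquare (Q u * Q w)) :
    rG Q u * rG Q w ∈ R Q c := by
  by_cases hd : (polar Q u w) ^ 2 = 4 * Q u * Q w
  · -- degenerate plane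
    obtain ⟨e, he⟩ := hsq
    have he0 : e ≠ 0 := by
      rintro rfl
      rw [mul_zero] at he
      exact mul_ne_zero hu hw he
    -- rescale
    obtain ⟨w₂, t, ht, rfl, hQw₂, hpw₂⟩ : ∃ (w₂ : Fin n → F) (t : F), t ≠ 0 ∧ w₂ = t • w ∧ Q w₂ = Q u ∧
        polar Q u w₂ = 2 * Q u := by
      have ht0 : e / Q w ≠ 0 := div_ne_zero he0 hw
      have hQ1 : Q ((e / Q w) • w) = Q u := by
        rw [QuadraticMap.map_smul, smul_eq_mul]
        field_simp
        linear_combination -he
      have hp1 : (polar Q u ((e / Q w) • w)) ^ 2 = (2 * Q u) ^ 2 := by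
        have h7 : (e / Q w) ^ 2 = Q u / Q w := by
          field_simp
          linear_combination -he
        rw [polar_smul_right, smul_eq_mul, mul_pow, hd, h7]
        field_simp
        ring
      have hfac : (polar Q u ((e / Q w) • w) - 2 * Q u) * (polar Q u ((e / Q w) • w) + 2 * Q u) = 0 := by
        linear_combination hp1
      rcases mul_eq_zero.mp hfac with h | h
      · exact ⟨_, e / Q w, ht0, rfl, hQ1, by linear_combination h⟩
      · refine ⟨_, -(e / Q w), neg_ne_zero.mpr ht0, rfl, ?_, ?_⟩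
        · rw [neg_smul, QuadraticMap.map_neg, hQ1]
        · rw [neg_smul, polar_neg_right]
          linear_combination -h
    have hr : rG Q w = rG Q (t • w) := (rG_smul Q w ht).symm
    rw [hr]
    obtain ⟨z, hz⟩ : ∃ z, z = t • w - u := ⟨_, rfl⟩
    have hw₂ : t • w = u + z := by rw [hz]; abel
    have hQz : Q z = 0 := by
      have h3 : polar Q (t • w) u = 2 * Q u := by rw [polar_comm]; exact hpw₂
      rw [hz, Q_sub, hQw₂, h3]
      ring
    have huz : polar Q u z = 0 := by
      rw [hz, polar_sub_right, hpw₂, polar_self_eq]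
      ring
    by_cases hz0 : z = 0
    · rw [hw₂, hz0, add_zero, rG_mul_self]
      exact Subgroup.one_mem _
    · obtain ⟨y, hy1, hy2, hy3⟩ := exists_connect h2 hn2 heven Q hQ h43 hu hz0 hQz huz
      have hyne : Q y ≠ 0 := hy1 ▸ hu
      have hw₂ne : Q (t • w) ≠ 0 := hQw₂ ▸ hu
      have h5 : rG Q u * rG Q (t • w) = (rG Q u * rG Q y) * (rG Q y * rG Q (t • w)) := by
        rw [mul_assoc, ← mul_assoc (rG Q y), rG_mul_self, one_mul]
      rw [h5]
      refine Subgroup.mul_mem _ (plane_case h2 Q c hc hu hyne ?_ ?_) (plane_case h2 Q c hc hyne hw₂ne ?_ ?_)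
      · rw [hy1]
        exact ⟨_, rfl⟩
      · rw [hy1]
        exact hy2
      · rw [hy1, hQw₂]
        exact ⟨_, rfl⟩
      · rw [hy1, hQw₂, polar_comm, hw₂]
        exact hy3
  · exact plane_case h2 Q c hc hu hw hsq hd

/-- The underlying linear automorphism of an isometry. -/
noncomputable def iota (Q : QuadraticForm F (Fin n → F)) (g : isometryGroup F ⇑Q) : (Fin n → F) ≃ₗ[F] (Fin n → F) :=
  (toIso Q g : isoGroup Q)

omit [Fintype F] in
theorem iota_mul (Q : QuadraticForm F (Fin n → F)) (a b : isometryGroup F ⇑Q) :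
    iota Q (a * b) = iota Q a * iota Q b := by
  simp only [iota, map_mul]
  rfl

theorem result {F : Type*} [Field F] [Fintype F] (h2 : (2 : F) ≠ 0) {n : ℕ} (hn : 2 ≤ n) (heven : Even n) (Q : QuadraticForm F (Fin n → F)) (hQ : (QuadraticMap.polarBilin Q).Nondegenerate) (h43 : ¬ (n = 4 ∧ Fintype.card F = 3)) (c : F) (hc : c ≠ 0) : (Subgroup.closure {g : ↥(Cfsg.isometryGroup F ⇑Q) | ∃ (v : Fin n → F) (t : F), t ≠ 0 ∧ Q v = c * t ^ 2 ∧ ((g : Matrix.GeneralLinearGroup (Fin n) F) : Matrix (Fin n) (Fin n) F) = Cfsg.reflectionMatrix ⇑Q v}).index = 2 := by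
  classical
  show (R Q c).index = 2
  have hcard := card_ne_two h2
  have hg := hgen Q hQ (Or.inl hcard)
  have hchar : ringChar F ≠ 2 := by
    intro h
    apply h2
    have := ringChar.Nat.cast_ringChar (R := F)
    rw [h] at this
    exact_mod_cast this
  -- the character
  let f : isometryGroup F ⇑Q →* Multiplicative (ZMod 2) :=
    MonoidHom.mk' (fun g => Multiplicative.ofAdd
      (sn Q (iota Q g) + sqc c * rp (iota Q g)))
      (fun a b => by
        have h3 : iota Q a ∈ isoGroup Q := (toIso Q a).2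
        have h5 : iota Q b ∈ isoGroup Q := (toIso Q b).2
        rw [← ofAdd_add, iota_mul, sn_mul hQ hg h3 h5, rp_mul hQ hg h3 h5]
        congr 1
        ring)
  have hfr : ∀ v, Q v ≠ 0 → f (rG Q v) = Multiplicative.ofAdd (sqc (Q v) + sqc c) := by
    intro v hv
    show Multiplicative.ofAdd (sn Q (iota Q (rG Q v)) + sqc c * rp (iota Q (rG Q v))) = _
    have hi : iota Q (rG Q v) = refl Q v := toIso_rG Q v
    rw [hi]
    obtain ⟨_, h1, h2'⟩ := rp_word hQ [v] (by simpa using hv)
    simp only [List.map_cons, List.map_nil, List.prod_cons, List.prod_nil, mul_one, List.length_cons,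
      List.length_nil, List.sum_cons, List.sum_nil, add_zero] at h1 h2'
    rw [h1, h2']
    simp
  have hle : R Q c ≤ f.ker := by
    rw [R, Subgroup.closure_le]
    rintro g ⟨v, t, ht, hv, hgv⟩
    rw [eq_rG_of_val hgv]
    have hv0 : Q v ≠ 0 := by
      rw [hv]
      exact mul_ne_zero hc (pow_ne_zero _ ht)
    rw [SetLike.mem_coe, MonoidHom.mem_ker, hfr v hv0, hv]
    have : c * t ^ 2 = t * t * c := by ring
    rw [this, sqc_mul_self_mul ht hc]
    have h0 : ∀ a : ZMod 2, a + a = 0 := by decide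
    rw [h0]
    rfl
  obtain ⟨ν, hν⟩ := FiniteField.exists_nonsquare hchar
  have hν0 : ν ≠ 0 := by
    rintro rfl
    exact hν IsSquare.zero
  obtain ⟨v₀, hv₀⟩ := exists_Q_eq h2 hn Q hQ (ν * c)
  have hv₀0 : Q v₀ ≠ 0 := by
    rw [hv₀]
    exact mul_ne_zero hν0 hc
  have hsqcv₀ : sqc (Q v₀) + sqc c = 1 := by
    rw [hv₀, sqc_mul hν0 hc, sqc_eq_one_iff.mpr hν, add_assoc]
    have h0 : ∀ a : ZMod 2, a + a = 0 := by decide
    rw [h0, add_zero]
  have hscl : ∀ v, Q v ≠ 0 → sqc (Q v) = sqc c ∨ sqc (Q v) + sqc c = 1 := by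
    intro v _
    have h0 : ∀ a b : ZMod 2, a = b ∨ a + b = 1 := by decide
    exact h0 _ _
  rw [Subgroup.index_eq_two_iff_exists_notMem_and]
  refine ⟨rG Q v₀, ?_, ?_⟩
  · intro hmem
    have := hle hmem
    rw [MonoidHom.mem_ker, hfr v₀ hv₀0, hsqcv₀] at this
    exact absurd (Multiplicative.ofAdd.injective this) (by decide)
  · intro b
    have hgoal : b ∈ R Q c ∨ b * rG Q v₀ ∈ R Q c := by
      induction b using word_induction Q hQ (Or.inl hcard) with
      | h1 => exact Or.inl (Subgroup.one_mem _)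
      | hm v g hv ih =>
        rcases hscl v hv with hcl | hcl
        · -- `v` has the class of `c`
          have hmem : rG Q v ∈ R Q c := by
            have h3 : sqc (Q v * c⁻¹) = 0 := by
              rw [sqc_mul hv (inv_ne_zero hc), sqc_inv hc, hcl]
              have h0 : ∀ a : ZMod 2, a + a = 0 := by decide
              exact h0 _
            obtain ⟨t, ht⟩ := sqc_eq_zero_iff.mp h3
            have ht0 : t ≠ 0 := by
              rintro rfl
              rw [mul_zero] at ht
              exact mul_ne_zero hv (inv_ne_zero hc) ht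
            refine rG_mem_R Q c ht0 ?_
            field_simp at ht
            linear_combination ht
          rcases ih with ih | ih
          · exact Or.inl (Subgroup.mul_mem _ hmem ih)
          · right
            rw [mul_assoc]
            exact Subgroup.mul_mem _ hmem ih
        · -- `v` has the other class
          have hsq : IsSquare (Q v * Q v₀) := by
            rw [← sqc_eq_zero_iff, sqc_mul hv hv₀0]
            have h0 : ∀ a b d : ZMod 2, a + d = 1 → b + d = 1 → a + b = 0 := by decide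
            exact h0 _ _ _ hcl hsqcv₀
          have hk := key h2 hn heven Q hQ h43 c hc hv hv₀0 hsq
          have hinv : (rG Q v₀)⁻¹ = rG Q v₀ := rG_inv Q v₀
          rcases ih with ih | ih
          · right
            have h3 : rG Q v * g * rG Q v₀ = (rG Q v * rG Q v₀) * (rG Q v₀ * g * (rG Q v₀)⁻¹) := by
              rw [hinv]
              simp only [mul_assoc]
              rw [← mul_assoc (rG Q v₀) (rG Q v₀), rG_mul_self, one_mul]
            rw [h3]
            exact Subgroup.mul_mem _ hk (conj_mem_R Q c _ ih)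
          · left
            have h3 : rG Q v * g = (rG Q v * rG Q v₀) * (rG Q v₀ * (g * rG Q v₀) * (rG Q v₀)⁻¹) := by
              rw [hinv]
              simp only [mul_assoc]
              rw [rG_mul_self, mul_one, ← mul_assoc (rG Q v₀) (rG Q v₀), rG_mul_self, one_mul]
            rw [h3]
            exact Subgroup.mul_mem _ hk (conj_mem_R Q c _ ih)
    tauto

end main

end Cfsg.Agent.S0798
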