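import Cfsg.Statements.S4866
import Cfsg.Agent.Lib.CharZeros.Twisted
import Cfsg.Agent.Lib.Char.RealChar
import Mathlib.GroupTheory.GroupAction.Quotient
import Mathlib.Tactic

set_option autoImplicit false
set_option linter.unusedSectionVars false
open Cfsg

namespace Cfsg.Agent.S4866

open Cfsg.Agent.Lib.Char.Basic Cfsg.Agent.Lib.Char.Ortho Cfsg.Agent.Lib.Char.Complete
open Cfsg.Agent.Lib.Char.Conj Cfsg.Agent.Lib.Char.FrobSchur Cfsg.Agent.Lib.Char.RealChar
open Cfsg.Agent.Lib.CharZeros.Twisted

section Aux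

variable {G : Type*} [Group G] {K : Subgroup G}

/-- Inverses of conjugates are conjugate. -/
theorem isConj_inv_inv {H : Type*} [Group H] {a b : H} (h : IsConj a b) : IsConj a⁻¹ b⁻¹ := by
  rw [isConj_iff] at h ⊢
  obtain ⟨c, hc⟩ := h
  exact ⟨c, by rw [← hc]; group⟩

/-- Action on classes. -/
noncomputable def cmap (hK : K.Normal) (g : G) : ConjClasses K → ConjClasses K :=
  ConjClasses.map (conjEquiv hK g).toMonoidHom

theorem cmap_mk (hK : K.Normal) (g : G) (x : K) :
    cmap hK g (ConjClasses.mk x) = ConjClasses.mk (conjEquiv hK g x) := rfl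

theorem cmap_one (hK : K.Normal) (C : ConjClasses K) : cmap hK 1 C = C := by
  obtain ⟨x, rfl⟩ := ConjClasses.mk_surjective C
  rw [cmap_mk]
  congr 1
  apply Subtype.ext
  simp

theorem cmap_mul (hK : K.Normal) (a b : G) (C : ConjClasses K) :
    cmap hK (a * b) C = cmap hK a (cmap hK b C) := by
  obtain ⟨x, rfl⟩ := ConjClasses.mk_surjective C
  rw [cmap_mk, cmap_mk, cmap_mk]
  congr 1
  apply Subtype.ext
  simp only [coe_conjEquiv]
  group

theorem cmap_of_mem (hK : K.Normal) {k : G} (hk : k ∈ K) (C : ConjClasses K) :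
    cmap hK k C = C := by
  obtain ⟨x, rfl⟩ := ConjClasses.mk_surjective C
  rw [cmap_mk, ConjClasses.mk_eq_mk_iff_isConj, isConj_iff]
  refine ⟨⟨k, hk⟩⁻¹, ?_⟩
  apply Subtype.ext
  simp only [Subgroup.coe_mul, coe_conjEquiv, InvMemClass.coe_inv]
  group

/-- Inversion on classes. -/
noncomputable def cinv : ConjClasses K → ConjClasses K :=
  Quotient.lift (fun x => ConjClasses.mk x⁻¹) fun _ _ h =>
    ConjClasses.mk_eq_mk_iff_isConj.mpr (isConj_inv_inv h)

theorem cinv_mk (x : K) : cinv (ConjClasses.mk x) = ConjClasses.mk x⁻¹ := rfl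

/-- Real characters. -/
abbrev RR (K : Subgroup G) := {θ : Cfsg.IrrCharacter K // ∀ k : K, ((θ : K → ℂ) k).im = 0}

/-- Real classes. -/
abbrev RC (K : Subgroup G) := {C : ConjClasses K // ∀ x : K, ConjClasses.mk x = C → IsConj x x⁻¹}

/-- The action on real characters. -/
noncomputable instance actR [hK : K.Normal] : MulAction G (RR K) where
  smul g θ := ⟨⟨conjOn hK g⁻¹ θ.1, isIrrCharacter_conjOn hK g⁻¹ θ.1.2⟩, fun _ => θ.2 _⟩
  one_smul θ := by
    apply Subtype.ext
    apply Subtype.ext
    change conjOn hK 1⁻¹ (θ.1 : K → ℂ) = _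
    rw [inv_one, conjOn_one]
  mul_smul a b θ := by
    apply Subtype.ext
    apply Subtype.ext
    change conjOn hK (a * b)⁻¹ (θ.1 : K → ℂ) = conjOn hK a⁻¹ (conjOn hK b⁻¹ (θ.1 : K → ℂ))
    rw [mul_inv_rev, conjOn_mul]

theorem smulR_coe [hK : K.Normal] (g : G) (θ : RR K) :
    ((g • θ).1 : K → ℂ) = conjOn hK g⁻¹ θ.1 := rfl

theorem real_map [hK : K.Normal] (g : G) (C : ConjClasses K)
    (hC : ∀ x : K, ConjClasses.mk x = C → IsConj x x⁻¹) :
    ∀ x : K, ConjClasses.mk x = cmap hK g C → IsConj x x⁻¹ := by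
  obtain ⟨y, rfl⟩ := ConjClasses.mk_surjective C
  intro x hx
  rw [cmap_mk, ConjClasses.mk_eq_mk_iff_isConj] at hx
  have h1 := hC y rfl
  have h2 : IsConj (conjEquiv hK g y) (conjEquiv hK g y⁻¹) :=
    (conjEquiv hK g).toMonoidHom.map_isConj h1
  rw [map_inv] at h2
  exact hx.trans (h2.trans (isConj_inv_inv hx).symm)

/-- The action on real classes. -/
noncomputable instance actC [hK : K.Normal] : MulAction G (RC K) where
  smul g C := ⟨cmap hK g C.1, real_map g C.1 C.2⟩
  one_smul C := by
    apply Subtype.ext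
    exact cmap_one hK C.1
  mul_smul a b C := by
    apply Subtype.ext
    exact cmap_mul hK a b C.1

theorem smulC_coe [hK : K.Normal] (g : G) (C : RC K) : (g • C).1 = cmap hK g C.1 := rfl

end Aux

section Main

variable {G : Type*} [Group G] [Finite G] (K : Subgroup G) [hK : K.Normal]

/-- The twisting map. -/
noncomputable def β (h : G) : K → K := fun x => conjEquiv hK h x⁻¹

theorem char_iff (hodd : Odd K.index) (h : G) (χ : Cfsg.IrrCharacter K) :
    (χ : K → ℂ) ∘ β K h = χ ↔ (∀ k : K, ((χ : K → ℂ) k).im = 0) ∧ conjOn hK h (χ : K → ℂ) = χ := by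
  classical
  let _ : Fintype K := Fintype.ofFinite K
  have hcomp : ∀ θ : Cfsg.IrrCharacter K, (θ : K → ℂ) ∘ β K h =
      fun x => conjOn hK h (θ : K → ℂ) x⁻¹ := by
    intro θ
    funext x
    rw [conjOn_eq_comp]
    rfl
  constructor
  · intro hχ
    let γ : Cfsg.IrrCharacter K → Cfsg.IrrCharacter K := fun θ =>
      ⟨conjOn hK h θ, isIrrCharacter_conjOn hK h θ.2⟩
    let ι : Cfsg.IrrCharacter K → Cfsg.IrrCharacter K := fun θ =>
      ⟨fun x => (θ : K → ℂ) x⁻¹, isIrr_inv θ.2⟩
    have hcomm : ∀ s, γ (ι s) = ι (γ s) := by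
      intro s
      apply Subtype.ext
      funext x
      simp only [γ, ι, conjOn_apply]
      refine congrArg (s : K → ℂ) (Subtype.ext ?_)
      simp [mul_assoc]
    have hι : ∀ s, ι (ι s) = s := by
      intro s
      apply Subtype.ext
      funext x
      simp [ι]
    have hiter : ∀ (n : ℕ) (s : Cfsg.IrrCharacter K),
        ((γ^[n] s : Cfsg.IrrCharacter K) : K → ℂ) = conjOn hK (h ^ n) s := by
      intro n s
      induction n with
      | zero =>
        simp [conjOn_one]
      | succ n ih =>
        rw [Function.iterate_succ_apply', pow_succ, conjOn_mul, ← ih]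
    have hγ : ∀ s, γ^[K.index] s = s := by
      intro s
      apply Subtype.ext
      rw [hiter]
      exact conjOn_of_mem hK (isClassFunction_of_isIrrCharacter s.2) (Subgroup.pow_index_mem K h)
    have hs : γ (ι χ) = χ := by
      apply Subtype.ext
      rw [hcomp] at hχ
      rw [← hχ]
      funext x
      simp only [γ, ι, conjOn_apply]
      refine congrArg (χ : K → ℂ) (Subtype.ext ?_)
      simp [mul_assoc]
    obtain ⟨h1, h2⟩ := fixed_of_odd γ ι hcomm hι hodd hγ hs
    refine ⟨?_, congrArg Subtype.val h1⟩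
    rw [isReal_iff_inv (isCharacter_of_isIrrCharacter χ.2)]
    exact (congrArg Subtype.val h2).symm
  · rintro ⟨hr, hfix⟩
    rw [hcomp, hfix]
    exact ((isReal_iff_inv (isCharacter_of_isIrrCharacter χ.2)).mp hr).symm

theorem class_iff (hodd : Odd K.index) (h : G) (C : ConjClasses K) :
    (∀ x : K, ConjClasses.mk x = C → IsConj (β K h x) x) ↔
      (∀ x : K, ConjClasses.mk x = C → IsConj x x⁻¹) ∧ cmap hK h C = C := by
  obtain ⟨y, rfl⟩ := ConjClasses.mk_surjective C
  constructor
  · intro hC
    let γ : ConjClasses K → ConjClasses K := cmap hK h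
    have hcomm : ∀ s, γ (cinv s) = cinv (γ s) := by
      intro s
      obtain ⟨z, rfl⟩ := ConjClasses.mk_surjective s
      simp only [γ, cinv_mk, cmap_mk, map_inv]
    have hι : ∀ s : ConjClasses K, cinv (cinv s) = s := by
      intro s
      obtain ⟨z, rfl⟩ := ConjClasses.mk_surjective s
      simp only [cinv_mk, inv_inv]
    have hiter : ∀ (n : ℕ) (s : ConjClasses K), γ^[n] s = cmap hK (h ^ n) s := by
      intro n s
      induction n with
      | zero => simp [cmap_one]
      | succ n ih =>
        rw [Function.iterate_succ_apply', ih, pow_succ', cmap_mul]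
    have hγ : ∀ s, γ^[K.index] s = s := by
      intro s
      rw [hiter]
      exact cmap_of_mem hK (Subgroup.pow_index_mem K h) s
    have hs : γ (cinv (ConjClasses.mk y)) = ConjClasses.mk y := by
      rw [cinv_mk]
      simp only [γ, cmap_mk]
      exact ConjClasses.mk_eq_mk_iff_isConj.mpr (hC y rfl)
    obtain ⟨h1, h2⟩ := fixed_of_odd γ cinv hcomm hι hodd hγ hs
    refine ⟨?_, h1⟩
    intro x hx
    have hxy := ConjClasses.mk_eq_mk_iff_isConj.mp hx
    have h3 : IsConj y⁻¹ y := by
      rw [cinv_mk] at h2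
      exact ConjClasses.mk_eq_mk_iff_isConj.mp h2
    exact hxy.trans (h3.symm.trans (isConj_inv_inv hxy).symm)
  · rintro ⟨hr, hfix⟩ x hx
    have hxy := ConjClasses.mk_eq_mk_iff_isConj.mp hx
    have h1 : IsConj x⁻¹ x := (hr x hx).symm
    have h2 : IsConj (conjEquiv hK h x⁻¹) (conjEquiv hK h x) :=
      (conjEquiv hK h).toMonoidHom.map_isConj h1
    have h3 : cmap hK h (ConjClasses.mk x) = ConjClasses.mk x := by rw [hx, hfix]
    rw [cmap_mk, ConjClasses.mk_eq_mk_iff_isConj] at h3
    exact h2.trans h3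

/-- The counts of fixed points agree. -/
theorem card_fix_eq (hodd : Odd K.index) (g : G) :
    Nat.card (MulAction.fixedBy (RR K) g) = Nat.card (MulAction.fixedBy (RC K) g) := by
  classical
  let h : G := g⁻¹
  have h1 : Nat.card (MulAction.fixedBy (RR K) g) =
      Nat.card {χ : Cfsg.IrrCharacter K // (χ : K → ℂ) ∘ β K h = χ} := by
    apply Nat.card_congr
    refine ⟨fun θ => ⟨θ.1.1, ?_⟩, fun χ => ⟨⟨χ.1, ((char_iff K hodd h χ.1).mp χ.2).1⟩, ?_⟩, ?_, ?_⟩
    · refine (char_iff K hodd h θ.1.1).mpr ⟨θ.1.2, ?_⟩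
      have := θ.2
      rw [MulAction.mem_fixedBy] at this
      exact congrArg (fun d : RR K => (d.1 : K → ℂ)) this
    · rw [MulAction.mem_fixedBy]
      apply Subtype.ext
      apply Subtype.ext
      exact ((char_iff K hodd h χ.1).mp χ.2).2
    · intro θ
      rfl
    · intro χ
      rfl
  have h2 : Nat.card (MulAction.fixedBy (RC K) g) =
      Nat.card {C : ConjClasses K // ∀ x : K, ConjClasses.mk x = C → IsConj (β K h x) x} := by
    have hg : ∀ C : ConjClasses K, cmap hK g C = C ↔ cmap hK h C = C := by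
      intro C
      constructor
      · intro hC
        have := cmap_mul hK h g C
        rw [inv_mul_cancel, cmap_one, hC] at this
        exact this.symm
      · intro hC
        have := cmap_mul hK g h C
        rw [mul_inv_cancel, cmap_one, hC] at this
        exact this.symm
    apply Nat.card_congr
    refine ⟨fun C => ⟨C.1.1, ?_⟩, fun D => ⟨⟨D.1, ((class_iff K hodd h D.1).mp D.2).1⟩, ?_⟩, ?_, ?_⟩
    · refine (class_iff K hodd h C.1.1).mpr ⟨C.1.2, ?_⟩
      have := C.2
      rw [MulAction.mem_fixedBy] at this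
      exact (hg _).mp (congrArg Subtype.val this)
    · rw [MulAction.mem_fixedBy]
      apply Subtype.ext
      exact (hg _).mpr ((class_iff K hodd h D.1).mp D.2).2
    · intro C
      rfl
    · intro D
      rfl
  rw [h1, h2]
  apply card_fixed_irr_eq_card_classes
  · intro χ hχ
    let _ : Fintype K := Fintype.ofFinite K
    have : χ ∘ β K h = fun x => conjOn hK h χ x⁻¹ := by
      funext x
      rw [conjOn_eq_comp]
      rfl
    rw [this]
    exact isIrr_inv (isIrrCharacter_conjOn hK h hχ)
  · intro a b hab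
    have h3 : IsConj (β K h a) (β K h b) :=
      (conjEquiv hK h).toMonoidHom.map_isConj (isConj_inv_inv hab)
    exact ⟨fun h4 => h3.symm.trans (h4.trans hab), fun h4 => h3.trans (h4.trans hab.symm)⟩

/-- Burnside's lemma with `Nat.card`. -/
theorem burnside (X : Type*) [MulAction G X] [Finite X] :
    ∑ᶠ g : G, Nat.card (MulAction.fixedBy X g) =
      Nat.card (MulAction.orbitRel.Quotient G X) * Nat.card G := by
  classical
  let _ := Fintype.ofFinite G
  let _ := Fintype.ofFinite X
  let _ : ∀ g : G, Fintype (MulAction.fixedBy X g) := fun g => Fintype.ofFinite _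
  let _ : Fintype (MulAction.orbitRel.Quotient G X) := Fintype.ofFinite _
  have h := MulAction.sum_card_fixedBy_eq_card_orbits_mul_card_group (G := G) (X := X)
  rw [finsum_eq_sum_of_fintype]
  simp only [Nat.card_eq_fintype_card]
  exact h

end Main

/-- Let K be a normal subgroup of odd index in the finite group G. Then G has as many orbits on the real-valued irreducible complex characters of K (acting by conjugation) as it has orbits on the conjugacy classes of K that are real in K; equivalently, the number of G-orbits of real-valued irreducible characters of K equals the number of G-conjugacy classes of elements of K that are conjugate in K to their inverses. -/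
theorem result {G : Type*} [Group G] [Finite G] (K : Subgroup G) [K.Normal] (hodd : Odd K.index) : Nat.card (Quot (fun θ η : {θ : Cfsg.IrrCharacter ↥K // (∀ k : ↥K, ((θ : ↥K → ℂ) k).im = 0)} => ∃ g : G, ∀ k k' : ↥K, (k' : G) = g * (k : G) * g⁻¹ → (η.1 : ↥K → ℂ) k' = (θ.1 : ↥K → ℂ) k)) = Nat.card (Quot (fun x y : {x : ↥K // IsConj x x⁻¹} => ∃ g : G, (y.1 : G) = g * x.1 * g⁻¹)) := by
  classical
  have := finite_irrCharacter (G := K)
  have hfinR : Finite (RR K) := inferInstance
  have hfinC : Finite (RC K) := inferInstance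
  have hB1 := burnside (G := G) (RR K)
  have hB2 := burnside (G := G) (RC K)
  have hsum : ∑ᶠ g : G, Nat.card (MulAction.fixedBy (RR K) g) =
      ∑ᶠ g : G, Nat.card (MulAction.fixedBy (RC K) g) :=
    finsum_congr fun g => card_fix_eq K hodd g
  rw [hB1, hB2] at hsum
  have horb : Nat.card (MulAction.orbitRel.Quotient G (RR K)) =
      Nat.card (MulAction.orbitRel.Quotient G (RC K)) :=
    Nat.eq_of_mul_eq_mul_right Nat.card_pos hsum
  have hK : K.Normal := inferInstance
  -- the left quotient
  have hL : Nat.card (Quot (fun θ η : {θ : Cfsg.IrrCharacter ↥K // (∀ k : ↥K, ((θ : ↥K → ℂ) k).im = 0)} =>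
      ∃ g : G, ∀ k k' : ↥K, (k' : G) = g * (k : G) * g⁻¹ → (η.1 : ↥K → ℂ) k' = (θ.1 : ↥K → ℂ) k)) =
      Nat.card (MulAction.orbitRel.Quotient G (RR K)) := by
    apply Nat.card_congr
    refine Quot.congr (Equiv.refl _) fun a b => ?_
    change _ ↔ a ∈ MulAction.orbit G b
    constructor
    · rintro ⟨g, hg⟩
      refine ⟨g⁻¹, ?_⟩
      apply Subtype.ext
      apply Subtype.ext
      funext k
      change conjOn hK g⁻¹⁻¹ (b.1 : K → ℂ) k = _
      rw [inv_inv, conjOn_apply]
      exact hg k _ rfl
    · rintro ⟨g, rfl⟩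
      refine ⟨g⁻¹, fun k k' hk => ?_⟩
      change (b.1 : K → ℂ) k' = conjOn hK g⁻¹ (b.1 : K → ℂ) k
      rw [conjOn_apply]
      exact congrArg (b.1 : K → ℂ) (Subtype.ext hk)
  -- the right quotient
  have hR : Nat.card (Quot (fun x y : {x : ↥K // IsConj x x⁻¹} => ∃ g : G, (y.1 : G) = g * x.1 * g⁻¹)) =
      Nat.card (MulAction.orbitRel.Quotient G (RC K)) := by
    apply Nat.card_congr
    let F0 : {x : ↥K // IsConj x x⁻¹} → MulAction.orbitRel.Quotient G (RC K) := fun x =>
      Quotient.mk _ ⟨ConjClasses.mk x.1, fun z hz => (real_class_iff x.1).mpr x.2.symm z hz⟩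
    let F : Quot (fun x y : {x : ↥K // IsConj x x⁻¹} => ∃ g : G, (y.1 : G) = g * x.1 * g⁻¹) →
        MulAction.orbitRel.Quotient G (RC K) := Quot.lift F0 (by
      rintro a b ⟨g, hg⟩
      apply Quotient.sound
      change _ ∈ MulAction.orbit G _
      refine ⟨g⁻¹, ?_⟩
      apply Subtype.ext
      rw [smulC_coe]
      change cmap hK g⁻¹ (ConjClasses.mk b.1) = ConjClasses.mk a.1
      rw [cmap_mk]
      congr 1
      apply Subtype.ext
      rw [coe_conjEquiv, hg]
      group)
    refine Equiv.ofBijective F ⟨?_, ?_⟩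
    · intro a b
      induction a using Quot.ind with
      | mk a =>
      induction b using Quot.ind with
      | mk b =>
      intro hab
      have h1 : F0 a = F0 b := hab
      have h2 := Quotient.exact h1
      obtain ⟨g, hg⟩ : _ ∈ MulAction.orbit G _ := h2
      have h3 : cmap hK g (ConjClasses.mk b.1) = ConjClasses.mk a.1 := congrArg Subtype.val hg
      rw [cmap_mk, ConjClasses.mk_eq_mk_iff_isConj, isConj_iff] at h3
      obtain ⟨c, hc⟩ := h3
      apply Quot.sound
      refine ⟨((c : G) * g)⁻¹, ?_⟩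
      have h4 := congrArg Subtype.val hc
      simp only [Subgroup.coe_mul, coe_conjEquiv, InvMemClass.coe_inv] at h4
      rw [← h4]
      group
    · intro C
      induction C using Quotient.inductionOn with
      | h C =>
      obtain ⟨C, hC⟩ := C
      obtain ⟨y, rfl⟩ := ConjClasses.mk_surjective C
      exact ⟨Quot.mk _ ⟨y, hC y rfl⟩, rfl⟩
  rw [hL, hR, horb]

end Cfsg.Agent.S4866
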