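import Cfsg.Statements.S4911
import Cfsg.Agent.Lib.CharZeros.PermMatrix
import Cfsg.Agent.Lib.CharZeros.Twisted
import Cfsg.Agent.Lib.Char.RealChar
import Mathlib.Tactic

set_option autoImplicit false
open Cfsg

set_option linter.unusedSectionVars false
set_option linter.style.haveILetI false

namespace Cfsg.Agent.S4911

open Cfsg.Agent.Lib.Char.Basic Cfsg.Agent.Lib.Char.Ortho Cfsg.Agent.Lib.Char.Complete
open Cfsg.Agent.Lib.Char.Conj Cfsg.Agent.Lib.Char.FrobSchur Cfsg.Agent.Lib.Char.RealChar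
open Cfsg.Agent.Lib.CharZeros.PermMatrix
open scoped ComplexConjugate

section Setup

variable {G : Type*} [Group G] {K P : Subgroup G}

/-- Inverses of conjugates are conjugate. -/
theorem isConj_inv_inv {H : Type*} [Group H] {a b : H} (h : IsConj a b) : IsConj a⁻¹ b⁻¹ := by
  rw [isConj_iff] at h ⊢
  obtain ⟨c, hc⟩ := h
  exact ⟨c, by rw [← hc]; group⟩

/-- Inversion on classes. -/
noncomputable def cinv {H : Type*} [Group H] : ConjClasses H → ConjClasses H :=
  Quotient.lift (fun x => ConjClasses.mk x⁻¹) fun _ _ h =>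
    ConjClasses.mk_eq_mk_iff_isConj.mpr (isConj_inv_inv h)

theorem cinv_mk {H : Type*} [Group H] (x : H) : cinv (ConjClasses.mk x) = ConjClasses.mk x⁻¹ := rfl

variable (hPK : P ≤ Subgroup.normalizer (K : Set G))

include hPK in
theorem conj_mem (u : P) (k : K) : (u : G) * k * (u : G)⁻¹ ∈ K :=
  (Subgroup.mem_set_normalizer_iff.mp (hPK u.2) (k : G)).mp k.2

/-- The automorphism of `K` induced by an element of `P`. -/
def conjK (u : P) : K ≃* K where
  toFun k := ⟨(u : G) * k * (u : G)⁻¹, conj_mem hPK u k⟩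
  invFun k := ⟨(u : G)⁻¹ * k * u, by
    have := conj_mem hPK u⁻¹ k
    simpa using this⟩
  left_inv k := by
    apply Subtype.ext
    simp only
    group
  right_inv k := by
    apply Subtype.ext
    simp only
    group
  map_mul' a b := by
    apply Subtype.ext
    simp only [Subgroup.coe_mul]
    group

@[simp] theorem coe_conjK (u : P) (k : K) : (conjK hPK u k : G) = (u : G) * k * (u : G)⁻¹ := rfl

theorem conjK_mul (u v : P) (k : K) : conjK hPK (u * v) k = conjK hPK u (conjK hPK v k) := by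
  apply Subtype.ext
  simp only [coe_conjK, Subgroup.coe_mul]
  group

theorem conjK_one (k : K) : conjK hPK 1 k = k := by
  apply Subtype.ext
  simp

theorem conjK_inv_apply (u : P) (k : K) : conjK hPK u⁻¹ (conjK hPK u k) = k := by
  rw [← conjK_mul, inv_mul_cancel, conjK_one]

theorem conjK_apply_inv (u : P) (k : K) : conjK hPK u (conjK hPK u⁻¹ k) = k := by
  rw [← conjK_mul, mul_inv_cancel, conjK_one]

/-- The action on characters. -/
noncomputable def actX : MulAction P (Cfsg.IrrCharacter K) where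
  smul u χ := ⟨(χ : K → ℂ) ∘ conjK hPK u⁻¹,
    isIrrCharacter_comp_mulEquiv (conjK hPK u⁻¹) χ.2⟩
  one_smul χ := by
    apply Subtype.ext
    funext k
    change (χ : K → ℂ) (conjK hPK 1⁻¹ k) = _
    rw [inv_one, conjK_one]
  mul_smul a b χ := by
    apply Subtype.ext
    funext k
    change (χ : K → ℂ) (conjK hPK (a * b)⁻¹ k) = (χ : K → ℂ) (conjK hPK b⁻¹ (conjK hPK a⁻¹ k))
    rw [mul_inv_rev, conjK_mul]

/-- The action on classes. -/
noncomputable def actY : MulAction P (ConjClasses K) where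
  smul u C := ConjClasses.map (conjK hPK u).toMonoidHom C
  one_smul C := by
    obtain ⟨x, rfl⟩ := ConjClasses.mk_surjective C
    change ConjClasses.mk (conjK hPK 1 x) = _
    rw [conjK_one]
  mul_smul a b C := by
    obtain ⟨x, rfl⟩ := ConjClasses.mk_surjective C
    change ConjClasses.mk (conjK hPK (a * b) x) = ConjClasses.mk (conjK hPK a (conjK hPK b x))
    rw [conjK_mul]

/-- A representative. -/
noncomputable def rep (C : ConjClasses K) : K := (ConjClasses.mk_surjective C).choose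

theorem mk_rep (C : ConjClasses K) : ConjClasses.mk (rep C) = C :=
  (ConjClasses.mk_surjective C).choose_spec

/-- The size of a class. -/
noncomputable def wt (C : ConjClasses K) : ℕ := Nat.card {k : K // ConjClasses.mk k = C}

end Setup

section Main

variable {G : Type*} [Group G] [Finite G] {K P : Subgroup G}

theorem irr_eq_of_isConj (χ : Cfsg.IrrCharacter K) {a b : K} (h : IsConj a b) :
    (χ : K → ℂ) a = (χ : K → ℂ) b :=
  isClassFunction_iff_isConj.mp (isClassFunction_of_isIrrCharacter χ.2) a b h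

theorem isIntegral_irr (χ : Cfsg.IrrCharacter K) (k : K) : IsIntegral ℤ ((χ : K → ℂ) k) := by
  obtain ⟨χ, n, ρ, hρ, rfl⟩ := χ
  exact Cfsg.Agent.Lib.Char.Eigen.character_isIntegral ρ k

/-- The character table over the algebraic integers. -/
noncomputable def tabA (χ : Cfsg.IrrCharacter K) (C : ConjClasses K) : Cfsg.AlgInt :=
  ⟨(χ : K → ℂ) (rep C), isIntegral_irr χ _⟩

/-- The inverse table. -/
noncomputable def tabB (C : ConjClasses K) (χ : Cfsg.IrrCharacter K) : Cfsg.AlgInt :=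
  (wt C : Cfsg.AlgInt) * ⟨(χ : K → ℂ) (rep C)⁻¹, isIntegral_irr χ _⟩

theorem tabA_coe (χ : Cfsg.IrrCharacter K) (C : ConjClasses K) :
    ((tabA χ C : Cfsg.AlgInt) : ℂ) = (χ : K → ℂ) (rep C) := rfl

theorem tabB_coe (C : ConjClasses K) (χ : Cfsg.IrrCharacter K) :
    ((tabB C χ : Cfsg.AlgInt) : ℂ) = (wt C : ℂ) * conj ((χ : K → ℂ) (rep C)) := by
  simp only [tabB]
  push_cast
  rw [← char_inv_eq_conj (isCharacter_of_isIrrCharacter χ.2)]

theorem sum_over_classes [Fintype K] [Fintype (ConjClasses K)] (f : K → ℂ)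
    (hf : ∀ a b : K, IsConj a b → f a = f b) :
    ∑ k : K, f k = ∑ C : ConjClasses K, (wt C : ℂ) * f (rep C) := by
  classical
  rw [← Finset.sum_fiberwise Finset.univ (fun k : K => ConjClasses.mk k)]
  refine Finset.sum_congr rfl fun C _ => ?_
  rw [Finset.sum_congr rfl (g := fun _ => f (rep C))]
  · rw [Finset.sum_const, nsmul_eq_mul]
    congr 1
    rw [wt, Nat.card_eq_fintype_card, Fintype.card_subtype]
  · intro k hk
    have hk' : ConjClasses.mk k = C := (Finset.mem_filter.mp hk).2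
    apply hf
    rw [← ConjClasses.mk_eq_mk_iff_isConj, hk', mk_rep]

theorem wt_mul_card_centralizer (C : ConjClasses K) :
    wt C * Nat.card (Subgroup.centralizer ({rep C} : Set K)) = Nat.card K := by
  have h := card_isConj_mul_card_centralizer (rep C)
  have h2 : wt C = Nat.card {x : K // IsConj x (rep C)} := by
    apply Nat.card_congr
    refine Equiv.subtypeEquivRight fun x => ?_
    rw [← ConjClasses.mk_eq_mk_iff_isConj, mk_rep]
  rw [h2, h]

theorem rep_conj (C : ConjClasses K) : IsConj (rep C) (rep C) := IsConj.refl _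

end Main

section Table

variable {G : Type*} [Group G] [Finite G] {K P : Subgroup G}
  (hPK : P ≤ Subgroup.normalizer (K : Set G))

/-- The action on characters, explicitly. -/
noncomputable def sX (u : P) (χ : Cfsg.IrrCharacter K) : Cfsg.IrrCharacter K :=
  ⟨(χ : K → ℂ) ∘ conjK hPK u⁻¹, isIrrCharacter_comp_mulEquiv (conjK hPK u⁻¹) χ.2⟩

/-- The action on classes, explicitly. -/
noncomputable def sY (u : P) (C : ConjClasses K) : ConjClasses K :=
  ConjClasses.map (conjK hPK u).toMonoidHom C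

theorem sX_apply (u : P) (χ : Cfsg.IrrCharacter K) (k : K) :
    ((sX hPK u χ : Cfsg.IrrCharacter K) : K → ℂ) k = (χ : K → ℂ) (conjK hPK u⁻¹ k) := rfl

theorem sY_mk (u : P) (x : K) : sY hPK u (ConjClasses.mk x) = ConjClasses.mk (conjK hPK u x) := rfl

theorem isConj_conjK (u : P) {a b : K} (h : IsConj a b) : IsConj (conjK hPK u a) (conjK hPK u b) :=
  (conjK hPK u).toMonoidHom.map_isConj h

theorem isConj_rep_sY (u : P) (C : ConjClasses K) :
    IsConj (rep (sY hPK u C)) (conjK hPK u (rep C)) := by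
  rw [← ConjClasses.mk_eq_mk_iff_isConj, mk_rep, ← sY_mk, mk_rep]

theorem isConj_conjK_rep_sY (u : P) (C : ConjClasses K) :
    IsConj (conjK hPK u⁻¹ (rep (sY hPK u C))) (rep C) := by
  have h := isConj_conjK hPK u⁻¹ (isConj_rep_sY hPK u C)
  rwa [conjK_inv_apply] at h

theorem wt_sY (u : P) (C : ConjClasses K) : wt (sY hPK u C) = wt C := by
  symm
  apply Nat.card_congr
  refine (conjK hPK u).toEquiv.subtypeEquiv fun k => ?_
  constructor
  · intro h
    change ConjClasses.mk (conjK hPK u k) = _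
    rw [← sY_mk, h]
  · intro h
    have h1 : ConjClasses.mk (conjK hPK u k) = sY hPK u C := h
    have h2 := congrArg (sY hPK u⁻¹) h1
    rw [sY_mk, conjK_inv_apply] at h2
    rw [h2]
    obtain ⟨x, rfl⟩ := ConjClasses.mk_surjective C
    rw [sY_mk, sY_mk, conjK_inv_apply]

theorem tabA_inv (u : P) (χ : Cfsg.IrrCharacter K) (C : ConjClasses K) :
    tabA (sX hPK u χ) (sY hPK u C) = tabA χ C := by
  apply Subtype.ext
  change (χ : K → ℂ) (conjK hPK u⁻¹ (rep (sY hPK u C))) = (χ : K → ℂ) (rep C)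
  exact irr_eq_of_isConj χ (isConj_conjK_rep_sY hPK u C)

theorem tabB_inv (u : P) (χ : Cfsg.IrrCharacter K) (C : ConjClasses K) :
    tabB (sY hPK u C) (sX hPK u χ) = tabB C χ := by
  simp only [tabB, wt_sY]
  congr 1
  apply Subtype.ext
  change (χ : K → ℂ) (conjK hPK u⁻¹ (rep (sY hPK u C))⁻¹) = (χ : K → ℂ) (rep C)⁻¹
  rw [map_inv]
  exact irr_eq_of_isConj χ (isConj_inv_inv (isConj_conjK_rep_sY hPK u C))

theorem table_row [Fintype K] [Fintype (ConjClasses K)] [DecidableEq (Cfsg.IrrCharacter K)]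
    (χ θ : Cfsg.IrrCharacter K) :
    ∑ C : ConjClasses K, tabA χ C * tabB C θ =
      if χ = θ then (Nat.card K : Cfsg.AlgInt) else 0 := by
  apply Subtype.ext
  have h1 := classInner_irr χ.2 θ.2
  rw [classInner_def] at h1
  have hcard : (Nat.card K : ℂ) ≠ 0 := card_ne_zero_complex
  have h2 : ∑ k : K, (χ : K → ℂ) k * conj ((θ : K → ℂ) k) =
      (Nat.card K : ℂ) * (if (χ : K → ℂ) = (θ : K → ℂ) then 1 else 0) := by
    rw [← h1]
    field_simp
  rw [sum_over_classes (fun k => (χ : K → ℂ) k * conj ((θ : K → ℂ) k))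
    (fun a b hab => by
      rw [irr_eq_of_isConj χ hab, irr_eq_of_isConj θ hab])] at h2
  have hcoe : ((∑ C : ConjClasses K, tabA χ C * tabB C θ : Cfsg.AlgInt) : ℂ) =
      ∑ C : ConjClasses K, ((tabA χ C : Cfsg.AlgInt) : ℂ) * ((tabB C θ : Cfsg.AlgInt) : ℂ) := by
    push_cast
    rfl
  rw [hcoe]
  simp only [tabA_coe, tabB_coe]
  have h3 : ∑ C : ConjClasses K, (χ : K → ℂ) (rep C) * ((wt C : ℂ) * conj ((θ : K → ℂ) (rep C))) =
      ∑ C : ConjClasses K, (wt C : ℂ) * ((χ : K → ℂ) (rep C) * conj ((θ : K → ℂ) (rep C))) :=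
    Finset.sum_congr rfl fun C _ => by ring
  rw [h3, h2]
  by_cases h : χ = θ
  · subst h
    simp
  · have h' : (χ : K → ℂ) ≠ (θ : K → ℂ) := fun h'' => h (Subtype.ext h'')
    simp [h, h']

theorem table_col [Fintype K] [Fintype (ConjClasses K)] [Fintype (Cfsg.IrrCharacter K)]
    [DecidableEq (ConjClasses K)] (C C' : ConjClasses K) :
    ∑ χ : Cfsg.IrrCharacter K, tabB C χ * tabA χ C' =
      if C = C' then (Nat.card K : Cfsg.AlgInt) else 0 := by
  apply Subtype.ext
  have h1 := sum_irr_mul_conj (rep C') (rep C)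
  have hcoe : ((∑ χ : Cfsg.IrrCharacter K, tabB C χ * tabA χ C' : Cfsg.AlgInt) : ℂ) =
      ∑ χ : Cfsg.IrrCharacter K, ((tabB C χ : Cfsg.AlgInt) : ℂ) * ((tabA χ C' : Cfsg.AlgInt) : ℂ) := by
    push_cast
    rfl
  rw [hcoe]
  simp only [tabA_coe, tabB_coe]
  have h3 : ∑ χ : Cfsg.IrrCharacter K, (wt C : ℂ) * conj ((χ : K → ℂ) (rep C)) * (χ : K → ℂ) (rep C') =
      (wt C : ℂ) * ∑ χ : Cfsg.IrrCharacter K, (χ : K → ℂ) (rep C') * conj ((χ : K → ℂ) (rep C)) := by
    rw [Finset.mul_sum]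
    exact Finset.sum_congr rfl fun χ _ => by ring
  rw [h3, h1]
  have hconj : IsConj (rep C') (rep C) ↔ C = C' := by
    rw [← ConjClasses.mk_eq_mk_iff_isConj, mk_rep, mk_rep, eq_comm]
  by_cases h : C = C'
  · have h' : IsConj (rep C') (rep C) := hconj.mpr h
    rw [if_pos h', if_pos h]
    have := wt_mul_card_centralizer C
    push_cast
    rw [← this]
    push_cast
    rfl
  · have h' : ¬ IsConj (rep C') (rep C) := fun h'' => h (hconj.mp h'')
    rw [if_neg h', if_neg h]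
    simp

end Table

section Count

variable {G : Type*} [Group G] [Finite G] {K P : Subgroup G}
  (hPK : P ≤ Subgroup.normalizer (K : Set G))

/-- The inverse character. -/
noncomputable def iX (χ : Cfsg.IrrCharacter K) : Cfsg.IrrCharacter K :=
  letI : Fintype K := Fintype.ofFinite K
  ⟨fun k => (χ : K → ℂ) k⁻¹, isIrr_inv χ.2⟩

theorem iX_apply (χ : Cfsg.IrrCharacter K) (k : K) :
    ((iX χ : Cfsg.IrrCharacter K) : K → ℂ) k = (χ : K → ℂ) k⁻¹ := rfl

theorem real_iff (χ : Cfsg.IrrCharacter K) : (∀ k : K, ((χ : K → ℂ) k).im = 0) ↔ iX χ = χ := by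
  rw [isReal_iff_inv (isCharacter_of_isIrrCharacter χ.2)]
  constructor
  · intro h
    apply Subtype.ext
    exact h.symm
  · intro h
    have := congrArg Subtype.val h
    exact this.symm

theorem inv_iff (χ : Cfsg.IrrCharacter K) :
    (∀ x ∈ P, ∀ k k' : K, (k' : G) = x * (k : G) * x⁻¹ → (χ : K → ℂ) k' = (χ : K → ℂ) k) ↔
      ∀ u : P, sX hPK u χ = χ := by
  constructor
  · intro h u
    apply Subtype.ext
    funext k
    rw [sX_apply]
    refine (h (u : G) u.2 (conjK hPK u⁻¹ k) k ?_).symm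
    have := conjK_apply_inv hPK u k
    rw [← this, coe_conjK, conjK_apply_inv]
  · intro h x hx k k' hk
    have h1 := h ⟨x, hx⟩
    have h2 : k' = conjK hPK ⟨x, hx⟩ k := Subtype.ext hk
    have h3 := sX_apply hPK ⟨x, hx⟩ χ k'
    rw [h1, h2, conjK_inv_apply] at h3
    rw [h2]
    exact h3

theorem creal_iff (C : ConjClasses K) :
    (∀ k : K, ConjClasses.mk k = C → IsConj k k⁻¹) ↔ cinv C = C := by
  obtain ⟨h, rfl⟩ := ConjClasses.mk_surjective C
  rw [real_class_iff, cinv_mk, ConjClasses.mk_eq_mk_iff_isConj]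

theorem cinv_iff (C : ConjClasses K) :
    (∀ k : K, ConjClasses.mk k = C → ∀ x ∈ P, ∀ k' : K, (k' : G) = x * (k : G) * x⁻¹ →
        ConjClasses.mk k' = C) ↔ ∀ u : P, sY hPK u C = C := by
  constructor
  · intro h u
    obtain ⟨k, rfl⟩ := ConjClasses.mk_surjective C
    rw [sY_mk]
    exact h k rfl u u.2 _ rfl
  · rintro h k rfl x hx k' hk
    have h1 := h ⟨x, hx⟩
    rw [sY_mk] at h1
    rw [← h1]
    exact congrArg _ (Subtype.ext hk)

theorem sY_cinv (u : P) (C : ConjClasses K) : sY hPK u (cinv C) = cinv (sY hPK u C) := by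
  obtain ⟨k, rfl⟩ := ConjClasses.mk_surjective C
  rw [cinv_mk, sY_mk, sY_mk, cinv_mk, map_inv]

theorem sX_iX (u : P) (χ : Cfsg.IrrCharacter K) : sX hPK u (iX χ) = iX (sX hPK u χ) := by
  apply Subtype.ext
  funext k
  change (χ : K → ℂ) (conjK hPK u⁻¹ k)⁻¹ = (χ : K → ℂ) (conjK hPK u⁻¹ k⁻¹)
  rw [map_inv]

theorem tabA_iX (χ : Cfsg.IrrCharacter K) (C : ConjClasses K) :
    tabA (iX χ) C = tabA χ (cinv C) := by
  apply Subtype.ext
  change (χ : K → ℂ) (rep C)⁻¹ = (χ : K → ℂ) (rep (cinv C))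
  apply irr_eq_of_isConj
  rw [← ConjClasses.mk_eq_mk_iff_isConj, mk_rep, ← cinv_mk, mk_rep]

/-- There is a maximal ideal of the algebraic integers containing `p`. -/
theorem exists_maximal_ideal (p : ℕ) (hp : p.Prime) :
    ∃ M : Ideal Cfsg.AlgInt, M.IsMaximal ∧ (p : Cfsg.AlgInt) ∈ M := by
  have hne : Ideal.span {(p : Cfsg.AlgInt)} ≠ ⊤ := by
    intro h
    rw [Ideal.span_singleton_eq_top] at h
    obtain ⟨a, ha⟩ := h.exists_right_inv
    have h1 : (p : ℂ) * ((a : Cfsg.AlgInt) : ℂ) = 1 := by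
      have := congrArg (Subtype.val) ha
      simpa using this
    have h2 : IsIntegral ℤ (((1 : ℕ) : ℂ) / (p : ℂ)) := by
      have hp0 : (p : ℂ) ≠ 0 := by exact_mod_cast hp.ne_zero
      have : ((1 : ℕ) : ℂ) / (p : ℂ) = ((a : Cfsg.AlgInt) : ℂ) := by
        field_simp
        push_cast
        linear_combination -h1
      rw [this]
      exact a.2
    have h3 := Cfsg.Agent.Lib.Char.Central.nat_dvd_of_isIntegral_div hp.ne_zero h2
    exact hp.one_lt.ne' (Nat.dvd_one.mp h3)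
  obtain ⟨M, hM, hle⟩ := Ideal.exists_le_maximal _ hne
  exact ⟨M, hM, hle (Ideal.subset_span rfl)⟩

theorem count_eq (p : ℕ) [hp : Fact p.Prime] (hP : IsPGroup p P) (hK : ¬ p ∣ Nat.card K) :
    Nat.card {χ : Cfsg.IrrCharacter K // (∀ u : P, sX hPK u χ = χ) ∧ iX χ = χ} =
      Nat.card {C : ConjClasses K // (∀ u : P, sY hPK u C = C) ∧ cinv C = C} := by
  classical
  letI : Fintype K := Fintype.ofFinite K
  letI : Fintype (ConjClasses K) := Fintype.ofFinite _
  have := finite_irrCharacter (G := K)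
  letI : Fintype (Cfsg.IrrCharacter K) := Fintype.ofFinite _
  letI := actX hPK
  letI := actY hPK
  obtain ⟨M, hM, hpM⟩ := exists_maximal_ideal p hp.out
  letI : Field (Cfsg.AlgInt ⧸ M) := Ideal.Quotient.field M
  have hpk : ((p : ℕ) : Cfsg.AlgInt ⧸ M) = 0 := by
    have : Ideal.Quotient.mk M (p : Cfsg.AlgInt) = 0 := Ideal.Quotient.eq_zero_iff_mem.mpr hpM
    simpa using this
  have ha : Ideal.Quotient.mk M (Nat.card K : Cfsg.AlgInt) ≠ 0 := by
    intro h0
    have h1 : (Nat.card K : Cfsg.AlgInt) ∈ M := Ideal.Quotient.eq_zero_iff_mem.mp h0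
    have hcop : IsCoprime (p : ℤ) (Nat.card K : ℤ) :=
      Nat.isCoprime_iff_coprime.mpr ((Nat.Prime.coprime_iff_not_dvd hp.out).mpr hK)
    obtain ⟨a, b, hab⟩ := hcop
    have h2 : (1 : Cfsg.AlgInt) ∈ M := by
      have h3 : ((a * p + b * Nat.card K : ℤ) : Cfsg.AlgInt) = 1 := by
        rw [hab]
        simp
      rw [← h3]
      push_cast
      exact M.add_mem (M.mul_mem_left _ hpM) (M.mul_mem_left _ h1)
    exact hM.ne_top ((Ideal.eq_top_iff_one M).mpr h2)
  exact card_fixed_fixed_eq (P := P) (X := Cfsg.IrrCharacter K) (Y := ConjClasses K)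
    (R := Cfsg.AlgInt) (k := Cfsg.AlgInt ⧸ M) hP hpk (Ideal.Quotient.mk M)
    (Cfsg.AlgInt.val : Cfsg.AlgInt →ₐ[ℤ] ℂ).toRingHom Subtype.val_injective
    tabA tabB (Nat.card K : Cfsg.AlgInt) ha
    (fun u x y => tabA_inv hPK u x y)
    (fun u y x => tabB_inv hPK u x y)
    (fun x x' => table_row x x')
    (fun y y' => table_col y y')
    iX cinv
    (fun x hx u => by
      have h1 : sX hPK u (iX x) = iX (sX hPK u x) := sX_iX hPK u x
      have h2 : sX hPK u x = x := hx u
      change sX hPK u (iX x) = iX x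
      rw [h1, h2])
    (fun y hy u => by
      have h1 : sY hPK u (cinv y) = cinv (sY hPK u y) := sY_cinv hPK u y
      have h2 : sY hPK u y = y := hy u
      change sY hPK u (cinv y) = cinv y
      rw [h1, h2])
    tabA_iX

end Count

/-- Let P and K be subgroups of a finite group with P a p-group normalizing K and K of order prime to p. Then the number of P-invariant real-valued irreducible complex characters of K equals the number of conjugacy classes of K that are real (closed under inversion) and P-invariant. Moreover, if every real-valued irreducible character of K is P-invariant, then every real element of K (one conjugate in K to its inverse) is conjugate in K to an element centralized by P. -/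
theorem result {G : Type*} [Group G] [Finite G] (p : ℕ) [Fact p.Prime] (P K : Subgroup G) (hP : IsPGroup p ↥P) (hK : ¬ p ∣ Nat.card ↥K) (hPK : P ≤ Subgroup.normalizer (K : Set G)) : Nat.card {θ : Cfsg.IrrCharacter ↥K // (∀ k : ↥K, ((θ : ↥K → ℂ) k).im = 0) ∧ (∀ x ∈ P, ∀ k k' : ↥K, (k' : G) = x * (k : G) * x⁻¹ → (θ : ↥K → ℂ) k' = (θ : ↥K → ℂ) k)} = Nat.card {c : ConjClasses ↥K // (∀ k : ↥K, ConjClasses.mk k = c → IsConj k k⁻¹) ∧ ∀ k : ↥K, ConjClasses.mk k = c → ∀ x ∈ P, ∀ k' : ↥K, (k' : G) = x * (k : G) * x⁻¹ → ConjClasses.mk k' = c} ∧ ((∀ θ : Cfsg.IrrCharacter ↥K, (∀ k : ↥K, ((θ : ↥K → ℂ) k).im = 0) → (∀ x ∈ P, ∀ k k' : ↥K, (k' : G) = x * (k : G) * x⁻¹ → (θ : ↥K → ℂ) k' = (θ : ↥K → ℂ) k)) → ∀ k : ↥K, IsConj k k⁻¹ → ∃ k' : ↥K, IsConj k k' ∧ ∀ x ∈ P, x * (k' : G) * x⁻¹ = (k' : G)) := by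
  classical
  have h_count := count_eq hPK p hP hK
  have hfirst : Nat.card {θ : Cfsg.IrrCharacter ↥K // (∀ k : ↥K, ((θ : ↥K → ℂ) k).im = 0) ∧ (∀ x ∈ P, ∀ k k' : ↥K, (k' : G) = x * (k : G) * x⁻¹ → (θ : ↥K → ℂ) k' = (θ : ↥K → ℂ) k)} = Nat.card {c : ConjClasses ↥K // (∀ k : ↥K, ConjClasses.mk k = c → IsConj k k⁻¹) ∧ ∀ k : ↥K, ConjClasses.mk k = c → ∀ x ∈ P, ∀ k' : ↥K, (k' : G) = x * (k : G) * x⁻¹ → ConjClasses.mk k' = c} := by
    have e1 : Nat.card {θ : Cfsg.IrrCharacter ↥K // (∀ k : ↥K, ((θ : ↥K → ℂ) k).im = 0) ∧ (∀ x ∈ P, ∀ k k' : ↥K, (k' : G) = x * (k : G) * x⁻¹ → (θ : ↥K → ℂ) k' = (θ : ↥K → ℂ) k)} = Nat.card {χ : Cfsg.IrrCharacter K // (∀ u : P, sX hPK u χ = χ) ∧ iX χ = χ} :=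
      Nat.card_congr (Equiv.subtypeEquivRight fun χ => by
        rw [real_iff, inv_iff hPK, and_comm])
    have e2 : Nat.card {c : ConjClasses ↥K // (∀ k : ↥K, ConjClasses.mk k = c → IsConj k k⁻¹) ∧ ∀ k : ↥K, ConjClasses.mk k = c → ∀ x ∈ P, ∀ k' : ↥K, (k' : G) = x * (k : G) * x⁻¹ → ConjClasses.mk k' = c} = Nat.card {C : ConjClasses K // (∀ u : P, sY hPK u C = C) ∧ cinv C = C} :=
      Nat.card_congr (Equiv.subtypeEquivRight fun C => by
        rw [creal_iff, cinv_iff hPK, and_comm])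
    rw [e1, e2, h_count]
  refine ⟨hfirst, ?_⟩
  intro hall k hk
  have hreal : ∀ g : K, ConjClasses.mk g = ConjClasses.mk k → IsConj g g⁻¹ :=
    (real_class_iff k).mpr hk.symm
  have hcardeq : Nat.card {c : ConjClasses ↥K // (∀ k : ↥K, ConjClasses.mk k = c → IsConj k k⁻¹) ∧ ∀ k : ↥K, ConjClasses.mk k = c → ∀ x ∈ P, ∀ k' : ↥K, (k' : G) = x * (k : G) * x⁻¹ → ConjClasses.mk k' = c} = Nat.card {C : ConjClasses K // ∀ g : K, ConjClasses.mk g = C → IsConj g g⁻¹} := by
    rw [← hfirst, ← card_real_irr_eq_card_real_classes]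
    exact Nat.card_congr (Equiv.subtypeEquivRight fun χ =>
      ⟨fun h => h.1, fun h => ⟨h, hall χ h⟩⟩)
  let f : {c : ConjClasses ↥K // (∀ k : ↥K, ConjClasses.mk k = c → IsConj k k⁻¹) ∧ ∀ k : ↥K, ConjClasses.mk k = c → ∀ x ∈ P, ∀ k' : ↥K, (k' : G) = x * (k : G) * x⁻¹ → ConjClasses.mk k' = c} → {C : ConjClasses K // ∀ g : K, ConjClasses.mk g = C → IsConj g g⁻¹} := fun c => ⟨c.1, c.2.1⟩
  have hbij : Function.Bijective f := (Nat.bijective_iff_injective_and_card f).mpr
    ⟨fun a b hab => Subtype.ext (congrArg (fun z : {C : ConjClasses K // ∀ g : K, ConjClasses.mk g = C → IsConj g g⁻¹} => z.1) hab), hcardeq⟩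
  obtain ⟨⟨c, hc⟩, hfc⟩ := hbij.surjective ⟨ConjClasses.mk k, hreal⟩
  have hcc : c = ConjClasses.mk k := congrArg Subtype.val hfc
  subst hcc
  have hinv := (cinv_iff hPK _).mp hc.2
  letI act : MulAction P {k' : K // ConjClasses.mk k' = ConjClasses.mk k} :=
    { smul := fun u x => ⟨conjK hPK u x.1, by
        rw [← sY_mk, x.2, hinv u]⟩
      one_smul := fun x => Subtype.ext (conjK_one hPK x.1)
      mul_smul := fun a b x => Subtype.ext (conjK_mul hPK a b x.1) }
  have hnd : ¬ p ∣ Nat.card {k' : K // ConjClasses.mk k' = ConjClasses.mk k} := by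
    intro hd
    apply hK
    have h1 := wt_mul_card_centralizer (ConjClasses.mk k)
    rw [← h1]
    exact Dvd.dvd.mul_right hd _
  obtain ⟨⟨k', hk'⟩, hfix⟩ := hP.nonempty_fixed_point_of_prime_not_dvd_card _ hnd
  refine ⟨k', (ConjClasses.mk_eq_mk_iff_isConj.mp hk').symm, fun x hx => ?_⟩
  have h2 : (⟨conjK hPK ⟨x, hx⟩ k', _⟩ : {k' : K // ConjClasses.mk k' = ConjClasses.mk k}) = ⟨k', hk'⟩ :=
    hfix ⟨x, hx⟩
  exact congrArg (fun z : {k' : K // ConjClasses.mk k' = ConjClasses.mk k} => (z.1 : G)) h2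

end Cfsg.Agent.S4911
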