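import Cfsg.Statements.S4864
import Cfsg.Agent.S4866
import Cfsg.Agent.S4911
import Cfsg.Agent.Lib.RealDeg.NormalSylow
import Cfsg.Agent.Lib.Char.OddIndexReal

set_option autoImplicit false
set_option linter.style.haveILetI false
set_option linter.unusedSectionVars false
open Cfsg

namespace Cfsg.Agent.S4864

open MulAction

section Orbits

variable {G X : Type*} [Group G] [MulAction G X]

/-- The normalizer. -/
abbrev Nz (P : Subgroup G) : Subgroup G := Subgroup.normalizer (P : Set G)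

/-- The `P`-fixed points. -/
abbrev Fx (P : Subgroup G) (X : Type*) [MulAction G X] := {x : X // ∀ u ∈ P, u • x = x}

theorem conj_mem_of_nz {P : Subgroup G} {h : G} (hh : h ∈ Nz P) {u : G} (hu : u ∈ P) :
    h⁻¹ * u * h ∈ P := by
  have h1 : h⁻¹ ∈ Nz P := inv_mem hh
  have h2 := (Subgroup.mem_normalizer_iff.mp h1 u).mp hu
  simpa using h2

instance actFx (P : Subgroup G) : MulAction (Nz P) (Fx P X) where
  smul h x := ⟨(h : G) • x.1, fun u hu => by
    have h1 := x.2 _ (conj_mem_of_nz h.2 hu)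
    calc u • (h : G) • x.1 = (h : G) • (((h : G)⁻¹ * u * h) • x.1) := by
          simp only [smul_smul]
          congr 1
          group
      _ = (h : G) • x.1 := by rw [h1]⟩
  one_smul x := Subtype.ext (one_smul G x.1)
  mul_smul a b x := Subtype.ext (mul_smul (a : G) (b : G) x.1)

theorem smulFx_coe (P : Subgroup G) (h : Nz P) (x : Fx P X) : ((h • x : Fx P X) : X) = (h : G) • x.1 :=
  rfl

/-- The map from orbits of the normalizer on fixed points to orbits. -/
def orbMap (P : Subgroup G) (X : Type*) [MulAction G X] :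
    orbitRel.Quotient (Nz P) (Fx P X) → orbitRel.Quotient G X :=
  Quotient.lift (fun x => Quotient.mk (orbitRel G X) x.1) (by
    rintro a b ⟨h, rfl⟩
    apply Quotient.sound
    exact ⟨(h : G), rfl⟩)

theorem orbMap_surjective (P : Subgroup G) (h : ∀ x : X, ∃ g : G, ∀ u ∈ P, u • (g • x) = g • x) :
    Function.Surjective (orbMap P X) := by
  intro c
  induction c using Quotient.inductionOn with
  | h x =>
  obtain ⟨g, hg⟩ := h x
  refine ⟨Quotient.mk _ ⟨g • x, hg⟩, ?_⟩
  apply Quotient.sound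
  exact ⟨g, rfl⟩

theorem orbMap_injective [Finite G] {p : ℕ} [Fact p.Prime] (P : Sylow p G) :
    Function.Injective (orbMap (P : Subgroup G) X) := by
  intro a b
  induction a using Quotient.inductionOn with
  | h x₁ =>
  induction b using Quotient.inductionOn with
  | h x₂ =>
  intro hab
  obtain ⟨g, hg⟩ : x₁.1 ∈ orbit G x₂.1 := Quotient.exact hab
  have hg' : g • x₂.1 = x₁.1 := hg
  let S : Subgroup G := stabilizer G x₁.1
  have h1 : P ≤ S := fun u hu => x₁.2 u hu
  have h2 : ((g • P : Sylow p G) : Subgroup G) ≤ S := by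
    intro u hu
    have hu' : g⁻¹ * u * g ∈ (P : Subgroup G) := by
      rw [Sylow.coe_subgroup_smul, Subgroup.mem_pointwise_smul_iff_inv_smul_mem] at hu
      simpa using hu
    have h3 := x₂.2 _ hu'
    change u • x₁.1 = x₁.1
    rw [← hg', smul_smul]
    have e : u * g = g * (g⁻¹ * u * g) := by group
    rw [e, mul_smul, h3]
  obtain ⟨s, hs⟩ := exists_smul_eq S ((g • P).subtype h2) (P.subtype h1)
  simp_rw [Sylow.smul_subtype, Subgroup.smul_def, smul_smul] at hs
  have hn : (s : G) * g ∈ Nz (P : Subgroup G) :=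
    Sylow.smul_eq_iff_mem_normalizer.mp (Sylow.subtype_injective hs)
  apply Quotient.sound
  refine ⟨⟨(s : G) * g, hn⟩, ?_⟩
  apply Subtype.ext
  change ((s : G) * g) • x₂.1 = x₁.1
  rw [mul_smul, hg']
  exact s.2

/-- The orbit counting argument. -/
theorem exists_fixed_of_counts [Finite G] {p : ℕ} [Fact p.Prime] (P : Sylow p G)
    {Y : Type*} [MulAction G Y] [Finite X] [Finite Y]
    (hG : Nat.card (orbitRel.Quotient G X) = Nat.card (orbitRel.Quotient G Y))
    (hH : Nat.card (orbitRel.Quotient (Nz (P : Subgroup G)) (Fx (P : Subgroup G) X)) =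
      Nat.card (orbitRel.Quotient (Nz (P : Subgroup G)) (Fx (P : Subgroup G) Y)))
    (hX : ∀ x : X, ∃ g : G, ∀ u ∈ (P : Subgroup G), u • (g • x) = g • x) (y : Y) :
    ∃ g : G, ∀ u ∈ (P : Subgroup G), u • (g • y) = g • y := by
  classical
  by_contra hcon
  have h1 := Nat.card_le_card_of_surjective _ (orbMap_surjective (P : Subgroup G) hX)
  have hinj := orbMap_injective (X := Y) P
  have hns : (Quotient.mk (orbitRel G Y) y : orbitRel.Quotient G Y) ∉ Set.range (orbMap (P : Subgroup G) Y) := by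
    rintro ⟨a, ha⟩
    induction a using Quotient.inductionOn with
    | h z =>
    obtain ⟨g, hg⟩ : z.1 ∈ orbit G y := Quotient.exact ha
    apply hcon
    refine ⟨g, ?_⟩
    have hg' : g • y = z.1 := hg
    rw [hg']
    exact z.2
  let _ := Fintype.ofFinite (orbitRel.Quotient G Y)
  let _ := Fintype.ofFinite (orbitRel.Quotient (Nz (P : Subgroup G)) (Fx (P : Subgroup G) Y))
  have h2 := Fintype.card_lt_of_injective_of_notMem _ hinj hns
  simp only [← Nat.card_eq_fintype_card] at h2
  omega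

end Orbits


section Fixed

open Cfsg.Agent.Lib.Char.Basic Cfsg.Agent.Lib.Char.Ortho Cfsg.Agent.Lib.Char.Complete
open Cfsg.Agent.Lib.Char.Conj
open Cfsg.Agent.S4866 (RR RC β char_iff class_iff cmap cmap_mk actR actC smulR_coe smulC_coe burnside
  card_fix_eq)
open Cfsg.Agent.S4911 (conjK coe_conjK sX sY actX actY tabA tabB rep mk_rep table_row table_col tabA_inv
  tabB_inv exists_maximal_ideal irr_eq_of_isConj sY_mk sX_apply)
open Cfsg.Agent.Lib.CharZeros.PermMatrix

variable {G : Type*} [Group G] [Finite G] (K : Subgroup G) [hK : K.Normal] (P : Subgroup G)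

theorem le_normalizer_of_normal : P ≤ Subgroup.normalizer (K : Set G) := by
  intro u _
  rw [Subgroup.mem_normalizer_iff]
  intro k
  constructor
  · intro hk
    exact hK.conj_mem k hk u
  · intro hk
    have := hK.conj_mem _ hk u⁻¹
    simpa [mul_assoc] using this

theorem isConj_β (h : G) {a b : K} (hab : IsConj a b) : IsConj (β K h a) (β K h b) :=
  (conjEquiv hK h).toMonoidHom.map_isConj (Cfsg.Agent.S4866.isConj_inv_inv hab)

theorem card_fixedBy_eq {p : ℕ} [hp : Fact p.Prime] (hPp : IsPGroup p P) (hKp : ¬ p ∣ Nat.card K)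
    (hodd : Odd K.index) (h : Nz P) :
    Nat.card (fixedBy (Fx P (RR K)) h) = Nat.card (fixedBy (Fx P (RC K)) h) := by
  classical
  have hPK : P ≤ Subgroup.normalizer (K : Set G) := le_normalizer_of_normal K P
  letI : Fintype K := Fintype.ofFinite K
  letI : Fintype (ConjClasses K) := Fintype.ofFinite _
  have := finite_irrCharacter (G := K)
  letI : Fintype (Cfsg.IrrCharacter K) := Fintype.ofFinite _
  letI := actX hPK
  letI := actY hPK
  obtain ⟨M, hM, hpM⟩ := exists_maximal_ideal p hp.out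
  letI : Field (Cfsg.AlgInt ⧸ M) := Ideal.Quotient.field M
  have hpk : ((p : ℕ) : Cfsg.AlgInt ⧸ M) = 0 := by
    have : Ideal.Quotient.mk M (p : Cfsg.AlgInt) = 0 := Ideal.Quotient.eq_zero_iff_mem.mpr hpM
    simpa using this
  have ha : Ideal.Quotient.mk M (Nat.card K : Cfsg.AlgInt) ≠ 0 := by
    intro h0
    have h1 : (Nat.card K : Cfsg.AlgInt) ∈ M := Ideal.Quotient.eq_zero_iff_mem.mp h0
    have hcop : IsCoprime (p : ℤ) (Nat.card K : ℤ) :=
      Nat.isCoprime_iff_coprime.mpr ((Nat.Prime.coprime_iff_not_dvd hp.out).mpr hKp)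
    obtain ⟨a, b, hab⟩ := hcop
    have h2 : (1 : Cfsg.AlgInt) ∈ M := by
      have h3 : ((a * p + b * Nat.card K : ℤ) : Cfsg.AlgInt) = 1 := by
        rw [hab]
        simp
      rw [← h3]
      push_cast
      exact M.add_mem (M.mul_mem_left _ hpM) (M.mul_mem_left _ h1)
    exact hM.ne_top ((Ideal.eq_top_iff_one M).mpr h2)
  set h' : G := (h : G)⁻¹ with hh'
  have hh'N : h' ∈ Nz P := inv_mem h.2
  let ιX : Cfsg.IrrCharacter K → Cfsg.IrrCharacter K := fun χ =>
    ⟨(χ : K → ℂ) ∘ β K h', by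
      have e : (χ : K → ℂ) ∘ β K h' = fun x => conjOn hK h' (χ : K → ℂ) x⁻¹ := by
        funext x
        rw [conjOn_eq_comp]
        rfl
      rw [e]
      exact Cfsg.Agent.Lib.Char.FrobSchur.isIrr_inv (isIrrCharacter_conjOn hK h' χ.2)⟩
  let ιY : ConjClasses K → ConjClasses K := fun C => ConjClasses.mk (β K h' (rep C))
  have hιX : ∀ x : Cfsg.IrrCharacter K, (∀ u : P, u • x = x) → ∀ u : P, u • ιX x = ιX x := by
    intro χ hχ u
    apply Subtype.ext
    funext k
    change (χ : K → ℂ) (β K h' (conjK hPK u⁻¹ k)) = (χ : K → ℂ) (β K h' k)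
    have hv : h' * (u : G)⁻¹ * h'⁻¹ ∈ P := (Subgroup.mem_normalizer_iff.mp hh'N _).mp (inv_mem u.2)
    let v : P := ⟨_, hv⟩
    have e : β K h' (conjK hPK u⁻¹ k) = conjK hPK v (β K h' k) := by
      apply Subtype.ext
      change h' * ((u : G)⁻¹ * k * ((u : G)⁻¹)⁻¹)⁻¹ * h'⁻¹ =
        (h' * (u : G)⁻¹ * h'⁻¹) * (h' * (k : G)⁻¹ * h'⁻¹) * (h' * (u : G)⁻¹ * h'⁻¹)⁻¹
      group
    rw [e]
    have h1 := congrFun (congrArg Subtype.val (hχ v⁻¹)) (β K h' k)
    have h2 : (((v⁻¹ • χ : Cfsg.IrrCharacter K)) : K → ℂ) (β K h' k) =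
        (χ : K → ℂ) (conjK hPK (v⁻¹)⁻¹ (β K h' k)) := rfl
    rw [h2, inv_inv] at h1
    exact h1
  have hιY : ∀ y : ConjClasses K, (∀ u : P, u • y = y) → ∀ u : P, u • ιY y = ιY y := by
    intro C hC u
    change sY hPK u (ConjClasses.mk (β K h' (rep C))) = ConjClasses.mk (β K h' (rep C))
    rw [sY_mk, ConjClasses.mk_eq_mk_iff_isConj]
    have hv : h'⁻¹ * (u : G) * h' ∈ P := conj_mem_of_nz hh'N u.2
    let v : P := ⟨_, hv⟩
    have e : conjK hPK u (β K h' (rep C)) = β K h' (conjK hPK v (rep C)) := by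
      apply Subtype.ext
      change (u : G) * (h' * ((rep C : K) : G)⁻¹ * h'⁻¹) * (u : G)⁻¹ =
        h' * ((h'⁻¹ * (u : G) * h') * (rep C : K) * (h'⁻¹ * (u : G) * h')⁻¹)⁻¹ * h'⁻¹
      group
    rw [e]
    apply isConj_β
    have h1 : sY hPK v C = C := hC v
    have h2 : ConjClasses.mk (conjK hPK v (rep C)) = ConjClasses.mk (rep C) := by
      rw [← sY_mk, mk_rep, h1]
    exact ConjClasses.mk_eq_mk_iff_isConj.mp h2
  have hAι : ∀ x y, tabA (ιX x) y = tabA x (ιY y) := by
    intro χ C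
    apply Subtype.ext
    change (χ : K → ℂ) (β K h' (rep C)) = (χ : K → ℂ) (rep (ιY C))
    apply irr_eq_of_isConj
    have h1 : ConjClasses.mk (rep (ιY C)) = ιY C := mk_rep _
    exact (ConjClasses.mk_eq_mk_iff_isConj.mp h1).symm
  have hcount := card_fixed_fixed_eq (P := P) (X := Cfsg.IrrCharacter K) (Y := ConjClasses K)
    (R := Cfsg.AlgInt) (k := Cfsg.AlgInt ⧸ M) hPp hpk (Ideal.Quotient.mk M)
    (Cfsg.AlgInt.val : Cfsg.AlgInt →ₐ[ℤ] ℂ).toRingHom Subtype.val_injective
    tabA tabB (Nat.card K : Cfsg.AlgInt) ha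
    (fun u x y => tabA_inv hPK u x y)
    (fun u y x => tabB_inv hPK u x y)
    (fun x x' => table_row x x')
    (fun y y' => table_col y y')
    ιX ιY hιX hιY hAι
  -- translation
  have hχP : ∀ χ : Cfsg.IrrCharacter K, (∀ u : P, u • χ = χ) ↔
      ∀ u ∈ P, conjOn hK u⁻¹ (χ : K → ℂ) = χ := by
    intro χ
    constructor
    · intro hχ u hu
      funext k
      exact congrFun (congrArg Subtype.val (hχ ⟨u, hu⟩)) k
    · intro hχ u
      apply Subtype.ext
      funext k
      exact congrFun (hχ u u.2) k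
  have hCP : ∀ C : ConjClasses K, (∀ u : P, u • C = C) ↔ ∀ u ∈ P, cmap hK u C = C := by
    intro C
    constructor
    · intro hC u hu
      exact hC ⟨u, hu⟩
    · intro hC u
      exact hC u u.2
  have e1 : Nat.card (fixedBy (Fx P (RR K)) h) =
      Nat.card {x : Cfsg.IrrCharacter K // (∀ u : P, u • x = x) ∧ ιX x = x} := by
    apply Nat.card_congr
    refine ⟨fun θ => ⟨θ.1.1.1, ?_, ?_⟩, fun χ => ⟨⟨⟨χ.1, ?_⟩, ?_⟩, ?_⟩, ?_, ?_⟩
    · rw [hχP]
      intro u hu
      exact congrArg (fun d : RR K => (d.1 : K → ℂ)) (θ.1.2 u hu)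
    · apply Subtype.ext
      refine (char_iff K hodd h' θ.1.1.1).mpr ⟨θ.1.1.2, ?_⟩
      have h1 := θ.2
      rw [mem_fixedBy] at h1
      exact congrArg (fun d : Fx P (RR K) => ((d.1).1 : K → ℂ)) h1
    · exact ((char_iff K hodd h' χ.1).mp (congrArg Subtype.val χ.2.2)).1
    · intro u hu
      apply Subtype.ext
      apply Subtype.ext
      exact (hχP χ.1).mp χ.2.1 u hu
    · rw [mem_fixedBy]
      apply Subtype.ext
      apply Subtype.ext
      apply Subtype.ext
      exact ((char_iff K hodd h' χ.1).mp (congrArg Subtype.val χ.2.2)).2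
    · intro θ
      rfl
    · intro χ
      rfl
  have hιYiff : ∀ C : ConjClasses K, ιY C = C ↔
      ∀ x : K, ConjClasses.mk x = C → IsConj (β K h' x) x := by
    intro C
    constructor
    · intro hC x hx
      have h1 : IsConj (β K h' (rep C)) (rep C) := by
        have h2 : ConjClasses.mk (β K h' (rep C)) = ConjClasses.mk (rep C) := by
          rw [mk_rep]
          exact hC
        exact ConjClasses.mk_eq_mk_iff_isConj.mp h2
      have h3 : IsConj x (rep C) := by
        rw [← ConjClasses.mk_eq_mk_iff_isConj, hx, mk_rep]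
      exact (isConj_β K h' h3).trans (h1.trans h3.symm)
    · intro hC
      have h1 := hC (rep C) (mk_rep C)
      change ConjClasses.mk (β K h' (rep C)) = C
      rw [ConjClasses.mk_eq_mk_iff_isConj.mpr h1, mk_rep]
  have e2 : Nat.card (fixedBy (Fx P (RC K)) h) =
      Nat.card {y : ConjClasses K // (∀ u : P, u • y = y) ∧ ιY y = y} := by
    apply Nat.card_congr
    refine ⟨fun C => ⟨C.1.1.1, ?_, ?_⟩, fun D => ⟨⟨⟨D.1, ?_⟩, ?_⟩, ?_⟩, ?_, ?_⟩
    · rw [hCP]
      intro u hu
      exact congrArg Subtype.val (C.1.2 u hu)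
    · rw [hιYiff]
      refine (class_iff K hodd h' C.1.1.1).mpr ⟨C.1.1.2, ?_⟩
      have h1 := C.2
      rw [mem_fixedBy] at h1
      have h2 : cmap hK (h : G) C.1.1.1 = C.1.1.1 :=
        congrArg (fun d : Fx P (RC K) => d.1.1) h1
      have h3 := Cfsg.Agent.S4866.cmap_mul hK h' (h : G) C.1.1.1
      rw [hh', inv_mul_cancel, Cfsg.Agent.S4866.cmap_one, h2] at h3
      exact h3.symm
    · exact ((class_iff K hodd h' D.1).mp ((hιYiff D.1).mp D.2.2)).1
    · intro u hu
      apply Subtype.ext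
      exact (hCP D.1).mp D.2.1 u hu
    · rw [mem_fixedBy]
      apply Subtype.ext
      apply Subtype.ext
      have h1 := ((class_iff K hodd h' D.1).mp ((hιYiff D.1).mp D.2.2)).2
      change cmap hK (h : G) D.1 = D.1
      have h3 := Cfsg.Agent.S4866.cmap_mul hK (h : G) h' D.1
      rw [hh', mul_inv_cancel, Cfsg.Agent.S4866.cmap_one, ← hh', h1] at h3
      exact h3.symm
    · intro C
      rfl
    · intro D
      rfl
  rw [e1, e2, hcount]

end Fixed


section Main

open Cfsg.Agent.Lib.Char.Basic Cfsg.Agent.Lib.Char.Ortho Cfsg.Agent.Lib.Char.Complete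
open Cfsg.Agent.Lib.Char.Conj
open Cfsg.Agent.S4866 (RR RC β char_iff class_iff cmap cmap_mk actR actC smulR_coe smulC_coe burnside
  card_fix_eq)
open Cfsg.Agent.S4911 (conjK coe_conjK wt wt_mul_card_centralizer)
open Cfsg.Agent.Lib.RealDeg.Basic Cfsg.Agent.Lib.RealDeg.Core Cfsg.Agent.Lib.RealDeg.NormalSylow
open Cfsg.Agent.Lib.Char.OddIndexReal
open Cfsg.Agent.Lib.Char.RealChar (real_class_iff)
open scoped ComplexConjugate

universe u

theorem odd_index_op2 {G : Type*} [Group G] [Finite G] : Odd (Op 2 G).index := by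
  haveI : Fact (Nat.Prime 2) := ⟨Nat.prime_two⟩
  haveI : (Op 2 G).Normal := op_normal 2
  by_contra hev
  rw [Nat.not_odd_iff_even] at hev
  have h1 : 2 ∣ Nat.card (G ⧸ Op 2 G) := hev.two_dvd
  obtain ⟨q, hq⟩ := exists_prime_orderOf_dvd_card' 2 h1
  have hmem : q ∈ Op 2 (G ⧸ Op 2 G) := Subgroup.subset_closure ⟨1, by rw [pow_one]; exact hq⟩
  rw [← map_op Nat.prime_two (QuotientGroup.mk' (Op 2 G)) (QuotientGroup.mk'_surjective _)] at hmem
  obtain ⟨k, hk, rfl⟩ := hmem
  have h2 : (QuotientGroup.mk' (Op 2 G)) k = 1 := (QuotientGroup.eq_one_iff k).mpr hk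
  rw [h2, orderOf_one] at hq
  omega

/-- Each real irreducible character of a normal subgroup of odd index lies under a real character. -/
theorem exists_real_over {G : Type*} [Group G] [Fintype G] (K : Subgroup G) [K.Normal] [Fintype K]
    (hodd : Odd K.index) {θ : K → ℂ} (hθ : IsIrrCharacter K θ) (hr : ∀ k, (θ k).im = 0) :
    ∃ χ : IrrCharacter G, (∀ g, ((χ : G → ℂ) g).im = 0) ∧
      classInner (fun n : K => (χ : G → ℂ) n) θ ≠ 0 := by
  classical
  have := finite_irrCharacter (G := G)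
  letI : Fintype (IrrCharacter G) := Fintype.ofFinite _
  have hν : nu θ ≠ 0 := by
    intro h0
    obtain ⟨n, ρ, hρ, rfl⟩ := hθ
    obtain ⟨s, hs⟩ := (Cfsg.Agent.Lib.Char.FrobSchur.frobeniusSchur ρ hρ).2.mp h0
    exact hs (hr s)
  have hsum := sum_nu_mul K hodd θ
  have hne : conj (nu θ) ≠ 0 := (map_ne_zero _).mpr hν
  rw [← hsum] at hne
  obtain ⟨χ, -, hχ⟩ := Finset.exists_ne_zero_of_sum_ne_zero hne
  have h1 : nu (χ : G → ℂ) ≠ 0 := by
    intro h
    apply hχ
    rw [h, map_zero, zero_mul]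
  refine ⟨χ, fun g => ?_, right_ne_zero_of_mul hχ⟩
  exact Complex.conj_eq_iff_im.mp (real_of_nu_ne_zero χ.2 h1 g)

/-- The case in which `K` has order prime to `p`. -/
theorem main_of_coprime {p : ℕ} [hp : Fact p.Prime] {G : Type*} [Group G] [Finite G]
    (hreal : RealDegHyp p G) (P : Sylow p G) (hKp : ¬ p ∣ Nat.card (Op 2 G)) (x : G)
    (hx : IsConj x x⁻¹) : ∃ y ∈ Subgroup.normalizer ((P : Subgroup G) : Set G), IsConj x y := by
  classical
  let _ : Fintype G := Fintype.ofFinite G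
  set K := Op 2 G with hKdef
  haveI hK : K.Normal := op_normal 2
  let _ : Fintype K := Fintype.ofFinite K
  have hodd : Odd K.index := odd_index_op2
  have hq : Odd (Nat.card (G ⧸ K)) := hodd
  have := finite_irrCharacter (G := K)
  -- `x ∈ K`
  obtain ⟨v, k, hvk, hc⟩ := exists_two_element_inverting (MonoidHom.id G) Function.surjective_id hx
  simp only [MonoidHom.id_apply] at hc
  have hvK : v ∈ K := Subgroup.subset_closure (exists_orderOf_of_pow Nat.prime_two hvk)
  have hxx : x * x ∈ K := by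
    have e : x * x = (x * v * x⁻¹) * v⁻¹ := by
      have h1 : x = v * x⁻¹ * v⁻¹ := by
        have h2 := congrArg (·⁻¹) hc
        simp only [inv_inv, mul_inv_rev] at h2
        rw [mul_assoc]
        exact h2.symm
      calc x * x = x * (v * x⁻¹ * v⁻¹) := by rw [← h1]
        _ = _ := by group
    rw [e]
    exact mul_mem (hK.conj_mem v hvK x) (inv_mem hvK)
  have hxK : x ∈ K := by
    have h1 : ((x : G ⧸ K) * (x : G ⧸ K)) = 1 := by
      rw [← QuotientGroup.mk_mul]
      exact (QuotientGroup.eq_one_iff _).mpr hxx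
    have h2 := eq_one_of_mul_self_of_odd_card hq h1
    exact (QuotientGroup.eq_one_iff _).mp h2
  let x' : K := ⟨x, hxK⟩
  have hx' : IsConj x' x'⁻¹ := isConj_iff.mpr ⟨⟨v, hvK⟩, Subtype.ext hc⟩
  let C₀ : RC K := ⟨ConjClasses.mk x', fun z hz => (real_class_iff x').mpr hx'.symm z hz⟩
  have hfinR : Finite (RR K) := inferInstance
  have hfinC : Finite (RC K) := inferInstance
  have hG : Nat.card (MulAction.orbitRel.Quotient G (RR K)) =
      Nat.card (MulAction.orbitRel.Quotient G (RC K)) := by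
    have hB1 := burnside (G := G) (RR K)
    have hB2 := burnside (G := G) (RC K)
    have hsum : ∑ᶠ g : G, Nat.card (MulAction.fixedBy (RR K) g) =
        ∑ᶠ g : G, Nat.card (MulAction.fixedBy (RC K) g) :=
      finsum_congr fun g => card_fix_eq K hodd g
    rw [hB1, hB2] at hsum
    exact Nat.eq_of_mul_eq_mul_right Nat.card_pos hsum
  have hH : Nat.card (MulAction.orbitRel.Quotient (Nz (P : Subgroup G)) (Fx (P : Subgroup G) (RR K))) =
      Nat.card (MulAction.orbitRel.Quotient (Nz (P : Subgroup G)) (Fx (P : Subgroup G) (RC K))) := by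
    have hB1 := burnside (G := Nz (P : Subgroup G)) (Fx (P : Subgroup G) (RR K))
    have hB2 := burnside (G := Nz (P : Subgroup G)) (Fx (P : Subgroup G) (RC K))
    have hsum : ∑ᶠ g : Nz (P : Subgroup G), Nat.card (MulAction.fixedBy (Fx (P : Subgroup G) (RR K)) g) =
        ∑ᶠ g : Nz (P : Subgroup G), Nat.card (MulAction.fixedBy (Fx (P : Subgroup G) (RC K)) g) :=
      finsum_congr fun g => card_fixedBy_eq K (P : Subgroup G) P.isPGroup' hKp hodd g
    rw [hB1, hB2] at hsum
    exact Nat.eq_of_mul_eq_mul_right Nat.card_pos hsum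
  have hX : ∀ θ : RR K, ∃ g : G, ∀ u ∈ (P : Subgroup G), u • (g • θ) = g • θ := by
    intro θ
    obtain ⟨χ, hχr, hcon⟩ := exists_real_over K hodd θ.1.2 θ.2
    obtain ⟨g', hg'⟩ := exists_conj_fixed hK χ.2 (hreal χ hχr) θ.1.2 hcon P.isPGroup'
    refine ⟨g'⁻¹, fun u hu => ?_⟩
    apply Subtype.ext
    apply Subtype.ext
    change conjOn hK u⁻¹ (conjOn hK g'⁻¹⁻¹ (θ.1 : K → ℂ)) = conjOn hK g'⁻¹⁻¹ (θ.1 : K → ℂ)
    rw [inv_inv]
    exact hg' _ (inv_mem hu)
  obtain ⟨g, hg⟩ := exists_fixed_of_counts P hG hH hX C₀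
  -- a fixed element in the fixed class
  have hPK : (P : Subgroup G) ≤ Subgroup.normalizer (K : Set G) :=
    le_normalizer_of_normal K (P : Subgroup G)
  set C₁ : ConjClasses K := (g • C₀).1 with hC₁
  have hC₁fix : ∀ u : (P : Subgroup G), ConjClasses.map (conjK hPK u).toMonoidHom C₁ = C₁ := by
    intro u
    exact congrArg Subtype.val (hg u u.2)
  letI act : MulAction (P : Subgroup G) {k' : K // ConjClasses.mk k' = C₁} :=
    { smul := fun u z => ⟨conjK hPK u z.1, by
        have h1 : ConjClasses.mk (conjK hPK u z.1) =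
            ConjClasses.map (conjK hPK u).toMonoidHom (ConjClasses.mk z.1) := rfl
        rw [h1, z.2, hC₁fix u]⟩
      one_smul := fun z => Subtype.ext (Cfsg.Agent.S4911.conjK_one hPK z.1)
      mul_smul := fun a b z => Subtype.ext (Cfsg.Agent.S4911.conjK_mul hPK a b z.1) }
  have hnd : ¬ p ∣ Nat.card {k' : K // ConjClasses.mk k' = C₁} := by
    intro hd
    apply hKp
    have h1 := wt_mul_card_centralizer C₁
    rw [← h1]
    exact Dvd.dvd.mul_right hd _
  obtain ⟨⟨k', hk'⟩, hfix⟩ := P.isPGroup'.nonempty_fixed_point_of_prime_not_dvd_card _ hnd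
  have hfix' : ∀ u ∈ (P : Subgroup G), u * (k' : G) * u⁻¹ = k' := by
    intro u hu
    have h2 : (⟨conjK hPK ⟨u, hu⟩ k', _⟩ : {k' : K // ConjClasses.mk k' = C₁}) = ⟨k', hk'⟩ :=
      hfix ⟨u, hu⟩
    exact congrArg (fun z : {k' : K // ConjClasses.mk k' = C₁} => (z.1 : G)) h2
  refine ⟨k', ?_, ?_⟩
  · rw [Subgroup.mem_normalizer_iff]
    intro z
    have hcomm : z ∈ (P : Subgroup G) → (k' : G) * z * (k' : G)⁻¹ = z := by
      intro hz
      have h1 := hfix' z hz
      rw [mul_inv_eq_iff_eq_mul] at h1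
      rw [mul_inv_eq_iff_eq_mul]
      exact h1.symm
    constructor
    · intro hz
      rw [hcomm hz]
      exact hz
    · intro hz
      have h1 := hfix' _ hz
      have h2 : (k' : G) * z * (k' : G)⁻¹ = z := by
        rw [mul_inv_eq_iff_eq_mul, inv_mul_cancel_right] at h1
        exact (mul_left_cancel h1).symm
      rw [h2] at hz
      exact hz
  · have h1 : ConjClasses.mk k' = ConjClasses.mk (Cfsg.Agent.Lib.Char.Conj.conjEquiv hK g x') := hk'
    have h2 := ConjClasses.mk_eq_mk_iff_isConj.mp h1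
    have h3 : IsConj (k' : G) ((Cfsg.Agent.Lib.Char.Conj.conjEquiv hK g x' : K) : G) := by
      exact K.subtype.map_isConj h2
    have h4 : IsConj ((Cfsg.Agent.Lib.Char.Conj.conjEquiv hK g x' : K) : G) x :=
      (isConj_iff.mpr ⟨g⁻¹, by
        change g⁻¹ * (g * x * g⁻¹) * g⁻¹⁻¹ = x
        group⟩)
    exact (h3.trans h4).symm

/-- The main induction. -/
theorem main_aux {p : ℕ} [hp : Fact p.Prime] : ∀ (n : ℕ) (G : Type u) [Group G] [Finite G],
    Nat.card G = n → RealDegHyp p G → Group.IsSolvable (Op p G) → ∀ (P : Sylow p G) (x : G),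
    IsConj x x⁻¹ → ∃ y ∈ Subgroup.normalizer ((P : Subgroup G) : Set G), IsConj x y := by
  intro n
  induction n using Nat.strong_induction_on with
  | _ n ih =>
  intro G _ _ hcard hreal hsolv P x hx
  classical
  obtain ⟨R, hRn, hRp, hRK, hRi⟩ := exists_normal_pGroup hreal hsolv (Op 2 G) (op_normal 2) le_rfl
    ⟨0, by simp⟩
  by_cases hRbot : R = ⊥
  · subst hRbot
    rw [Subgroup.relIndex_bot_left] at hRi
    exact main_of_coprime hreal P hRi x hx
  haveI := hRn
  let π := QuotientGroup.mk' R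
  have hπ : Function.Surjective π := QuotientGroup.mk'_surjective R
  have hlt : Nat.card (G ⧸ R) < n := by
    rw [← hcard, ← Subgroup.card_mul_index R]
    have h1 : 1 < Nat.card R := R.one_lt_card_iff_ne_bot.mpr hRbot
    have h2 : 0 < R.index := Nat.pos_of_ne_zero Subgroup.index_ne_zero_of_finite
    have h3 : Nat.card (G ⧸ R) = R.index := rfl
    rw [h3]
    nlinarith
  have hRP : R ≤ (P : Subgroup G) := hRp.le_sylow_of_normal P
  have hpibar : π x⁻¹ = (π x)⁻¹ := map_inv π x
  obtain ⟨ybar, hybar, hconj⟩ := ih _ hlt (G ⧸ R) rfl (realDegHyp_of_surjective π hπ hreal)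
    (isSolvable_op_of_surjective hp.out π hπ hsolv) (P.mapSurjective hπ) (π x) (by
      rw [← hpibar]
      exact π.map_isConj hx)
  obtain ⟨y, rfl⟩ := hπ ybar
  obtain ⟨c, hc⟩ := isConj_iff.mp hconj
  obtain ⟨g, rfl⟩ := hπ c
  have hmemP : ∀ w : G, π w ∈ ((P.mapSurjective hπ : Sylow p (G ⧸ R)) : Subgroup (G ⧸ R)) ↔
      w ∈ (P : Subgroup G) := by
    intro w
    rw [Sylow.coe_mapSurjective]
    constructor
    · rintro ⟨z, hz, hzw⟩
      have h1 : z⁻¹ * w ∈ R := by
        rw [← QuotientGroup.eq_one_iff]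
        have e : ((z⁻¹ * w : G) : G ⧸ R) = (π z)⁻¹ * π w := rfl
        rw [e, hzw, inv_mul_cancel]
      have e : w = z * (z⁻¹ * w) := by group
      rw [e]
      exact mul_mem hz (hRP h1)
    · intro hw
      exact ⟨w, hw, rfl⟩
  have hyN : y ∈ Subgroup.normalizer ((P : Subgroup G) : Set G) := by
    rw [Subgroup.mem_normalizer_iff]
    intro z
    have h1 := (Subgroup.mem_normalizer_iff.mp hybar) (π z)
    rw [hmemP] at h1
    rw [h1, ← map_inv, ← map_mul, ← map_mul, hmemP]
  let u : G := y⁻¹ * (g * x * g⁻¹)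
  have huR : u ∈ R := by
    rw [← QuotientGroup.eq_one_iff]
    have e : ((u : G) : G ⧸ R) = (π y)⁻¹ * (π g * π x * (π g)⁻¹) := rfl
    rw [e, hc, inv_mul_cancel]
  refine ⟨y * u, mul_mem hyN (Subgroup.le_normalizer (hRP huR)), isConj_iff.mpr ⟨g, ?_⟩⟩
  simp only [u]
  group

end Main

/-- Let p be a prime and G a finite group such that the subgroup generated by the p-elements of G is solvable and every real-valued irreducible complex character of G has degree prime to p. Then the normalizer of a Sylow p-subgroup of G contains an element of every real conjugacy class of G: every element conjugate to its inverse is conjugate to an element of that normalizer. -/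
theorem result {G : Type*} [Group G] [Finite G] (p : ℕ) [Fact p.Prime] (hsolv : Group.IsSolvable ↥(Subgroup.closure {g : G | ∃ k : ℕ, orderOf g = p ^ k})) (hreal : ∀ χ : Cfsg.IrrCharacter G, (∀ g : G, ((χ : G → ℂ) g).im = 0) → ¬ p ∣ Cfsg.charDegree (χ : G → ℂ)) (P : Sylow p G) (x : G) (hx : IsConj x x⁻¹) : ∃ y ∈ Subgroup.normalizer ((P : Subgroup G) : Set G), IsConj x y := by
  exact main_aux _ G rfl hreal hsolv P x hx

end Cfsg.Agent.S4864
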