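import Cfsg.Statements.S4865
import Cfsg.Agent.S4864
import Cfsg.Agent.Lib.DGN.Main

set_option autoImplicit false
open Cfsg

namespace Cfsg.Agent.S4865

set_option linter.unusedSectionVars false
set_option linter.style.haveILetI false

open Module Finset
open Cfsg.Agent.Lib.Char.Basic Cfsg.Agent.Lib.Char.Ortho Cfsg.Agent.Lib.Char.Complete
open Cfsg.Agent.Lib.Char.Induced Cfsg.Agent.Lib.Char.Conj Cfsg.Agent.Lib.Char.Clifford Cfsg.Agent.Lib.Char.CliffordCorr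
open Cfsg.Agent.Lib.Char.OddIndexReal Cfsg.Agent.Lib.Char.Degree
open Cfsg.Agent.Lib.DGN.Basic Cfsg.Agent.Lib.DGN.Invariant Cfsg.Agent.Lib.DGN.Main
open Cfsg.Agent.Lib.RealDeg.Core Cfsg.Agent.Lib.RealDeg.NormalSylow Cfsg.Agent.Lib.RealDeg.Basic
open Cfsg.Agent.S4864 (Nz Fx orbMap orbMap_injective exists_real_over odd_index_op2)
open scoped Classical ComplexConjugate

universe u

theorem classInner_conj_conj {H : Type*} [Group H] [Fintype H] (f g : H → ℂ) :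
    classInner (fun a => conj (f a)) (fun a => conj (g a)) = conj (classInner f g) := by
  simp only [classInner_def, map_mul, map_inv₀, map_natCast, map_sum]

section OddReal

variable {X : Type u} [Group X] [Fintype X] {A : Subgroup X}

theorem conjOn_real (hA : A.Normal) (g : X) {θ : A → ℂ} (hr : ∀ a, conj (θ a) = θ a) (a : A) :
    conj (conjOn hA g θ a) = conjOn hA g θ a := hr _

theorem over_conjOn (hA : A.Normal) {χ : X → ℂ} (hχ : IsClassFunction X χ) (g : X) (θ : A → ℂ) :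
    classInner (fun n : A => χ n) (conjOn hA g θ) = classInner (fun n : A => χ n) θ := by
  have h1 := classInner_conjOn hA g (fun n : A => χ n) θ
  rwa [conjOn_restrict hA hχ g] at h1

theorem exists_real_under (hA : A.Normal) (hodd : Odd A.index) {χ : X → ℂ} (hχ : IsIrrCharacter X χ)
    (hr : ∀ g, conj (χ g) = χ g) :
    ∃ θ : A → ℂ, IsIrrCharacter A θ ∧ (∀ a, conj (θ a) = θ a) ∧
      classInner (fun n : A => χ n) θ ≠ 0 := by
  have hχc := isCharacter_of_isIrrCharacter hχ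
  have hres : IsClassFunction A (fun n : A => χ n) :=
    isClassFunction_of_isCharacter (isCharacter_restrict A hχc)
  have hne : (fun n : A => χ n) ≠ 0 := by
    intro h
    have h1 := congrFun h 1
    simp only [Pi.zero_apply, OneMemClass.coe_one] at h1
    exact irr_one_ne_zero hχ h1
  obtain ⟨θ₀, hθ₀, hcon⟩ := exists_irr_constituent hres hne
  have hmem : ∀ ψ ∈ orbitFinset hA θ₀, IsIrrCharacter A ψ ∧ classInner (fun n : A => χ n) ψ ≠ 0 := by
    intro ψ hψ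
    obtain ⟨g, rfl⟩ := (mem_orbitFinset hA θ₀ ψ).mp hψ
    refine ⟨isIrrCharacter_conjOn hA g hθ₀, ?_⟩
    rw [over_conjOn hA (isClassFunction_of_isIrrCharacter hχ)]
    exact hcon
  have hconjmem : ∀ ψ ∈ orbitFinset hA θ₀, (fun a => conj (ψ a)) ∈ orbitFinset hA θ₀ := by
    intro ψ hψ
    obtain ⟨h1, h2⟩ := hmem ψ hψ
    have h3 : IsIrrCharacter A (fun a => conj (ψ a)) := Cfsg.Agent.Lib.Char.FrobSchur.isIrr_conj h1
    rw [mem_orbitFinset]
    by_contra hno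
    push Not at hno
    have h4 := classInner_restrict_eq_zero_of_not_conj hA hχ hθ₀ h3 hcon hno
    apply h2
    have h5 : classInner (fun n : A => χ n) ψ =
        conj (classInner (fun n : A => χ n) (fun a => conj (ψ a))) := by
      rw [← classInner_conj_conj]
      simp only [hr, Complex.conj_conj]
    rw [h5, h4, map_zero]
  have hodd' : Odd (orbitFinset hA θ₀).card := by
    rw [card_orbit_eq_index]
    have hle : A ≤ inertia hA θ₀ := le_inertia hA (isClassFunction_of_isIrrCharacter hθ₀)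
    exact Odd.of_dvd_nat hodd (Subgroup.index_dvd_of_le hle)
  by_contra hno
  push Not at hno
  have hsum : ∑ _ψ ∈ orbitFinset hA θ₀, (1 : ZMod 2) = 0 := by
    refine Finset.sum_involution (fun ψ _ a => conj (ψ a)) ?_ ?_ ?_ ?_
    · intro a ha
      decide
    · intro ψ hψ _ heq
      obtain ⟨h1, h2⟩ := hmem ψ hψ
      refine h2 (hno ψ h1 (fun a => congrFun heq a))
    · exact hconjmem
    · intro ψ hψ
      funext a
      simp
  rw [Finset.sum_const, nsmul_eq_mul, mul_one] at hsum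
  rw [ZMod.natCast_eq_zero_iff] at hsum
  rcases hodd' with ⟨k, hk⟩
  omega

theorem nu_ne_zero_of_real {H : Type*} [Group H] [Fintype H] {θ : H → ℂ} (hθ : IsIrrCharacter H θ)
    (hr : ∀ a, conj (θ a) = θ a) : nu θ ≠ 0 := by
  intro h0
  obtain ⟨n, ρ, hρ, rfl⟩ := hθ
  obtain ⟨s, hs⟩ := (Cfsg.Agent.Lib.Char.FrobSchur.frobeniusSchur ρ hρ).2.mp h0
  exact hs (Complex.conj_eq_iff_im.mp (hr s))

theorem mult_one (hA : A.Normal) (hodd : Odd A.index) {χ : X → ℂ} (hχ : IsIrrCharacter X χ)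
    (hr : ∀ g, conj (χ g) = χ g) {θ : A → ℂ} (hθ : IsIrrCharacter A θ)
    (hθr : ∀ a, conj (θ a) = θ a) (hcon : classInner (fun n : A => χ n) θ ≠ 0) :
    classInner (fun n : A => χ n) θ = 1 := by
  have := finite_irrCharacter (G := X)
  letI : Fintype (IrrCharacter X) := Fintype.ofFinite _
  haveI := hA
  have hsum := sum_nu_mul A hodd θ
  rw [Finset.sum_eq_single (⟨χ, hχ⟩ : IrrCharacter X)] at hsum
  · obtain ⟨e, he⟩ := exists_nat_classInner (isCharacter_restrict A (isCharacter_of_isIrrCharacter hχ))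
      (isCharacter_of_isIrrCharacter hθ)
    have he' : classInner (fun n : A => χ n) θ = e := he
    change conj (nu χ) * classInner (fun n : A => χ n) θ = _ at hsum
    rw [he'] at hsum ⊢
    have h1 := nu_ne_zero_of_real hχ hr
    have h2 := nu_ne_zero_of_real hθ hθr
    have hne0 : e ≠ 0 := by
      rintro rfl
      exact hcon (by rw [he']; simp)
    have hepos : (1 : ℝ) ≤ e := by exact_mod_cast Nat.one_le_iff_ne_zero.mpr hne0
    rcases nu_cases hχ with h | h | h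
    · exact absurd h h1
    · rcases nu_cases hθ with h' | h' | h'
      · exact absurd h' h2
      · rw [h, h'] at hsum
        simpa using hsum
      · exfalso
        rw [h, h'] at hsum
        have h3 := congrArg Complex.re hsum
        simp at h3
        linarith
    · rcases nu_cases hθ with h' | h' | h'
      · exact absurd h' h2
      · exfalso
        rw [h, h'] at hsum
        have h3 := congrArg Complex.re hsum
        simp at h3
        linarith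
      · rw [h, h'] at hsum
        simpa using hsum
  · intro χ' _ hne
    by_cases h0 : nu (χ' : X → ℂ) = 0
    · rw [h0, map_zero, zero_mul]
    · by_cases h1 : classInner (fun n : A => (χ' : X → ℂ) n) θ = 0
      · rw [h1, mul_zero]
      · exfalso
        apply hne
        apply Subtype.ext
        exact eq_of_real_of_lies_over A hodd hθ χ'.2 hχ (real_of_nu_ne_zero χ'.2 h0) hr h1 hcon
  · intro h
    exact absurd (Finset.mem_univ _) h

/-- The degree formula. -/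
theorem deg_formula (hA : A.Normal) (hodd : Odd A.index) {χ : X → ℂ} (hχ : IsIrrCharacter X χ)
    (hr : ∀ g, conj (χ g) = χ g) {θ : A → ℂ} (hθ : IsIrrCharacter A θ)
    (hθr : ∀ a, conj (θ a) = θ a) (hcon : classInner (fun n : A => χ n) θ ≠ 0) :
    charDegree χ = (inertia hA θ).index * charDegree θ := by
  apply charDegree_eq_of_eq_natCast
  rw [deg_eq_of_constituent hA hχ hθ hcon, mult_one hA hodd hχ hr hθ hθr hcon, one_mul]
  push_cast
  rw [charDegree_natCast (isCharacter_of_isIrrCharacter hθ)]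

theorem exists_conjOn_of_over (hA : A.Normal) {χ : X → ℂ} (hχ : IsIrrCharacter X χ)
    {θ₁ θ₂ : A → ℂ} (h₁ : IsIrrCharacter A θ₁) (h₂ : IsIrrCharacter A θ₂)
    (c₁ : classInner (fun n : A => χ n) θ₁ ≠ 0) (c₂ : classInner (fun n : A => χ n) θ₂ ≠ 0) :
    ∃ g : X, conjOn hA g θ₁ = θ₂ := by
  by_contra hno
  push Not at hno
  exact c₂ (classInner_restrict_eq_zero_of_not_conj hA hχ h₁ h₂ c₁ hno)

end OddReal

section Index

variable {G : Type u} [Group G] [Fintype G] {p : ℕ} [hp : Fact p.Prime]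

/-- Orbits: two `P`-fixed points in the same orbit are conjugate under the normalizer. -/
theorem exists_nz_of_fixed (P : Sylow p G) {Y : Type*} [MulAction G Y] {y₁ y₂ : Y}
    (h₁ : ∀ u ∈ (P : Subgroup G), u • y₁ = y₁) (h₂ : ∀ u ∈ (P : Subgroup G), u • y₂ = y₂) {g : G}
    (hg : g • y₁ = y₂) : ∃ n : Nz (P : Subgroup G), (n : G) • y₁ = y₂ := by
  have hinj := orbMap_injective (X := Y) P
  have h : orbMap (P : Subgroup G) Y (Quotient.mk _ ⟨y₂, h₂⟩) =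
      orbMap (P : Subgroup G) Y (Quotient.mk _ ⟨y₁, h₁⟩) := by
    apply Quotient.sound
    exact ⟨g, hg⟩
  have h3 := hinj h
  obtain ⟨n, hn⟩ : (⟨y₂, h₂⟩ : Fx (P : Subgroup G) Y) ∈ MulAction.orbit (Nz (P : Subgroup G)) (⟨y₁, h₁⟩ : Fx (P : Subgroup G) Y) :=
    Quotient.exact h3
  exact ⟨n, congrArg Subtype.val hn⟩

/-- The index congruence. -/
theorem index_modEq (P : Sylow p G) (T : Subgroup G) (hPT : (P : Subgroup G) ≤ T) :
    T.index ≡ T.relIndex (Nz (P : Subgroup G)) [MOD p] := by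
  have h1 := (P.isPGroup').card_modEq_card_fixedPoints (G ⧸ T)
  have h2 : T.index = Nat.card (G ⧸ T) := rfl
  rw [h2]
  refine h1.trans ?_
  set x₀ : G ⧸ T := ((1 : G) : G ⧸ T) with hx₀
  have hx₀fix : ∀ u ∈ (P : Subgroup G), u • x₀ = x₀ := by
    intro u hu
    change ((u * 1 : G) : G ⧸ T) = _
    rw [mul_one, hx₀, QuotientGroup.eq]
    simpa using hPT hu
  have hstab : MulAction.stabilizer (Nz (P : Subgroup G)) x₀ = T.subgroupOf (Nz (P : Subgroup G)) := by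
    ext n
    rw [MulAction.mem_stabilizer_iff, Subgroup.mem_subgroupOf]
    change ((((n : G) * 1 : G)) : G ⧸ T) = _ ↔ _
    rw [mul_one, hx₀, QuotientGroup.eq]
    constructor
    · intro h
      simpa using T.inv_mem h
    · intro h
      simpa using T.inv_mem h
  have h3 : T.relIndex (Nz (P : Subgroup G)) = Nat.card (MulAction.orbit (Nz (P : Subgroup G)) x₀) := by
    rw [Subgroup.relIndex, ← hstab, MulAction.index_stabilizer]
    rfl
  rw [h3]
  have hset : MulAction.fixedPoints (P : Subgroup G) (G ⧸ T) =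
      MulAction.orbit (Nz (P : Subgroup G)) x₀ := by
    ext y
    constructor
    · intro hy
      obtain ⟨g, hg⟩ := MulAction.exists_smul_eq G x₀ y
      obtain ⟨n, hn⟩ := exists_nz_of_fixed P hx₀fix (fun u hu => hy ⟨u, hu⟩) hg
      exact ⟨n, hn⟩
    · rintro ⟨n, rfl⟩ u
      have hn' : (n : G)⁻¹ * u * n ∈ (P : Subgroup G) :=
        Cfsg.Agent.S4864.conj_mem_of_nz n.2 u.2
      have h4 := hx₀fix _ hn'
      change (u : G) • ((n : G) • x₀) = (n : G) • x₀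
      rw [smul_smul]
      have e : (u : G) * n = n * ((n : G)⁻¹ * u * n) := by group
      rw [e, mul_smul, h4]
  rw [hset]

end Index

section Corr

variable {G : Type u} [Group G] [Fintype G] {p : ℕ} [hp : Fact p.Prime] {P Q K C : Subgroup G}

theorem good_not_bad {z : ℂ} (h1 : Good p z) (h2 : Bad p z) : False := by
  obtain ⟨ε, k, hε, hk⟩ := h1
  obtain ⟨k', hk'⟩ := h2
  have h3 : ((p * k + ε : ℤ) : ℂ) = ((p * k' : ℤ) : ℂ) := hk.symm.trans hk'
  have h4 : (p * k + ε : ℤ) = p * k' := by exact_mod_cast h3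
  have h5 : (p : ℤ) ∣ ε := ⟨k' - k, by linarith⟩
  have h6 : (p : ℤ) ∣ 1 := by
    rcases hε with rfl | rfl
    · exact h5
    · simpa using h5
  have h7 : p ∣ 1 := by exact_mod_cast h6
  exact hp.out.one_lt.ne' (Nat.dvd_one.mp h7)

/-- The correspondence. -/
def Cor (p : ℕ) (P : Subgroup G) {K C : Subgroup G} (hCK : C ≤ K) (θ : K → ℂ) (θ' : C → ℂ) : Prop :=
  IsIrrCharacter K θ ∧ PI P K θ ∧ IsIrrCharacter C θ' ∧ PI P C θ' ∧
    Good p (classInner (rs hCK θ) θ')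

/-- The hypotheses of the main correspondence. -/
structure Data (p : ℕ) (P Q K C : Subgroup G) : Prop where
  hP : IsPGroup p P
  hPK : ∀ x ∈ P, ∀ k ∈ K, x * k * x⁻¹ ∈ K
  hPQ : ∀ x ∈ P, ∀ q ∈ Q, x * q * x⁻¹ ∈ Q
  hQK : Q ≤ K
  hQn : ∀ k ∈ K, ∀ q ∈ Q, k * q * k⁻¹ ∈ Q
  hQp : IsPGroup p Q
  hQs : ¬ p ∣ Q.relIndex K
  hCK : C ≤ K
  hC : ∀ k, k ∈ C ↔ k ∈ K ∧ ∀ x ∈ P, x * k * x⁻¹ * k⁻¹ ∈ Q
  hQC : Q ≤ C

variable (hD : Data p P Q K C)

include hD

theorem Data.main' :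
    (∀ χ : K → ℂ, IsIrrCharacter K χ → PI P K χ →
      ∃ ξ : C → ℂ, IsIrrCharacter C ξ ∧ PI P C ξ ∧ Good p (classInner (rs hD.hCK χ) ξ) ∧
        ∀ ξ' : C → ℂ, IsIrrCharacter C ξ' → PI P C ξ' → ξ' ≠ ξ →
          Bad p (classInner (rs hD.hCK χ) ξ')) ∧
    (∀ ξ : C → ℂ, IsIrrCharacter C ξ → PI P C ξ →
      ∃ χ : K → ℂ, IsIrrCharacter K χ ∧ PI P K χ ∧ Good p (classInner (rs hD.hCK χ) ξ) ∧
        ∀ χ' : K → ℂ, IsIrrCharacter K χ' → PI P K χ' → χ' ≠ χ →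
          Bad p (classInner (rs hD.hCK χ') ξ)) :=
  main hp.out hD.hP hD.hPK hD.hPQ hD.hQK hD.hQn hD.hQp hD.hQs hD.hCK hD.hC hD.hQC

theorem Data.hPC : ∀ x ∈ P, ∀ c ∈ C, x * c * x⁻¹ ∈ C := by
  intro x hx c hc
  refine (hD.hC _).mpr ⟨hD.hPK x hx c (hD.hCK hc), fun y hy => ?_⟩
  have h1 := ((hD.hC c).mp hc).2 x hx
  have h3 := ((hD.hC c).mp hc).2 (y * x) (P.mul_mem hy hx)
  have h4 : y * (x * c * x⁻¹) * y⁻¹ * (x * c * x⁻¹)⁻¹ =
      (y * x * c * (y * x)⁻¹ * c⁻¹) * (x * c * x⁻¹ * c⁻¹)⁻¹ := by group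
  rw [h4]
  exact Q.mul_mem h3 (Q.inv_mem h1)

theorem Cor_right {θ : K → ℂ} (hθ : IsIrrCharacter K θ) (hθP : PI P K θ) :
    ∃ θ', Cor p P hD.hCK θ θ' := by
  obtain ⟨ξ, h1, h2, h3, -⟩ := hD.main'.1 θ hθ hθP
  exact ⟨ξ, hθ, hθP, h1, h2, h3⟩

theorem Cor_left {θ' : C → ℂ} (hθ : IsIrrCharacter C θ') (hθP : PI P C θ') :
    ∃ θ, Cor p P hD.hCK θ θ' := by
  obtain ⟨ξ, h1, h2, h3, -⟩ := hD.main'.2 θ' hθ hθP
  exact ⟨ξ, h1, h2, hθ, hθP, h3⟩

theorem Cor_uniq_right {θ : K → ℂ} {θ₁ θ₂ : C → ℂ} (h₁ : Cor p P hD.hCK θ θ₁)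
    (h₂ : Cor p P hD.hCK θ θ₂) : θ₁ = θ₂ := by
  obtain ⟨ξ, -, -, -, hbad⟩ := hD.main'.1 θ h₁.1 h₁.2.1
  have e1 : θ₁ = ξ := by
    by_contra hne
    exact good_not_bad h₁.2.2.2.2 (hbad θ₁ h₁.2.2.1 h₁.2.2.2.1 hne)
  have e2 : θ₂ = ξ := by
    by_contra hne
    exact good_not_bad h₂.2.2.2.2 (hbad θ₂ h₂.2.2.1 h₂.2.2.2.1 hne)
  rw [e1, e2]

theorem Cor_uniq_left {θ₁ θ₂ : K → ℂ} {θ : C → ℂ} (h₁ : Cor p P hD.hCK θ₁ θ)
    (h₂ : Cor p P hD.hCK θ₂ θ) : θ₁ = θ₂ := by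
  obtain ⟨ξ, -, -, -, hbad⟩ := hD.main'.2 θ h₁.2.2.1 h₁.2.2.2.1
  have e1 : θ₁ = ξ := by
    by_contra hne
    exact good_not_bad h₁.2.2.2.2 (hbad θ₁ h₁.1 h₁.2.1 hne)
  have e2 : θ₂ = ξ := by
    by_contra hne
    exact good_not_bad h₂.2.2.2.2 (hbad θ₂ h₂.1 h₂.2.1 hne)
  rw [e1, e2]

omit hD in
theorem PI_conj {A : Subgroup G} {f : A → ℂ} (h : PI P A f) : PI P A (fun a => conj (f a)) :=
  fun x hx k k' hk => congrArg _ (h x hx k k' hk)

omit hD in
theorem Cor_conj {hCK : C ≤ K} {θ : K → ℂ} {θ' : C → ℂ} (h : Cor p P hCK θ θ') :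
    Cor p P hCK (fun a => conj (θ a)) (fun a => conj (θ' a)) := by
  obtain ⟨h1, h2, h3, h4, h5⟩ := h
  refine ⟨Cfsg.Agent.Lib.Char.FrobSchur.isIrr_conj h1, PI_conj h2,
    Cfsg.Agent.Lib.Char.FrobSchur.isIrr_conj h3, PI_conj h4, ?_⟩
  have h6 : classInner (rs hCK (fun a => conj (θ a))) (fun a => conj (θ' a)) =
      conj (classInner (rs hCK θ) θ') := classInner_conj_conj _ _
  rw [h6]
  obtain ⟨ε, k, hε, hk⟩ := h5
  refine ⟨ε, k, hε, ?_⟩
  rw [hk, map_intCast]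

theorem Cor_real_right {θ : K → ℂ} {θ' : C → ℂ} (h : Cor p P hD.hCK θ θ')
    (hr : ∀ a, conj (θ a) = θ a) : ∀ a, conj (θ' a) = θ' a := by
  have h1 := Cor_conj h
  have h2 : (fun a => conj (θ a)) = θ := funext hr
  rw [h2] at h1
  have h3 := Cor_uniq_right hD h1 h
  exact fun a => congrFun h3 a

theorem Cor_real_left {θ : K → ℂ} {θ' : C → ℂ} (h : Cor p P hD.hCK θ θ')
    (hr : ∀ a, conj (θ' a) = θ' a) : ∀ a, conj (θ a) = θ a := by
  have h1 := Cor_conj h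
  have h2 : (fun a => conj (θ' a)) = θ' := funext hr
  rw [h2] at h1
  have h3 := Cor_uniq_left hD h1 h
  exact fun a => congrFun h3 a

omit hD in
theorem PI_act {N A : Subgroup G} (hNA : ∀ n ∈ N, ∀ a ∈ A, n * a * n⁻¹ ∈ A)
    (hNP : ∀ n ∈ N, ∀ x ∈ P, n * x * n⁻¹ ∈ P) (n : N) {f : A → ℂ} (h : PI P A f) :
    PI P A (f ∘ actOn N A hNA n) := by
  intro x hx k k' hk
  apply h _ (hNP n n.2 x hx)
  rw [actOn_coe, actOn_coe, hk]
  group

omit hD in
theorem Cor_act {N : Subgroup G} {hCK : C ≤ K} (hNK : ∀ n ∈ N, ∀ k ∈ K, n * k * n⁻¹ ∈ K)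
    (hNC : ∀ n ∈ N, ∀ c ∈ C, n * c * n⁻¹ ∈ C) (hNP : ∀ n ∈ N, ∀ x ∈ P, n * x * n⁻¹ ∈ P) (n : N)
    {θ : K → ℂ} {θ' : C → ℂ} (h : Cor p P hCK θ θ') :
    Cor p P hCK (θ ∘ actOn N K hNK n) (θ' ∘ actOn N C hNC n) := by
  obtain ⟨h1, h2, h3, h4, h5⟩ := h
  refine ⟨isIrrCharacter_comp_mulEquiv _ h1, PI_act hNK hNP n h2, isIrrCharacter_comp_mulEquiv _ h3,
    PI_act hNC hNP n h4, ?_⟩
  have h6 : rs hCK (θ ∘ actOn N K hNK n) = rs hCK θ ∘ actOn N C hNC n := rfl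
  rw [h6, classInner_comp_mulEquiv]
  exact h5

theorem Cor_deg {θ : K → ℂ} {θ' : C → ℂ} (h : Cor p P hD.hCK θ θ') :
    ∃ ε : ℤ, (ε = 1 ∨ ε = -1) ∧ (p : ℤ) ∣ (charDegree θ : ℤ) - ε * (charDegree θ' : ℤ) := by
  obtain ⟨ξ, h1, h2, h3, hbad⟩ := hD.main'.1 θ h.1 h.2.1
  have e1 : θ' = ξ := by
    by_contra hne
    exact good_not_bad h.2.2.2.2 (hbad θ' h.2.2.1 h.2.2.2.1 hne)
  subst e1
  exact deg_congr hp.out hD.hP hD.hPC hD.hCK h.1 h.2.1 h1 h2 h3 hbad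

end Corr

section NLevel

variable {G : Type u} [Group G] [Fintype G] {P C N : Subgroup G} (hCN : C ≤ N)
  (hNC : ∀ n ∈ N, ∀ c ∈ C, n * c * n⁻¹ ∈ C)

theorem conjOn_th (n : N) (f : C → ℂ) :
    conjOn (normal_subgroupOf hNC) n (th hCN f) = th hCN (f ∘ actOn N C hNC n) := by
  funext a
  rfl

theorem th_inj {f₁ f₂ : C → ℂ} (h : th hCN f₁ = th hCN f₂) : f₁ = f₂ := by
  funext c
  have := congrFun h ((Subgroup.subgroupOfEquivOfLe hCN).symm c)
  simpa using this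

theorem exists_th (g : C.subgroupOf N → ℂ) : ∃ f, th hCN f = g :=
  ⟨g ∘ (Subgroup.subgroupOfEquivOfLe hCN).symm, by
    funext a
    simp⟩

theorem PI_of_conjOn {K : Subgroup G} (hK : K.Normal) {f : K → ℂ}
    (h : ∀ x ∈ P, conjOn hK x f = f) : PI P K f := by
  intro x hx k k' hk
  have h1 := congrFun (h x hx) k
  rw [conjOn_apply] at h1
  rw [← h1]
  exact congrArg f (Subtype.ext hk)

theorem conjOn_of_PI {K : Subgroup G} (hK : K.Normal) {f : K → ℂ} (h : PI P K f) :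
    ∀ x ∈ P, conjOn hK x f = f := by
  intro x hx
  funext k
  rw [conjOn_apply]
  exact h x hx k _ rfl

theorem PI_of_th {f : C → ℂ}
    (h : ∀ x ∈ P.subgroupOf N, conjOn (normal_subgroupOf hNC) x (th hCN f) = th hCN f)
    (hPN : P ≤ N) : PI P C f := by
  intro x hx k k' hk
  have h1 := congrFun (h ⟨x, hPN hx⟩ (Subgroup.mem_subgroupOf.mpr hx)) ⟨⟨k, hCN k.2⟩, k.2⟩
  have h2 : th hCN f ⟨⟨k, hCN k.2⟩, k.2⟩ = f k := rfl
  rw [h2, conjOn_th hCN hNC] at h1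
  rw [← h1]
  change _ = f (actOn N C hNC ⟨x, hPN hx⟩ _)
  exact congrArg f (Subtype.ext hk)

theorem conjOn_th_of_PI {f : C → ℂ} (hf : PI P C f) :
    ∀ x ∈ P.subgroupOf N, conjOn (normal_subgroupOf hNC) x (th hCN f) = th hCN f := by
  intro x hx
  rw [conjOn_th hCN hNC]
  congr 1
  funext c
  exact hf x (Subgroup.mem_subgroupOf.mp hx) c _ rfl

variable (hoddL : Odd (C.subgroupOf N).index)

include hNC hoddL

theorem N_over {θ' : C → ℂ} (h : IsIrrCharacter C θ') (hr : ∀ a, conj (θ' a) = θ' a) :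
    ∃ ξ : N → ℂ, IsIrrCharacter N ξ ∧ (∀ n, conj (ξ n) = ξ n) ∧ classInner (rs hCN ξ) θ' ≠ 0 := by
  haveI := normal_subgroupOf hNC
  obtain ⟨χ, hχr, hcon⟩ := exists_real_over (C.subgroupOf N) hoddL (isIrr_th hCN h)
    (fun k => Complex.conj_eq_iff_im.mp (hr _))
  refine ⟨χ, χ.2, fun n => Complex.conj_eq_iff_im.mpr (hχr n), ?_⟩
  rw [← classInner_rs_bridge hCN]
  exact hcon

theorem N_uniq {θ' : C → ℂ} (h : IsIrrCharacter C θ') {ξ₁ ξ₂ : N → ℂ} (h₁ : IsIrrCharacter N ξ₁)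
    (h₂ : IsIrrCharacter N ξ₂) (r₁ : ∀ n, conj (ξ₁ n) = ξ₁ n) (r₂ : ∀ n, conj (ξ₂ n) = ξ₂ n)
    (c₁ : classInner (rs hCN ξ₁) θ' ≠ 0) (c₂ : classInner (rs hCN ξ₂) θ' ≠ 0) : ξ₁ = ξ₂ := by
  haveI := normal_subgroupOf hNC
  rw [← classInner_rs_bridge hCN] at c₁ c₂
  exact eq_of_real_of_lies_over (C.subgroupOf N) hoddL (isIrr_th hCN h) h₁ h₂ r₁ r₂ c₁ c₂

theorem N_under {ξ : N → ℂ} (hξ : IsIrrCharacter N ξ) (hr : ∀ n, conj (ξ n) = ξ n) :
    ∃ θ' : C → ℂ, IsIrrCharacter C θ' ∧ (∀ a, conj (θ' a) = θ' a) ∧ classInner (rs hCN ξ) θ' ≠ 0 := by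
  obtain ⟨θ'', h1, h2, h3⟩ := exists_real_under (normal_subgroupOf hNC) hoddL hξ hr
  obtain ⟨θ', rfl⟩ := exists_th hCN θ''
  have e : θ' = th hCN θ' ∘ (Subgroup.subgroupOfEquivOfLe hCN).symm := by
    funext a
    simp
  refine ⟨θ', ?_, ?_, ?_⟩
  · rw [e]
    exact isIrrCharacter_comp_mulEquiv _ h1
  · intro a
    rw [e]
    exact h2 _
  · rw [← classInner_rs_bridge hCN]
    exact h3

theorem N_deg {ξ : N → ℂ} (hξ : IsIrrCharacter N ξ) (hr : ∀ n, conj (ξ n) = ξ n) {θ' : C → ℂ}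
    (h : IsIrrCharacter C θ') (hθr : ∀ a, conj (θ' a) = θ' a) (hcon : classInner (rs hCN ξ) θ' ≠ 0) :
    charDegree ξ = (inertia (normal_subgroupOf hNC) (th hCN θ')).index * charDegree θ' := by
  rw [← classInner_rs_bridge hCN] at hcon
  rw [deg_formula (normal_subgroupOf hNC) hoddL hξ hr (isIrr_th hCN h) (fun a => hθr _) hcon]
  congr 1

omit hoddL in
theorem N_conj {ξ : N → ℂ} (hξ : IsIrrCharacter N ξ) {θ₁ θ₂ : C → ℂ} (h₁ : IsIrrCharacter C θ₁)
    (h₂ : IsIrrCharacter C θ₂) (c₁ : classInner (rs hCN ξ) θ₁ ≠ 0)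
    (c₂ : classInner (rs hCN ξ) θ₂ ≠ 0) : ∃ n : N, θ₁ ∘ actOn N C hNC n = θ₂ := by
  rw [← classInner_rs_bridge hCN] at c₁ c₂
  obtain ⟨n, hn⟩ := exists_conjOn_of_over (normal_subgroupOf hNC) hξ (isIrr_th hCN h₁)
    (isIrr_th hCN h₂) c₁ c₂
  rw [conjOn_th hCN hNC] at hn
  exact ⟨n, th_inj hCN hn⟩

omit hoddL in
theorem N_inv {ξ : N → ℂ} (hξ : IsClassFunction N ξ) (n : N) (θ' : C → ℂ) :
    classInner (rs hCN ξ) (θ' ∘ actOn N C hNC n) = classInner (rs hCN ξ) θ' := by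
  have h1 : rs hCN ξ = rs hCN ξ ∘ actOn N C hNC n := by
    funext c
    have := hξ ⟨c, hCN c.2⟩ n
    exact this.symm.trans (congrArg ξ (Subtype.ext rfl))
  conv_lhs => rw [h1]
  exact classInner_comp_mulEquiv _ _ _

end NLevel

section Final

variable {X : Type u} [Group X] [Fintype X] {A : Subgroup X}

theorem fixed_of_normal (hA : A.Normal) {Q : Subgroup X} (hQn : Q.Normal) {θ : A → ℂ} {g : X}
    (h : ∀ x ∈ Q, conjOn hA x (conjOn hA g θ) = conjOn hA g θ) : ∀ x ∈ Q, conjOn hA x θ = θ := by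
  intro x hx
  have hy : g⁻¹ * x * g ∈ Q := by simpa using hQn.conj_mem x hx g⁻¹
  have h1 := h _ hy
  rw [← conjOn_mul] at h1
  have e : g * (g⁻¹ * x * g) = x * g := by group
  rw [e, conjOn_mul] at h1
  have h2 := congrArg (conjOn hA g⁻¹) h1
  rwa [conjOn_inv_conjOn, conjOn_inv_conjOn] at h2

theorem exists_nz_conjOn {G : Type u} [Group G] [Fintype G] {p : ℕ} [Fact p.Prime] (P : Sylow p G)
    {K : Subgroup G} (hK : K.Normal) {θ₁ θ₂ : K → ℂ}
    (h₁ : ∀ u ∈ (P : Subgroup G), conjOn hK u θ₁ = θ₁)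
    (h₂ : ∀ u ∈ (P : Subgroup G), conjOn hK u θ₂ = θ₂) {g : G} (hg : conjOn hK g θ₁ = θ₂) :
    ∃ n : Nz (P : Subgroup G), conjOn hK (n : G) θ₁ = θ₂ := by
  letI act : MulAction G (K → ℂ) :=
    { smul := fun g θ => conjOn hK g⁻¹ θ
      one_smul := fun θ => by
        change conjOn hK 1⁻¹ θ = θ
        rw [inv_one, conjOn_one]
      mul_smul := fun a b θ => by
        change conjOn hK (a * b)⁻¹ θ = conjOn hK a⁻¹ (conjOn hK b⁻¹ θ)
        rw [mul_inv_rev, conjOn_mul] }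
  have hs : ∀ (g : G) (θ : K → ℂ), g • θ = conjOn hK g⁻¹ θ := fun _ _ => rfl
  obtain ⟨n, hn⟩ := exists_nz_of_fixed P (y₁ := θ₁) (y₂ := θ₂)
    (fun u hu => by rw [hs]; exact h₁ _ (inv_mem hu)) (fun u hu => by rw [hs]; exact h₂ _ (inv_mem hu))
    (g := g⁻¹) (by rw [hs, inv_inv]; exact hg)
  rw [hs] at hn
  exact ⟨n⁻¹, hn⟩

theorem not_dvd_index_inertia {G : Type u} [Group G] [Fintype G] {p : ℕ} [Fact p.Prime] (P : Sylow p G)
    {N : Subgroup G} (hPN : (P : Subgroup G) ≤ N) (S : Subgroup N)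
    (hS : (P : Subgroup G).subgroupOf N ≤ S) : ¬ p ∣ S.index := by
  intro h
  have h1 : S.index ∣ ((P : Subgroup G).subgroupOf N).index := Subgroup.index_dvd_of_le hS
  have h2 : ((P : Subgroup G).subgroupOf N).index * N.index = (P : Subgroup G).index :=
    Subgroup.relIndex_mul_index hPN
  apply P.not_dvd_index
  rw [← h2]
  exact Dvd.dvd.mul_right (h.trans h1) _

end Final

section Aux

theorem real_of_im {H : Type*} {f : H → ℂ} (h : ∀ a, (f a).im = 0) : ∀ a, conj (f a) = f a :=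
  fun a => Complex.conj_eq_iff_im.mpr (h a)

theorem im_of_real {H : Type*} {f : H → ℂ} (h : ∀ a, conj (f a) = f a) : ∀ a, (f a).im = 0 :=
  fun a => Complex.conj_eq_iff_im.mp (h a)

theorem aux {p : ℕ} [hp : Fact p.Prime] {G : Type u} [Group G] [Fintype G]
    (hsolv : Group.IsSolvable (Op p G)) (hreal : RealDegHyp p G) (P : Sylow p G) :
    ∃ f : {χ : IrrCharacter G // ∀ g : G, ((χ : G → ℂ) g).im = 0} →
        {ξ : IrrCharacter (Nz (P : Subgroup G)) //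
          (∀ n, ((ξ : Nz (P : Subgroup G) → ℂ) n).im = 0) ∧
            ¬ p ∣ charDegree (ξ : Nz (P : Subgroup G) → ℂ)},
      Function.Bijective f ∧ ∀ χ,
        ((charDegree ((f χ).1 : Nz (P : Subgroup G) → ℂ) : ZMod p) = (charDegree (χ.1 : G → ℂ) : ZMod p) ∨
         (charDegree ((f χ).1 : Nz (P : Subgroup G) → ℂ) : ZMod p) = -(charDegree (χ.1 : G → ℂ) : ZMod p)) := by
  set N := Nz (P : Subgroup G) with hNdef
  let K : Subgroup G := Op 2 G
  haveI hK : K.Normal := op_normal 2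
  have hodd : Odd K.index := odd_index_op2
  obtain ⟨R, hRn, hRp, hRK, hRi⟩ := exists_normal_pGroup hreal hsolv K hK le_rfl ⟨0, by simp [K]⟩
  have hRP : R ≤ (P : Subgroup G) := hRp.le_sylow_of_normal P
  have hinter : ∀ y, y ∈ (P : Subgroup G) → y ∈ K → y ∈ R := by
    intro y hyP hyK
    have h1 : R ≤ (P : Subgroup G) ⊓ K := le_inf hRP hRK
    have h2 := Subgroup.relIndex_mul_relIndex R ((P : Subgroup G) ⊓ K) K h1 inf_le_right
    have hpg : IsPGroup p ((P : Subgroup G) ⊓ K : Subgroup G) := P.isPGroup'.to_le inf_le_left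
    have h3 : R.relIndex ((P : Subgroup G) ⊓ K) ∣ Nat.card ((P : Subgroup G) ⊓ K : Subgroup G) :=
      Subgroup.relIndex_dvd_card _ _
    obtain ⟨b, hb⟩ := IsPGroup.iff_card.mp hpg
    rw [hb] at h3
    obtain ⟨c, -, hc⟩ := (Nat.dvd_prime_pow hp.out).mp h3
    have h4 : R.relIndex ((P : Subgroup G) ⊓ K) = 1 := by
      rcases Nat.eq_zero_or_pos c with rfl | hcpos
      · simpa using hc
      · exfalso
        apply hRi
        rw [← h2, hc]
        exact Dvd.dvd.mul_right (dvd_pow_self p hcpos.ne') _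
    exact Subgroup.relIndex_eq_one.mp h4 ⟨hyP, hyK⟩
  let C : Subgroup G := K ⊓ N
  have hC : ∀ k, k ∈ C ↔ k ∈ K ∧ ∀ x ∈ (P : Subgroup G), x * k * x⁻¹ * k⁻¹ ∈ R := by
    intro k
    constructor
    · rintro ⟨hkK, hkN⟩
      refine ⟨hkK, fun x hx => hinter _ ?_ ?_⟩
      · have h1 : k * x⁻¹ * k⁻¹ ∈ (P : Subgroup G) :=
          (Subgroup.mem_normalizer_iff.mp hkN x⁻¹).mp (inv_mem hx)
        have e : x * k * x⁻¹ * k⁻¹ = x * (k * x⁻¹ * k⁻¹) := by group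
        rw [e]
        exact mul_mem hx h1
      · exact mul_mem (hK.conj_mem k hkK x) (inv_mem hkK)
    · rintro ⟨hkK, hk⟩
      refine ⟨hkK, Subgroup.mem_normalizer_iff.mpr fun z => ⟨fun hz => ?_, fun hz => ?_⟩⟩
      · have h1 := hRP (hk z⁻¹ (inv_mem hz))
        have e : k * z * k⁻¹ = z * (z⁻¹ * k * z⁻¹⁻¹ * k⁻¹) := by group
        rw [e]
        exact mul_mem hz h1
      · have h1 := hk (k * z * k⁻¹) hz
        have h2 := hRn.conj_mem _ h1 k⁻¹
        have e : z = (k⁻¹ * ((k * z * k⁻¹) * k * (k * z * k⁻¹)⁻¹ * k⁻¹) * k⁻¹⁻¹) * (k * z * k⁻¹) := by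
          group
        rw [e]
        exact mul_mem (hRP h2) hz
  have hCK : C ≤ K := inf_le_left
  have hCN : C ≤ N := inf_le_right
  have hPN : (P : Subgroup G) ≤ N := Subgroup.le_normalizer
  have hD : Data p (P : Subgroup G) R K C :=
    { hP := P.isPGroup'
      hPK := fun x _ k hk => hK.conj_mem k hk x
      hPQ := fun x _ q hq => hRn.conj_mem q hq x
      hQK := hRK
      hQn := fun k _ q hq => hRn.conj_mem q hq k
      hQp := hRp
      hQs := hRi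
      hCK := hCK
      hC := hC
      hQC := le_inf hRK (hRP.trans hPN) }
  have hNK : ∀ n ∈ N, ∀ k ∈ K, n * k * n⁻¹ ∈ K := fun n _ k hk => hK.conj_mem k hk n
  have hNC : ∀ n ∈ N, ∀ c ∈ C, n * c * n⁻¹ ∈ C := fun n hn c hc =>
    ⟨hK.conj_mem c hc.1 n, N.mul_mem (N.mul_mem hn hc.2) (N.inv_mem hn)⟩
  have hNP : ∀ n ∈ N, ∀ x ∈ (P : Subgroup G), n * x * n⁻¹ ∈ (P : Subgroup G) :=
    fun n hn x hx => (Subgroup.mem_normalizer_iff.mp hn x).mp hx
  have hoddL : Odd (C.subgroupOf N).index := by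
    have h1 : (C.subgroupOf N).index = K.relIndex N := by
      show (K ⊓ N).relIndex N = _
      exact Subgroup.inf_relIndex_right K N
    rw [h1]
    exact Odd.of_dvd_nat hodd (Subgroup.relIndex_dvd_index_of_normal K N)
  -- the relation
  let Rel : (G → ℂ) → (N → ℂ) → Prop := fun χ ξ => ∃ (θ : K → ℂ) (θ' : C → ℂ),
    Cor p (P : Subgroup G) hCK θ θ' ∧ (∀ a, conj (θ a) = θ a) ∧ (∀ a, conj (θ' a) = θ' a) ∧
      classInner (fun n : K => χ n) θ ≠ 0 ∧ classInner (rs hCN ξ) θ' ≠ 0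
  -- degrees are prime to `p`
  have hdegK : ∀ {θ : K → ℂ}, IsIrrCharacter K θ → (∀ a, conj (θ a) = θ a) → ¬ p ∣ charDegree θ := by
    intro θ hθ hr hd
    obtain ⟨χ, hχr, hcon⟩ := exists_real_over K hodd hθ (im_of_real hr)
    apply hreal χ hχr
    rw [deg_formula hK hodd χ.2 (real_of_im hχr) hθ hr hcon]
    exact Dvd.dvd.mul_left hd _
  have hdegC : ∀ {θ : K → ℂ} {θ' : C → ℂ}, Cor p (P : Subgroup G) hCK θ θ' →
      (∀ a, conj (θ a) = θ a) → ¬ p ∣ charDegree θ' := by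
    intro θ θ' hcor hr hd
    obtain ⟨ε, hε, hdvd⟩ := Cor_deg hD hcor
    apply hdegK hcor.1 hr
    have h1 : (p : ℤ) ∣ (charDegree θ' : ℤ) := by exact_mod_cast hd
    have h2 : (p : ℤ) ∣ (charDegree θ : ℤ) := by
      have h3 := dvd_add hdvd (Dvd.dvd.mul_left h1 ε)
      simpa using h3
    exact_mod_cast h2
  have hinertia : ∀ {θ : K → ℂ} {θ' : C → ℂ}, Cor p (P : Subgroup G) hCK θ θ' →
      inertia (normal_subgroupOf hNC) (th hCN θ') = (inertia hK θ).subgroupOf N := by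
    intro θ θ' hcor
    ext n
    rw [Subgroup.mem_subgroupOf, mem_inertia, mem_inertia, conjOn_th hCN hNC]
    have hact := Cor_act hNK hNC hNP n hcor
    constructor
    · intro h
      have h1 := th_inj hCN h
      rw [h1] at hact
      exact Cor_uniq_left hD hact hcor
    · intro h
      have h2 : θ ∘ actOn N K hNK n = θ := h
      rw [h2] at hact
      rw [Cor_uniq_right hD hact hcor]
  -- the degree of `ξ` above a corresponding character
  have hdegN : ∀ {θ : K → ℂ} {θ' : C → ℂ} {ξ : N → ℂ}, Cor p (P : Subgroup G) hCK θ θ' →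
      (∀ a, conj (θ a) = θ a) → (∀ a, conj (θ' a) = θ' a) → IsIrrCharacter N ξ →
      (∀ n, conj (ξ n) = ξ n) → classInner (rs hCN ξ) θ' ≠ 0 → ¬ p ∣ charDegree ξ := by
    intro θ θ' ξ hcor hr hr' hξ hξr hcon hd
    rw [N_deg hCN hNC hoddL hξ hξr hcor.2.2.1 hr' hcon] at hd
    rcases (Nat.Prime.dvd_mul hp.out).mp hd with h | h
    · refine not_dvd_index_inertia P hPN _ ?_ h
      intro x hx
      exact conjOn_th_of_PI hCN hNC hcor.2.2.2.1 x hx
    · exact hdegC hcor hr h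
  -- totality
  have htotal : ∀ χ : {χ : IrrCharacter G // ∀ g : G, ((χ : G → ℂ) g).im = 0},
      ∃ ξ : {ξ : IrrCharacter N // (∀ n, ((ξ : N → ℂ) n).im = 0) ∧ ¬ p ∣ charDegree (ξ : N → ℂ)},
        Rel (χ.1 : G → ℂ) (ξ.1 : N → ℂ) := by
    rintro ⟨χ, hχr⟩
    obtain ⟨θ₀, hθ₀, hr₀, hc₀⟩ := exists_real_under hK hodd χ.2 (real_of_im hχr)
    obtain ⟨g, hg⟩ := exists_conj_fixed hK χ.2 (hreal χ hχr) hθ₀ hc₀ P.isPGroup'
    have hθ : IsIrrCharacter K (conjOn hK g θ₀) := isIrrCharacter_conjOn hK g hθ₀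
    have hθr : ∀ a, conj (conjOn hK g θ₀ a) = conjOn hK g θ₀ a := fun a => conjOn_real hK g hr₀ a
    have hθP : PI (P : Subgroup G) K (conjOn hK g θ₀) := PI_of_conjOn hK hg
    obtain ⟨θ', hcor⟩ := Cor_right hD hθ hθP
    have hθ'r := Cor_real_right hD hcor hθr
    obtain ⟨ξ, hξ, hξr, hcon⟩ := N_over hCN hNC hoddL hcor.2.2.1 hθ'r
    refine ⟨⟨⟨ξ, hξ⟩, im_of_real hξr, hdegN hcor hθr hθ'r hξ hξr hcon⟩, conjOn hK g θ₀, θ', hcor, hθr,
      hθ'r, ?_, hcon⟩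
    rw [over_conjOn hK (isClassFunction_of_isIrrCharacter χ.2)]
    exact hc₀
  -- functional
  have hfun : ∀ {χ : G → ℂ} {ξ₁ ξ₂ : N → ℂ}, IsIrrCharacter G χ →
      IsIrrCharacter N ξ₁ → IsIrrCharacter N ξ₂ →
      (∀ n, conj (ξ₁ n) = ξ₁ n) → (∀ n, conj (ξ₂ n) = ξ₂ n) →
      Rel χ ξ₁ → Rel χ ξ₂ → ξ₁ = ξ₂ := by
    rintro χ ξ₁ ξ₂ hχ hξ₁ hξ₂ r₁ r₂ ⟨θ₁, θ₁', c₁, -, hr₁', o₁, o₁'⟩ ⟨θ₂, θ₂', c₂, -, hr₂', o₂, o₂'⟩
    obtain ⟨g, hg⟩ := exists_conjOn_of_over hK hχ c₁.1 c₂.1 o₁ o₂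
    obtain ⟨n, hn⟩ := exists_nz_conjOn P hK (conjOn_of_PI hK c₁.2.1) (conjOn_of_PI hK c₂.2.1) hg
    have hact := Cor_act hNK hNC hNP n c₁
    have e : θ₁ ∘ actOn N K hNK n = θ₂ := hn
    rw [e] at hact
    have e2 := Cor_uniq_right hD hact c₂
    have h3 : classInner (rs hCN ξ₁) θ₂' ≠ 0 := by
      rw [← e2, N_inv hCN hNC (isClassFunction_of_isIrrCharacter hξ₁)]
      exact o₁'
    exact N_uniq hCN hNC hoddL c₂.2.2.1 hξ₁ hξ₂ r₁ r₂ h3 o₂'
  -- injective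
  have hinj : ∀ {χ₁ χ₂ : G → ℂ} {ξ : N → ℂ}, IsIrrCharacter G χ₁ → IsIrrCharacter G χ₂ →
      IsIrrCharacter N ξ → (∀ g, conj (χ₁ g) = χ₁ g) → (∀ g, conj (χ₂ g) = χ₂ g) →
      Rel χ₁ ξ → Rel χ₂ ξ → χ₁ = χ₂ := by
    rintro χ₁ χ₂ ξ hχ₁ hχ₂ hξ r₁ r₂ ⟨θ₁, θ₁', c₁, hr₁, -, o₁, o₁'⟩ ⟨θ₂, θ₂', c₂, hr₂, -, o₂, o₂'⟩
    obtain ⟨n, hn⟩ := N_conj hCN hNC hξ c₁.2.2.1 c₂.2.2.1 o₁' o₂'
    have hact := Cor_act hNK hNC hNP n c₁
    rw [hn] at hact
    have e2 := Cor_uniq_left hD hact c₂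
    have h3 : classInner (fun n : K => χ₁ n) θ₂ ≠ 0 := by
      rw [← e2]
      have e3 : θ₁ ∘ actOn N K hNK n = conjOn hK (n : G) θ₁ := rfl
      rw [e3, over_conjOn hK (isClassFunction_of_isIrrCharacter hχ₁)]
      exact o₁
    exact eq_of_real_of_lies_over K hodd c₂.1 hχ₁ hχ₂ r₁ r₂ h3 o₂
  -- surjective
  have hsurj : ∀ ξ : {ξ : IrrCharacter N // (∀ n, ((ξ : N → ℂ) n).im = 0) ∧ ¬ p ∣ charDegree (ξ : N → ℂ)},
      ∃ χ : {χ : IrrCharacter G // ∀ g : G, ((χ : G → ℂ) g).im = 0},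
        Rel (χ.1 : G → ℂ) (ξ.1 : N → ℂ) := by
    rintro ⟨ξ, hξr, hξp⟩
    obtain ⟨θ', hθ', hr', hcon⟩ := N_under hCN hNC hoddL ξ.2 (real_of_im hξr)
    have hcon' := hcon
    rw [← classInner_rs_bridge hCN] at hcon'
    haveI hPn : ((P : Subgroup G).subgroupOf N).Normal := normal_subgroupOf hNP
    have hPp : IsPGroup p ((P : Subgroup G).subgroupOf N) :=
      P.isPGroup'.comap_of_injective N.subtype N.subtype_injective
    obtain ⟨g, hg⟩ := exists_conj_fixed (normal_subgroupOf hNC) ξ.2 hξp (isIrr_th hCN hθ') hcon' hPp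
    have hfix := fixed_of_normal (normal_subgroupOf hNC) hPn hg
    have hθ'P : PI (P : Subgroup G) C θ' := PI_of_th hCN hNC hfix hPN
    obtain ⟨θ, hcor⟩ := Cor_left hD hθ' hθ'P
    have hθr := Cor_real_left hD hcor hr'
    obtain ⟨χ, hχr, hc⟩ := exists_real_over K hodd hcor.1 (im_of_real hθr)
    exact ⟨⟨χ, hχr⟩, θ, θ', hcor, hθr, hr', hc, hcon⟩
  -- degrees
  have hdeg : ∀ {χ : G → ℂ} {ξ : N → ℂ}, IsIrrCharacter G χ → IsIrrCharacter N ξ →
      (∀ g, conj (χ g) = χ g) → (∀ n, conj (ξ n) = ξ n) → Rel χ ξ →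
      ((charDegree ξ : ZMod p) = (charDegree χ : ZMod p) ∨
        (charDegree ξ : ZMod p) = -(charDegree χ : ZMod p)) := by
    rintro χ ξ hχ hξ rχ rξ ⟨θ, θ', hcor, hr, hr', hc, hc'⟩
    have h1 := deg_formula hK hodd hχ rχ hcor.1 hr hc
    have h2 := N_deg hCN hNC hoddL hξ rξ hcor.2.2.1 hr' hc'
    rw [hinertia hcor] at h2
    have hPT : (P : Subgroup G) ≤ inertia hK θ := fun x hx => conjOn_of_PI hK hcor.2.1 x hx
    have h3 := index_modEq P (inertia hK θ) hPT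
    have h4 : ((inertia hK θ).index : ZMod p) = (((inertia hK θ).subgroupOf N).index : ZMod p) :=
      (ZMod.natCast_eq_natCast_iff _ _ _).mpr h3
    obtain ⟨ε, hε, hdvd⟩ := Cor_deg hD hcor
    have h5 : ((charDegree θ : ℤ) : ZMod p) = ((ε * (charDegree θ' : ℤ) : ℤ) : ZMod p) := by
      rw [ZMod.intCast_eq_intCast_iff_dvd_sub]
      have := (dvd_neg).mpr hdvd
      simpa using this
    push_cast at h5
    rw [h1, h2]
    push_cast
    rw [h4, h5]
    rcases hε with rfl | rfl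
    · left
      push_cast
      ring
    · right
      push_cast
      ring
  choose f hf using htotal
  refine ⟨f, ⟨?_, ?_⟩, ?_⟩
  · intro χ₁ χ₂ h12
    have h1 := hf χ₁
    have h2 := hf χ₂
    rw [← h12] at h2
    apply Subtype.ext
    apply Subtype.ext
    exact hinj χ₁.1.2 χ₂.1.2 (f χ₁).1.2 (real_of_im χ₁.2) (real_of_im χ₂.2) h1 h2
  · intro ξ
    obtain ⟨χ, hχ⟩ := hsurj ξ
    refine ⟨χ, ?_⟩
    apply Subtype.ext
    apply Subtype.ext
    exact hfun χ.1.2 (f χ).1.2 ξ.1.2 (real_of_im (f χ).2.1) (real_of_im ξ.2.1) (hf χ) hχ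
  · intro χ
    exact hdeg χ.1.2 (f χ).1.2 (real_of_im χ.2) (real_of_im (f χ).2.1) (hf χ)

end Aux



/-- Let p be a prime and G a finite group such that the subgroup generated by the p-elements of G is solvable and every real-valued irreducible complex character of G has degree prime to p. Let N be the normalizer of a Sylow p-subgroup of G. Then there is a bijection from the real-valued irreducible characters of G onto the real-valued irreducible characters of N of degree prime to p under which corresponding degrees are congruent modulo p up to sign. -/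
theorem result {G : Type*} [Group G] [Finite G] (p : ℕ) [Fact p.Prime] (hsolv : Group.IsSolvable ↥(Subgroup.closure {g : G | ∃ k : ℕ, orderOf g = p ^ k})) (hreal : ∀ χ : Cfsg.IrrCharacter G, (∀ g : G, ((χ : G → ℂ) g).im = 0) → ¬ p ∣ Cfsg.charDegree (χ : G → ℂ)) (P : Sylow p G) : ∃ f : {χ : Cfsg.IrrCharacter G // ∀ g : G, ((χ : G → ℂ) g).im = 0} → {ξ : Cfsg.IrrCharacter ↥(Subgroup.normalizer ((P : Subgroup G) : Set G)) // (∀ n, ((ξ : ↥(Subgroup.normalizer ((P : Subgroup G) : Set G)) → ℂ) n).im = 0) ∧ ¬ p ∣ Cfsg.charDegree (ξ : ↥(Subgroup.normalizer ((P : Subgroup G) : Set G)) → ℂ)}, Function.Bijective f ∧ ∀ χ, ((Cfsg.charDegree ((f χ).1 : ↥(Subgroup.normalizer ((P : Subgroup G) : Set G)) → ℂ) : ZMod p) = (Cfsg.charDegree (χ.1 : G → ℂ) : ZMod p) ∨ (Cfsg.charDegree ((f χ).1 : ↥(Subgroup.normalizer ((P : Subgroup G) : Set G)) → ℂ) : ZMod p) = -(Cfsg.charDegree (χ.1 : G → ℂ) : ZMod p)) := by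
  letI : Fintype G := Fintype.ofFinite G
  exact aux hsolv hreal P

end Cfsg.Agent.S4865
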