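import Cfsg.Statements.S0752

set_option autoImplicit false
open Cfsg

namespace Cfsg.Agent.S0752

universe u v

variable {F : Type u} [Field F]

/-- Inductive form of the statement. -/
theorem aux (n : ℕ) : ∀ (V : Type v) [AddCommGroup V] [Module F V] [FiniteDimensional F V]
    (B : LinearMap.BilinForm F V) (_hA : B.IsAlt) (_hn : Module.finrank F V = n),
    ∃ (m k : ℕ) (b : Module.Basis ((Fin m ⊕ Fin m) ⊕ Fin k) F V), (∀ i j : Fin m, B (b (Sum.inl (Sum.inl i))) (b (Sum.inl (Sum.inr j))) = if i = j then 1 else 0) ∧ (∀ i j : Fin m, B (b (Sum.inl (Sum.inl i))) (b (Sum.inl (Sum.inl j))) = 0) ∧ (∀ i j : Fin m, B (b (Sum.inl (Sum.inr i))) (b (Sum.inl (Sum.inr j))) = 0) ∧ (∀ (j : Fin k) (v : V), B (b (Sum.inr j)) v = 0) := by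
  induction n using Nat.strong_induction_on with
  | _ n ih =>
  intro V _ _ _ B hA hn
  classical
  by_cases hB : B = 0
  · -- radical is everything
    let e : Fin n ≃ (Fin 0 ⊕ Fin 0) ⊕ Fin n :=
      { toFun := Sum.inr
        invFun := fun x => match x with
          | Sum.inl (Sum.inl i) => i.elim0
          | Sum.inl (Sum.inr i) => i.elim0
          | Sum.inr j => j
        left_inv := fun _ => rfl
        right_inv := by
          rintro ((i | i) | j)
          · exact i.elim0
          · exact i.elim0
          · rfl }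
    refine ⟨0, n, (Module.finBasisOfFinrankEq F V hn).reindex e, fun i => i.elim0, fun i => i.elim0, fun i => i.elim0, ?_⟩
    intro j v
    simp [hB]
  · -- a hyperbolic pair
    obtain ⟨e, f, hef⟩ : ∃ e f : V, B e f = 1 := by
      have : ∃ x y, B x y ≠ 0 := by
        by_contra hcon
        push Not at hcon
        exact hB (LinearMap.ext fun x => LinearMap.ext fun y => hcon x y)
      obtain ⟨x, y, hxy⟩ := this
      refine ⟨(B x y)⁻¹ • x, y, ?_⟩
      simp [hxy]
    have hanti : ∀ x y : V, B y x = - B x y := fun x y => hA.neg_eq y x ▸ (by simp)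
    have hfe : B f e = -1 := by rw [hanti e f, hef]
    have hee : B e e = 0 := hA e
    have hff : B f f = 0 := hA f
    let W : Submodule F V := LinearMap.ker (B e) ⊓ LinearMap.ker (B f)
    have hWmem : ∀ z : V, z ∈ W ↔ B e z = 0 ∧ B f z = 0 := by
      intro z
      simp [W]
    -- every vector decomposes
    have hdec : ∀ z : V, z + B f z • e - B e z • f ∈ W := by
      intro z
      rw [hWmem]
      constructor
      · simp [hee, hef]
      · simp [hff, hfe]
    -- the inclusion of F × F × W
    let Φ : (F × F × W) →ₗ[F] V :=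
      (LinearMap.fst F F (F × W)).smulRight e + ((LinearMap.fst F F W).comp (LinearMap.snd F F (F × W))).smulRight f
        + W.subtype.comp ((LinearMap.snd F F W).comp (LinearMap.snd F F (F × W)))
    have hΦ : ∀ a c (w : W), Φ (a, c, w) = a • e + c • f + (w : V) := by
      intro a c w
      simp [Φ]
    have hΦinj : Function.Injective Φ := by
      rw [← LinearMap.ker_eq_bot, LinearMap.ker_eq_bot']
      rintro ⟨a, c, w⟩ h
      rw [hΦ] at h
      have hw := (hWmem w).mp w.2
      have h1 := congrArg (B e) h
      have h2 := congrArg (B f) h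
      simp only [map_add, map_smul, smul_eq_mul, hee, hef, hfe, hff, hw.1, hw.2, map_zero] at h1 h2
      have hc : c = 0 := by linear_combination h1
      have ha : a = 0 := by linear_combination -h2
      subst hc; subst ha
      simp only [zero_smul, zero_add] at h
      have hw0 : w = 0 := Subtype.ext h
      subst hw0
      rfl
    have hΦsurj : Function.Surjective Φ := by
      intro z
      refine ⟨(-B f z, B e z, ⟨_, hdec z⟩), ?_⟩
      rw [hΦ]
      simp only [neg_smul]
      abel
    let Ψ : (F × F × W) ≃ₗ[F] V := LinearEquiv.ofBijective Φ ⟨hΦinj, hΦsurj⟩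
    have hdim : Module.finrank F W + 2 = n := by
      have := Ψ.finrank_eq
      rw [Module.finrank_prod, Module.finrank_prod, Module.finrank_self, hn] at this
      omega
    have hres : (B.domRestrict₁₂ W W).IsAlt := fun x => hA x
    obtain ⟨m, k, b, h1, h2, h3, h4⟩ := ih (Module.finrank F W) (by omega) W (B.domRestrict₁₂ W W) hres rfl
    simp only [LinearMap.domRestrict₁₂_apply] at h1 h2 h3 h4
    have hbW : ∀ i, B e (b i : V) = 0 ∧ B f (b i : V) = 0 := fun i => (hWmem _).mp (b i).2
    -- the new family
    let v : (Fin (m + 1) ⊕ Fin (m + 1)) ⊕ Fin k → V :=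
      Sum.elim (Sum.elim (Fin.cons e (fun i => (b (Sum.inl (Sum.inl i)) : V)))
        (Fin.cons f (fun i => (b (Sum.inl (Sum.inr i)) : V)))) (fun j => (b (Sum.inr j) : V))
    have hli : LinearIndependent F v := by
      rw [Fintype.linearIndependent_iff]
      intro g hg
      have hsum : ∑ i, g i • v i = g (Sum.inl (Sum.inl 0)) • e + g (Sum.inl (Sum.inr 0)) • f +
          ((∑ i : Fin m, g (Sum.inl (Sum.inl i.succ)) • (b (Sum.inl (Sum.inl i)) : V))
          + (∑ i : Fin m, g (Sum.inl (Sum.inr i.succ)) • (b (Sum.inl (Sum.inr i)) : V))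
          + ∑ j : Fin k, g (Sum.inr j) • (b (Sum.inr j) : V)) := by
        rw [Fintype.sum_sum_type, Fintype.sum_sum_type, Fin.sum_univ_succ, Fin.sum_univ_succ]
        simp only [v, Sum.elim_inl, Sum.elim_inr, Fin.cons_zero, Fin.cons_succ]
        abel
      rw [hsum] at hg
      set w : V := (∑ i : Fin m, g (Sum.inl (Sum.inl i.succ)) • (b (Sum.inl (Sum.inl i)) : V))
          + (∑ i : Fin m, g (Sum.inl (Sum.inr i.succ)) • (b (Sum.inl (Sum.inr i)) : V))
          + ∑ j : Fin k, g (Sum.inr j) • (b (Sum.inr j) : V) with hw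
      have hwW : w ∈ W := by
        apply W.add_mem (W.add_mem _ _)
        · exact W.sum_mem (fun j _ => W.smul_mem _ (b _).2)
        · exact W.sum_mem (fun j _ => W.smul_mem _ (b _).2)
        · exact W.sum_mem (fun j _ => W.smul_mem _ (b _).2)
      have hw' := (hWmem w).mp hwW
      have e1 := congrArg (B e) hg
      have e2 := congrArg (B f) hg
      simp only [map_add, map_smul, smul_eq_mul, hee, hef, hfe, hff, hw'.1, hw'.2, map_zero] at e1 e2
      have hc : g (Sum.inl (Sum.inr 0)) = 0 := by linear_combination e1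
      have ha : g (Sum.inl (Sum.inl 0)) = 0 := by linear_combination -e2
      rw [hc, ha, zero_smul, zero_smul, zero_add, zero_add] at hg
      -- now use independence of `b`
      have hbli := Fintype.linearIndependent_iff.mp b.linearIndependent
      let g' : (Fin m ⊕ Fin m) ⊕ Fin k → F :=
        Sum.elim (Sum.elim (fun i => g (Sum.inl (Sum.inl i.succ))) (fun i => g (Sum.inl (Sum.inr i.succ))))
          (fun j => g (Sum.inr j))
      have hg' : ∑ i, g' i • b i = 0 := by
        apply Subtype.ext
        rw [Fintype.sum_sum_type, Fintype.sum_sum_type]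
        simp only [g', Sum.elim_inl, Sum.elim_inr]
        simpa [Submodule.coe_sum, hw] using hg
      have hz := hbli g' hg'
      rintro ((i | i) | j)
      · refine Fin.cases ha (fun i' => ?_) i
        exact hz (Sum.inl (Sum.inl i'))
      · refine Fin.cases hc (fun i' => ?_) i
        exact hz (Sum.inl (Sum.inr i'))
      · exact hz (Sum.inr j)
    have hcard : Fintype.card ((Fin (m + 1) ⊕ Fin (m + 1)) ⊕ Fin k) = Module.finrank F V := by
      have h5 := Module.finrank_eq_card_basis b
      simp only [Fintype.card_sum, Fintype.card_fin] at h5 ⊢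
      omega
    let b' : Module.Basis ((Fin (m + 1) ⊕ Fin (m + 1)) ⊕ Fin k) F V :=
      basisOfLinearIndependentOfCardEqFinrank hli hcard
    have hb' : ∀ i, b' i = v i := fun i => by
      rw [coe_basisOfLinearIndependentOfCardEqFinrank]
    refine ⟨m + 1, k, b', ?_, ?_, ?_, ?_⟩
    · intro i j
      rw [hb', hb']
      simp only [v, Sum.elim_inl, Sum.elim_inr]
      refine Fin.cases ?_ (fun i' => ?_) i <;> refine Fin.cases ?_ (fun j' => ?_) j
      · simp [hef]
      · simp [(hbW _).1, (Fin.succ_ne_zero _).symm]
      · rw [Fin.cons_succ, Fin.cons_zero, hanti, (hbW _).2]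
        simp
      · rw [Fin.cons_succ, Fin.cons_succ, h1]
        simp
    · intro i j
      rw [hb', hb']
      simp only [v, Sum.elim_inl]
      refine Fin.cases ?_ (fun i' => ?_) i <;> refine Fin.cases ?_ (fun j' => ?_) j
      · simp [hee]
      · simp [(hbW _).1]
      · rw [Fin.cons_succ, Fin.cons_zero, hanti, (hbW _).1]
        simp
      · rw [Fin.cons_succ, Fin.cons_succ, h2]
    · intro i j
      rw [hb', hb']
      simp only [v, Sum.elim_inl, Sum.elim_inr]
      refine Fin.cases ?_ (fun i' => ?_) i <;> refine Fin.cases ?_ (fun j' => ?_) j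
      · simp [hff]
      · simp [(hbW _).2]
      · rw [Fin.cons_succ, Fin.cons_zero, hanti, (hbW _).2]
        simp
      · rw [Fin.cons_succ, Fin.cons_succ, h3]
    · intro j z
      rw [hb']
      simp only [v, Sum.elim_inr]
      -- decompose z
      obtain ⟨⟨a, c, w⟩, rfl⟩ := hΦsurj z
      rw [hΦ]
      have hr := h4 j w
      have hbj := hbW (Sum.inr j)
      simp only [map_add, map_smul, smul_eq_mul, hr]
      rw [hanti, hbj.1, hanti, hbj.2]
      simp

/-- Classification of alternating forms: for an alternating bilinear form B on a finite-dimensional space over any field there is a basis indexed by (Fin m ⊕ Fin m) ⊕ Fin k such that B (e_i, f_j) = δ_ij, the e's are pairwise orthogonal, the f's are pairwise orthogonal, and the last k basis vectors are orthogonal to everything (they span the radical). -/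
theorem result {F V : Type*} [Field F] [AddCommGroup V] [Module F V] [FiniteDimensional F V] (B : LinearMap.BilinForm F V) (hA : B.IsAlt) : ∃ (m k : ℕ) (b : Module.Basis ((Fin m ⊕ Fin m) ⊕ Fin k) F V), (∀ i j : Fin m, B (b (Sum.inl (Sum.inl i))) (b (Sum.inl (Sum.inr j))) = if i = j then 1 else 0) ∧ (∀ i j : Fin m, B (b (Sum.inl (Sum.inl i))) (b (Sum.inl (Sum.inl j))) = 0) ∧ (∀ i j : Fin m, B (b (Sum.inl (Sum.inr i))) (b (Sum.inl (Sum.inr j))) = 0) ∧ (∀ (j : Fin k) (v : V), B (b (Sum.inr j)) v = 0) :=
  aux _ V B hA rfl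

end Cfsg.Agent.S0752
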