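import Cfsg.Statements.S0884
import Cfsg.Agent.Lib.Zass.InvCentral

set_option autoImplicit false
open Cfsg

namespace Cfsg.Agent.S0884

/-- Let G be a finite simple Zassenhaus group on Ω with h + 1 points whose two-point stabilizer E has odd order e with 2e < h - 1, and let H be the subgroup of the stabilizer of a consisting of the identity and the elements fixing no point other than a (given here as a subgroup of the stabilizer of order one less than the number of points whose non-identity elements fix only a; it is the Frobenius kernel of the stabilizer). Then at least e conjugacy classes of G contain no element of H. -/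
theorem result {G Ω : Type*} [Group G] [Finite G] [MulAction G Ω] [Fintype Ω] (hZ : Cfsg.IsZassenhausGroup G Ω) {a b : Ω} (hab : a ≠ b) [IsSimpleGroup G] (h e : ℕ) (hh : Fintype.card Ω = h + 1) (he : Nat.card ↥(MulAction.stabilizer G a ⊓ MulAction.stabilizer G b : Subgroup G) = e) (hodd : Odd e) (hlt : 2 * e < h - 1) (H : Subgroup G) (hHa : H ≤ MulAction.stabilizer G a) (hHcard : Nat.card H + 1 = Fintype.card Ω) (hHfix : ∀ u ∈ H, u ≠ 1 → ∀ c : Ω, u • c = c → c = a) : e ≤ Nat.card {C : ConjClasses G // ∀ g : G, ConjClasses.mk g = C → g ∉ H} := by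
  classical
  haveI := Fintype.ofFinite G
  subst he
  have hC := Cfsg.Agent.Lib.Zass.Inv.Ctx.of_simple hZ hab hodd
  have h1 : Nat.card ↥(MulAction.stabilizer G a ⊓ MulAction.stabilizer G b : Subgroup G) + 1 ≤ _ :=
    Cfsg.Agent.Lib.Zass.InvCount.two_mul_card_fpfClasses (G := G) hC hab
  have h2 : Nat.card ↥(MulAction.stabilizer G a ⊓ MulAction.stabilizer G b : Subgroup G) ≤ _ :=
    Cfsg.Agent.Lib.Zass.InvCentral.card_eClasses (G := G) hC hab
  set A := Cfsg.Agent.Lib.Zass.InvCount.fpfClasses G Ω with hA
  set B := Cfsg.Agent.Lib.Zass.InvCentral.eClasses (G := G) a b with hB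
  have hdisj : Disjoint A B := by
    rw [Finset.disjoint_left]
    intro C hC1 hC2
    obtain ⟨x, hx, rfl⟩ := Finset.mem_image.1 hC2
    rw [Finset.mem_filter] at hx
    have hxa : x • a = a := hx.2.1.1
    rw [hA, Cfsg.Agent.Lib.Zass.InvCount.fpfClasses, Finset.mem_filter] at hC1
    exact hC1.2 x rfl a hxa
  have hcard : (A ∪ B).card = A.card + B.card := Finset.card_union_of_disjoint hdisj
  have hsub : ∀ C ∈ A ∪ B, ∀ g : G, ConjClasses.mk g = C → g ∉ H := by
    intro C hC1 g hg hgH
    rw [Finset.mem_union] at hC1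
    rcases hC1 with hC1 | hC1
    · rw [hA, Cfsg.Agent.Lib.Zass.InvCount.fpfClasses, Finset.mem_filter] at hC1
      exact hC1.2 g hg a (hHa hgH)
    · obtain ⟨x, hx, rfl⟩ := Finset.mem_image.1 hC1
      rw [Finset.mem_filter] at hx
      obtain ⟨-, hxE, hx1⟩ := hx
      obtain ⟨y, hy⟩ := isConj_iff.1 (ConjClasses.mk_eq_mk_iff_isConj.1 hg).symm
      have hg1 : g ≠ 1 := by
        rintro rfl
        apply hx1
        have := congrArg (fun z => y⁻¹ * z * y) hy
        simpa [mul_assoc] using this
      have hfa : g • (y • a) = y • a := by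
        rw [← hy, mul_smul, mul_smul, inv_smul_smul, hxE.1]
      have hfb : g • (y • b) = y • b := by
        rw [← hy, mul_smul, mul_smul, inv_smul_smul, hxE.2]
      have h3 := hHfix g hgH hg1 _ hfa
      have h4 := hHfix g hgH hg1 _ hfb
      exact hab (smul_left_cancel y (h3.trans h4.symm))
  let f : {C // C ∈ A ∪ B} → {C : ConjClasses G // ∀ g : G, ConjClasses.mk g = C → g ∉ H} :=
    fun C => ⟨C.1, hsub C.1 C.2⟩
  have hf : Function.Injective f := fun C D h => by
    have h0 : (f C).1 = (f D).1 := congrArg Subtype.val h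
    exact Subtype.ext h0
  have h3 := Nat.card_le_card_of_injective f hf
  have h4 : Nat.card {C // C ∈ A ∪ B} = (A ∪ B).card := by
    rw [Nat.card_eq_fintype_card, Fintype.card_coe]
  omega

end Cfsg.Agent.S0884
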