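import Cfsg.Statements.S0879
import Cfsg.Agent.Lib.CharDeep.Zassenhaus

set_option autoImplicit false
open Cfsg

namespace Cfsg.Agent.S0879

open MulAction

/-- Let G be a Zassenhaus group on the finite set Ω and E the stabilizer of two distinct points a, b. Then an element outside the normalizer of E conjugates no non-identity element of E into E, and E has index 2 in its normalizer. -/
theorem result {G Ω : Type*} [Group G] [Finite G] [MulAction G Ω] [Fintype Ω] (hZ : Cfsg.IsZassenhausGroup G Ω) {a b : Ω} (hab : a ≠ b) : (∀ g : G, g ∉ Subgroup.normalizer ((MulAction.stabilizer G a ⊓ MulAction.stabilizer G b : Subgroup G) : Set G) → ∀ x ∈ (MulAction.stabilizer G a ⊓ MulAction.stabilizer G b : Subgroup G), g * x * g⁻¹ ∈ (MulAction.stabilizer G a ⊓ MulAction.stabilizer G b : Subgroup G) → x = 1) ∧ ((MulAction.stabilizer G a ⊓ MulAction.stabilizer G b : Subgroup G).subgroupOf (Subgroup.normalizer ((MulAction.stabilizer G a ⊓ MulAction.stabilizer G b : Subgroup G) : Set G))).index = 2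 := by
  obtain ⟨hfaith, h2, h3, ⟨g₀, hg₀, a₀, b₀, hab₀, hga₀, hgb₀⟩, -⟩ := hZ
  set E : Subgroup G := MulAction.stabilizer G a ⊓ MulAction.stabilizer G b with hE
  have hmemE : ∀ x : G, x ∈ E ↔ x • a = a ∧ x • b = b := fun x => Iff.rfl
  have htrans : ∀ {a b c d : Ω}, a ≠ b → c ≠ d → ∃ g : G, g • a = c ∧ g • b = d :=
    MulAction.is_two_pretransitive_iff.mp h2
  -- a conjugate of a nontrivial element of E lying in E forces {g a, g b} = {a, b}
  have hswap : ∀ g x : G, x ∈ E → x ≠ 1 → g * x * g⁻¹ ∈ E →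
      (g • a = a ∧ g • b = b) ∨ (g • a = b ∧ g • b = a) := by
    intro g x hx hx1 hgx
    have hne : g * x * g⁻¹ ≠ 1 := by
      intro h
      apply hx1
      have := congrArg (fun y => g⁻¹ * y * g) h
      simpa [mul_assoc] using this
    have hxE := (hmemE x).mp hx
    have hfa : (g * x * g⁻¹) • (g • a) = g • a := by
      rw [mul_smul, mul_smul, inv_smul_smul, hxE.1]
    have hfb : (g * x * g⁻¹) • (g • b) = g • b := by
      rw [mul_smul, mul_smul, inv_smul_smul, hxE.2]
    have hgE := (hmemE _).mp hgx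
    have hcase : ∀ c : Ω, (g * x * g⁻¹) • c = c → c = a ∨ c = b := by
      intro c hc
      by_contra hcon
      push Not at hcon
      exact hne (h3 _ a b c hab (Ne.symm hcon.2) (Ne.symm hcon.1) hgE.1 hgE.2 hc)
    have hgab : g • a ≠ g • b := fun h => hab (smul_left_cancel _ h)
    rcases hcase _ hfa with h1 | h1 <;> rcases hcase _ hfb with h2' | h2'
    · exact absurd (h1.trans h2'.symm) hgab
    · exact Or.inl ⟨h1, h2'⟩
    · exact Or.inr ⟨h1, h2'⟩
    · exact absurd (h1.trans h2'.symm) hgab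
  -- such a g normalizes E
  have hnorm : ∀ g : G, ((g • a = a ∧ g • b = b) ∨ (g • a = b ∧ g • b = a)) →
      g ∈ Subgroup.normalizer (E : Set G) := by
    have haux : ∀ g : G, ((g • a = a ∧ g • b = b) ∨ (g • a = b ∧ g • b = a)) →
        ∀ h ∈ E, g * h * g⁻¹ ∈ E := by
      intro g hg h hh
      have hhE := (hmemE h).mp hh
      rw [hmemE]
      rcases hg with ⟨h1, h2'⟩ | ⟨h1, h2'⟩
      · have i1 : g⁻¹ • a = a := by rw [inv_smul_eq_iff, h1]
        have i2 : g⁻¹ • b = b := by rw [inv_smul_eq_iff, h2']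
        constructor
        · rw [mul_smul, mul_smul, i1, hhE.1, h1]
        · rw [mul_smul, mul_smul, i2, hhE.2, h2']
      · have i1 : g⁻¹ • a = b := by rw [inv_smul_eq_iff, h2']
        have i2 : g⁻¹ • b = a := by rw [inv_smul_eq_iff, h1]
        constructor
        · rw [mul_smul, mul_smul, i1, hhE.2, h2']
        · rw [mul_smul, mul_smul, i2, hhE.1, h1]
    intro g hg
    rw [Subgroup.mem_normalizer_iff]
    intro h
    constructor
    · exact haux g hg h
    · intro hh
      have hg' : (g⁻¹ • a = a ∧ g⁻¹ • b = b) ∨ (g⁻¹ • a = b ∧ g⁻¹ • b = a) := by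
        rcases hg with ⟨h1, h2'⟩ | ⟨h1, h2'⟩
        · left
          exact ⟨by rw [inv_smul_eq_iff, h1], by rw [inv_smul_eq_iff, h2']⟩
        · right
          exact ⟨by rw [inv_smul_eq_iff, h2'], by rw [inv_smul_eq_iff, h1]⟩
      have := haux g⁻¹ hg' _ hh
      simpa [mul_assoc] using this
  constructor
  · intro g hg x hx hgx
    by_contra hx1
    exact hg (hnorm g (hswap g x hx hx1 hgx))
  · -- a nontrivial element of E
    obtain ⟨t, ht1, ht2⟩ := htrans hab₀ hab
    have he : t * g₀ * t⁻¹ ∈ E := by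
      rw [hmemE]
      constructor
      · rw [← ht1, mul_smul, mul_smul, inv_smul_smul, hga₀]
      · rw [← ht2, mul_smul, mul_smul, inv_smul_smul, hgb₀]
    have he1 : t * g₀ * t⁻¹ ≠ 1 := by
      intro h
      apply hg₀
      have := congrArg (fun y => t⁻¹ * y * t) h
      simpa [mul_assoc] using this
    -- the swap
    obtain ⟨τ, hτ1, hτ2⟩ := htrans hab (Ne.symm hab)
    have hτN := hnorm τ (Or.inr ⟨hτ1, hτ2⟩)
    rw [Subgroup.index_eq_two_iff]
    refine ⟨⟨τ, hτN⟩, ?_⟩
    intro n
    have hn : (n : G) * (t * g₀ * t⁻¹) * (n : G)⁻¹ ∈ E :=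
      (Subgroup.mem_normalizer_iff.mp n.2 _).mp he
    have hcases := hswap n _ he he1 hn
    simp only [Subgroup.mem_subgroupOf, Subgroup.coe_mul]
    rcases hcases with ⟨h1, h2'⟩ | ⟨h1, h2'⟩
    · -- n ∈ E, n τ ∉ E
      have hnE : (n : G) ∈ E := (hmemE _).mpr ⟨h1, h2'⟩
      refine Or.inr ⟨hnE, ?_⟩
      intro hmem
      have := ((hmemE _).mp hmem).1
      rw [mul_smul, hτ1, h2'] at this
      exact hab this.symm
    · -- n τ ∈ E, n ∉ E
      refine Or.inl ⟨?_, ?_⟩
      · rw [hmemE]
        constructor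
        · rw [mul_smul, hτ1, h2']
        · rw [mul_smul, hτ2, h1]
      · intro hmem
        have := ((hmemE _).mp hmem).1
        rw [h1] at this
        exact hab this.symm

end Cfsg.Agent.S0879
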