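import Cfsg.Statements.S0214
import Cfsg.Agent.S0199
import Cfsg.Agent.Lib.Involutions2.StronglyEmbedded

set_option autoImplicit false
open Cfsg
open scoped Pointwise

namespace Cfsg.Agent.S0214

open Cfsg.Agent.Lib.Involutions2.StronglyEmbedded in
/-- From the condition on subgroups of one Sylow subgroup of `H` to all nontrivial 2-subgroups of `H`. -/
lemma normalizer_le_of_pgroup {G : Type*} [Group G] [Finite G] (H : Subgroup G) (P : Sylow 2 ↥H)
    (hN : ∀ X : Subgroup ↥H, X ≤ (P : Subgroup ↥H) → X ≠ ⊥ →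
      Subgroup.normalizer ((X.map H.subtype : Subgroup G) : Set G) ≤ H)
    (Q : Subgroup ↥H) (hQ : IsPGroup 2 Q) (hQ1 : Q ≠ ⊥) :
    Subgroup.normalizer ((Q.map H.subtype : Subgroup G) : Set G) ≤ H := by
  have : Fact (Nat.Prime 2) := ⟨Nat.prime_two⟩
  obtain ⟨R, hR⟩ := hQ.exists_le_sylow
  obtain ⟨h, rfl⟩ := MulAction.exists_smul_eq (↥H) P R
  -- X = h⁻¹ Q h
  let X : Subgroup ↥H := Q.map (MulAut.conj h⁻¹).toMonoidHom
  have hXP : X ≤ (P : Subgroup ↥H) := by
    rintro _ ⟨y, hy, rfl⟩
    have h1 : y ∈ (MulAut.conj h • (P : Subgroup ↥H)) := by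
      rw [← Sylow.coe_subgroup_smul]
      exact hR hy
    rw [Subgroup.mem_pointwise_smul_iff_inv_smul_mem] at h1
    have h2 : h⁻¹ * y * h ∈ (P : Subgroup ↥H) := by
      simpa [MulAut.conj_symm_apply] using h1
    simpa [MulAut.conj_apply] using h2
  have hX1 : X ≠ ⊥ := by
    intro h0
    apply hQ1
    rw [eq_bot_iff]
    intro y hy
    have : (MulAut.conj h⁻¹).toMonoidHom y ∈ X := ⟨y, hy, rfl⟩
    rw [h0, Subgroup.mem_bot] at this
    have h3 : h⁻¹ * y * h = 1 := by simpa [MulAut.conj_apply] using this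
    rw [Subgroup.mem_bot]
    have : y = h * (h⁻¹ * y * h) * h⁻¹ := by group
    rw [this, h3]
    group
  have hmain := hN X hXP hX1
  intro g hg
  -- h⁻¹ g h normalizes X
  have hgX : h.1⁻¹ * g * h.1 ∈ Subgroup.normalizer ((X.map H.subtype : Subgroup G) : Set G) := by
    rw [Subgroup.mem_normalizer_iff]
    intro x
    rw [Subgroup.mem_normalizer_iff] at hg
    have hcx : ∀ y : G, y ∈ (X.map H.subtype : Subgroup G) ↔ h.1 * y * h.1⁻¹ ∈ (Q.map H.subtype : Subgroup G) := by
      intro y
      constructor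
      · rintro ⟨_, ⟨q, hq, rfl⟩, rfl⟩
        refine ⟨q, hq, ?_⟩
        simp [mul_assoc]
      · rintro ⟨q, hq, hqy⟩
        refine ⟨(MulAut.conj h⁻¹).toMonoidHom q, ⟨q, hq, rfl⟩, ?_⟩
        have : y = h.1⁻¹ * (h.1 * y * h.1⁻¹) * h.1 := by group
        rw [this, ← hqy]
        simp [mul_assoc]
    rw [hcx x, hcx _]
    have e3 : h.1 * ((h.1⁻¹ * g * h.1) * x * (h.1⁻¹ * g * h.1)⁻¹) * h.1⁻¹ = g * (h.1 * x * h.1⁻¹) * g⁻¹ := by group
    rw [e3]
    exact hg _
  have := hmain hgX
  have e : g = h.1 * (h.1⁻¹ * g * h.1) * h.1⁻¹ := by group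
  rw [e]
  exact mul_mem (mul_mem h.2 this) (inv_mem h.2)


/-- Let H be a proper subgroup of the finite group G and P a nontrivial Sylow 2-subgroup of H. Then H is strongly embedded in G if and only if N_G(X) ≤ H for every nontrivial subgroup X of P. -/
theorem result {G : Type*} [Group G] [Finite G] (H : Subgroup G) (hH : H ≠ ⊤) (P : Sylow 2 ↥H) (hP : (P : Subgroup ↥H) ≠ ⊥) : Cfsg.IsStronglyEmbedded H ↔ (∀ X : Subgroup ↥H, X ≤ (P : Subgroup ↥H) → X ≠ ⊥ → Subgroup.normalizer ((X.map H.subtype : Subgroup G) : Set G) ≤ H) := by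
  open Cfsg.Agent.Lib.Involutions2.StronglyEmbedded in
  have : Fact (Nat.Prime 2) := ⟨Nat.prime_two⟩
  have exists_inv : ∀ X : Subgroup ↥H, IsPGroup 2 X → X ≠ ⊥ → ∃ x ∈ X, orderOf x = 2 := by
    intro X hXp hX1
    rcases hXp.card_eq_or_dvd with h1 | h2
    · exact absurd (Subgroup.eq_bot_of_card_eq X h1) hX1
    · obtain ⟨x, hx⟩ := exists_prime_orderOf_dvd_card' (G := X) 2 h2
      refine ⟨x.1, x.2, ?_⟩
      rw [← hx]
      simp
  constructor
  · rintro ⟨-, -, hodd⟩ X hXP hX1 g hg
    by_contra hgH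
    have hXp : IsPGroup 2 X := P.isPGroup'.to_le hXP
    obtain ⟨x, hxX, hxord⟩ := exists_inv X hXp hX1
    have hgi : g⁻¹ ∈ Subgroup.normalizer ((X.map H.subtype : Subgroup G) : Set G) := inv_mem hg
    rw [Subgroup.mem_normalizer_iff] at hgi
    have h1 : x.1 ∈ (X.map H.subtype : Subgroup G) := ⟨x, hxX, rfl⟩
    have h2 := (hgi x.1).1 h1
    have h3 : g⁻¹ * x.1 * g⁻¹⁻¹ ∈ H := by
      obtain ⟨y, -, hy⟩ := h2
      rw [← hy]
      exact y.2
    refine not_odd_of_mem (K := H ⊓ H.map (MulAut.conj g).toMonoidHom) ⟨x.2, ?_⟩ ?_ (hodd g hgH)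
    · exact mem_conj_iff.2 (by simpa using h3)
    · rw [← hxord]; simp
  · intro hN
    have hN1 := normalizer_le_of_pgroup H P hN
    -- version for subgroups of `G`
    have hN2 : ∀ Q : Subgroup G, Q ≤ H → IsPGroup 2 Q → Q ≠ ⊥ →
        Subgroup.normalizer (Q : Set G) ≤ H := by
      intro Q hQH hQp hQ1
      have e : (Q.subgroupOf H).map H.subtype = Q := by
        rw [Subgroup.subgroupOf_map_subtype]
        exact inf_eq_left.2 hQH
      have h1 := hN1 (Q.subgroupOf H) (hQp.comap_of_injective H.subtype H.subtype_injective) (by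
        intro h0
        apply hQ1
        rw [← e, h0, Subgroup.map_bot])
      rwa [e] at h1
    refine ⟨hH, ?_, ?_⟩
    · obtain ⟨x, hx, hxord⟩ := exists_inv _ P.isPGroup' hP
      have := (↑(P : Subgroup ↥H) : Subgroup ↥H).orderOf_dvd_natCard hx
      rw [hxord] at this
      exact even_iff_two_dvd.2 (this.trans (Subgroup.card_subgroup_dvd_card _))
    · intro g hg
      by_contra hodd
      obtain ⟨t, htD, htord⟩ := exists_involution_of_not_odd hodd
      set D : Subgroup G := H ⊓ H.map (MulAut.conj g).toMonoidHom with hD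
      have ht0 : (Subgroup.zpowers t) ≤ D ∧ IsPGroup 2 ↥(Subgroup.zpowers t) ∧ Subgroup.zpowers t ≠ ⊥ := by
        refine ⟨(Subgroup.zpowers_le).2 htD, ?_, ?_⟩
        · apply IsPGroup.of_card (n := 1)
          rw [Nat.card_zpowers, htord, pow_one]
        · rw [Ne, Subgroup.zpowers_eq_bot]
          rintro rfl
          simp at htord
      obtain ⟨Q, -, hQmax⟩ := Finite.exists_le_maximal (α := Subgroup G)
        (p := fun Q => Q ≤ D ∧ IsPGroup 2 Q ∧ Q ≠ ⊥) ht0
      obtain ⟨hQD, hQp, hQ1⟩ := hQmax.prop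
      have hQH : Q ≤ H := hQD.trans inf_le_left
      let conjg : G →* G := (MulAut.conj g).toMonoidHom
      let conjg' : G →* G := (MulAut.conj g⁻¹).toMonoidHom
      have hmapmap : ∀ x : G, conjg (conjg' x) = x := by
        intro x; simp [conjg, conjg', MulAut.conj_apply, mul_assoc]
      have hmapmap' : ∀ x : G, conjg' (conjg x) = x := by
        intro x; simp [conjg, conjg', MulAut.conj_apply, mul_assoc]
      set Q' : Subgroup G := Q.map conjg' with hQ'
      have hQ'H : Q' ≤ H := by
        rintro _ ⟨q, hq, rfl⟩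
        have := mem_conj_iff.1 (hQD hq).2
        simpa [conjg', MulAut.conj_apply] using this
      have hQ'p : IsPGroup 2 Q' := hQp.map conjg'
      have hQ'1 : Q' ≠ ⊥ := by
        intro h0
        apply hQ1
        rw [eq_bot_iff]
        intro q hq
        have : conjg' q ∈ Q' := ⟨q, hq, rfl⟩
        rw [h0, Subgroup.mem_bot] at this
        have h2 := hmapmap q
        rw [Subgroup.mem_bot, ← h2, this, map_one]
      obtain ⟨R2, hR2⟩ := (hQ'p.comap_of_injective H.subtype H.subtype_injective).exists_le_sylow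
      have hR2p : IsPGroup 2 ((R2 : Subgroup ↥H).map H.subtype : Subgroup G) := R2.isPGroup'.map _
      have hQ'T : Q' ≤ (R2 : Subgroup ↥H).map H.subtype := by
        intro q hq
        exact ⟨⟨q, hQ'H hq⟩, hR2 hq, rfl⟩
      by_cases hlt : Q' < (R2 : Subgroup ↥H).map H.subtype
      · -- the normalizer grows
        obtain ⟨x, hxT, hxQ', hxN⟩ := Cfsg.Agent.S0199.normalizer_grows hR2p hlt
        set T' : Subgroup G := (R2 : Subgroup ↥H).map H.subtype with hT'
        have hT'H : T' ≤ H := by
          rintro _ ⟨y, -, rfl⟩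
          exact y.2
        let U : Subgroup G := (T' ⊓ Subgroup.normalizer (Q' : Set G)).map conjg
        have hUN : U ≤ Subgroup.normalizer (Q : Set G) := by
          rintro _ ⟨u, ⟨-, huN'⟩, rfl⟩
          have huN : u ∈ Subgroup.normalizer (Q' : Set G) := huN'
          rw [Subgroup.mem_normalizer_iff] at huN ⊢
          intro y
          have e1 := huN (conjg' y)
          have e2 : y ∈ Q ↔ conjg' y ∈ Q' := by
            constructor
            · intro hy; exact ⟨y, hy, rfl⟩
            · rintro ⟨z, hz, hzy⟩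
              have : z = y := by
                have := congrArg conjg hzy
                rwa [hmapmap, hmapmap] at this
              exact this ▸ hz
          rw [e2, e1]
          have e3 : ∀ w : G, w ∈ Q' ↔ conjg w ∈ Q := by
            intro w
            constructor
            · rintro ⟨z, hz, rfl⟩
              rwa [hmapmap]
            · intro hw
              exact ⟨conjg w, hw, hmapmap' w⟩
          rw [e3]
          have e4 : conjg (u * conjg' y * u⁻¹) = conjg u * y * (conjg u)⁻¹ := by
            rw [map_mul, map_mul, hmapmap, map_inv]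
          rw [e4]
        have hUD : U ≤ D := by
          refine le_inf (hUN.trans (hN2 Q hQH hQp hQ1)) ?_
          rintro _ ⟨u, ⟨hu, -⟩, rfl⟩
          exact conj_mem_conj (hT'H hu)
        have hUp : IsPGroup 2 U := (hR2p.to_inf_left).map conjg
        have hQU : Q ≤ U := by
          intro q hq
          refine ⟨conjg' q, ⟨hQ'T ⟨q, hq, rfl⟩, Subgroup.le_normalizer ⟨q, hq, rfl⟩⟩, hmapmap q⟩
        have hU1 : U ≠ ⊥ := by
          intro h0
          apply hQ1
          rw [eq_bot_iff, ← h0]
          exact hQU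
        have hUQ : U ≤ Q := hQmax.le_of_ge ⟨hUD, hUp, hU1⟩ hQU
        apply hxQ'
        have : conjg x ∈ Q := hUQ ⟨x, ⟨hxT, hxN⟩, rfl⟩
        exact ⟨conjg x, this, hmapmap' x⟩
      · -- Q' is Sylow in H
        have hEq : Q' = (R2 : Subgroup ↥H).map H.subtype :=
          eq_of_le_of_not_lt hQ'T hlt
        obtain ⟨R1, hR1⟩ := (hQp.comap_of_injective H.subtype H.subtype_injective).exists_le_sylow
        have hQ'card : Nat.card Q' = Nat.card Q :=
          Subgroup.card_map_of_injective (fun a b hab => by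
            have := congrArg conjg hab
            rwa [hmapmap, hmapmap] at this)
        have hR2card : Nat.card ((R2 : Subgroup ↥H).map H.subtype : Subgroup G) = Nat.card (R2 : Subgroup ↥H) :=
          Subgroup.card_map_of_injective H.subtype_injective
        have hQcomapcard : Nat.card (Q.comap H.subtype) = Nat.card Q := by
          have e : (Q.comap H.subtype).map H.subtype = Q := by
            rw [Subgroup.map_comap_eq]
            simpa using hQH
          conv_rhs => rw [← e]
          exact (Subgroup.card_map_of_injective H.subtype_injective).symm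
        have hR12 : Nat.card (R1 : Subgroup ↥H) = Nat.card (R2 : Subgroup ↥H) := by
          rw [Sylow.card_eq_multiplicity, Sylow.card_eq_multiplicity]
        have hQR1 : Q.comap H.subtype = (R1 : Subgroup ↥H) := by
          apply Subgroup.eq_of_le_of_card_ge hR1
          rw [hQcomapcard, hR12, ← hR2card, ← hEq, hQ'card]
        obtain ⟨k, hk⟩ := MulAction.exists_smul_eq (↥H) R1 R2
        -- `g * k` normalizes `Q`
        have hmapQ : ∀ q ∈ Q, (g * k.1) * q * (g * k.1)⁻¹ ∈ Q := by
          intro q hq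
          have hqH : q ∈ H := hQH hq
          have h1 : (⟨q, hqH⟩ : ↥H) ∈ (R1 : Subgroup ↥H) := by
            rw [← hQR1]
            exact hq
          have h2 : k * ⟨q, hqH⟩ * k⁻¹ ∈ (R2 : Subgroup ↥H) := by
            rw [← hk, Sylow.coe_subgroup_smul]
            exact ⟨_, h1, by simp [MulAut.conj_apply]⟩
          have h3 : k.1 * q * k.1⁻¹ ∈ Q' := by
            rw [hEq]
            exact ⟨_, h2, rfl⟩
          obtain ⟨z, hz, hzq⟩ := h3
          have h4 : (g * k.1) * q * (g * k.1)⁻¹ = conjg (k.1 * q * k.1⁻¹) := by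
            simp [conjg, MulAut.conj_apply, mul_assoc]
          rw [h4, ← hzq, hmapmap]
          exact hz
        have hgkN : g * k.1 ∈ Subgroup.normalizer (Q : Set G) := by
          rw [Subgroup.mem_normalizer_iff_map_conj_eq]
          apply Subgroup.eq_of_le_of_card_ge
          · rintro _ ⟨q, hq, rfl⟩
            exact hmapQ q hq
          · exact (Subgroup.card_map_of_injective (MulAut.conj (g * k.1)).injective).ge
        have hgkH := hN2 Q hQH hQp hQ1 hgkN
        apply hg
        have : g = (g * k.1) * k.1⁻¹ := by group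
        rw [this]
        exact mul_mem hgkH (inv_mem k.2)

end Cfsg.Agent.S0214
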