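import Cfsg.Statements.S0223
import Cfsg.Agent.Lib.Involutions2.StronglyEmbedded

set_option autoImplicit false
open Cfsg

namespace Cfsg.Agent.S0223


/-- Let H be a proper subgroup of even order of the finite group G. Then H is strongly embedded if and only if (i) C_G(t) ≤ H for every involution t of H and (ii) H controls fusion of its involutions: involutions of H conjugate in G are conjugate in H. -/
theorem result {G : Type*} [Group G] [Finite G] (H : Subgroup G) (hH : H ≠ ⊤) (heven : Even (Nat.card H)) : Cfsg.IsStronglyEmbedded H ↔ ((∀ t ∈ H, orderOf t = 2 → Subgroup.centralizer ({t} : Set G) ≤ H) ∧ (∀ t ∈ H, ∀ s ∈ H, orderOf t = 2 → orderOf s = 2 → IsConj t s → ∃ h ∈ H, h * t * h⁻¹ = s)) := by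
  open Cfsg.Agent.Lib.Involutions2.StronglyEmbedded in
  constructor
  · rintro ⟨-, -, hodd⟩
    refine ⟨?_, ?_⟩
    · intro t ht htord g hg
      by_contra hgH
      have hcomm : g * t * g⁻¹ = t := by
        have := Subgroup.mem_centralizer_singleton_iff.1 hg
        rw [this]; group
      refine not_odd_of_mem (K := H ⊓ H.map (MulAut.conj g).toMonoidHom) ⟨ht, ?_⟩ htord (hodd g hgH)
      have := conj_mem_conj (g := g) ht
      rwa [hcomm] at this
    · intro t ht s hs htord hsord hconj
      obtain ⟨g, hg⟩ := isConj_iff.1 hconj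
      refine ⟨g, ?_, hg⟩
      by_contra hgH
      refine not_odd_of_mem (K := H ⊓ H.map (MulAut.conj g).toMonoidHom) ⟨hs, ?_⟩ hsord (hodd g hgH)
      have := conj_mem_conj (g := g) ht
      rwa [hg] at this
  · rintro ⟨hC, hF⟩
    refine ⟨hH, heven, ?_⟩
    intro g hg
    by_contra hodd
    obtain ⟨t, ⟨htH, htg⟩, htord⟩ := exists_involution_of_not_odd hodd
    have hs := mem_conj_iff.1 htg
    set s := g⁻¹ * t * g with hsdef
    have hsord : orderOf s = 2 := by
      have := MulEquiv.orderOf_eq (MulAut.conj g⁻¹) t
      rw [htord] at this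
      rw [hsdef, ← this]
      simp [MulAut.conj_apply]
    have hgs : g * s * g⁻¹ = t := by rw [hsdef]; group
    obtain ⟨h, hh, hhs⟩ := hF s hs t htH hsord htord (isConj_iff.2 ⟨g, hgs⟩)
    have hmem : h⁻¹ * g ∈ Subgroup.centralizer ({s} : Set G) := by
      rw [Subgroup.mem_centralizer_singleton_iff]
      have : g * s = t * g := by rw [← hgs]; group
      have h2 : h * s = t * h := by rw [← hhs]; group
      calc h⁻¹ * g * s = h⁻¹ * (t * g) := by rw [mul_assoc, this]
        _ = (h⁻¹ * t) * g := by group
        _ = s * h⁻¹ * g := by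
          have : h⁻¹ * t = s * h⁻¹ := by
            rw [inv_mul_eq_iff_eq_mul, ← mul_assoc, h2]; group
          rw [this]
        _ = s * (h⁻¹ * g) := by group
    have := hC s hs hsord hmem
    apply hg
    have h3 : g = h * (h⁻¹ * g) := by group
    rw [h3]
    exact mul_mem hh this

end Cfsg.Agent.S0223
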