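import Cfsg.Statements.S0224
import Cfsg.Agent.Lib.Involutions2.StronglyEmbedded

set_option autoImplicit false
open Cfsg

namespace Cfsg.Agent.S0224


/-- Let H be a proper subgroup of even order of the finite group G. Then H is strongly embedded if and only if each involution of H fixes exactly one point (namely the coset H) in the action of G on the cosets of H. -/
theorem result {G : Type*} [Group G] [Finite G] (H : Subgroup G) (hH : H ≠ ⊤) (heven : Even (Nat.card H)) : Cfsg.IsStronglyEmbedded H ↔ ∀ t ∈ H, orderOf t = 2 → Nat.card {c : G ⧸ H // t • c = c} = 1 := by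
  open Cfsg.Agent.Lib.Involutions2.StronglyEmbedded in
  have key : ∀ (t g : G), t • (g : G ⧸ H) = (g : G ⧸ H) ↔ t ∈ H.map (MulAut.conj g).toMonoidHom := by
    intro t g
    rw [mem_conj_iff, MulAction.Quotient.smul_coe, smul_eq_mul, QuotientGroup.eq]
    constructor
    · intro h
      have := inv_mem h
      simpa [mul_assoc] using this
    · intro h
      have := inv_mem h
      simpa [mul_assoc] using this
  constructor
  · rintro ⟨-, -, hodd⟩ t ht htord
    rw [Nat.card_eq_one_iff_unique]
    refine ⟨⟨?_⟩, ⟨⟨((1 : G) : G ⧸ H), ?_⟩⟩⟩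
    · rintro ⟨c, hc⟩ ⟨d, hd⟩
      have huniq : ∀ c : G ⧸ H, t • c = c → c = ((1 : G) : G ⧸ H) := by
        intro c
        induction c using QuotientGroup.induction_on with
        | H g =>
          intro hg
          by_cases hgH : g ∈ H
          · exact (QuotientGroup.eq.2 (by simpa using hgH)).symm
          · exfalso
            exact not_odd_of_mem (K := H ⊓ H.map (MulAut.conj g).toMonoidHom)
              ⟨ht, (key t g).1 hg⟩ htord (hodd g hgH)
      exact Subtype.ext ((huniq c hc).trans (huniq d hd).symm)
    · rw [key]
      have : (MulAut.conj (1 : G)).toMonoidHom = MonoidHom.id G := by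
        ext x; simp
      rw [this, Subgroup.map_id]
      exact ht
  · intro hfix
    refine ⟨hH, heven, ?_⟩
    intro g hg
    by_contra hodd
    obtain ⟨t, ⟨htH, htg⟩, htord⟩ := exists_involution_of_not_odd hodd
    have h1 := hfix t htH htord
    rw [Nat.card_eq_one_iff_unique] at h1
    have hs := h1.1
    have hc1 : t • (g : G ⧸ H) = (g : G ⧸ H) := (key t g).2 htg
    have hc2 : t • ((1 : G) : G ⧸ H) = ((1 : G) : G ⧸ H) := by
      rw [key]
      have : (MulAut.conj (1 : G)).toMonoidHom = MonoidHom.id G := by
        ext x; simp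
      rw [this, Subgroup.map_id]
      exact htH
    have := congrArg Subtype.val (hs.elim (⟨_, hc1⟩ : {c : G ⧸ H // t • c = c}) ⟨_, hc2⟩)
    simp only at this
    apply hg
    have h2 := QuotientGroup.eq.1 this
    simpa using (inv_mem h2)

end Cfsg.Agent.S0224
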