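import Cfsg.Statements.S0375
import Cfsg.Agent.Lib.GolayUnique.Model

set_option autoImplicit false
open Cfsg

namespace Cfsg.Agent.S0375

open Module Cfsg.Agent.Lib.GolayUnique.Rm Cfsg.Agent.Lib.GolayUnique.Dual
  Cfsg.Agent.Lib.GolayUnique.Star Cfsg.Agent.Lib.GolayUnique.Model
open Cfsg.Agent.Lib.Golay.Core (wordOf genMask qrMask)

theorem hamming_comp {ι κ : Type} [Fintype ι] [Fintype κ] [DecidableEq ι] [DecidableEq κ] (e : κ ≃ ι)
    (w : ι → ZMod 2) : hammingNorm (fun k => w (e k)) = hammingNorm w := by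
  simp only [hammingNorm, Finset.card_filter]
  exact Equiv.sum_comp e (fun i => if w i ≠ 0 then 1 else 0)

theorem golayLike_comap {C : Submodule (ZMod 2) (Fin 24 → ZMod 2)} (L : Pt ≃ Fin 24)
    (hC : GolayLike C) :
    GolayLike (C.comap (LinearEquiv.funCongrLeft (ZMod 2) (ZMod 2) L.symm).toLinearMap) := by
  have hmem : ∀ y : Pt → ZMod 2,
      y ∈ C.comap (LinearEquiv.funCongrLeft (ZMod 2) (ZMod 2) L.symm).toLinearMap ↔
        (fun i => y (L.symm i)) ∈ C := fun y => Iff.rfl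
  refine ⟨by simp, ?_, ?_, ?_, ?_⟩
  · rw [← hC.dim]
    exact LinearEquiv.finrank_eq ((LinearEquiv.funCongrLeft (ZMod 2) (ZMod 2) L.symm).ofSubmodule' C)
  · intro v hv w hw
    rw [hmem] at hv hw
    have := hC.orth _ hv _ hw
    rw [← this]
    exact (Equiv.sum_comp L.symm (fun p => v p * w p)).symm
  · intro w hw
    rw [hmem] at hw
    have := hC.four _ hw
    rwa [hamming_comp L.symm w] at this
  · intro w hw
    rw [hmem] at hw
    have := hC.no4 _ hw
    rwa [hamming_comp L.symm w] at this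

theorem affW_mem {C : Submodule (ZMod 2) (Pt → ZMod 2)}
    (hu : Sum.elim (fun _ => (0 : ZMod 2)) (fun _ => 1) ∈ C)
    (hx : ∀ k < 4, Sum.elim (fun _ => (0 : ZMod 2)) (fun n : Fin 16 => bitF k n) ∈ C) (a : ℕ) :
    affW a ∈ C := by
  have : affW a = bitF 4 a • Sum.elim (fun _ => (0 : ZMod 2)) (fun _ => 1)
      + bitF 0 a • Sum.elim (fun _ => (0 : ZMod 2)) (fun n : Fin 16 => bitF 0 n)
      + bitF 1 a • Sum.elim (fun _ => (0 : ZMod 2)) (fun n : Fin 16 => bitF 1 n)
      + bitF 2 a • Sum.elim (fun _ => (0 : ZMod 2)) (fun n : Fin 16 => bitF 2 n)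
      + bitF 3 a • Sum.elim (fun _ => (0 : ZMod 2)) (fun n : Fin 16 => bitF 3 n) := by
    funext p
    cases p with
    | inl i => simp [affW]
    | inr n => simp [affW, aff]
  rw [this]
  exact Submodule.add_mem _ (Submodule.add_mem _ (Submodule.add_mem _ (Submodule.add_mem _
    (Submodule.smul_mem _ _ hu) (Submodule.smul_mem _ _ (hx 0 (by norm_num))))
    (Submodule.smul_mem _ _ (hx 1 (by norm_num)))) (Submodule.smul_mem _ _ (hx 2 (by norm_num))))
    (Submodule.smul_mem _ _ (hx 3 (by norm_num)))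

theorem genMask_qr : ∀ t : ZMod 23, genMask t.val = qrMask t.val := by
  decide +kernel

/-- A doubly even self-dual binary code of length 24 with no words of weight 4 is equivalent to the length-24 code built from the squares modulo 23. -/
theorem result (C : Submodule (ZMod 2) (Fin 24 → ZMod 2)) (hdim : Module.finrank (ZMod 2) C = 12) (horth : ∀ v ∈ C, ∀ w ∈ C, ∑ i, v i * w i = 0) (h4 : ∀ w ∈ C, 4 ∣ hammingNorm w) (hno4 : ∀ w ∈ C, hammingNorm w ≠ 4) : ∃ e : Fin 24 ≃ Cfsg.GolayPt, ∀ w : Cfsg.GolayPt → ZMod 2, w ∈ Cfsg.golayCode ↔ (fun i => w (e i)) ∈ C := by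
  have hC : GolayLike C := ⟨by simp, hdim, horth, h4, hno4⟩
  obtain ⟨L, hu, hx⟩ := Cfsg.Agent.Lib.GolayUnique.Octad.exists_coords hC
  have hC' := golayLike_comap L hC
  set C' := C.comap (LinearEquiv.funCongrLeft (ZMod 2) (ZMod 2) L.symm).toLinearMap with hC'def
  have hmem : ∀ y : Pt → ZMod 2, y ∈ C' ↔ (fun i => y (L.symm i)) ∈ C := fun y => Iff.rfl
  have hu' : Sum.elim (fun _ => (0 : ZMod 2)) (fun _ => 1) ∈ C' := hu
  have hx' : ∀ k < 4, Sum.elim (fun _ => (0 : ZMod 2)) (fun n : Fin 16 => bitF k n) ∈ C' := hx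
  obtain ⟨π, hπ⟩ := exists_perm hC' hu' hx'
  let σ : Pt ≃ Pt := Equiv.sumCongr π (Equiv.refl _)
  let e : Fin 24 ≃ Cfsg.GolayPt := L.symm.trans (σ.trans mE)
  let Ψ := LinearEquiv.funCongrLeft (ZMod 2) (ZMod 2) e
  have hΨ : ∀ w i, Ψ w i = w (e i) := fun _ _ => rfl
  -- the generators
  have hgen : ∀ j < 24, Ψ (wordOf (genMask j)) ∈ C := by
    intro j hj
    have h1 : (fun p => wordOf (genMask j) (mF (σ p))) ∈ C' := by
      have h2 : (fun p => wordOf (genMask j) (mF (σ p)))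
          = ∑ i : Fin 7, wordOf (genMask j) (mF (Sum.inl i.castSucc)) •
              (fun p => Bw i.castSucc (Fin.last 7) (Sum.map π id p))
            + affW (alphaT.getD j 0) := by
        funext p
        rw [gen_form j hj (σ p)]
        simp only [Pi.add_apply, Finset.sum_apply, Pi.smul_apply, smul_eq_mul]
        congr 1
        cases p <;> rfl
      rw [h2]
      refine Submodule.add_mem _ (Submodule.sum_mem _ fun i _ => Submodule.smul_mem _ _ ?_)
        (affW_mem hu' hx' _)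
      exact hπ _ _ (Fin.castSucc_lt_last i).ne
    exact h1
  have hle : Cfsg.golayCode ≤ C.comap Ψ.toLinearMap := by
    unfold Cfsg.golayCode
    rw [Submodule.span_le]
    rintro g (⟨t, rfl⟩ | hg)
    · have h3 : Cfsg.qrWord t = wordOf (genMask t.val) := by
        funext p
        rw [Cfsg.Agent.Lib.Golay.Core.qrWord_eq, genMask_qr]
      rw [h3]
      exact hgen t.val (lt_trans (ZMod.val_lt t) (by norm_num))
    · rw [Set.mem_singleton_iff] at hg
      rw [hg, ← Cfsg.Agent.Lib.Golay.Core.wordOf_ones]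
      exact hgen 23 (by norm_num)
  have hmap : Cfsg.golayCode.map Ψ.toLinearMap ≤ C := Submodule.map_le_iff_le_comap.mpr hle
  have hfin : finrank (ZMod 2) (Cfsg.golayCode.map Ψ.toLinearMap) = finrank (ZMod 2) C := by
    rw [hdim, LinearEquiv.finrank_map_eq, Cfsg.Agent.Lib.Golay.Core.finrank_golayCode]
  have heq := Submodule.eq_of_le_of_finrank_eq hmap hfin
  refine ⟨e, fun w => ⟨fun hw => hle hw, fun hw => ?_⟩⟩
  have h5 : Ψ w ∈ C := hw
  rw [← heq] at h5
  obtain ⟨w', hw', h6⟩ := h5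
  have h7 : w' = w := Ψ.injective h6
  rwa [← h7]

end Cfsg.Agent.S0375
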