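import Cfsg.Statements.S1644
import Cfsg.Agent.Lib.J1Rec.Final
import Cfsg.Agent.Lib.J1.Build

set_option autoImplicit false
open Cfsg

namespace Cfsg.Agent.S1644

/-- The first Janko group recognised by an involution centraliser, at the level of isomorphism: a finite simple group with abelian Sylow 2-subgroups of order 8 and an involution whose centraliser is isomorphic to Z/2 × A₅ is isomorphic to the subgroup of GL(7, 11) generated by the two explicit Janko matrices. -/
theorem result {G : Type*} [Group G] [Finite G] [IsSimpleGroup G] (S : Sylow 2 G) (hS : IsMulCommutative (S : Subgroup G)) (h8 : Nat.card S = 8) (t : G) (ht : orderOf t = 2) (e : (Subgroup.centralizer ({t} : Set G)) ≃* Multiplicative (ZMod 2) × alternatingGroup (Fin 5)) : Cfsg.Spor.IsoJ1 G := by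
  classical
  obtain ⟨S₀, rfl⟩ := Cfsg.Agent.Lib.J1.Local.exists_setup t ht e
  have h1 := S₀.card_eq
  have h2 := Subgroup.card_mul_index (S : Subgroup G)
  have h3 := S.not_dvd_index
  rw [h8] at h2
  have hodd : ¬ 2 ∣ (Subgroup.centralizer ({S₀.t} : Set G)).index := by
    intro h
    apply h3
    omega
  have hi := Cfsg.Agent.Lib.J1.Build.main_index S₀ hodd
  have hcard : Nat.card G = 175560 := by rw [h1, hi]
  obtain ⟨S', hS', w, h7, hwt, hbw⟩ := Cfsg.Agent.Lib.J1Rec.W.exists_setup_w S₀ hodd
  have hodd' : ¬ 2 ∣ (Subgroup.centralizer ({S'.t} : Set G)).index := by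
    rw [hS']
    exact hodd
  exact Cfsg.Agent.Lib.J1Rec.Final.main S' hodd' hcard h7 hwt hbw

end Cfsg.Agent.S1644
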