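import Cfsg.Statements.S0449
import Cfsg.Agent.S1644
-- import your own Cfsg.Agent.* helpers here

set_option autoImplicit false
open Cfsg

namespace Cfsg.Agent.S0449

set_option maxRecDepth 100000 in
/-- The Sylow `2`-subgroup through a `2`-central involution with centraliser `2 × A₅`. -/
theorem aux {G : Type*} [Group G] [Finite G] [IsSimpleGroup G] (t : G) (ht : Cfsg.IsTwoCentralInvolution t)
    (e : Subgroup.centralizer ({t} : Set G) ≃* Multiplicative (ZMod 2) × alternatingGroup (Fin 5)) : Cfsg.Spor.IsoJ1 G := by
  classical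
  obtain ⟨ht2, P, htP, hc⟩ := ht
  have hle : (P : Subgroup G) ≤ Subgroup.centralizer ({t} : Set G) := by
    intro x hx
    rw [Subgroup.mem_centralizer_singleton_iff]
    exact hc x hx
  have hC : Nat.card (Subgroup.centralizer ({t} : Set G)) = 120 := by
    rw [Nat.card_congr e.toEquiv, Nat.card_prod]
    have h1 : Nat.card (Multiplicative (ZMod 2)) = 2 := by
      rw [Nat.card_congr Multiplicative.toAdd]; simp
    have h2 : Nat.card (alternatingGroup (Fin 5)) = 60 := by
      rw [Nat.card_eq_fintype_card]; decide
    rw [h1, h2]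
  have hCG : 120 ∣ Nat.card G := by
    rw [← hC]; exact Subgroup.card_subgroup_dvd_card _
  have hPC : Nat.card P ∣ 120 := by
    rw [← hC]
    exact Subgroup.card_dvd_of_le hle
  have hsyl := P.card_eq_multiplicity
  have hfac : 3 ≤ (Nat.card G).factorization 2 := by
    have h8 : 2 ^ 3 ∣ Nat.card G := Dvd.dvd.trans (by norm_num) hCG
    exact (Nat.Prime.pow_dvd_iff_le_factorization Nat.prime_two Nat.card_pos.ne').1 h8
  have hfac2 : (Nat.card G).factorization 2 ≤ 3 := by
    by_contra hn
    push Not at hn
    have h16 : 2 ^ 4 ∣ Nat.card P := by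
      rw [hsyl]
      exact pow_dvd_pow 2 hn
    have := h16.trans hPC
    norm_num at this
  have h8 : Nat.card P = 8 := by
    rw [hsyl, le_antisymm hfac2 hfac]; norm_num
  have hsq : ∀ x : P, x ^ 2 = 1 := by
    intro x
    have hx8 : x ^ 8 = 1 := by
      rw [← h8]; exact pow_card_eq_one'
    let y : Subgroup.centralizer ({t} : Set G) := ⟨x, hle x.2⟩
    have hy8 : y ^ 8 = 1 := by
      apply Subtype.ext
      have := congrArg Subtype.val hx8
      exact this
    have h3 : (e y) ^ 8 = 1 := by rw [← map_pow, hy8, map_one]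
    have h4 : ∀ b : alternatingGroup (Fin 5), b ^ 8 = 1 → b ^ 2 = 1 := by decide
    have h5 : (e y).2 ^ 2 = 1 := h4 _ (by simpa using congrArg Prod.snd h3)
    have h6 : (e y).1 ^ 2 = 1 := by
      have h7 : ∀ c : Multiplicative (ZMod 2), c ^ 2 = 1 := by decide
      exact h7 _
    have h7 : (e y) ^ 2 = 1 := Prod.ext h6 h5
    have h9 : y ^ 2 = 1 := by
      apply e.injective
      rw [map_pow, h7, map_one]
    apply Subtype.ext
    have h10 := congrArg Subtype.val h9
    exact h10
  have hcomm : IsMulCommutative (P : Subgroup G) := by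
    constructor
    constructor
    intro a b
    have h1 := hsq a
    have h2 := hsq b
    have h3 := hsq (a * b)
    have e1 : a⁻¹ = a := inv_eq_of_mul_eq_one_left (by rw [← pow_two]; exact h1)
    have e2 : b⁻¹ = b := inv_eq_of_mul_eq_one_left (by rw [← pow_two]; exact h2)
    have e3 : (a * b)⁻¹ = a * b := inv_eq_of_mul_eq_one_left (by rw [← pow_two]; exact h3)
    rw [mul_inv_rev, e1, e2] at e3
    exact e3.symm
  exact Cfsg.Agent.S1644.result P hcomm h8 t ht2 e

/-- Uniqueness of Janko's first group: two finite simple groups, each with a 2-central involution whose centraliser is isomorphic to (cyclic of order 2) × (alternating group of degree 5), are isomorphic. -/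
theorem result {G H : Type*} [Group G] [Finite G] [IsSimpleGroup G] [Group H] [Finite H] [IsSimpleGroup H] (t : G) (u : H) (ht : Cfsg.IsTwoCentralInvolution t) (hu : Cfsg.IsTwoCentralInvolution u) (e : Subgroup.centralizer ({t} : Set G) ≃* Multiplicative (ZMod 2) × alternatingGroup (Fin 5)) (f : Subgroup.centralizer ({u} : Set H) ≃* Multiplicative (ZMod 2) × alternatingGroup (Fin 5)) : Nonempty (G ≃* H) := by
  obtain ⟨a⟩ := aux t ht e
  obtain ⟨b⟩ := aux u hu f
  exact ⟨a.trans b.symm⟩

end Cfsg.Agent.S0449
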