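import Cfsg.Statements.S0454
import Cfsg.Agent.Lib.DCE.Ly.Inv.MxG
import Cfsg.Agent.Lib.DCE.PermPack

set_option autoImplicit false
open Cfsg

namespace Cfsg.Agent.S0454

open Cfsg.Agent.Lib.DCE.Ly.Setup Cfsg.Agent.Lib.DCE.Ly.Final Cfsg.Agent.Lib.DCE.Ly.Inv.Count
  Cfsg.Agent.Lib.DCE.Ly.Inv.MxG Cfsg.Agent.Lib.TC.Pres

/-- Existence of the Lyons group: there is a transitive permutation group of degree 8835156, simple of order 51765179004000000, whose point stabiliser is simple of the order of a group of type G2, and which has an involution whose centraliser is a non-split double cover of the alternating group of degree 11. -/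
theorem result : ∃ H : Subgroup (Equiv.Perm (Fin 8835156)), Cfsg.IsLy H ∧ MulAction.IsPretransitive H (Fin 8835156) ∧ Cfsg.IsG2 (MulAction.stabilizer H (0 : Fin 8835156)) ∧ ∃ t : H, orderOf t = 2 ∧ Cfsg.IsNonsplitDoubleCover (Subgroup.centralizer ({t} : Set H)) (alternatingGroup (Fin 11)) := by
  haveI := simple_G
  obtain ⟨H, φ, htr, ⟨es⟩⟩ := Cfsg.Agent.Lib.DCE.PermPack.exists_perm HH 8835156 index_HH (by norm_num)
  refine ⟨H, ⟨φ.symm.isSimpleGroup, ?_⟩, htr, ⟨?_, 5, (by norm_num : Nat.Prime 5).isPrimePow, by norm_num, ?_⟩, φ tt, ?_, ?_⟩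
  · rw [← Nat.card_congr φ.toEquiv]
    exact card_G
  · haveI := Cfsg.Agent.Lib.DCE.Ly.H.Tgt.simple_Q
    let e2 : Q ≃* HH := MonoidHom.ofInjective iota_inj
    exact (e2.trans es).symm.isSimpleGroup
  · rw [← Nat.card_congr es.toEquiv, card_HH]
    norm_num
  · rw [MulEquiv.orderOf_eq]
    exact orderOf_tt
  · exact Cfsg.Agent.Lib.DCE.A11Cover.main (data.map φ) (by
      rw [Cfsg.Agent.Lib.DCE.A11Cover.card_centralizer_map]
      exact card_C_le)

end Cfsg.Agent.S0454
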