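import Cfsg.Statements.S0647

set_option autoImplicit false
open Cfsg

namespace Cfsg.Agent.S0647

/-- For a nonempty family of maximal abelian subgroups of a finite group, the intersection of the family is the centre of the subgroup it generates, which is also the full centralizer of that subgroup. -/
theorem result {S : Type*} [Group S] [Finite S] (𝒜 : Set (Subgroup S)) (hne : 𝒜.Nonempty) (hab : ∀ A ∈ 𝒜, IsMulCommutative A) (hmax : ∀ A ∈ 𝒜, ∀ B : Subgroup S, IsMulCommutative B → A ≤ B → B = A) : sInf 𝒜 = sSup 𝒜 ⊓ Subgroup.centralizer ((sSup 𝒜 : Subgroup S) : Set S) ∧ sInf 𝒜 = Subgroup.centralizer ((sSup 𝒜 : Subgroup S) : Set S) := by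
  have h1 : sInf 𝒜 ≤ Subgroup.centralizer ((sSup 𝒜 : Subgroup S) : Set S) := by
    intro x hx
    rw [Subgroup.mem_centralizer_iff]
    have hx' : ∀ A ∈ 𝒜, x ∈ A := fun A hA => (Subgroup.mem_sInf.mp hx) A hA
    have hle : sSup 𝒜 ≤ Subgroup.centralizer ({x} : Set S) := by
      apply sSup_le
      intro A hA y hy
      rw [Subgroup.mem_centralizer_iff]
      intro z hz
      rw [Set.mem_singleton_iff] at hz
      subst hz
      haveI := hab A hA
      have := mul_comm' (⟨y, hy⟩ : A) ⟨z, hx' A hA⟩
      exact (congrArg Subtype.val this).symm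
    intro y hy
    have := hle hy
    rw [Subgroup.mem_centralizer_iff] at this
    exact (this x rfl).symm
  have h2 : Subgroup.centralizer ((sSup 𝒜 : Subgroup S) : Set S) ≤ sInf 𝒜 := by
    intro x hx
    rw [Subgroup.mem_sInf]
    intro A hA
    rw [Subgroup.mem_centralizer_iff] at hx
    haveI := hab A hA
    have hcomm : ∀ a ∈ A, a * x = x * a := fun a ha =>
      hx a ((le_sSup hA : A ≤ sSup 𝒜) ha)
    -- `A ⊔ ⟨x⟩` is abelian.
    let B : Subgroup S := Subgroup.closure ((A : Set S) ∪ {x})
    have hB : IsMulCommutative B := by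
      refine ⟨⟨?_⟩⟩
      have hcl : ∀ a ∈ (A : Set S) ∪ {x}, ∀ b ∈ (A : Set S) ∪ {x}, a * b = b * a := by
        rintro a (ha | ha) b (hb | hb)
        · have := mul_comm' (⟨a, ha⟩ : A) ⟨b, hb⟩
          exact congrArg Subtype.val this
        · rw [Set.mem_singleton_iff] at hb; subst hb; exact hcomm a ha
        · rw [Set.mem_singleton_iff] at ha; subst ha; exact (hcomm b hb).symm
        · rw [Set.mem_singleton_iff] at ha hb; subst ha; subst hb; rfl
      letI := Subgroup.closureCommGroupOfComm hcl
      intro u v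
      exact mul_comm u v
    have hAB : A ≤ B := fun a ha => Subgroup.subset_closure (Or.inl ha)
    have hEq := hmax A hA B hB hAB
    have hxB : x ∈ B := Subgroup.subset_closure (Or.inr rfl)
    rwa [hEq] at hxB
  have h3 : sInf 𝒜 ≤ sSup 𝒜 := by
    obtain ⟨A, hA⟩ := hne
    exact (sInf_le hA).trans (le_sSup hA)
  refine ⟨le_antisymm (le_inf h3 h1) ?_, le_antisymm h1 h2⟩
  exact inf_le_right.trans h2

end Cfsg.Agent.S0647
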