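import Cfsg.Statements.S0652
import Cfsg.Agent.S0651

set_option autoImplicit false
open Cfsg

namespace Cfsg.Agent.S0652

open Subgroup
open scoped commutatorElement
open Cfsg.Agent.S0650 (Ast Y Cm)
open Cfsg.Agent.S0651 (mem_image_iff replacement_general Ast_le_of_normal)

/-- For odd p and D normal in the p-group S, the elementary abelian subgroups of D of largest order satisfy the replacement property for class-2 normal subgroups of S. -/
theorem result {S : Type*} [Group S] [Finite S] {p : ℕ} [Fact p.Prime] (hS : IsPGroup p S) (hp : p ≠ 2) (D : Subgroup S) [D.Normal] : ∀ (B : Subgroup S) [B.Normal], ⁅⁅B, B⁆, B⁆ = ⊥ → (∃ U ∈ (Set.image (fun A : Subgroup ↥D => A.map D.subtype) (Cfsg.maxElementaryAbelianSubgroups p ↥D)), ⁅B, B⁆ ≤ U ∧ ¬ B ≤ U) → ∃ A ∈ (Set.image (fun A : Subgroup ↥D => A.map D.subtype) (Cfsg.maxElementaryAbelianSubgroups p ↥D)), ⁅B, B⁆ ≤ A ∧ ¬ B ≤ A ∧ B ≤ Subgroup.normalizer (A : Set S) := by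
  intro B _ _ hex
  have hab : ∀ U ∈ (Set.image (fun A : Subgroup ↥D => A.map D.subtype) (Cfsg.maxElementaryAbelianSubgroups p ↥D)), IsMulCommutative U := by
    rintro U ⟨A, hA, rfl⟩
    obtain ⟨⟨hA1, -⟩, -⟩ := hA
    exact ⟨⟨by
      rintro ⟨_, x, hx, rfl⟩ ⟨_, y, hy, rfl⟩
      apply Subtype.ext
      have := congrArg Subtype.val (congrArg Subtype.val (mul_comm' (⟨x, hx⟩ : A) ⟨y, hy⟩))
      exact this⟩⟩
  refine replacement_general hS hp _ hab B ?_ hex
  intro U hU b hb hbN hbU hU1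
  have hUab := hab U hU
  have hnot : ¬ B ≤ normalizer (U : Set S) := fun h => hbU (h hb)
  have hres := Cfsg.Agent.S0650.result hS B (fun h => absurd h hp) U hUab hU1 hnot b hb hbN hbU
  obtain ⟨h1, h2, -, -, -, -, -, -, -, h10⟩ := hres
  obtain ⟨hUD, hU'⟩ := (mem_image_iff _).mp hU
  have hAstD : Ast U b ≤ D := Ast_le_of_normal hUD b
  rw [mem_image_iff]
  have hexpU : Monoid.exponent U ∣ p := by
    apply Monoid.exponent_dvd_of_forall_pow_eq_one
    rintro ⟨x, hx⟩
    apply Subtype.ext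
    have := hU'.1.2 ⟨x, hUD hx⟩ (mem_subgroupOf.mpr hx)
    have h5 : x ^ p = 1 := by simpa using congrArg Subtype.val this
    simpa using h5
  have hexp : Monoid.exponent (Ast U b) ∣ p := (h10 hp).trans hexpU
  refine ⟨hAstD, ⟨?_, ?_⟩, ?_⟩
  · -- abelian
    refine ⟨⟨?_⟩⟩
    rintro ⟨x, hx⟩ ⟨y, hy⟩
    apply Subtype.ext
    apply Subtype.ext
    have := congrArg Subtype.val (mul_comm' (⟨x, mem_subgroupOf.mp hx⟩ : Ast U b) ⟨y, mem_subgroupOf.mp hy⟩)
    exact this
  · intro x hx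
    apply Subtype.ext
    obtain ⟨k, hk⟩ := hexp
    have h3 := Monoid.pow_exponent_eq_one (⟨x, mem_subgroupOf.mp hx⟩ : Ast U b)
    have h4 : ((x : S)) ^ Monoid.exponent (Ast U b) = 1 := congrArg Subtype.val h3
    show ((x : S)) ^ p = 1
    rw [hk, pow_mul, h4, one_pow]
  · intro C hC
    have hcardAst : Nat.card ↥((Ast U b).subgroupOf D) = Nat.card (Ast U b) :=
      Nat.card_congr (subgroupOfEquivOfLe hAstD).toEquiv
    have hcardU : Nat.card ↥(U.subgroupOf D) = Nat.card U :=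
      Nat.card_congr (subgroupOfEquivOfLe hUD).toEquiv
    rw [hcardAst, h1, ← hcardU]
    exact hU'.2 C hC

end Cfsg.Agent.S0652
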