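import Cfsg.Statements.S0655
import Cfsg.Agent.Lib.PLocal.Thompson

open Cfsg.Agent.Lib.PLocal.Thompson

set_option autoImplicit false
open Cfsg

namespace Cfsg.Agent.S0655

/-- In a p-group the intersection of all elementary abelian subgroups of largest order is the subgroup generated by the elements of order dividing p in the centre (equivalently the centralizer) of the elementary-version Thompson subgroup. -/
theorem result {S : Type*} [Group S] [Finite S] {p : ℕ} [Fact p.Prime] (hS : IsPGroup p S) : sInf (Cfsg.maxElementaryAbelianSubgroups p S) = Cfsg.omegaCenterThompson p S ∧ Cfsg.omegaCenterThompson p S = Cfsg.omegaOne p (Subgroup.centralizer (Cfsg.thompsonSubgroup p S : Set S)) := by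
  have h1 : Cfsg.omegaCenterThompson p S = Cfsg.omegaOne p (zjOf p (⊤ : Subgroup S)) := by
    rw [Cfsg.omegaCenterThompson, thompsonSubgroup_eq]
    rfl
  have h2 : sInf (Cfsg.maxElementaryAbelianSubgroups p S) = sInf {A | IsMaxIn p (⊤ : Subgroup S) A} := by
    congr 1
    ext A
    exact mem_maxEA_iff
  constructor
  · rw [h1, h2, omegaOne_zjOf]
  · rw [h1, thompsonSubgroup_eq]
    apply le_antisymm
    · rw [Cfsg.omegaOne, Cfsg.omegaOne, Subgroup.closure_le]
      rintro x ⟨hx, hxp⟩
      exact Subgroup.subset_closure ⟨hx.2, hxp⟩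
    · rw [Cfsg.omegaOne, Cfsg.omegaOne, Subgroup.closure_le]
      rintro x ⟨hx, hxp⟩
      refine Subgroup.subset_closure ⟨?_, hxp⟩
      obtain ⟨A, hA⟩ := exists_isMaxIn p (⊤ : Subgroup S)
      exact ⟨hA.le_jOf (mem_all_of_centralizer (Subgroup.mem_top x) hxp hx hA), hx⟩

end Cfsg.Agent.S0655
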