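import Cfsg.Statements.S0949
import Cfsg.Agent.Lib.BlockT.HomoLocal

set_option autoImplicit false
open Cfsg

namespace Cfsg.Agent.S0949

open Cfsg.Agent.Lib.BlockT.Homocyclic Cfsg.Agent.Lib.BlockT.HomoLocal
open Cfsg.Agent.Lib.Blocks.Third (oneI oneI_apply)
open Cfsg.Agent.Lib.Char.Basic Cfsg.Agent.Lib.Char.Linear

set_option linter.style.haveILetI false
set_option linter.unusedVariables false

/-- A Sylow subgroup of a normal subgroup which satisfies Burnside's transfer criterion is the whole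
subgroup, if there is no normal subgroup of odd order. -/
theorem eq_of_transfer {G : Type*} [Group G] [Finite G]
    (hO : ∀ N : Subgroup G, N.Normal → Odd (Nat.card N) → N = ⊥) (K : Subgroup G) (hK : K.Normal)
    (P : Sylow 2 G) (hle : (P : Subgroup G) ≤ K)
    (hnorm : Subgroup.normalizer (((P.subtype hle : Sylow 2 K) : Subgroup K) : Set K) ≤
      Subgroup.centralizer (((P.subtype hle : Sylow 2 K) : Subgroup K) : Set K)) :
    (P : Subgroup G) = K := by
  classical
  set S : Sylow 2 K := P.subtype hle with hS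
  have hScoe : (S : Subgroup K) = (P : Subgroup G).subgroupOf K := Sylow.coe_subtype P hle
  set Q := (MonoidHom.transferSylow S hnorm).ker with hQ
  have hcomp : Subgroup.IsComplement' Q (S : Subgroup K) :=
    MonoidHom.ker_transferSylow_isComplement' S hnorm
  have hnd : ¬ 2 ∣ Nat.card Q := MonoidHom.not_dvd_card_ker_transferSylow S hnorm
  have hind : ∃ k : ℕ, Q.index = 2 ^ k := by
    have h2 : Q.index = Nat.card S := hcomp.symm.index_eq_card
    rw [h2, S.card_eq_multiplicity]
    exact ⟨_, rfl⟩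
  obtain ⟨k, hk⟩ := hind
  have hmemQ : ∀ y : K, ¬ 2 ∣ orderOf y → y ∈ Q := fun y hy => mem_of_odd hk hy
  have hoddQ : ∀ y ∈ Q, ¬ 2 ∣ orderOf y := by
    intro y hy hd
    have h1 : orderOf (⟨y, hy⟩ : Q) ∣ Nat.card Q := orderOf_dvd_natCard _
    rw [Subgroup.orderOf_mk] at h1
    exact hnd (hd.trans h1)
  set Q' : Subgroup G := Q.map K.subtype with hQ'
  have hQ'n : Q'.Normal := by
    constructor
    rintro _ ⟨y, hy, rfl⟩ g
    have hm : g * (y : G) * g⁻¹ ∈ K := hK.conj_mem _ y.2 g
    refine ⟨⟨_, hm⟩, hmemQ _ ?_, rfl⟩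
    rw [Subgroup.orderOf_mk, orderOf_conj, Subgroup.orderOf_coe]
    exact hoddQ y hy
  have hcard : Nat.card Q' = Nat.card Q :=
    Nat.card_congr (Q.equivMapOfInjective K.subtype K.subtype_injective).toEquiv.symm
  have hQ'b := hO Q' hQ'n (by
    rw [hcard]
    exact Nat.not_even_iff_odd.mp (fun h => hnd h.two_dvd))
  have hQb : Q = ⊥ := by
    rw [hQ', Subgroup.map_eq_bot_iff_of_injective _ K.subtype_injective] at hQ'b
    exact hQ'b
  have h1 : Nat.card Q * Nat.card (S : Subgroup K) = Nat.card K := hcomp.card_mul_card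
  rw [hQb, Subgroup.card_bot, one_mul] at h1
  have hStop : (S : Subgroup K) = ⊤ := by
    apply Subgroup.eq_top_of_card_eq
    exact h1
  apply le_antisymm hle
  intro x hx
  have : (⟨x, hx⟩ : K) ∈ (S : Subgroup K) := by
    rw [hStop]
    exact Subgroup.mem_top _
  rw [hScoe, Subgroup.mem_subgroupOf] at this
  exact this

/-- No normal `2`-complement problem for the normal closure. -/
theorem normalizer_le {G : Type*} [Group G] [Finite G] (P : Sylow 2 G) (m : ℕ) (hm : 2 ≤ m)
    (e : (P : Subgroup G) ≃* Multiplicative (ZMod (2 ^ m) × ZMod (2 ^ m))) (K : Subgroup G)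
    (hK : K.Normal) (hle : (P : Subgroup G) ≤ K)
    (hcl : K ≤ Subgroup.normalClosure ((P : Subgroup G) : Set G)) :
    Subgroup.normalizer (((P.subtype hle : Sylow 2 K) : Subgroup K) : Set K) ≤
      Subgroup.centralizer (((P.subtype hle : Sylow 2 K) : Subgroup K) : Set K) := by
  classical
  by_contra hnot
  obtain ⟨n, hn, hnC⟩ := Set.not_subset.mp hnot
  letI : Fintype K := Fintype.ofFinite K
  set S : Sylow 2 K := P.subtype hle with hS
  have hScoe : (S : Subgroup K) = (P : Subgroup G).subgroupOf K := Sylow.coe_subtype P hle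
  let e' : (S : Subgroup K) ≃* Multiplicative (ZMod (2 ^ m) × ZMod (2 ^ m)) :=
    (MulEquiv.subgroupCongr hScoe).trans ((Subgroup.subgroupOfEquivOfLe hle).trans e)
  obtain ⟨ψ, h1, h2, h3⟩ := exists_linear_of_not_mem hm e' ⟨n, hn⟩ hnC
  obtain ⟨lam, hlam⟩ := exists_hom_of_deg_one (isCharacter_of_isIrrCharacter ψ.2) h2
  apply h1
  apply Subtype.ext
  funext k
  rw [oneI_apply, hlam]
  -- all conjugates of `P` lie in the kernel
  have hgen : Subgroup.normalClosure ((P : Subgroup G) : Set G) ≤ (lam.ker).map K.subtype := by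
    rw [Subgroup.normalClosure, Subgroup.closure_le]
    intro x hx
    obtain ⟨p, hp, hpx⟩ := Group.mem_conjugatesOfSet_iff.mp hx
    obtain ⟨g, rfl⟩ := isConj_iff.mp hpx
    have hxK : g * p * g⁻¹ ∈ K := hK.conj_mem _ (hle hp) g
    let Q : Sylow 2 G := g • P
    have hQ : (Q : Subgroup G) ≤ K := by
      intro y hy
      have h4 : y ∈ ((g • P : Sylow 2 G) : Subgroup G) := hy
      rw [Sylow.coe_subgroup_smul] at h4
      obtain ⟨r, hr, rfl⟩ := h4
      exact hK.conj_mem _ (hle hr) g
    have hxQ : g * p * g⁻¹ ∈ (Q : Subgroup G) := by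
      change g * p * g⁻¹ ∈ ((g • P : Sylow 2 G) : Subgroup G)
      rw [Sylow.coe_subgroup_smul]
      exact ⟨p, hp, rfl⟩
    obtain ⟨c, hc⟩ := MulAction.exists_smul_eq K (Q.subtype hQ) S
    have h5 : c * (⟨g * p * g⁻¹, hxK⟩ : K) * c⁻¹ ∈ (S : Subgroup K) := by
      rw [← hc, Sylow.coe_subgroup_smul]
      refine ⟨⟨g * p * g⁻¹, hxK⟩, ?_, rfl⟩
      rw [Sylow.coe_subtype]
      exact Subgroup.mem_subgroupOf.mpr hxQ
    have h6 := h3 _ h5
    rw [hlam] at h6
    have h7 : lam (c * (⟨g * p * g⁻¹, hxK⟩ : K) * c⁻¹) = 1 := Units.ext h6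
    rw [map_mul, map_mul, map_inv, mul_comm (lam c), mul_assoc, mul_inv_cancel, mul_one] at h7
    exact ⟨⟨g * p * g⁻¹, hxK⟩, h7, rfl⟩
  obtain ⟨k', hk', hkk⟩ := hgen (hcl k.2)
  have : k' = k := Subtype.ext hkk
  rw [this] at hk'
  have hk2 : lam k = 1 := hk'
  change ((lam k : ℂˣ) : ℂ) = 1
  rw [hk2]
  rfl


/-- Let the finite group G have a Sylow 2-subgroup P isomorphic to Z/2^m × Z/2^m with m ≥ 2, and suppose G has no nontrivial normal subgroup of odd order. Then P is normal in G, C_G(P) = P, and the index of P is 1 or 3. -/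
theorem result {G : Type*} [Group G] [Finite G] (P : Sylow 2 G) (m : ℕ) (hm : 2 ≤ m) (e : (P : Subgroup G) ≃* Multiplicative (ZMod (2 ^ m) × ZMod (2 ^ m))) (hO : ∀ N : Subgroup G, N.Normal → Odd (Nat.card N) → N = ⊥) : (P : Subgroup G).Normal ∧ Subgroup.centralizer (P : Set G) = (P : Subgroup G) ∧ ((P : Subgroup G).index = 1 ∨ (P : Subgroup G).index = 3) := by
  classical
  have hab := abelian_of_equiv e
  set K := Subgroup.normalClosure ((P : Subgroup G) : Set G) with hKdef
  have hK : K.Normal := Subgroup.normalClosure_normal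
  have hle : (P : Subgroup G) ≤ K := Subgroup.le_normalClosure
  have h1 := eq_of_transfer hO K hK P hle (normalizer_le P m hm e K hK hle le_rfl)
  have hPn : (P : Subgroup G).Normal := by
    rw [h1]
    exact hK
  -- the centralizer
  have hCn : (Subgroup.centralizer ((P : Subgroup G) : Set G)).Normal := inferInstance
  have hPC : (P : Subgroup G) ≤ Subgroup.centralizer ((P : Subgroup G) : Set G) := by
    intro x hx
    rw [Subgroup.mem_centralizer_iff]
    intro y hy
    exact hab y hy x hx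
  have h2 : (P : Subgroup G) = Subgroup.centralizer ((P : Subgroup G) : Set G) := by
    refine eq_of_transfer hO _ hCn P hPC ?_
    intro t _
    rw [Subgroup.mem_centralizer_iff]
    intro s hs
    have hS : (s : G) ∈ (P : Subgroup G) := by
      have h3 : s ∈ (((P.subtype hPC : Sylow 2 _) : Subgroup _)) := hs
      rw [Sylow.coe_subtype, Subgroup.mem_subgroupOf] at h3
      exact h3
    apply Subtype.ext
    have := Subgroup.mem_centralizer_iff.mp t.2 _ hS
    simpa using this
  refine ⟨hPn, h2.symm, ?_⟩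
  have h3 := relIndex_eq (by omega) e
  have h4 : Subgroup.normalizer ((P : Subgroup G) : Set G) = ⊤ := Subgroup.normalizer_eq_top_iff.mpr hPn
  rw [h4, ← h2, Subgroup.relIndex_top_right] at h3
  exact h3

end Cfsg.Agent.S0949
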