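import Cfsg.Statements.S0984
import Cfsg.Agent.Lib.Small.A7Main

set_option autoImplicit false
open Cfsg

namespace Cfsg.Agent.S0984

/-- A simple group of order 2520 is isomorphic to the alternating group of degree 7. -/
theorem result {G : Type*} [Group G] [Finite G] [IsSimpleGroup G] (h : Nat.card G = 2520) : Nonempty (G ≃* alternatingGroup (Fin 7)) := by
  have hG : ¬ IsMulCommutative G :=
    Cfsg.Agent.Lib.Small.Basic.not_comm_of_not_prime (by rw [h]; norm_num)
  obtain ⟨H, hH, hi⟩ := Cfsg.Agent.Lib.Small.A7Main.exists_index_seven hG h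
  exact Cfsg.Agent.Lib.Small.AltRec.nonempty_mulEquiv_alt_of_index hG H hH 7 hi (by rw [h]; decide)

end Cfsg.Agent.S0984
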