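import Cfsg.Statements.S0994
import Cfsg.Agent.Lib.Small.Sieve
-- import your own Cfsg.Agent.* helpers here

set_option autoImplicit false
open Cfsg

namespace Cfsg.Agent.S0994

/-- No finite simple group has order 1188 = 2^2 * 3^3 * 11. -/
theorem result {G : Type*} [Group G] [Finite G] [IsSimpleGroup G] : Nat.card G ≠ 1188 := by
  intro h
  have hG := Cfsg.Agent.Lib.Small.Basic.not_comm_of_not_prime (G := G) (by rw [h]; norm_num)
  exact Cfsg.Agent.Lib.Small.Sieve.false_of_sieve hG h (by decide +kernel)

end Cfsg.Agent.S0994
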