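import Cfsg.Statements.S0998
import Cfsg.Agent.Lib.BrauerP.Tuan.Core

set_option autoImplicit false
open Cfsg

namespace Cfsg.Agent.S0998

/-- The case `r < p`. -/
theorem aux {G : Type*} [Group G] [Finite G] [IsSimpleGroup G] (hG : ¬ IsCyclic G) (p q r b : ℕ) (hp : p.Prime)
    (hq : q.Prime) (hr : r.Prime) (hpq : p ≠ q) (hqr : q ≠ r) (hrp : r < p)
    (hG' : Nat.card G = p * r * q ^ b) :
    (∃ (F : Type) (_ : Field F) (_ : Fintype F), Fintype.card F = 5 ∧
      Nonempty (G ≃* Matrix.ProjectiveSpecialLinearGroup (Fin 2) F)) ∨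
    (∃ (F : Type) (_ : Field F) (_ : Fintype F), Fintype.card F = 7 ∧
      Nonempty (G ≃* Matrix.ProjectiveSpecialLinearGroup (Fin 2) F)) := by
  have : Fact p.Prime := ⟨hp⟩
  have hperf := Cfsg.Agent.Lib.BrauerP.Reynolds.perfect_of_simple hG
  -- `r` is odd
  have hr2 : r ≠ 2 := by
    rintro rfl
    have : Fact (Nat.Prime 2) := ⟨Nat.prime_two⟩
    obtain ⟨Q₀⟩ : Nonempty (Sylow 2 G) := inferInstance
    have hQm : Nat.card Q₀ = 2 ^ (Nat.card G).factorization 2 := Q₀.card_eq_multiplicity
    have hpodd : Odd p := hp.odd_of_ne_two (by omega)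
    have hqodd : Odd q := hq.odd_of_ne_two hqr
    have hd : 2 ∣ Nat.card G := by
      rw [hG']
      exact Dvd.dvd.mul_right (dvd_mul_left _ _) _
    have hfac : 1 ≤ (Nat.card G).factorization 2 :=
      (Nat.prime_two.dvd_iff_one_le_factorization Nat.card_pos.ne').mp hd
    have hfac1 : (Nat.card G).factorization 2 = 1 := by
      by_contra hcon
      have h2 : 2 ≤ (Nat.card G).factorization 2 := by omega
      have h3 := (Nat.prime_two.pow_dvd_iff_le_factorization Nat.card_pos.ne').mpr h2
      rw [hG', pow_two] at h3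
      have h4 : Nat.card G = 2 * (p * q ^ b) := by rw [hG']; ring
      rw [← hG', h4] at h3
      have h5 : 2 ∣ p * q ^ b := Nat.dvd_of_mul_dvd_mul_left (by norm_num) h3
      have h6 : Odd (p * q ^ b) := hpodd.mul (hqodd.pow)
      exact (Nat.not_even_iff_odd.mpr h6) (even_iff_two_dvd.mpr h5)
    have hQc : Nat.card Q₀ = 2 := by
      rw [hQm, hfac1, pow_one]
    have h1 := Cfsg.Agent.Lib.BrauerP.Main.not_normalizer_le hperf Q₀ hQc
    exact h1 (Cfsg.Agent.Lib.BrauerP.Reynolds.normalizer_le_of_two hQc)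
  have hrodd : Odd r := hr.odd_of_ne_two hr2
  have hpodd : Odd p := hp.odd_of_ne_two (by have := hr.two_le; omega)
  have hg : r < p - 1 := by
    obtain ⟨a, ha⟩ := hrodd
    obtain ⟨b', hb'⟩ := hpodd
    omega
  have hG'' : Nat.card G = p * q ^ b * r := by rw [hG']; ring
  obtain ⟨⟨z, hz, hC⟩, hn, hnum⟩ := Cfsg.Agent.Lib.BrauerP.Tuan.core hG hp hq hpq hG'' hg
  -- the prime is `5` or `7`
  have hp57 : p = 5 ∨ p = 7 := by
    rcases hnum with ⟨c, h1, h2⟩ | ⟨m, h1, h2⟩ | ⟨m, h1, h2, h3⟩
    · right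
      have hc0 : c ≠ 0 := by
        rintro rfl
        have := hp.two_le
        simp at h1
        omega
      obtain ⟨c', rfl⟩ : ∃ c', c = c' + 1 := ⟨c - 1, by omega⟩
      have hr' : r = 2 ^ c' - 1 := by
        rw [pow_succ] at h1
        omega
      have hp' : p = 2 ^ (c' + 1) - 1 := by omega
      have h3 : c' ≠ 1 := by
        rintro rfl
        rw [hr'] at hr
        norm_num at hr
      have h4 : c' + 1 ≠ 1 := by
        intro h
        have h5 : c' = 0 := by omega
        subst h5
        rw [hr'] at hr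
        norm_num at hr
      have h5 := (Nat.prime_of_pow_sub_one_prime h3 (hr' ▸ hr)).2
      have h6 := (Nat.prime_of_pow_sub_one_prime h4 (hp' ▸ hp)).2
      have h7 : c' = 2 := by
        rcases h5.eq_two_or_odd' with h | h
        · exact h
        · rcases h6.eq_two_or_odd' with h' | h'
          · omega
          · exfalso
            obtain ⟨a, ha⟩ := h
            obtain ⟨a', ha'⟩ := h'
            omega
      rw [hp', h7]; norm_num
    · left
      have hm0 : m ≠ 0 := by
        rintro rfl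
        have := hr.two_le
        simp at h1
        omega
      have hr' : r = 2 ^ m - 1 := by omega
      have h3 : m ≠ 1 := by
        rintro rfl
        rw [hr'] at hr
        norm_num at hr
      have h5 := (Nat.prime_of_pow_sub_one_prime h3 (hr' ▸ hr)).2
      obtain ⟨k, hk⟩ := Nat.pow_of_pow_add_prime (by norm_num : 1 < 2) hm0 (h1 ▸ hp)
      have h6 : m = 2 := by
        rw [hk] at h5
        rcases k with _ | k
        · simp at h5
          exact absurd h5 (by norm_num)
        · have h7 : (2 : ℕ) ∣ 2 ^ (k + 1) := dvd_pow_self 2 (by omega)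
          have h8 := (Nat.prime_dvd_prime_iff_eq Nat.prime_two h5).mp h7
          rw [hk]
          exact h8.symm
      rw [h1, h6]
      norm_num
    · exfalso
      have hr' : r = 2 ^ m + 1 := by
        rw [pow_succ] at h1
        omega
      have hm0 : m ≠ 0 := by omega
      obtain ⟨k, hk⟩ := Nat.pow_of_pow_add_prime (by norm_num : 1 < 2) hm0 (hr' ▸ hr)
      obtain ⟨l, hl⟩ := Nat.pow_of_pow_add_prime (by norm_num : 1 < 2) (by omega : m + 1 ≠ 0) (h1 ▸ hp)
      have h4 : k ≠ 0 := by
        rintro rfl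
        simp at hk
        omega
      have h5 : l ≠ 0 := by
        rintro rfl
        simp at hl
        omega
      have h6 : (2 : ℕ) ∣ 2 ^ k := dvd_pow_self 2 h4
      have h7 : (2 : ℕ) ∣ 2 ^ l := dvd_pow_self 2 h5
      rw [← hk] at h6
      rw [← hl] at h7
      omega
  rcases Cfsg.Agent.Lib.BrauerP.Main.main' hperf z hz hC hn with ⟨F, i1, i2, hF, -, hφ⟩ | ⟨m, F, i1, i2, hF, h1, h2, hφ⟩
  · rcases hp57 with h | h
    · left
      exact ⟨F, i1, i2, by rw [hF, h], hφ⟩
    · right
      exact ⟨F, i1, i2, by rw [hF, h], hφ⟩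
  · exfalso
    rcases hp57 with h | h
    · omega
    · rw [h] at h1
      have h3 : m ≤ 2 ∨ 3 ≤ m := by omega
      rcases h3 with h3 | h3
      · have : 2 ^ m ≤ 2 ^ 2 := Nat.pow_le_pow_right (by norm_num) h3
        omega
      · have : 2 ^ 3 ≤ 2 ^ m := Nat.pow_le_pow_right (by norm_num) h3
        omega

/-- A non-cyclic finite simple group whose order has the form p * r * q^b for distinct primes p, q, r is isomorphic to the projective special linear group of dimension 2 over the field with 5 or with 7 elements. -/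
theorem result {G : Type*} [Group G] [Finite G] [IsSimpleGroup G] (hG : ¬ IsCyclic G) (p q r b : ℕ) (hp : p.Prime) (hq : q.Prime) (hr : r.Prime) (hpq : p ≠ q) (hpr : p ≠ r) (hqr : q ≠ r) (hG' : Nat.card G = p * r * q ^ b) : (∃ (F : Type) (_ : Field F) (_ : Fintype F), Fintype.card F = 5 ∧ Nonempty (G ≃* Matrix.ProjectiveSpecialLinearGroup (Fin 2) F)) ∨ (∃ (F : Type) (_ : Field F) (_ : Fintype F), Fintype.card F = 7 ∧ Nonempty (G ≃* Matrix.ProjectiveSpecialLinearGroup (Fin 2) F)) := by
  rcases Nat.lt_or_ge r p with h | h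
  · exact aux hG p q r b hp hq hr hpq hqr h hG'
  · have h2 : p < r := lt_of_le_of_ne h hpr
    exact aux hG r q p b hr hq hp hqr.symm hpq.symm h2 (by rw [hG']; ring)

end Cfsg.Agent.S0998
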