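import Cfsg.Statements.S1131
import Cfsg.Agent.Lib.RankOneOdd.Bridge

set_option autoImplicit false
open Cfsg

namespace Cfsg.Agent.S1131

open Cfsg.Agent.Lib.RankOne.Basic Cfsg.Agent.Lib.RankOne.Invol Cfsg.Agent.Lib.RankOne.Struct

/-- In the rank-one set-up (`G` finite and doubly transitive on `Ω`, `t` an involution moving `a`, `Q` normal in `G_a` with `G_a = Q D`, `Q ⊓ D = 1` for the two-point stabiliser `D = G_a ⊓ G_{t • a}`, `|Q|` even, `|D|` odd), with the action faithful and `G` containing two distinct commuting involutions: the set `K` of elements of `D` inverted by `t` is (the underlying set of) a cyclic subgroup normal in `D`. -/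
theorem result {G Ω : Type*} [Group G] [Finite G] [MulAction G Ω] [FaithfulSMul G Ω] {a : Ω} {t : G} {Q : Subgroup G}
    (hS : Cfsg.IsRankOneSetup G Ω a t Q)
    (h2 : ∃ x y : G, x ≠ 1 ∧ y ≠ 1 ∧ x ≠ y ∧ x * x = 1 ∧ y * y = 1 ∧ x * y = y * x) :
    ∃ C : Subgroup G, (C : Set G) = Cfsg.invertedBy (MulAction.stabilizer G a ⊓ MulAction.stabilizer G (t • a)) t ∧ IsCyclic C ∧
      ∀ d ∈ (MulAction.stabilizer G a ⊓ MulAction.stabilizer G (t • a)), ∀ c ∈ C, d * c * d⁻¹ ∈ C := by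
  obtain ⟨⟨k₀, hk₀, hall⟩, -⟩ := Cfsg.Agent.Lib.RankOneOdd.Bridge.bridge hS h2
  have hti : t⁻¹ = t := t_inv hS
  have hzp : ∀ m : ℤ, k₀ ^ m ∈ KK G a t := by
    intro m
    refine ⟨Subgroup.zpow_mem _ hk₀.1 m, ?_⟩
    have h1 := conj_zpow (a := t) (b := k₀) (i := m)
    rw [← h1, hk₀.2, inv_zpow]
  have hcoe : ((Subgroup.zpowers k₀ : Subgroup G) : Set G) = KK G a t := by
    ext x
    rw [SetLike.mem_coe, Subgroup.mem_zpowers_iff]
    constructor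
    · rintro ⟨m, rfl⟩
      exact hzp m
    · intro hx
      obtain ⟨m, hm⟩ := hall x hx
      exact ⟨m, hm.symm⟩
  refine ⟨Subgroup.zpowers k₀, hcoe, inferInstance, ?_⟩
  intro d hd c hc
  have hcK : c ∈ KK G a t := by
    rw [← hcoe]
    exact hc
  obtain ⟨y, k, hy, hyt, hk, rfl⟩ := D_factor hS (show d ∈ DD G a t from hd)
  obtain ⟨m, hm⟩ := hall k hk
  obtain ⟨l, rfl⟩ := Subgroup.mem_zpowers_iff.1 hc
  have hcomm : k * k₀ ^ l = k₀ ^ l * k := by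
    rw [hm]
    exact ((Commute.refl k₀).zpow_zpow m l).eq
  have h1 : y * k * k₀ ^ l * (y * k)⁻¹ = y * k₀ ^ l * y⁻¹ := by
    calc y * k * k₀ ^ l * (y * k)⁻¹ = y * (k * k₀ ^ l) * k⁻¹ * y⁻¹ := by group
      _ = y * (k₀ ^ l * k) * k⁻¹ * y⁻¹ := by rw [hcomm]
      _ = _ := by group
  rw [h1, ← SetLike.mem_coe, hcoe]
  have hyi : t * y⁻¹ = y⁻¹ * t := by
    have h2 : Commute t y := hyt
    exact h2.inv_right.eq
  refine ⟨mul_mem (mul_mem hy (Subgroup.zpow_mem _ hk₀.1 l)) (inv_mem hy), ?_⟩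
  have h3 : t * k₀ ^ l * t⁻¹ = (k₀ ^ l)⁻¹ := (hzp l).2
  have h4 : t * k₀ ^ l = (k₀ ^ l)⁻¹ * t := by
    rw [← h3, inv_mul_cancel_right]
  rw [hti] at h3 ⊢
  calc t * (y * k₀ ^ l * y⁻¹) * t = (t * y) * k₀ ^ l * y⁻¹ * t := by group
    _ = y * (t * k₀ ^ l) * y⁻¹ * t := by rw [hyt]; group
    _ = y * ((k₀ ^ l)⁻¹ * t) * y⁻¹ * t := by rw [h4]
    _ = y * (k₀ ^ l)⁻¹ * (t * y⁻¹) * t := by group
    _ = y * (k₀ ^ l)⁻¹ * (y⁻¹ * t) * t := by rw [hyi]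
    _ = y * (k₀ ^ l)⁻¹ * y⁻¹ * (t * t) := by group
    _ = (y * k₀ ^ l * y⁻¹)⁻¹ := by rw [hS.mul_self]; group

end Cfsg.Agent.S1131
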