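import Cfsg.Statements.S1132
import Cfsg.Agent.Lib.RankOneOdd.Bridge

set_option autoImplicit false
open Cfsg

namespace Cfsg.Agent.S1132

open Cfsg.Agent.Lib.RankOne.Basic Cfsg.Agent.Lib.RankOne.Invol Cfsg.Agent.Lib.RankOne.Struct Cfsg.Agent.Lib.RankOne.Elem

/-- In the rank-one set-up (`G` finite and doubly transitive on `Ω`, `t` an involution moving `a`, `Q` normal in `G_a` with `G_a = Q D`, `Q ⊓ D = 1` for the two-point stabiliser `D = G_a ⊓ G_{t • a}`, `|Q|` even, `|D|` odd), with the action faithful and `G` containing two distinct commuting involutions: a Sylow 2-subgroup of `Q` is abelian or a Suzuki 2-group. -/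
theorem result {G Ω : Type*} [Group G] [Finite G] [MulAction G Ω] [FaithfulSMul G Ω] {a : Ω} {t : G} {Q : Subgroup G}
    (hS : Cfsg.IsRankOneSetup G Ω a t Q)
    (h2 : ∃ x y : G, x ≠ 1 ∧ y ≠ 1 ∧ x ≠ y ∧ x * x = 1 ∧ y * y = 1 ∧ x * y = y * x)
    (S : Sylow 2 ↥Q) : IsMulCommutative (S : Subgroup ↥Q) ∨ Cfsg.IsSuzukiTwoGroup ↥(S : Subgroup ↥Q) := by
  classical
  by_cases hcomm : IsMulCommutative (S : Subgroup ↥Q)
  · exact Or.inl hcomm
  right
  obtain ⟨⟨k₀, hk₀, hall⟩, -⟩ := Cfsg.Agent.Lib.RankOneOdd.Bridge.bridge hS h2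
  have hnil : Group.IsNilpotent ↥Q := nilpotent hS h2
  have hSnorm : (S : Subgroup ↥Q).Normal := by
    have hT := (Group.isNilpotent_of_finite_tfae (G := ↥Q)).out 0 3 |>.1 hnil
    exact hT 2 ⟨Nat.prime_two⟩ S
  have hsmem : ∀ x : ↥Q, x ∈ (S : Subgroup ↥Q) ↔ ∃ j : ℕ, x ^ 2 ^ j = 1 := by
    intro x
    constructor
    · intro hx
      obtain ⟨j, hj⟩ := S.2 ⟨x, hx⟩
      exact ⟨j, congrArg Subtype.val hj⟩
    · rintro ⟨j, hj⟩
      have h1 : IsPGroup 2 (Subgroup.zpowers x) := by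
        rintro ⟨g, hg⟩
        obtain ⟨m, rfl⟩ := Subgroup.mem_zpowers_iff.1 hg
        refine ⟨j, Subtype.ext ?_⟩
        change (x ^ m) ^ 2 ^ j = 1
        rw [← zpow_natCast, ← zpow_mul, mul_comm, zpow_mul, zpow_natCast, hj, one_zpow]
      obtain ⟨P, hP⟩ := h1.exists_le_sylow
      letI := Sylow.unique_of_normal S hSnorm
      have h2' : P = S := Subsingleton.elim _ _
      rw [← h2']
      exact hP (Subgroup.mem_zpowers x)
  have hconjP : ∀ (c : G) (hc : c ∈ MulAction.stabilizer G a) (x : ↥Q), x ∈ (S : Subgroup ↥Q) →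
      (⟨c * (x : G) * c⁻¹, hS.conj_mem c hc x x.2⟩ : ↥Q) ∈ (S : Subgroup ↥Q) := by
    intro c hc x hx
    rw [hsmem] at hx ⊢
    obtain ⟨j, hj⟩ := hx
    refine ⟨j, Subtype.ext ?_⟩
    change (c * (x : G) * c⁻¹) ^ 2 ^ j = 1
    rw [conj_pow]
    have h3 : (x : G) ^ 2 ^ j = 1 := congrArg Subtype.val hj
    rw [h3]
    group
  have hzp : ∀ m : ℤ, k₀ ^ m ∈ KK G a t := by
    intro m
    refine ⟨Subgroup.zpow_mem _ hk₀.1 m, ?_⟩
    have h1 := conj_zpow (a := t) (b := k₀) (i := m)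
    rw [← h1, hk₀.2, inv_zpow]
  have hCK : ∀ c ∈ Subgroup.zpowers k₀, c ∈ KK G a t := by
    intro c hc
    obtain ⟨m, rfl⟩ := Subgroup.mem_zpowers_iff.1 hc
    exact hzp m
  have hKC : ∀ k ∈ KK G a t, k ∈ Subgroup.zpowers k₀ := by
    intro k hk
    obtain ⟨m, hm⟩ := hall k hk
    exact Subgroup.mem_zpowers_iff.2 ⟨m, hm.symm⟩
  have hCs : ∀ c : Subgroup.zpowers k₀, (c : G) ∈ MulAction.stabilizer G a := fun c => (hCK c c.2).1.1
  have hCs' : ∀ c : Subgroup.zpowers k₀, (c : G)⁻¹ ∈ MulAction.stabilizer G a := fun c => inv_mem (hCs c)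
  let α : Subgroup.zpowers k₀ →* MulAut ↥(S : Subgroup ↥Q) :=
    { toFun := fun c =>
        { toFun := fun x => ⟨⟨c * (x : G) * (c : G)⁻¹, _⟩, hconjP c (hCs c) x x.2⟩
          invFun := fun x => ⟨⟨(c : G)⁻¹ * (x : G) * c, by
            have h3 := hS.conj_mem (c : G)⁻¹ (hCs' c) (x : G) (x : ↥Q).2
            rwa [inv_inv] at h3⟩, by
            have h3 := hconjP (c : G)⁻¹ (hCs' c) x x.2
            simpa only [inv_inv] using h3⟩
          left_inv := fun x => by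
            apply Subtype.ext
            apply Subtype.ext
            change (c : G)⁻¹ * (c * (x : G) * (c : G)⁻¹) * c = x
            group
          right_inv := fun x => by
            apply Subtype.ext
            apply Subtype.ext
            change (c : G) * ((c : G)⁻¹ * (x : G) * c) * (c : G)⁻¹ = x
            group
          map_mul' := fun x y => by
            apply Subtype.ext
            apply Subtype.ext
            change (c : G) * ((x : G) * (y : G)) * (c : G)⁻¹ = (c * (x : G) * (c : G)⁻¹) * (c * (y : G) * (c : G)⁻¹)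
            group }
      map_one' := by
        ext x
        change (1 : G) * (x : G) * (1 : G)⁻¹ = x
        group
      map_mul' := fun b c => by
        ext x
        change ((b : G) * c) * (x : G) * ((b : G) * c)⁻¹ = b * (c * (x : G) * (c : G)⁻¹) * (b : G)⁻¹
        group }
  have hα : ∀ (c : Subgroup.zpowers k₀) (x : ↥(S : Subgroup ↥Q)),
      (((α c x : ↥(S : Subgroup ↥Q)) : ↥Q) : G) = c * (x : G) * (c : G)⁻¹ := fun _ _ => rfl
  have hI : ∀ x : ↥(S : Subgroup ↥Q), x ≠ 1 → x * x = 1 → ((x : ↥Q) : G) ∈ IA G a := by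
    intro x hx1 hx2
    refine ⟨hS.le (x : ↥Q).2, ?_, congrArg (fun y : ↥(S : Subgroup ↥Q) => ((y : ↥Q) : G)) hx2⟩
    intro h3
    exact hx1 (Subtype.ext (Subtype.ext h3))
  refine ⟨inferInstance, S.2, ?_, ?_, α.range, ?_, ?_⟩
  · by_contra hno
    push Not at hno
    exact hcomm ⟨⟨hno⟩⟩
  · obtain ⟨s, hs, s', hs', hne⟩ := exists_two_invol hS h2
    have hmem : ∀ u (hu : u ∈ IA G a), (⟨u, mem_Q_of_sq hS hu.1 hu.2.2⟩ : ↥Q) ∈ (S : Subgroup ↥Q) := by
      intro u hu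
      rw [hsmem]
      refine ⟨1, Subtype.ext ?_⟩
      change u ^ 2 ^ 1 = 1
      rw [pow_one, pow_two]
      exact hu.2.2
    refine ⟨⟨_, hmem s hs⟩, ⟨_, hmem s' hs'⟩, ?_, ?_, ?_, ?_, ?_⟩
    · intro h3
      exact hne (congrArg (fun y : ↥(S : Subgroup ↥Q) => ((y : ↥Q) : G)) h3)
    · intro h3
      exact hs.2.1 (congrArg (fun y : ↥(S : Subgroup ↥Q) => ((y : ↥Q) : G)) h3)
    · exact Subtype.ext (Subtype.ext hs.2.2)
    · intro h3
      exact hs'.2.1 (congrArg (fun y : ↥(S : Subgroup ↥Q) => ((y : ↥Q) : G)) h3)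
    · exact Subtype.ext (Subtype.ext hs'.2.2)
  · exact isCyclic_of_surjective α.rangeRestrict α.rangeRestrict_surjective
  · intro x y hx1 hx2 hy1 hy2
    have hxI := hI x hx1 hx2
    have hyI := hI y hy1 hy2
    obtain ⟨k, hk, ek⟩ := exists_K_conj hS hxI hyI
    have hkC : k⁻¹ ∈ Subgroup.zpowers k₀ := inv_mem (hKC k hk)
    refine ⟨⟨α ⟨k⁻¹, hkC⟩, ⟨_, rfl⟩⟩, ?_, ?_⟩
    · apply Subtype.ext
      apply Subtype.ext
      change k⁻¹ * ((x : ↥Q) : G) * (k⁻¹)⁻¹ = ((y : ↥Q) : G)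
      rw [inv_inv]
      exact ek
    · rintro ⟨_, ⟨⟨c, hc⟩, rfl⟩⟩ hcx
      have h3 : c * ((x : ↥Q) : G) * c⁻¹ = ((y : ↥Q) : G) :=
        congrArg (fun y : ↥(S : Subgroup ↥Q) => ((y : ↥Q) : G)) hcx
      have hcK : c⁻¹ ∈ KK G a t := hCK _ (inv_mem hc)
      have h4 : c⁻¹ = k := by
        apply K_conj_inj hS hxI hcK hk
        rw [ek, inv_inv]
        exact h3
      have h5 : c = k⁻¹ := by rw [← h4, inv_inv]
      subst h5
      rfl

end Cfsg.Agent.S1132
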