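import Cfsg.Statements.S1133
import Cfsg.Agent.Lib.RankOneOdd.Bridge
import Cfsg.Agent.S1127

set_option autoImplicit false
open Cfsg

namespace Cfsg.Agent.S1133

open Cfsg.Agent.Lib.RankOne.Basic Cfsg.Agent.Lib.RankOne.Invol Cfsg.Agent.Lib.RankOne.Struct

/-- In the rank-one set-up (`G` finite and doubly transitive on `Ω`, `t` an involution moving `a`, `Q` normal in `G_a` with `G_a = Q D`, `Q ⊓ D = 1` for the two-point stabiliser `D = G_a ⊓ G_{t • a}`, `|Q|` even, `|D|` odd), with the action faithful and `G` containing two distinct commuting involutions, with `V = C_D(t)`, `K` the elements of `D` inverted by `t` and `W = C_V(K)`: `V/W` is cyclic, i.e. `V = W ⟨v⟩` for some `v ∈ V`. -/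
theorem result {G Ω : Type*} [Group G] [Finite G] [MulAction G Ω] [FaithfulSMul G Ω] {a : Ω} {t : G} {Q : Subgroup G}
    (hS : Cfsg.IsRankOneSetup G Ω a t Q)
    (h2 : ∃ x y : G, x ≠ 1 ∧ y ≠ 1 ∧ x ≠ y ∧ x * x = 1 ∧ y * y = 1 ∧ x * y = y * x) :
    ∃ v ∈ (MulAction.stabilizer G a ⊓ MulAction.stabilizer G (t • a)) ⊓ Subgroup.centralizer {t},
      ((MulAction.stabilizer G a ⊓ MulAction.stabilizer G (t • a)) ⊓ Subgroup.centralizer {t} ⊓ Subgroup.centralizer (Cfsg.invertedBy (MulAction.stabilizer G a ⊓ MulAction.stabilizer G (t • a)) t)) ⊔ Subgroup.closure {v} =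
        (MulAction.stabilizer G a ⊓ MulAction.stabilizer G (t • a)) ⊓ Subgroup.centralizer {t} := by
  obtain ⟨-, ⟨v, hvD, hvt, hall⟩⟩ := Cfsg.Agent.Lib.RankOneOdd.Bridge.bridge hS h2
  have hC : ∀ x y : G, x ∈ Subgroup.centralizer ({y} : Set G) ↔ x * y = y * x := fun x y => by
    rw [Subgroup.mem_centralizer_singleton_iff]
  have hW := (Cfsg.Agent.S1127.result hS).2
  have hvV : v ∈ (MulAction.stabilizer G a ⊓ MulAction.stabilizer G (t • a)) ⊓ Subgroup.centralizer {t} :=
    ⟨hvD, (hC v t).2 hvt⟩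
  refine ⟨v, hvV, le_antisymm (sup_le inf_le_left ?_) ?_⟩
  · rw [Subgroup.closure_le]
    rintro x rfl
    exact hvV
  · rintro x ⟨hxD, hxt⟩
    obtain ⟨m, w, hwD, hw, rfl⟩ := hall x hxD ((hC x t).1 hxt)
    have h1 : v ∈ Subgroup.closure ({v} : Set G) := Subgroup.subset_closure (Set.mem_singleton v)
    have h2' : v ^ m ∈ Subgroup.closure ({v} : Set G) := Subgroup.zpow_mem _ h1 m
    refine mul_mem (Subgroup.mem_sup_right h2') (Subgroup.mem_sup_left ?_)
    rw [hW]
    refine ⟨hwD, ?_⟩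
    refine Subgroup.mem_centralizer_iff.2 ?_
    intro s hs
    exact (hw s hs).symm

end Cfsg.Agent.S1133
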