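import Cfsg.Statements.S1135
import Cfsg.Agent.Lib.RankOne.Elem

set_option autoImplicit false
open Cfsg

namespace Cfsg.Agent.S1135

open Cfsg.Agent.Lib.RankOne.Basic Cfsg.Agent.Lib.RankOne.Invol Cfsg.Agent.Lib.RankOne.Struct
open Cfsg.Agent.Lib.RankOne.Transfer Cfsg.Agent.Lib.RankOne.Elem

/-- In the rank-one set-up (`G` finite and doubly transitive on `Ω`, `t` an involution moving `a`, `Q` normal in `G_a` with `G_a = Q D`, `Q ⊓ D = 1` for the two-point stabiliser `D = G_a ⊓ G_{t • a}`, `|Q|` even, `|D|` odd), with the action faithful and `G` containing two distinct commuting involutions: if `x = u v` with `u, v` involutions and `x² ≠ 1`, then `x` is conjugate to `u' t` for some involution `u'` of `G_a`, and `|C_G(x)|` is odd. -/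
theorem result {G Ω : Type*} [Group G] [Finite G] [MulAction G Ω] [FaithfulSMul G Ω] {a : Ω} {t : G} {Q : Subgroup G}
    (hS : Cfsg.IsRankOneSetup G Ω a t Q)
    (h2 : ∃ x y : G, x ≠ 1 ∧ y ≠ 1 ∧ x ≠ y ∧ x * x = 1 ∧ y * y = 1 ∧ x * y = y * x)
    (u v : G) (hu1 : u ≠ 1) (hu2 : u * u = 1) (hv1 : v ≠ 1) (hv2 : v * v = 1) (hx : (u * v) * (u * v) ≠ 1) :
    (∃ g : G, ∃ u' ∈ Cfsg.involutionsIn (MulAction.stabilizer G a : Set G), g * (u * v) * g⁻¹ = u' * t) ∧
      Odd (Nat.card ↥(Subgroup.centralizer {u * v})) := by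
  have hnc : ¬ (u * v = v * u) := by
    intro e
    apply hx
    calc u * v * (u * v) = u * (v * u) * v := by group
      _ = u * (u * v) * v := by rw [e]
      _ = (u * u) * (v * v) := by group
      _ = 1 := by rw [hu2, hv2, one_mul]
  constructor
  · obtain ⟨c, hc, -⟩ := exists_unique_fix hS hu1 hu2
    obtain ⟨d, hd, -⟩ := exists_unique_fix hS hv1 hv2
    have hcd : c ≠ d := by
      rintro rfl
      exact hnc (commute_of_common_fix hS h2 hu1 hu2 hv1 hv2 hc hd)
    obtain ⟨e, he, -⟩ := exists_unique_fix hS hS.ne_one hS.mul_self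
    have hta := ta_ne hS
    have hea : e ≠ a := by
      rintro rfl
      exact hta he
    obtain ⟨g₁, hg₁c, hg₁d⟩ := two_trans hS (y₁ := a) (y₂ := e) hcd hea.symm
    set u₁ := g₁ * u * g₁⁻¹ with hu₁
    set v₁ := g₁ * v * g₁⁻¹ with hv₁
    have hu₁a : u₁ • a = a := by
      rw [← hg₁c, hu₁, smul_smul, mul_assoc, mul_assoc, inv_mul_cancel, mul_one, mul_smul, hc]
    have hv₁e : v₁ • e = e := by
      rw [← hg₁d, hv₁, smul_smul, mul_assoc, mul_assoc, inv_mul_cancel, mul_one, mul_smul, hd]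
    -- the set-up at `e`
    obtain ⟨g₂, hg₂a, hg₂b⟩ := two_trans hS (x₁ := a) (x₂ := t • a) (y₁ := e) (y₂ := a) hta.symm hea
    have hS₂ := setup_conj hS g₂
    rw [hg₂a] at hS₂
    set w := g₂ * t * g₂⁻¹ with hw
    have hwe : w • e = a := by
      rw [← hg₂a, hw, smul_smul, mul_assoc, mul_assoc, inv_mul_cancel, mul_one, mul_smul, hg₂b]
    obtain ⟨k, hk, hkc⟩ := exists_K_conj hS₂ (s := v₁) (s' := t) ⟨hv₁e, conj_ne_one hv1, conj_sq hv2⟩
      ⟨he, hS.ne_one, hS.mul_self⟩
    have hka : k • a = a := by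
      have h1 : k • w • e = w • e := hk.1.2
      rw [hwe] at h1
      exact h1
    have hka' : k⁻¹ • a = a := by
      rw [inv_smul_eq_iff]
      exact hka.symm
    refine ⟨k⁻¹ * g₁, k⁻¹ * u₁ * k, ⟨?_, ?_, ?_⟩, ?_⟩
    · show (k⁻¹ * u₁ * k) • a = a
      rw [mul_smul, mul_smul, hka, hu₁a, hka']
    · have := conj_ne_one (g := k⁻¹) (u := u₁) (conj_ne_one hu1)
      rwa [inv_inv] at this
    · have := conj_sq (g := k⁻¹) (u := u₁) (conj_sq hu2)
      rwa [inv_inv] at this
    · rw [← hkc, hu₁, hv₁]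
      group
  · by_contra hodd
    rw [Nat.not_odd_iff_even] at hodd
    have hdvd : 2 ∣ Nat.card ↥(Subgroup.centralizer {u * v}) := even_iff_two_dvd.mp hodd
    haveI : Fact (Nat.Prime 2) := ⟨Nat.prime_two⟩
    obtain ⟨y', hy'⟩ := exists_prime_orderOf_dvd_card' 2 hdvd
    obtain ⟨y, hyC⟩ := y'
    have hyo : orderOf y = 2 := by
      rw [← hy']
      exact (Subgroup.orderOf_mk y hyC).symm
    have hy1 : y ≠ 1 := by
      rintro rfl
      rw [orderOf_one] at hyo
      omega
    have hy2 : y * y = 1 := by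
      rw [← pow_two, ← hyo, pow_orderOf_eq_one]
    have hcomm : y * (u * v) = (u * v) * y := by
      have := (Subgroup.mem_centralizer_iff.mp hyC) (u * v) rfl
      exact this.symm
    obtain ⟨f, hf, -⟩ := exists_unique_fix hS hy1 hy2
    have hxf : (u * v) • f = f := fix_of_commute hS hy1 hy2 hcomm hf
    have hvf : v • f = u • f := by
      have h1 := hxf
      rw [mul_smul] at h1
      have h2' : u • (u • v • f) = u • f := by rw [h1]
      rwa [← mul_smul, hu2, one_smul] at h2'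
    have huf : u • f ≠ f := by
      intro e
      rw [e] at hvf
      exact hnc (commute_of_common_fix hS h2 hu1 hu2 hv1 hv2 e hvf)
    obtain ⟨g₀, hg₀⟩ : ∃ g : G, g • a = f := by
      by_cases hca : f = a
      · exact ⟨1, by rw [one_smul, hca]⟩
      obtain ⟨g, hg, -⟩ := two_trans hS (ta_ne hS).symm hca
      exact ⟨g, hg⟩
    have hS₀ := setup_conj hS g₀
    rw [hg₀] at hS₀
    have hS₁ := setup_of_invol hS₀ hu1 hu2 huf
    have hxD : u * v ∈ DD G f u := by
      refine (mem_DD).mpr ⟨hxf, ?_⟩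
      rw [mul_smul, ← hvf, ← mul_smul v v, hv2, one_smul]
      exact hvf.symm
    have hyQ := mem_Q_of_sq hS₁ hf hy2
    obtain ⟨h, hh, hhx⟩ := exists_h hS₁ hyQ hy1
    have e1 := hhx (u * v) hxD hcomm.symm
    have e2 : u * (u * v) * u = (u * v)⁻¹ := by
      rw [← mul_assoc, hu2, one_mul, mul_inv_rev, inv_eq_of_mul_eq_one_left hu2,
        inv_eq_of_mul_eq_one_left hv2]
    rw [e2] at e1
    have e3 := Cfsg.Agent.Lib.RankOne.OddInvert.commute_of_inverts hS₁.odd_card hh e1.symm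
    apply hx
    have e4 : h * (u * v) * h⁻¹ = u * v := by
      rw [e3, mul_inv_cancel_right]
    rw [e4] at e1
    calc (u * v) * (u * v) = (u * v)⁻¹ * (u * v) := by rw [e1]
      _ = 1 := inv_mul_cancel _

end Cfsg.Agent.S1135
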