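import Cfsg.Statements.S1249

set_option autoImplicit false
open Cfsg

namespace Cfsg.Agent.S1249

/-- Let P and Q be Sylow p-subgroups of the finite group G both containing the subgroup A. If A is strongly closed in P, then A is strongly closed in Q. -/
theorem result {G : Type*} [Group G] [Finite G] {p : ℕ} [Fact p.Prime] (P Q : Sylow p G) (A : Subgroup G) (hAQ : A ≤ Q) (hA : Cfsg.IsStronglyClosed A (P : Subgroup G)) : Cfsg.IsStronglyClosed A (Q : Subgroup G) := by
  obtain ⟨hAP, hcl⟩ := hA
  obtain ⟨c, hc⟩ := MulAction.exists_smul_eq G Q P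
  -- `c • Q = P`, so conjugation by `c` maps `Q` into `P`
  have hmem : ∀ x ∈ (Q : Subgroup G), c * x * c⁻¹ ∈ (P : Subgroup G) := by
    intro x hx
    have hP : ((c • Q : Sylow p G) : Subgroup G) = (Q : Subgroup G).map (MulAut.conj c).toMonoidHom := by
      rw [Sylow.coe_subgroup_smul]; rfl
    rw [← hc, hP]
    exact Subgroup.mem_map_of_mem (MulAut.conj c).toMonoidHom hx
  -- conjugation by `c` maps `A` into `A`
  have hconj : ∀ x ∈ A, c * x * c⁻¹ ∈ A := fun x hx => hcl x hx c (hmem x (hAQ hx))
  -- hence it is a bijection of `A`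
  have hconj' : ∀ x ∈ A, c⁻¹ * x * c ∈ A := by
    intro x hx
    have hfin : Finite A := inferInstance
    let f : A → A := fun a => ⟨c * a * c⁻¹, hconj a a.2⟩
    have hf : Function.Injective f := by
      intro a b hab
      have : c * (a : G) * c⁻¹ = c * (b : G) * c⁻¹ := congrArg Subtype.val hab
      exact Subtype.ext (by simpa using this)
    obtain ⟨a, ha⟩ := (Finite.injective_iff_surjective.mp hf) ⟨x, hx⟩
    have : c * (a : G) * c⁻¹ = x := congrArg Subtype.val ha
    have h2 : c⁻¹ * x * c = a := by rw [← this]; group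
    rw [h2]; exact a.2
  refine ⟨hAQ, ?_⟩
  intro x hx g hg
  have h1 : c * (g * x * g⁻¹) * c⁻¹ ∈ A := by
    have h2 := hcl x hx (c * g) (by
      have := hmem _ hg
      convert this using 1
      group)
    convert h2 using 1
    group
  have := hconj' _ h1
  convert this using 1
  group

end Cfsg.Agent.S1249
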