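import Cfsg.Statements.S1250

set_option autoImplicit false
open Cfsg

namespace Cfsg.Agent.S1250

open scoped Pointwise in
private lemma mem_sup_normal {G : Type*} [Group G] {S N : Subgroup G} [N.Normal] {c : G}
    (hc : c ∈ S ⊔ N) : ∃ s ∈ S, ∃ n ∈ N, c = s * n := by
  rw [← SetLike.mem_coe, Subgroup.mul_normal, Set.mem_mul] at hc
  obtain ⟨s, hs, n, hn, h⟩ := hc
  exact ⟨s, hs, n, hn, h.symm⟩

/-- Let S be a Sylow p-subgroup of the finite group G, A ≤ S strongly closed in S, and N a normal subgroup. Then the image of A in G ⧸ N is strongly closed in the image of S (which is a Sylow p-subgroup of G ⧸ N). -/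
theorem result {G : Type*} [Group G] [Finite G] {p : ℕ} [Fact p.Prime] (S : Sylow p G) (A : Subgroup G) (hA : Cfsg.IsStronglyClosed A (S : Subgroup G)) (N : Subgroup G) [N.Normal] : Cfsg.IsStronglyClosed (A.map (QuotientGroup.mk' N)) ((S : Subgroup G).map (QuotientGroup.mk' N)) := by
  obtain ⟨hAS, hcl⟩ := hA
  refine ⟨Subgroup.map_mono hAS, ?_⟩
  rintro _ ⟨x, hxA, rfl⟩ gb hgb
  obtain ⟨g, rfl⟩ := QuotientGroup.mk'_surjective N gb
  obtain ⟨s, hsS, hs⟩ := hgb
  set w : G := g * x * g⁻¹ with hw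
  have hmkw : QuotientGroup.mk' N g * QuotientGroup.mk' N x * (QuotientGroup.mk' N g)⁻¹ = QuotientGroup.mk' N w := by
    simp [hw]
  rw [hmkw] at hs ⊢
  -- `w` lies in `S ⊔ N`
  have hsn : s⁻¹ * w ∈ N := by
    have : (QuotientGroup.mk' N) (s⁻¹ * w) = 1 := by
      rw [map_mul, map_inv, ← hs]; simp
    exact (QuotientGroup.eq_one_iff (s⁻¹ * w)).mp this
  let K : Subgroup G := (S : Subgroup G) ⊔ N
  have hSK : (S : Subgroup G) ≤ K := le_sup_left
  have hNK : N ≤ K := le_sup_right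
  have hwK : w ∈ K := by
    have : w = s * (s⁻¹ * w) := by group
    rw [this]
    exact K.mul_mem (hSK hsS) (hNK hsn)
  -- `w` is a `p`-element
  obtain ⟨k, hk⟩ := (IsPGroup.iff_orderOf.mp S.2) ⟨x, hAS hxA⟩
  have hordx : orderOf x = p ^ k := by
    rw [← hk]; simp
  have hordw : orderOf w = p ^ k := by
    rw [hw, ← hordx]
    exact MulEquiv.orderOf_eq (MulAut.conj g) x
  let w' : K := ⟨w, hwK⟩
  have hw'p : IsPGroup p (Subgroup.zpowers w') := by
    refine IsPGroup.of_card (n := k) ?_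
    rw [Nat.card_zpowers]
    have : orderOf w' = orderOf w := by
      simp [w']
    rw [this, hordw]
  obtain ⟨Q, hQ⟩ := hw'p.exists_le_sylow
  let S' : Sylow p K := S.subtype hSK
  obtain ⟨c, hc⟩ := MulAction.exists_smul_eq K Q S'
  -- conjugate of `w` in `S`
  have hcw : (c : G) * w * (c : G)⁻¹ ∈ (S : Subgroup G) := by
    have h1 : w' ∈ (Q : Subgroup K) := hQ (Subgroup.mem_zpowers w')
    have h2 : c * w' * c⁻¹ ∈ ((c • Q : Sylow p K) : Subgroup K) := by
      rw [Sylow.coe_subgroup_smul]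
      exact ⟨w', h1, rfl⟩
    rw [hc] at h2
    have h3 : c * w' * c⁻¹ ∈ (S : Subgroup G).subgroupOf K := by
      simpa [S', Sylow.coe_subtype] using h2
    simpa [Subgroup.mem_subgroupOf, w'] using h3
  -- split `c = s₁ n₁`
  obtain ⟨s₁, hs₁, n₁, hn₁, hcs'⟩ := mem_sup_normal c.2
  have hnw : n₁ * w * n₁⁻¹ ∈ (S : Subgroup G) := by
    have : n₁ * w * n₁⁻¹ = s₁⁻¹ * ((c : G) * w * (c : G)⁻¹) * s₁ := by
      rw [hcs']; group
    rw [this]
    exact (S : Subgroup G).mul_mem ((S : Subgroup G).mul_mem ((S : Subgroup G).inv_mem hs₁) hcw) hs₁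
  have hnwA : n₁ * w * n₁⁻¹ ∈ A := by
    have h := hcl x hxA (n₁ * g) (by
      convert hnw using 1
      rw [hw]; group)
    convert h using 1
    rw [hw]; group
  refine ⟨_, hnwA, ?_⟩
  have : (QuotientGroup.mk' N) n₁ = 1 := (QuotientGroup.eq_one_iff n₁).mpr hn₁
  rw [map_mul, map_mul, map_inv, this]
  simp

end Cfsg.Agent.S1250
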