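import Cfsg.Statements.S1323
import Mathlib
import Cfsg.Agent.Lib.Components.Basic

set_option autoImplicit false
set_option linter.unusedSectionVars false
set_option linter.unusedVariables false
set_option linter.style.haveILetI false
open Cfsg

namespace Cfsg.Agent.S1323

open Subgroup Equiv Equiv.Perm Cfsg.Agent.Lib.Components.Basic
open scoped commutatorElement

/-- A simple nonabelian group is quasisimple. -/
theorem quasisimple_of_simple {Q : Type*} [Group Q] [hs : IsSimpleGroup Q]
    (hc : ∃ a b : Q, a * b ≠ b * a) : IsQuasisimple Q := by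
  obtain ⟨a, b, hab⟩ := hc
  have hcen : center Q ≠ ⊤ := by
    intro h
    apply hab
    exact (mem_center_iff.mp (h ▸ mem_top a) b).symm
  have hcom : commutator Q = ⊤ := by
    rcases (inferInstance : (commutator Q).Normal).eq_bot_or_eq_top with h | h
    · exfalso
      apply hab
      have h1 : ⁅a, b⁆ ∈ commutator Q := by
        rw [_root_.commutator_def]
        exact commutator_mem_commutator (mem_top a) (mem_top b)
      rw [h, mem_bot, commutatorElement_eq_one_iff_mul_comm] at h1
      exact h1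
    · exact h
  refine ⟨⟨hcom⟩, ?_⟩
  have : Nontrivial (Q ⧸ center Q) := by
    rw [QuotientGroup.nontrivial_iff]
    exact hcen
  exact IsSimpleGroup.isSimpleGroup_of_surjective (QuotientGroup.mk' (center Q))
    (QuotientGroup.mk'_surjective _)

variable {n : ℕ}

local notation "G'" => alternatingGroup (Fin n)
local notation "P'" => Equiv.Perm (Fin n)

/-- The pointwise stabilizer of `{0,1,2,3}`. -/
def LL (n : ℕ) : Subgroup (alternatingGroup (Fin n)) where
  carrier := {g | ∀ x : Fin n, (x : ℕ) < 4 → (g : Equiv.Perm (Fin n)) x = x}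
  one_mem' := fun x _ => rfl
  mul_mem' := by
    intro a b ha hb x hx
    show (a : Equiv.Perm (Fin n)) ((b : Equiv.Perm (Fin n)) x) = x
    rw [hb x hx, ha x hx]
  inv_mem' := by
    intro a ha x hx
    show (a : Equiv.Perm (Fin n))⁻¹ x = x
    rw [Equiv.Perm.inv_eq_iff_eq]
    exact (ha x hx).symm

theorem mem_LL {g : G'} : g ∈ LL n ↔ ∀ x : Fin n, (x : ℕ) < 4 → (g : P') x = x := Iff.rfl

theorem iInf_eq_LL (h4 : 4 ≤ n) :
    (⨅ i : Fin 4, MulAction.stabilizer ↥(alternatingGroup (Fin n)) (Fin.castLE h4 i : Fin n)) = LL n := by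
  ext g
  rw [mem_iInf, mem_LL]
  constructor
  · intro h x hx
    have := h ⟨x, hx⟩
    rw [MulAction.mem_stabilizer_iff] at this
    exact this
  · intro h i
    rw [MulAction.mem_stabilizer_iff]
    exact h _ (by simp)

/-- A three-cycle. -/
def c3 (x y w : Fin n) : P' := swap x y * swap y w

theorem c3_x {x y w : Fin n} (hxy : x ≠ y) (hxw : x ≠ w) : c3 x y w x = y := by
  simp [c3, swap_apply_of_ne_of_ne hxy hxw]

theorem c3_of_ne {x y w t : Fin n} (h1 : t ≠ x) (h2 : t ≠ y) (h3 : t ≠ w) : c3 x y w t = t := by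
  simp [c3, swap_apply_of_ne_of_ne h2 h3, swap_apply_of_ne_of_ne h1 h2]

theorem c3_mem {x y w : Fin n} (hxy : x ≠ y) (hyw : y ≠ w) : c3 x y w ∈ alternatingGroup (Fin n) := by
  rw [Equiv.Perm.mem_alternatingGroup, c3, map_mul, sign_swap hxy, sign_swap hyw]
  simp

/-- Choosing elements outside `{0,1,2,3}`. -/
theorem exists_gamma (hn : 9 ≤ n) (s : Finset (Fin n)) (hs : s.card ≤ 4) :
    ∃ y : Fin n, 4 ≤ (y : ℕ) ∧ y ∉ s := by
  let f : Fin 5 → Fin n := fun i => ⟨4 + i, by omega⟩
  have hf : Function.Injective f := by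
    intro a b h
    have := congrArg Fin.val h
    simp only [f] at this
    exact Fin.ext (by omega)
  have hc : s.card < (Finset.univ.image f).card := by
    rw [Finset.card_image_of_injective _ hf]
    simp
    omega
  obtain ⟨y, hy, hys⟩ := Finset.exists_mem_notMem_of_card_lt_card hc
  obtain ⟨i, -, rfl⟩ := Finset.mem_image.mp hy
  exact ⟨f i, by simp [f], hys⟩

/-- The centralizer of `L` fixes the complement of `{0,1,2,3}`. -/
theorem mem_Z_iff (hn : 9 ≤ n) {z : G'} :
    z ∈ centralizer (LL n : Set G') ↔ ∀ x : Fin n, 4 ≤ (x : ℕ) → (z : P') x = x := by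
  classical
  constructor
  · intro hz x hx
    by_contra hne
    set x' := (z : P') x with hx'
    obtain ⟨y, hy, hys⟩ := exists_gamma hn {x, x'} (Finset.card_le_two.trans (by norm_num))
    obtain ⟨w, hw, hws⟩ := exists_gamma hn {x, x', y} (Finset.card_le_three.trans (by norm_num))
    simp only [Finset.mem_insert, Finset.mem_singleton, not_or] at hys hws
    have hmem : (⟨c3 x y w, c3_mem (Ne.symm hys.1) (Ne.symm hws.2.2)⟩ : G') ∈ LL n := by
      intro t ht
      exact c3_of_ne (by intro h; rw [h] at ht; omega) (by intro h; rw [h] at ht; omega)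
        (by intro h; rw [h] at ht; omega)
    have hc := mem_centralizer_iff.mp hz _ hmem
    have h1 := congrArg (fun u : G' => (u : P') x) hc
    have h2 : ((⟨c3 x y w, c3_mem (Ne.symm hys.1) (Ne.symm hws.2.2)⟩ * z : G') : P') x = x' := by
      show c3 x y w ((z : P') x) = x'
      rw [← hx']
      exact c3_of_ne hne (Ne.symm hys.2) (Ne.symm hws.2.1)
    have h3 : ((z * ⟨c3 x y w, c3_mem (Ne.symm hys.1) (Ne.symm hws.2.2)⟩ : G') : P') x = (z : P') y := by
      show (z : P') (c3 x y w x) = (z : P') y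
      rw [c3_x (Ne.symm hys.1) (Ne.symm hws.1)]
    have h4 : (z : P') y = (z : P') x := by
      rw [← h3, ← hx'] at *
      exact h1.symm.trans h2
    exact hys.1 ((z : P').injective h4)
  · intro hz
    refine mem_centralizer_iff.mpr fun h hh => ?_
    apply Subtype.ext
    have hd : Equiv.Perm.Disjoint (h : P') (z : P') := by
      intro x
      by_cases hx : (x : ℕ) < 4
      · exact Or.inl (hh x hx)
      · exact Or.inr (hz x (by omega))
    exact hd.commute

/-- The embedding of the alternating group of the complement. -/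
noncomputable def phi (n : ℕ) : alternatingGroup {x : Fin n // 4 ≤ (x : ℕ)} →* alternatingGroup (Fin n) :=
  ((ofSubtype : Equiv.Perm {x : Fin n // 4 ≤ (x : ℕ)} →* Equiv.Perm (Fin n)).comp
    (alternatingGroup {x : Fin n // 4 ≤ (x : ℕ)}).subtype).codRestrict _ (fun a => by
      rw [Equiv.Perm.mem_alternatingGroup]
      show sign (ofSubtype (a : Equiv.Perm {x : Fin n // 4 ≤ (x : ℕ)})) = 1
      rw [sign_ofSubtype]
      exact a.2)

theorem phi_injective : Function.Injective (phi n) := by
  intro a b h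
  have h1 : ofSubtype (a : Equiv.Perm {x : Fin n // 4 ≤ (x : ℕ)}) = ofSubtype (b : Equiv.Perm {x : Fin n // 4 ≤ (x : ℕ)}) :=
    congrArg Subtype.val h
  exact Subtype.ext (ofSubtype_injective h1)

theorem phi_range : (phi n).range = LL n := by
  ext g
  constructor
  · rintro ⟨a, rfl⟩ x hx
    show ofSubtype (a : Equiv.Perm {x : Fin n // 4 ≤ (x : ℕ)}) x = x
    exact ofSubtype_apply_of_not_mem _ (by omega)
  · intro hg
    have h1 : (g : P') ∈ (ofSubtype : Equiv.Perm {x : Fin n // 4 ≤ (x : ℕ)} →* Equiv.Perm (Fin n)).range := by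
      rw [mem_range_ofSubtype_iff]
      intro x hx
      have h2 : (g : P') x ≠ x := Equiv.Perm.mem_support.mp hx
      show 4 ≤ (x : ℕ)
      by_contra h3
      exact h2 (hg x (by omega))
    obtain ⟨k, hk⟩ := h1
    have h2 : k ∈ alternatingGroup {x : Fin n // 4 ≤ (x : ℕ)} := by
      rw [Equiv.Perm.mem_alternatingGroup, ← sign_ofSubtype]
      have : ofSubtype k = (g : P') := hk
      rw [this]
      exact g.2
    exact ⟨⟨k, h2⟩, Subtype.ext hk⟩

theorem LL_quasisimple (hn : 9 ≤ n) : IsQuasisimple ↥(LL n) := by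
  have hcard : 5 ≤ Nat.card {x : Fin n // 4 ≤ (x : ℕ)} := by
    let f : Fin 5 → {x : Fin n // 4 ≤ (x : ℕ)} := fun i => ⟨⟨4 + i, by omega⟩, by simp⟩
    have hf : Function.Injective f := by
      intro a b h
      have := congrArg (fun t : {x : Fin n // 4 ≤ (x : ℕ)} => ((t : Fin n) : ℕ)) h
      simp only [f] at this
      exact Fin.ext (by omega)
    have := Nat.card_le_card_of_injective f hf
    simpa using this
  have hs := alternatingGroup.isSimpleGroup hcard
  let e : alternatingGroup {x : Fin n // 4 ≤ (x : ℕ)} ≃* ↥(LL n) :=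
    (MonoidHom.ofInjective phi_injective).trans (MulEquiv.subgroupCongr phi_range)
  -- two non-commuting elements of `L`
  let x₁ : Fin n := ⟨4, by omega⟩
  let x₂ : Fin n := ⟨5, by omega⟩
  let x₃ : Fin n := ⟨6, by omega⟩
  let x₄ : Fin n := ⟨7, by omega⟩
  let x₅ : Fin n := ⟨8, by omega⟩
  have hne : ∀ {a b : Fin n}, (a : ℕ) ≠ (b : ℕ) → a ≠ b := fun h e => h (congrArg Fin.val e)
  have h12 : x₁ ≠ x₂ := hne (by simp [x₁, x₂])
  have h23 : x₂ ≠ x₃ := hne (by simp [x₂, x₃])
  have h13 : x₁ ≠ x₃ := hne (by simp [x₁, x₃])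
  have h14 : x₁ ≠ x₄ := hne (by simp [x₁, x₄])
  have h45 : x₄ ≠ x₅ := hne (by simp [x₄, x₅])
  have h15 : x₁ ≠ x₅ := hne (by simp [x₁, x₅])
  have h42 : x₄ ≠ x₂ := hne (by simp [x₄, x₂])
  have h43 : x₄ ≠ x₃ := hne (by simp [x₄, x₃])
  have h25 : x₂ ≠ x₅ := hne (by simp [x₂, x₅])
  have hmem : ∀ a b c : Fin n, 4 ≤ (a : ℕ) → 4 ≤ (b : ℕ) → 4 ≤ (c : ℕ) → ∀ (h : c3 a b c ∈ alternatingGroup (Fin n)),
      (⟨c3 a b c, h⟩ : G') ∈ LL n := by
    intro a b c ha hb hc h t ht
    exact c3_of_ne (by intro h; rw [h] at ht; omega) (by intro h; rw [h] at ht; omega)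
      (by intro h; rw [h] at ht; omega)
  have : IsSimpleGroup ↥(LL n) := by
    have : Nontrivial ↥(LL n) := e.symm.toEquiv.nontrivial
    exact IsSimpleGroup.isSimpleGroup_of_surjective e.toMonoidHom e.surjective
  refine quasisimple_of_simple ⟨⟨⟨c3 x₁ x₂ x₃, c3_mem h12 h23⟩, hmem _ _ _ (by simp [x₁]) (by simp [x₂]) (by simp [x₃]) _⟩,
    ⟨⟨c3 x₁ x₄ x₅, c3_mem h14 h45⟩, hmem _ _ _ (by simp [x₁]) (by simp [x₄]) (by simp [x₅]) _⟩, ?_⟩
  intro h
  have h1 := congrArg (fun u : ↥(LL n) => ((u : G') : P') x₁) h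
  have h2 : c3 x₁ x₂ x₃ (c3 x₁ x₄ x₅ x₁) = c3 x₁ x₄ x₅ (c3 x₁ x₂ x₃ x₁) := h1
  rw [c3_x h14 h15, c3_x h12 h13, c3_of_ne h14.symm h42 h43, c3_of_ne h12.symm h42.symm h25] at h2
  exact h42 h2

/-- Involutions of the alternating group move at least four points. -/
theorem four_le_card_support {w : P'} (hw : w ∈ alternatingGroup (Fin n)) (h2 : w * w = 1)
    (h1 : w ≠ 1) : 4 ≤ w.support.card := by
  have hord : orderOf w = 2 := orderOf_eq_prime (by rw [sq]; exact h2) h1
  have hall : ∀ m ∈ w.cycleType, m = 2 := by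
    intro m hm
    have h3 : m ∣ w.cycleType.lcm := Multiset.dvd_lcm hm
    rw [lcm_cycleType, hord] at h3
    have h4 := two_le_of_mem_cycleType hm
    have := Nat.le_of_dvd (by norm_num) h3
    omega
  have hrep : w.cycleType = Multiset.replicate (Multiset.card w.cycleType) 2 :=
    Multiset.eq_replicate.mpr ⟨rfl, hall⟩
  set k := Multiset.card w.cycleType with hk
  have hsum : w.cycleType.sum = k * 2 := by
    rw [hrep, Multiset.sum_replicate]
    simp
  have hk0 : k ≠ 0 := by
    intro h0
    rw [h0] at hrep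
    simp only [Multiset.replicate_zero] at hrep
    exact h1 (cycleType_eq_zero.mp hrep)
  have hsign := (Equiv.Perm.mem_alternatingGroup.mp hw)
  rw [sign_of_cycleType, hsum, ← hk] at hsign
  have heven : Even (k * 2 + k) := by
    by_contra hodd
    rw [Nat.not_even_iff_odd] at hodd
    rw [hodd.neg_one_pow] at hsign
    exact absurd hsign (by decide)
  have hk2 : 2 ≤ k := by
    by_contra hlt
    have : k = 1 := by omega
    rw [this] at heven
    exact absurd heven (by decide)
  rw [← sum_cycleType, hsum]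
  omega

/-- `g` preserves `{0,1,2,3}`. -/
def Stab (g : G') : Prop := ∀ x : Fin n, (x : ℕ) < 4 → (((g : P') x : Fin n) : ℕ) < 4

theorem Stab.inv {g : G'} (h : Stab g) : Stab g⁻¹ := by
  intro x hx
  let f : {x : Fin n // (x : ℕ) < 4} → {x : Fin n // (x : ℕ) < 4} := fun y => ⟨(g : P') y, h y y.2⟩
  have hf : Function.Injective f := by
    intro a b hab
    exact Subtype.ext ((g : P').injective (congrArg Subtype.val hab))
  obtain ⟨y, hy⟩ := Finite.surjective_of_injective hf ⟨x, hx⟩
  have h1 : (g : P') y = x := congrArg Subtype.val hy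
  have h2 : ((g⁻¹ : G') : P') x = y := by
    show (g : P')⁻¹ x = y
    rw [← h1]
    simp
  rw [h2]
  exact y.2

theorem inv_coe_apply (g : G') (x : Fin n) : ((g⁻¹ : G') : P') ((g : P') x) = x := by
  show (g : P')⁻¹ ((g : P') x) = x
  simp

theorem coe_inv_apply (g : G') (x : Fin n) : (g : P') (((g⁻¹ : G') : P') x) = x := by
  show (g : P') ((g : P')⁻¹ x) = x
  simp

theorem Stab.gamma {g : G'} (h : Stab g) {t : Fin n} (ht : 4 ≤ (t : ℕ)) : 4 ≤ (((g : P') t : Fin n) : ℕ) := by
  by_contra hlt
  have h1 := h.inv ((g : P') t) (by omega)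
  rw [inv_coe_apply] at h1
  omega

theorem conj_coe (g h : G') (x : Fin n) : ((g * h * g⁻¹ : G') : P') x = (g : P') ((h : P') (((g⁻¹ : G') : P') x)) := rfl

theorem mem_normalizer_of_conj {A : Subgroup G'} {g : G'} (h1 : ∀ a ∈ A, g * a * g⁻¹ ∈ A)
    (h2 : ∀ a ∈ A, g⁻¹ * a * g ∈ A) : g ∈ normalizer (A : Set G') := by
  rw [mem_normalizer_iff]
  intro a
  refine ⟨h1 a, fun ha => ?_⟩
  have := h2 _ ha
  simpa [mul_assoc] using this

theorem normalizer_LL_of_stab {g : G'} (h : Stab g) : g ∈ normalizer (LL n : Set G') := by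
  have key : ∀ g : G', Stab g → ∀ a ∈ LL n, g * a * g⁻¹ ∈ LL n := by
    intro g h a ha t ht
    rw [conj_coe, ha _ (h.inv t ht), coe_inv_apply]
  refine mem_normalizer_of_conj (key g h) fun a ha => ?_
  have := key g⁻¹ h.inv a ha
  simpa using this

theorem normalizer_Z_of_stab (hn : 9 ≤ n) {g : G'} (h : Stab g) :
    g ∈ normalizer (centralizer (LL n : Set G') : Set G') := by
  have key : ∀ g : G', Stab g → ∀ a ∈ centralizer (LL n : Set G'),
      g * a * g⁻¹ ∈ centralizer (LL n : Set G') := by
    intro g h a ha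
    rw [mem_Z_iff hn] at ha ⊢
    intro t ht
    rw [conj_coe, ha _ (h.inv.gamma ht), coe_inv_apply]
  refine mem_normalizer_of_conj (key g h) fun a ha => ?_
  have := key g⁻¹ h.inv a ha
  simpa using this

theorem stab_of_normalizer_Z (hn : 9 ≤ n) {g : G'}
    (h : g ∈ normalizer (centralizer (LL n : Set G') : Set G')) : Stab g := by
  intro x hx
  by_contra hge
  have hge' : 4 ≤ (((g : P') x : Fin n) : ℕ) := by omega
  let y : Fin n := ⟨((x : ℕ) + 1) % 4, by omega⟩
  let w : Fin n := ⟨((x : ℕ) + 2) % 4, by omega⟩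
  have hne : ∀ {a b : Fin n}, (a : ℕ) ≠ (b : ℕ) → a ≠ b := fun h e => h (congrArg Fin.val e)
  have hxy : x ≠ y := hne (by simp only [y]; omega)
  have hxw : x ≠ w := hne (by simp only [w]; omega)
  have hyw : y ≠ w := hne (by simp only [y, w]; omega)
  have hz : (⟨c3 x y w, c3_mem hxy hyw⟩ : G') ∈ centralizer (LL n : Set G') := by
    rw [mem_Z_iff hn]
    intro t ht
    exact c3_of_ne (by intro e; rw [e] at ht; omega)
      (by intro e; rw [e] at ht; simp only [y] at ht; omega)
      (by intro e; rw [e] at ht; simp only [w] at ht; omega)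
  have h1 := (mem_normalizer_iff.mp h _).mp hz
  rw [mem_Z_iff hn] at h1
  have h2 := h1 _ hge'
  rw [conj_coe, inv_coe_apply] at h2
  have h3 : (g : P') y = (g : P') x := by
    have : c3 x y w x = y := c3_x hxy hxw
    have h4 : (g : P') (c3 x y w x) = (g : P') x := h2
    rwa [this] at h4
  exact hxy ((g : P').injective h3).symm

/-- For n ≥ 9, the subgroup of the alternating group on Fin n fixing each of the points 0, 1, 2, 3 is a standard subgroup. -/
theorem result (n : ℕ) (h4 : 4 ≤ n) (hn : 9 ≤ n) : Cfsg.IsStandardSubgroup (⨅ i : Fin 4, MulAction.stabilizer ↥(alternatingGroup (Fin n)) (Fin.castLE h4 i : Fin n)) := by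
  classical
  rw [iInf_eq_LL h4]
  have hne : ∀ {a b : Fin n}, (a : ℕ) ≠ (b : ℕ) → a ≠ b := fun h e => h (congrArg Fin.val e)
  let Δ : Finset (Fin n) := (Finset.univ : Finset (Fin 4)).image (Fin.castLE h4)
  have hΔc : Δ.card ≤ 4 := by
    have := Finset.card_image_le (s := (Finset.univ : Finset (Fin 4))) (f := Fin.castLE h4)
    simpa using this
  have hΔ : ∀ x : Fin n, x ∈ Δ ↔ (x : ℕ) < 4 := by
    intro x
    constructor
    · intro hx
      obtain ⟨i, -, rfl⟩ := Finset.mem_image.mp hx
      simp
    · intro hx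
      exact Finset.mem_image.mpr ⟨⟨x, hx⟩, Finset.mem_univ _, Fin.ext rfl⟩
  refine ⟨LL_quasisimple hn, ⟨?_, ?_⟩, ?_, ?_⟩
  · -- an involution in the centralizer
    let a : Fin n := ⟨0, by omega⟩
    let b : Fin n := ⟨1, by omega⟩
    let c : Fin n := ⟨2, by omega⟩
    let d : Fin n := ⟨3, by omega⟩
    have hab : a ≠ b := hne (by simp [a, b])
    have hcd : c ≠ d := hne (by simp [c, d])
    have hac : a ≠ c := hne (by simp [a, c])
    have had : a ≠ d := hne (by simp [a, d])
    have hbc : b ≠ c := hne (by simp [b, c])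
    have hbd : b ≠ d := hne (by simp [b, d])
    let v : Equiv.Perm (Fin n) := swap a b * swap c d
    have hv : v ∈ alternatingGroup (Fin n) := by
      rw [Equiv.Perm.mem_alternatingGroup, map_mul, sign_swap hab, sign_swap hcd]
      simp
    have hdisj : Equiv.Perm.Disjoint (swap a b) (swap c d) := by
      intro x
      by_cases h1 : x = a
      · right
        rw [h1]
        exact swap_apply_of_ne_of_ne hac had
      · by_cases h2 : x = b
        · right
          rw [h2]
          exact swap_apply_of_ne_of_ne hbc hbd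
        · left
          exact swap_apply_of_ne_of_ne h1 h2
    have hv2 : v * v = 1 := by
      show swap a b * swap c d * (swap a b * swap c d) = 1
      have h1 : swap c d * swap a b = swap a b * swap c d := hdisj.commute.symm.eq
      calc swap a b * swap c d * (swap a b * swap c d) = swap a b * (swap c d * swap a b) * swap c d := by group
        _ = swap a b * (swap a b * swap c d) * swap c d := by rw [h1]
        _ = 1 := by
          rw [← mul_assoc, swap_mul_self, one_mul, swap_mul_self]
    have hv1 : v ≠ 1 := by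
      intro h
      have h1 : v a = a := by rw [h]; rfl
      have h2 : v a = b := by
        show swap a b (swap c d a) = b
        rw [swap_apply_of_ne_of_ne hac had, swap_apply_left]
      exact hab (h1.symm.trans h2)
    have hvZ : (⟨v, hv⟩ : alternatingGroup (Fin n)) ∈ centralizer (LL n : Set (alternatingGroup (Fin n))) := by
      rw [mem_Z_iff hn]
      intro x hx
      show swap a b (swap c d x) = x
      have h1 : swap c d x = x := swap_apply_of_ne_of_ne (by intro e; rw [e] at hx; simp [c] at hx)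
        (by intro e; rw [e] at hx; simp [d] at hx)
      rw [h1]
      exact swap_apply_of_ne_of_ne (by intro e; rw [e] at hx; simp [a] at hx)
        (by intro e; rw [e] at hx; simp [b] at hx)
    have hord : orderOf (⟨v, hv⟩ : alternatingGroup (Fin n)) = 2 := by
      refine orderOf_eq_prime ?_ ?_
      · apply Subtype.ext
        show v ^ 2 = 1
        rw [sq]; exact hv2
      · intro h
        exact hv1 (congrArg Subtype.val h)
    have := Subgroup.orderOf_dvd_natCard _ hvZ
    rw [hord] at this
    exact even_iff_two_dvd.mpr this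
  · -- tight embedding
    intro g hg
    by_contra hcon
    rw [Nat.not_odd_iff_even] at hcon
    obtain ⟨w, hw⟩ := exists_prime_orderOf_dvd_card' 2 (even_iff_two_dvd.mp hcon)
    have hw0 : (((w : alternatingGroup (Fin n)) : Equiv.Perm (Fin n))) * ((w : alternatingGroup (Fin n)) : Equiv.Perm (Fin n)) = 1 := by
      have h1 := pow_orderOf_eq_one w
      rw [hw, sq] at h1
      exact congrArg (fun u : ↥(centralizer (LL n : Set (alternatingGroup (Fin n))) ⊓ (centralizer (LL n : Set (alternatingGroup (Fin n)))).map (MulAut.conj g).toMonoidHom) => ((u : alternatingGroup (Fin n)) : Equiv.Perm (Fin n))) h1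
    have hw1 : ((w : alternatingGroup (Fin n)) : Equiv.Perm (Fin n)) ≠ 1 := by
      intro h
      have : w = 1 := Subtype.ext (Subtype.ext h)
      rw [this, orderOf_one] at hw
      omega
    have hsup := four_le_card_support (w : alternatingGroup (Fin n)).2 hw0 hw1
    have hwZ := (mem_Z_iff hn).mp w.2.1
    obtain ⟨z, hz, e⟩ := w.2.2
    have hzZ := (mem_Z_iff hn).mp hz
    have e' : g * z * g⁻¹ = (w : alternatingGroup (Fin n)) := e
    have hsub : ((w : alternatingGroup (Fin n)) : Equiv.Perm (Fin n)).support ⊆ Δ := by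
      intro x hx
      rw [hΔ]
      by_contra hge
      exact (Equiv.Perm.mem_support.mp hx) (hwZ x (by omega))
    have heq := Finset.eq_of_subset_of_card_le hsub (by omega)
    have hS : Stab g⁻¹ := by
      intro x hx
      by_contra hge
      have hx' : x ∈ ((w : alternatingGroup (Fin n)) : Equiv.Perm (Fin n)).support := by
        rw [heq, hΔ]; exact hx
      apply Equiv.Perm.mem_support.mp hx'
      rw [← e', conj_coe, hzZ _ (by omega), coe_inv_apply]
    apply hg
    apply normalizer_Z_of_stab hn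
    simpa using hS.inv
  · -- conjugates do not commute
    intro g hne' hb
    have hS : ¬ Stab g := by
      intro h
      apply hne'
      have hN := normalizer_LL_of_stab h
      apply le_antisymm
      · rintro _ ⟨a, ha, rfl⟩
        exact (mem_normalizer_iff.mp hN a).mp ha
      · intro a ha
        refine ⟨g⁻¹ * a * g, ?_, ?_⟩
        · rw [SetLike.mem_coe, mem_normalizer_iff.mp hN]
          have : g * (g⁻¹ * a * g) * g⁻¹ = a := by group
          rw [this]
          exact ha
        · show g * (g⁻¹ * a * g) * g⁻¹ = a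
          group
    have hS' : ¬ Stab g⁻¹ := fun h => hS (by simpa using h.inv)
    unfold Stab at hS hS'
    push Not at hS hS'
    obtain ⟨u, hu, hgu⟩ := hS
    obtain ⟨z, hz, hgz⟩ := hS'
    set y := (g : Equiv.Perm (Fin n)) u with hy
    -- a point of `Γ ∩ gΓ`
    have hcard : (Δ ∪ Δ.image (g : Equiv.Perm (Fin n))).card < (Finset.univ : Finset (Fin n)).card := by
      have h1 := Finset.card_union_le Δ (Δ.image (g : Equiv.Perm (Fin n)))
      have h2 : (Δ.image (g : Equiv.Perm (Fin n))).card ≤ Δ.card := Finset.card_image_le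
      rw [Finset.card_univ, Fintype.card_fin]
      omega
    obtain ⟨x₀, -, hx₀⟩ := Finset.exists_mem_notMem_of_card_lt_card hcard
    simp only [Finset.mem_union, not_or] at hx₀
    have hx₀1 : 4 ≤ (x₀ : ℕ) := by
      by_contra h
      exact hx₀.1 ((hΔ x₀).mpr (by omega))
    have hx₀2 : 4 ≤ (((g⁻¹ : alternatingGroup (Fin n)) : Equiv.Perm (Fin n)) x₀ : ℕ) := by
      by_contra h
      apply hx₀.2
      refine Finset.mem_image.mpr ⟨_, (hΔ _).mpr (by omega), coe_inv_apply g x₀⟩
    have hx₀y : x₀ ≠ y := by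
      intro h
      apply hx₀.2
      exact Finset.mem_image.mpr ⟨u, (hΔ u).mpr hu, h.symm⟩
    obtain ⟨y', hy', hy's⟩ := exists_gamma hn {x₀, y} (Finset.card_le_two.trans (by norm_num))
    simp only [Finset.mem_insert, Finset.mem_singleton, not_or] at hy's
    set p := ((g⁻¹ : alternatingGroup (Fin n)) : Equiv.Perm (Fin n)) x₀ with hp
    set q := ((g⁻¹ : alternatingGroup (Fin n)) : Equiv.Perm (Fin n)) z with hq
    have hpq : p ≠ q := by
      intro h
      have h1 : x₀ = z := ((g⁻¹ : alternatingGroup (Fin n)) : Equiv.Perm (Fin n)).injective h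
      rw [h1] at hx₀1
      omega
    obtain ⟨t', ht', ht's⟩ := exists_gamma hn {p, q} (Finset.card_le_two.trans (by norm_num))
    simp only [Finset.mem_insert, Finset.mem_singleton, not_or] at ht's
    have ha : c3 x₀ y y' ∈ alternatingGroup (Fin n) := c3_mem hx₀y (Ne.symm hy's.2)
    have hb' : c3 p q t' ∈ alternatingGroup (Fin n) := c3_mem hpq (Ne.symm ht's.2)
    have haL : (⟨c3 x₀ y y', ha⟩ : alternatingGroup (Fin n)) ∈ LL n := by
      intro t ht
      exact c3_of_ne (by intro h; rw [h] at ht; omega) (by intro h; rw [h] at ht; omega)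
        (by intro h; rw [h] at ht; omega)
    have hbL : (⟨c3 p q t', hb'⟩ : alternatingGroup (Fin n)) ∈ LL n := by
      intro t ht
      exact c3_of_ne (by intro h; rw [h] at ht; omega) (by intro h; rw [h] at ht; omega)
        (by intro h; rw [h] at ht; omega)
    have hmem : g * ⟨c3 p q t', hb'⟩ * g⁻¹ ∈ (LL n).map (MulAut.conj g).toMonoidHom := ⟨_, hbL, rfl⟩
    have hcomm := Subgroup.commutator_mem_commutator haL hmem
    rw [hb, mem_bot, commutatorElement_eq_one_iff_mul_comm] at hcomm
    have hev := congrArg (fun s : alternatingGroup (Fin n) => (s : Equiv.Perm (Fin n)) x₀) hcomm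
    have h1 : ((⟨c3 x₀ y y', ha⟩ * (g * ⟨c3 p q t', hb'⟩ * g⁻¹) : alternatingGroup (Fin n)) : Equiv.Perm (Fin n)) x₀ = z := by
      show c3 x₀ y y' (((g * ⟨c3 p q t', hb'⟩ * g⁻¹ : alternatingGroup (Fin n)) : Equiv.Perm (Fin n)) x₀) = z
      rw [conj_coe]
      show c3 x₀ y y' ((g : Equiv.Perm (Fin n)) (c3 p q t' p)) = z
      rw [c3_x hpq (Ne.symm ht's.1), hq, coe_inv_apply]
      exact c3_of_ne (by intro h; rw [← h] at hx₀1; omega) (by intro h; rw [← h] at hgu; omega)
        (by intro h; rw [← h] at hy'; omega)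
    have h2 : (((g * ⟨c3 p q t', hb'⟩ * g⁻¹) * ⟨c3 x₀ y y', ha⟩ : alternatingGroup (Fin n)) : Equiv.Perm (Fin n)) x₀ = y := by
      show ((g * ⟨c3 p q t', hb'⟩ * g⁻¹ : alternatingGroup (Fin n)) : Equiv.Perm (Fin n)) (c3 x₀ y y' x₀) = y
      rw [c3_x hx₀y (Ne.symm hy's.1), conj_coe]
      have h3 : ((g⁻¹ : alternatingGroup (Fin n)) : Equiv.Perm (Fin n)) y = u := by
        rw [hy, inv_coe_apply]
      rw [h3]
      show (g : Equiv.Perm (Fin n)) (c3 p q t' u) = y
      rw [c3_of_ne (by intro h; rw [← h] at hx₀2; omega) (by intro h; rw [← h] at hgz; omega)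
        (by intro h; rw [← h] at ht'; omega)]
    have h3 : z = y := h1.symm.trans (hev.trans h2)
    rw [← h3] at hgu
    omega
  · -- normalizers
    apply le_antisymm
    · intro x hx
      rw [mem_normalizer_iff] at hx ⊢
      intro h
      constructor
      · intro hh
        refine mem_centralizer_iff.mpr fun u hu => ?_
        have hu' : x⁻¹ * u * x ∈ LL n := by
          rw [hx]
          have : x * (x⁻¹ * u * x) * x⁻¹ = u := by group
          rw [this]
          exact hu
        have h3 := mem_centralizer_iff.mp hh _ hu'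
        calc u * (x * h * x⁻¹) = x * ((x⁻¹ * u * x) * h) * x⁻¹ := by group
          _ = x * (h * (x⁻¹ * u * x)) * x⁻¹ := by rw [h3]
          _ = x * h * x⁻¹ * u := by group
      · intro hh
        refine mem_centralizer_iff.mpr fun u hu => ?_
        have h3 := mem_centralizer_iff.mp hh _ ((hx u).mp hu)
        have h4 : x * (u * h) * x⁻¹ = x * (h * u) * x⁻¹ := by
          calc x * (u * h) * x⁻¹ = x * u * x⁻¹ * (x * h * x⁻¹) := by group
            _ = x * h * x⁻¹ * (x * u * x⁻¹) := h3
            _ = x * (h * u) * x⁻¹ := by group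
        simpa using h4
    · intro x hx
      exact normalizer_LL_of_stab (stab_of_normalizer_Z hn hx)

end Cfsg.Agent.S1323
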