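import Cfsg.Statements.S1339
import Mathlib.Tactic.Group
import Mathlib.FieldTheory.Finite.Basic
import Cfsg.Agent.Lib.Components.Basic
import Cfsg.Agent.Lib.Core.Basic

set_option autoImplicit false
set_option linter.unusedSectionVars false
open Cfsg

namespace Cfsg.Agent.S1339

open Subgroup Matrix Cfsg.Agent.Lib.Components.Basic Cfsg.Agent.Lib.Core.Basic

section Mat

variable {F : Type*} [Field F] {n : ℕ}

/-- Commutation with a transvection, in entries. -/
theorem comm_entries (p q : Fin n) (_hpq : p ≠ q) (g : Matrix (Fin n) (Fin n) F)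
    (h : transvection p q (1 : F) * g = g * transvection p q (1 : F)) :
    (∀ b, b ≠ q → g q b = 0) ∧ (∀ a, a ≠ p → g a p = 0) ∧ g q q = g p p := by
  refine ⟨fun b hb => ?_, fun a ha => ?_, ?_⟩
  · have h1 := congrFun (congrFun h p) b
    rw [transvection_mul_apply_same, mul_transvection_apply_of_ne _ _ _ _ hb] at h1
    simpa using h1
  · have h1 := congrFun (congrFun h a) q
    rw [transvection_mul_apply_of_ne _ _ _ _ ha, mul_transvection_apply_same] at h1
    simpa using h1.symm
  · have h1 := congrFun (congrFun h p) q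
    rw [transvection_mul_apply_same, mul_transvection_apply_same] at h1
    simpa using h1

theorem comm_of_entries (p q : Fin n) (g : Matrix (Fin n) (Fin n) F)
    (h1 : ∀ b, b ≠ q → g q b = 0) (h2 : ∀ a, a ≠ p → g a p = 0) (h3 : g q q = g p p) :
    transvection p q (1 : F) * g = g * transvection p q (1 : F) := by
  ext a b
  by_cases ha : a = p
  · subst ha
    rw [transvection_mul_apply_same]
    by_cases hb : b = q
    · subst hb
      rw [mul_transvection_apply_same, h3]
    · rw [mul_transvection_apply_of_ne _ _ _ _ hb, h1 b hb]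
      simp
  · rw [transvection_mul_apply_of_ne _ _ _ _ ha]
    by_cases hb : b = q
    · subst hb
      rw [mul_transvection_apply_same, h2 a ha]
      simp
    · rw [mul_transvection_apply_of_ne _ _ _ _ hb]

variable (i j : Fin n)

/-- The centralizer of `t` in entries. -/
def IsC (g : Matrix (Fin n) (Fin n) F) : Prop :=
  (∀ a, g a i = (1 : Matrix (Fin n) (Fin n) F) a i) ∧
    (∀ b, g j b = (1 : Matrix (Fin n) (Fin n) F) j b)

/-- The unipotent radical of the centralizer in entries. -/
def IsR (g : Matrix (Fin n) (Fin n) F) : Prop :=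
  ∀ a, a ≠ i → ∀ b, b ≠ j → g a b = (1 : Matrix (Fin n) (Fin n) F) a b

variable {i j}

theorem IsC.mul {g h : Matrix (Fin n) (Fin n) F} (hg : IsC i j g) (hh : IsC i j h) :
    IsC i j (g * h) := by
  refine ⟨fun a => ?_, fun b => ?_⟩
  · rw [Matrix.mul_apply]
    calc ∑ c, g a c * h c i = ∑ c, g a c * (1 : Matrix (Fin n) (Fin n) F) c i :=
          Finset.sum_congr rfl fun c _ => by rw [hh.1 c]
      _ = (g * (1 : Matrix (Fin n) (Fin n) F)) a i := by rw [Matrix.mul_apply]
      _ = _ := by rw [Matrix.mul_one, hg.1 a]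
  · rw [Matrix.mul_apply]
    calc ∑ c, g j c * h c b = ∑ c, (1 : Matrix (Fin n) (Fin n) F) j c * h c b :=
          Finset.sum_congr rfl fun c _ => by rw [hg.2 c]
      _ = ((1 : Matrix (Fin n) (Fin n) F) * h) j b := by rw [Matrix.mul_apply]
      _ = _ := by rw [Matrix.one_mul, hh.2 b]

theorem IsR.mul_apply {g h : Matrix (Fin n) (Fin n) F} (hh : IsC i j h) (hg : IsR i j g) {a b : Fin n}
    (ha : a ≠ i) (hb : b ≠ j) : (g * h) a b = h a b := by
  rw [Matrix.mul_apply]
  calc ∑ c, g a c * h c b = ∑ c, (1 : Matrix (Fin n) (Fin n) F) a c * h c b := by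
        refine Finset.sum_congr rfl fun c _ => ?_
        by_cases hc : c = j
        · subst hc
          rw [hh.2 b, Matrix.one_apply_ne hb.symm]
          simp
        · rw [hg a ha c hc]
    _ = ((1 : Matrix (Fin n) (Fin n) F) * h) a b := by rw [Matrix.mul_apply]
    _ = _ := by rw [Matrix.one_mul]

theorem IsR.conj {x y r : Matrix (Fin n) (Fin n) F} (hx : IsC i j x) (hy : IsC i j y)
    (hr : IsR i j r) (hxy : x * y = 1) : IsR i j (x * r * y) := by
  intro a ha b hb
  have h1 : ∀ d, d ≠ j → (x * r) a d = x a d := by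
    intro d hd
    rw [Matrix.mul_apply]
    calc ∑ c, x a c * r c d = ∑ c, x a c * (1 : Matrix (Fin n) (Fin n) F) c d := by
          refine Finset.sum_congr rfl fun c _ => ?_
          by_cases hc : c = i
          · subst hc
            rw [hx.1 a, Matrix.one_apply_ne ha]
            simp
          · rw [hr c hc d hd]
      _ = (x * (1 : Matrix (Fin n) (Fin n) F)) a d := by rw [Matrix.mul_apply]
      _ = _ := by rw [Matrix.mul_one]
  rw [Matrix.mul_apply]
  calc ∑ d, (x * r) a d * y d b = ∑ d, x a d * y d b := by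
        refine Finset.sum_congr rfl fun d _ => ?_
        by_cases hd : d = j
        · subst hd
          rw [hy.2 b, Matrix.one_apply_ne hb.symm]
          simp
        · rw [h1 d hd]
    _ = (x * y) a b := by rw [Matrix.mul_apply]
    _ = _ := by rw [hxy]

/-- Elements of `R` have exponent 4 in characteristic 2. -/
theorem IsR.pow_four {g : Matrix (Fin n) (Fin n) F} (hij : i ≠ j) (htwo : ∀ x : F, x + x = 0)
    (hc : IsC i j g) (hr : IsR i j g) : g * g * (g * g) = 1 := by
  set A := g - 1 with hA
  have hg : g = 1 + A := by rw [hA]; abel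
  have hA1 : ∀ a, a ≠ i → ∀ b, b ≠ j → A a b = 0 := by
    intro a ha b hb
    rw [hA, Matrix.sub_apply, hr a ha b hb, sub_self]
  have hA2 : ∀ a, A a i = 0 := by
    intro a
    rw [hA, Matrix.sub_apply, hc.1 a, sub_self]
  have hA3 : ∀ b, A j b = 0 := by
    intro b
    rw [hA, Matrix.sub_apply, hc.2 b, sub_self]
  have hAA : A + A = 0 := by
    ext a b
    rw [Matrix.add_apply, htwo]
    simp
  set B := A * A with hB
  have hB0 : ∀ a b, (a ≠ i ∨ b ≠ j) → B a b = 0 := by
    intro a b h
    rw [hB, Matrix.mul_apply]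
    refine Finset.sum_eq_zero fun c _ => ?_
    rcases h with h | h
    · by_cases hc : c = j
      · subst hc
        rw [hA3 b, mul_zero]
      · rw [hA1 a h c hc, zero_mul]
    · by_cases hc : c = i
      · subst hc
        rw [hA2 a, zero_mul]
      · rw [hA1 c hc b h, mul_zero]
  have hBB : B * B = 0 := by
    ext a b
    rw [Matrix.mul_apply]
    refine Finset.sum_eq_zero fun c _ => ?_
    by_cases hc : c = j
    · rw [hB0 c b (Or.inl (by rw [hc]; exact hij.symm)), mul_zero]
    · rw [hB0 a c (Or.inr hc), zero_mul]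
  have hBB2 : B + B = 0 := by
    ext a b
    rw [Matrix.add_apply, htwo]
    simp
  have hgg : g * g = 1 + B := by
    rw [hg, hB]
    calc (1 + A) * (1 + A) = 1 + (A + A) + A * A := by noncomm_ring
      _ = 1 + A * A := by rw [hAA, add_zero]
  rw [hgg]
  calc (1 + B) * (1 + B) = 1 + (B + B) + B * B := by noncomm_ring
    _ = 1 := by rw [hBB2, hBB]; simp

theorem tr_apply (p q a b : Fin n) : transvection p q (1 : F) a b =
    (1 : Matrix (Fin n) (Fin n) F) a b + if p = a ∧ q = b then 1 else 0 := by
  simp [transvection, Matrix.single_apply]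

theorem isC_tr_left {k : Fin n} (hij : i ≠ j) (hk : k ≠ i) : IsC i j (transvection i k (1 : F)) := by
  refine ⟨fun a => ?_, fun b => ?_⟩
  · rw [tr_apply, if_neg (by rintro ⟨-, h⟩; exact hk h), add_zero]
  · rw [tr_apply, if_neg (by rintro ⟨h, -⟩; exact hij h), add_zero]

theorem isC_tr_right {k : Fin n} (hij : i ≠ j) (hk : k ≠ j) : IsC i j (transvection k j (1 : F)) := by
  refine ⟨fun a => ?_, fun b => ?_⟩
  · rw [tr_apply, if_neg (by rintro ⟨-, h⟩; exact hij h.symm), add_zero]
  · rw [tr_apply, if_neg (by rintro ⟨h, -⟩; exact hk h), add_zero]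

theorem isR_tr_left {k : Fin n} (_hk : k ≠ i) : IsR i j (transvection i k (1 : F)) := by
  intro a ha b _
  rw [tr_apply, if_neg (by rintro ⟨h, -⟩; exact ha h.symm), add_zero]

theorem isR_tr_right {k : Fin n} : IsR i j (transvection k j (1 : F)) := by
  intro a _ b hb
  rw [tr_apply, if_neg (by rintro ⟨-, h⟩; exact hb h.symm), add_zero]

end Mat

section Grp

variable {F : Type*} [Field F] [Fintype F] [DecidableEq F] {n : ℕ} {i j : Fin n}

theorem field_facts (hF : Fintype.card F = 2) : (∀ x : F, x + x = 0) ∧ (∀ x : F, x ≠ 0 → x = 1) := by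
  constructor
  · intro x
    have h : ((Fintype.card F : ℕ) : F) = 0 := Nat.cast_card_eq_zero F
    rw [hF] at h
    have h2 : x + x = ((2 : ℕ) : F) * x := by push_cast; ring
    rw [h2, h, zero_mul]
  · intro x hx
    have := FiniteField.pow_card_sub_one_eq_one x hx
    rw [hF] at this
    simpa using this

theorem isC_of_comm (hF : Fintype.card F = 2) (hij : i ≠ j) (g g' : Matrix (Fin n) (Fin n) F)
    (hg' : g' * g = 1) (h : transvection i j (1 : F) * g = g * transvection i j (1 : F)) :
    IsC i j g := by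
  obtain ⟨h1, h2, h3⟩ := comm_entries i j hij g h
  have hii : g i i = 1 := by
    refine (field_facts hF).2 _ fun h0 => ?_
    have h4 : (g' * g) i i = 1 := by rw [hg']; simp
    rw [Matrix.mul_apply, Finset.sum_eq_zero] at h4
    · exact zero_ne_one h4
    · intro c _
      by_cases hc : c = i
      · rw [hc, h0, mul_zero]
      · rw [h2 c hc, mul_zero]
  refine ⟨fun a => ?_, fun b => ?_⟩
  · by_cases ha : a = i
    · rw [ha, hii]; simp
    · rw [h2 a ha, Matrix.one_apply_ne ha]
  · by_cases hb : b = j
    · rw [hb, h3, hii]; simp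
    · rw [h1 b hb, Matrix.one_apply_ne (Ne.symm hb)]

theorem comm_of_isC (g : Matrix (Fin n) (Fin n) F) (h : IsC i j g) :
    transvection i j (1 : F) * g = g * transvection i j (1 : F) := by
  refine comm_of_entries i j g (fun b hb => ?_) (fun a ha => ?_) ?_
  · rw [h.2 b, Matrix.one_apply_ne (Ne.symm hb)]
  · rw [h.1 a, Matrix.one_apply_ne ha]
  · rw [h.2 j, h.1 i]; simp

local notation "SL'" => Matrix.SpecialLinearGroup (Fin n) F

theorem isC_of_mem (hF : Fintype.card F = 2) (hij : i ≠ j) {t g : SL'}
    (ht : (t : Matrix (Fin n) (Fin n) F) = transvection i j 1)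
    (hg : g ∈ centralizer ({t} : Set SL')) : IsC i j (g : Matrix (Fin n) (Fin n) F) := by
  have h : t * g = g * t := mem_centralizer_iff.mp hg t rfl
  have h' : transvection i j (1 : F) * (g : Matrix (Fin n) (Fin n) F) =
      (g : Matrix (Fin n) (Fin n) F) * transvection i j (1 : F) := by
    have := congrArg (fun x : SL' => (x : Matrix (Fin n) (Fin n) F)) h
    simpa [ht] using this
  refine isC_of_comm hF hij _ ((g⁻¹ : SL') : Matrix (Fin n) (Fin n) F) ?_ h'
  exact congrArg (fun x : SL' => (x : Matrix (Fin n) (Fin n) F)) (inv_mul_cancel g)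

theorem mem_of_isC {t g : SL'}
    (ht : (t : Matrix (Fin n) (Fin n) F) = transvection i j 1)
    (hg : IsC i j (g : Matrix (Fin n) (Fin n) F)) : g ∈ centralizer ({t} : Set SL') := by
  refine mem_centralizer_iff.mpr ?_
  intro h hh
  rw [Set.mem_singleton_iff.mp hh]
  apply Subtype.ext
  have := comm_of_isC _ hg
  simpa [ht] using this

/-- The radical of the centralizer. -/
theorem exists_radical (hF : Fintype.card F = 2) (hij : i ≠ j) {t : SL'}
    (ht : (t : Matrix (Fin n) (Fin n) F) = transvection i j 1) :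
    ∃ R : Subgroup ↥(centralizer ({t} : Set SL')), R.Normal ∧ IsPGroup 2 R ∧
      ∀ x : ↥(centralizer ({t} : Set SL')),
        x ∈ R ↔ IsR i j (((x : SL') : Matrix (Fin n) (Fin n) F)) := by
  have hC : ∀ x : ↥(centralizer ({t} : Set SL')), IsC i j (((x : SL') : Matrix (Fin n) (Fin n) F)) :=
    fun x => isC_of_mem hF hij ht x.2
  let R : Subgroup ↥(centralizer ({t} : Set SL')) :=
    { carrier := {x | IsR i j (((x : SL') : Matrix (Fin n) (Fin n) F))}
      one_mem' := by
        intro a _ b _
        rfl
      mul_mem' := by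
        intro x y hx hy a ha b hb
        have h1 : (((x * y : ↥(centralizer ({t} : Set SL'))) : SL') : Matrix (Fin n) (Fin n) F) =
          ((x : SL') : Matrix (Fin n) (Fin n) F) * ((y : SL') : Matrix (Fin n) (Fin n) F) := rfl
        rw [h1, IsR.mul_apply (hC y) hx ha hb]
        exact hy a ha b hb
      inv_mem' := by
        intro x hx a ha b hb
        have h1 : ((x : SL') : Matrix (Fin n) (Fin n) F) * ((x⁻¹ : ↥(centralizer ({t} : Set SL'))) : SL') = 1 := by
          exact congrArg (fun y : ↥(centralizer ({t} : Set SL')) => ((y : SL') : Matrix (Fin n) (Fin n) F))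
            (mul_inv_cancel x)
        have h2 := IsR.mul_apply (hC x⁻¹) hx ha hb
        rw [h1] at h2
        exact h2.symm }
  refine ⟨R, ?_, ?_, fun x => Iff.rfl⟩
  · refine ⟨fun r hr x => ?_⟩
    intro a ha b hb
    have h1 : ((x : SL') : Matrix (Fin n) (Fin n) F) * ((x⁻¹ : ↥(centralizer ({t} : Set SL'))) : SL') = 1 := by
      exact congrArg (fun y : ↥(centralizer ({t} : Set SL')) => ((y : SL') : Matrix (Fin n) (Fin n) F))
        (mul_inv_cancel x)
    exact IsR.conj (hC x) (hC x⁻¹) hr h1 a ha b hb
  · intro r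
    refine ⟨2, ?_⟩
    apply Subtype.ext
    apply Subtype.ext
    apply Subtype.ext
    have := IsR.pow_four hij (field_facts hF).1 (hC r) r.2
    have h2 : (2 : ℕ) ^ 2 = 4 := by norm_num
    rw [h2]
    simp only [pow_succ, pow_zero, one_mul, mul_assoc] at this ⊢
    simpa [mul_assoc] using this

/-- An element of the centralizer of `t` centralizing the radical is `1` or `t`. -/
theorem eq_of_commute (hF : Fintype.card F = 2) (hij : i ≠ j) {t : SL'}
    (ht : (t : Matrix (Fin n) (Fin n) F) = transvection i j 1)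
    (R : Subgroup ↥(centralizer ({t} : Set SL')))
    (hR : ∀ x : ↥(centralizer ({t} : Set SL')),
        x ∈ R ↔ IsR i j (((x : SL') : Matrix (Fin n) (Fin n) F)))
    (x : ↥(centralizer ({t} : Set SL'))) (hx : ∀ r ∈ R, x * r = r * x) :
    (x : SL') = 1 ∨ (x : SL') = t := by
  have hxC : IsC i j (((x : SL') : Matrix (Fin n) (Fin n) F)) := isC_of_mem hF hij ht x.2
  set M := ((x : SL') : Matrix (Fin n) (Fin n) F) with hM
  -- commutation with a transvection in `R`
  have hcomm : ∀ p q : Fin n, ∀ hpq : p ≠ q, IsC i j (transvection p q (1 : F)) →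
      IsR i j (transvection p q (1 : F)) →
      transvection p q (1 : F) * M = M * transvection p q (1 : F) := by
    intro p q hpq h1 h2
    let u : SL' := ⟨transvection p q (1 : F), det_transvection_of_ne p q hpq 1⟩
    have hu : (u : Matrix (Fin n) (Fin n) F) = transvection p q 1 := rfl
    let u' : ↥(centralizer ({t} : Set SL')) := ⟨u, mem_of_isC ht (by rw [hu]; exact h1)⟩
    have hu' : u' ∈ R := (hR u').mpr (by show IsR i j (u : Matrix (Fin n) (Fin n) F); rw [hu]; exact h2)
    have h3 := hx u' hu'
    have h4 := congrArg (fun y : ↥(centralizer ({t} : Set SL')) => ((y : SL') : Matrix (Fin n) (Fin n) F)) h3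
    exact h4.symm
  -- rows
  have hrow : ∀ a b, a ≠ i → a ≠ j → M a b = (1 : Matrix (Fin n) (Fin n) F) a b := by
    intro a b ha ha'
    obtain ⟨h1, -, h3⟩ := comm_entries i a ha.symm M
      (hcomm i a ha.symm (isC_tr_left hij ha) (isR_tr_left ha))
    by_cases hb : b = a
    · rw [hb, h3, hxC.1 i]; simp
    · rw [h1 b hb, Matrix.one_apply_ne (Ne.symm hb)]
  have hcol : ∀ a b, b ≠ i → b ≠ j → M a b = (1 : Matrix (Fin n) (Fin n) F) a b := by
    intro a b hb hb'
    obtain ⟨-, h2, h3⟩ := comm_entries b j hb' M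
      (hcomm b j hb' (isC_tr_right hij hb') isR_tr_right)
    by_cases ha : a = b
    · rw [ha, ← h3, hxC.2 j]; simp
    · rw [h2 a ha, Matrix.one_apply_ne ha]
  -- the rest
  have hrest : ∀ a b, ¬ (a = i ∧ b = j) → M a b = (1 : Matrix (Fin n) (Fin n) F) a b := by
    intro a b hab
    by_cases hb : b = i
    · rw [hb]; exact hxC.1 a
    by_cases ha : a = j
    · rw [ha]; exact hxC.2 b
    by_cases ha' : a = i
    · by_cases hb' : b = j
      · exact absurd ⟨ha', hb'⟩ hab
      · exact hcol a b hb hb'
    · exact hrow a b ha' ha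
  by_cases h0 : M i j = 0
  · left
    apply Subtype.ext
    ext a b
    by_cases hab : a = i ∧ b = j
    · rw [hab.1, hab.2]
      show M i j = (1 : Matrix (Fin n) (Fin n) F) i j
      rw [h0, Matrix.one_apply_ne hij]
    · exact hrest a b hab
  · right
    apply Subtype.ext
    have h1 := (field_facts hF).2 _ h0
    ext a b
    show M a b = (t : Matrix (Fin n) (Fin n) F) a b
    rw [ht, tr_apply]
    by_cases hab : a = i ∧ b = j
    · rw [hab.1, hab.2, h1, Matrix.one_apply_ne hij]; simp
    · rw [hrest a b hab, if_neg (by rintro ⟨h, h'⟩; exact hab ⟨h.symm, h'.symm⟩), add_zero]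

end Grp

/-- Let F be a field with 2 elements, n ≥ 3, and t ∈ SL(n, F) a transvection (t = 1 + E_{ij}, i ≠ j). Then the generalized Fitting subgroup of C(t) is O_2(C(t)). -/
theorem result {F : Type*} [Field F] [Fintype F] [DecidableEq F] (hF : Fintype.card F = 2) (n : ℕ) (hn : 3 ≤ n) (i j : Fin n) (hij : i ≠ j) (t : Matrix.SpecialLinearGroup (Fin n) F) (ht : (t : Matrix (Fin n) (Fin n) F) = Matrix.transvection i j 1) : Cfsg.generalizedFittingSubgroup ↥(Subgroup.centralizer ({t} : Set (Matrix.SpecialLinearGroup (Fin n) F))) = Cfsg.pCore 2 ↥(Subgroup.centralizer ({t} : Set (Matrix.SpecialLinearGroup (Fin n) F))) := by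
  obtain ⟨R, hRn, hR2, hR⟩ := exists_radical hF hij ht
  set C := ↥(Subgroup.centralizer ({t} : Set (Matrix.SpecialLinearGroup (Fin n) F))) with hCdef
  have hle : R ≤ pCore 2 C := le_pCore hRn hR2
  have hkey : ∀ x : C, (∀ r ∈ pCore 2 C, x * r = r * x) →
      (x : Matrix.SpecialLinearGroup (Fin n) F) = 1 ∨ (x : Matrix.SpecialLinearGroup (Fin n) F) = t :=
    fun x hx => eq_of_commute hF hij ht R hR x (fun r hr => hx r (hle hr))
  let t' : C := ⟨t, mem_centralizer_iff.mpr fun h hh => by rw [Set.mem_singleton_iff.mp hh]⟩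
  have ht'R : t' ∈ pCore 2 C := by
    refine hle ((hR t').mpr ?_)
    show IsR i j (t : Matrix (Fin n) (Fin n) F)
    rw [ht]
    intro a ha b _
    rw [tr_apply, if_neg (by rintro ⟨h, -⟩; exact ha h.symm), add_zero]
  have hfit : fittingSubgroup C = pCore 2 C := by
    apply le_antisymm _ (pCore_le_fittingSubgroup 2)
    rw [fittingSubgroup_eq_iSup_pCore]
    refine iSup_le fun q => ?_
    haveI : Fact (q : ℕ).Prime := ⟨q.2⟩
    by_cases hq : (q : ℕ) = 2
    · rw [hq]
    intro x hx
    have hdisj : Disjoint (pCore (q : ℕ) C) (pCore 2 C) :=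
      IsPGroup.disjoint_of_ne (q : ℕ) 2 hq _ _ pCore_isPGroup pCore_isPGroup
    have hcomm : ⁅pCore (q : ℕ) C, pCore 2 C⁆ = ⊥ :=
      le_bot_iff.mp ((Subgroup.commutator_le_inf _ _).trans (le_of_eq hdisj.eq_bot))
    have hcx : ∀ r ∈ pCore 2 C, x * r = r * x := by
      intro r hr
      have := Subgroup.commutator_mem_commutator hx hr
      rw [hcomm, Subgroup.mem_bot, commutatorElement_eq_one_iff_mul_comm] at this
      exact this
    rcases hkey x hcx with h | h
    · have : x = 1 := Subtype.ext h
      rw [this]; exact one_mem _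
    · have : x = t' := Subtype.ext h
      rw [this]
      exact ht'R
  have hlay : layer C = ⊥ := by
    refine le_bot_iff.mp (sSup_le fun K hK => ?_)
    exfalso
    have hK' : IsComponent K := hK
    have hnil : Group.IsNilpotent (pCore 2 C) := isPGroup_isNilpotent pCore_isPGroup
    have hcomm := component_commutator_normal_nilpotent hK' inferInstance hnil
    have hKcomm : ∀ a ∈ K, ∀ b ∈ K, a * b = b * a := by
      have hval : ∀ a ∈ K, a = 1 ∨ a = t' := by
        intro a ha
        have hcx : ∀ r ∈ pCore 2 C, a * r = r * a := by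
          intro r hr
          have := Subgroup.commutator_mem_commutator ha hr
          rw [hcomm, Subgroup.mem_bot, commutatorElement_eq_one_iff_mul_comm] at this
          exact this
        rcases hkey a hcx with h | h
        · exact Or.inl (Subtype.ext h)
        · exact Or.inr (Subtype.ext h)
      intro a ha b hb
      rcases hval a ha with rfl | rfl <;> rcases hval b hb with rfl | rfl <;> simp
    have h1 := commutator_self_of_quasisimple hK'.2
    apply ne_bot_of_quasisimple hK'.2
    rw [← h1]
    rw [eq_bot_iff, Subgroup.commutator_le]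
    intro a ha b hb
    rw [Subgroup.mem_bot, commutatorElement_eq_one_iff_mul_comm]
    exact hKcomm a ha b hb
  rw [generalizedFittingSubgroup, hlay, hfit, bot_sup_eq]

end Cfsg.Agent.S1339
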