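import Cfsg.Statements.S1340
import Cfsg.Agent.Lib.SLBlock.Basic
import Cfsg.Agent.Lib.Classical.NormalSL
import Cfsg.Agent.Lib.Core.Basic

set_option autoImplicit false
set_option linter.unusedSectionVars false
set_option linter.unusedVariables false
set_option linter.style.haveILetI false
open Cfsg

namespace Cfsg.Agent.S1340

open Matrix Subgroup Cfsg.Agent.Lib.Components.Basic Cfsg.Agent.Lib.SLBlock.Basic
  Cfsg.Agent.Lib.Core.Basic

variable {F : Type*} [Field F] [Fintype F] [DecidableEq F] {n : ℕ} {l : Fin n}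

/-- Reindexing `SL`. -/
noncomputable def slReindex {ι κ : Type*} [Fintype ι] [DecidableEq ι] [Fintype κ] [DecidableEq κ]
    (e : ι ≃ κ) : SpecialLinearGroup ι F ≃* SpecialLinearGroup κ F where
  toFun A := ⟨Matrix.reindex e e (A : Matrix ι ι F), by rw [Matrix.det_reindex_self]; exact A.2⟩
  invFun B := ⟨Matrix.reindex e.symm e.symm (B : Matrix κ κ F), by
    rw [Matrix.det_reindex_self]; exact B.2⟩
  left_inv A := by
    apply Subtype.ext
    ext a b
    simp
  right_inv B := by
    apply Subtype.ext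
    ext a b
    simp
  map_mul' A B := by
    apply Subtype.ext
    show Matrix.reindex e e ((A : Matrix ι ι F) * (B : Matrix ι ι F)) =
      Matrix.reindex e e (A : Matrix ι ι F) * Matrix.reindex e e (B : Matrix ι ι F)
    simp [Matrix.reindex_apply, Matrix.submatrix_mul_equiv]

/-- `SL_2(F)` is quasisimple for a field with at least four elements. -/
theorem sl2_isQuasisimple (hF : 4 ≤ Nat.card F) : IsQuasisimple (SpecialLinearGroup (Fin 2) F) := by
  obtain ⟨a, ha, hasq⟩ := Cfsg.Agent.Lib.Classical.NormalSL.exists_ne_zero_sq_ne_one hF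
  exact ⟨⟨SL2.commutator_eq_top ha hasq⟩, Matrix.ProjectiveSpecialLinearGroup.rank_two_simple hF⟩

theorem slIdx_isQuasisimple (hF : Odd (Fintype.card F)) (hn : 3 ≤ n) (h33 : ¬ (n = 3 ∧ Fintype.card F = 3)) :
    IsQuasisimple (SpecialLinearGroup (Idx l) F) := by
  by_cases h4 : 4 ≤ n
  · refine sl_isQuasisimple ?_
    rw [card_idx]
    omega
  · have hn3 : n = 3 := by omega
    have hc : Fintype.card (Idx l) = 2 := by rw [card_idx]; omega
    have hF4 : 4 ≤ Nat.card F := by
      rw [Nat.card_eq_fintype_card]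
      have h1 : Fintype.card F ≠ 3 := fun h => h33 ⟨hn3, h⟩
      have h2 : 1 < Fintype.card F := Fintype.one_lt_card
      obtain ⟨k, hk⟩ := hF
      omega
    exact quasisimple_of_mulEquiv (slReindex (Fintype.equivFinOfCardEq hc)).symm (sl2_isQuasisimple hF4)

/-- Let F be a finite field of odd order and n ≥ 3 with (n, |F|) ≠ (3, 3). Then GL(n, F) has a non-central involution t such that C(t) / O(C(t)) has a component. -/
theorem result {F : Type*} [Field F] [Fintype F] [DecidableEq F] (hF : Odd (Fintype.card F)) (n : ℕ) (hn : 3 ≤ n) (h33 : ¬ (n = 3 ∧ Fintype.card F = 3)) : ∃ t : Matrix.GeneralLinearGroup (Fin n) F, orderOf t = 2 ∧ t ∉ Subgroup.center (Matrix.GeneralLinearGroup (Fin n) F) ∧ Cfsg.HasComponent (↥(Subgroup.centralizer ({t} : Set (Matrix.GeneralLinearGroup (Fin n) F))) ⧸ Cfsg.oddCore ↥(Subgroup.centralizer ({t} : Set (Matrix.GeneralLinearGroup (Fin n) F)))) := by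
  have h2 : (2 : F) ≠ 0 := two_ne_zero_of_odd hF
  have hneg : (-1 : F) ≠ 1 := by
    intro h
    apply h2
    have : (2 : F) = 1 - (-1) := by ring
    rw [this, h, sub_self]
  let l : Fin n := ⟨n - 1, by omega⟩
  let i₁ : Fin n := ⟨0, by omega⟩
  let i₂ : Fin n := ⟨1, by omega⟩
  have hi₁ : i₁ ≠ l := by
    intro h
    have := congrArg Fin.val h
    simp only [i₁, l] at this
    omega
  have hi₂ : i₂ ≠ l := by
    intro h
    have := congrArg Fin.val h
    simp only [i₂, l] at this
    omega
  have hi₁₂ : i₁ ≠ i₂ := by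
    intro h
    have := congrArg Fin.val h
    simp only [i₁, i₂] at this
    omega
  let t : Matrix.GeneralLinearGroup (Fin n) F := ⟨tDiag l, tDiag l, tDiag_mul_self, tDiag_mul_self⟩
  have htv : ((t : Matrix.GeneralLinearGroup (Fin n) F) : Matrix (Fin n) (Fin n) F) = tDiag l := rfl
  have ht1 : t ≠ 1 := by
    intro h
    have h3 : (tDiag l : Matrix (Fin n) (Fin n) F) i₁ i₁ = 1 := by
      rw [← htv, h]; simp
    rw [tDiag] at h3
    simp only [Matrix.diagonal_apply_eq, if_neg hi₁] at h3
    exact hneg h3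
  have htt : t ^ 2 = 1 := by
    rw [sq]
    apply Units.ext
    exact tDiag_mul_self
  have hord : orderOf t = 2 := orderOf_eq_prime htt ht1
  refine ⟨t, hord, ?_, ?_⟩
  · intro hc
    let τ : SpecialLinearGroup (Fin n) F := ⟨transvection i₁ l 1, det_transvection_of_ne i₁ l hi₁ 1⟩
    have h3 := mem_center_iff.mp hc (SpecialLinearGroup.toGL τ)
    have h4 : (transvection i₁ l (1 : F)) * tDiag l = tDiag l * transvection i₁ l (1 : F) :=
      congrArg Units.val h3
    have h5 := ((comm_tDiag_iff h2 _).mp h4 i₁ hi₁).1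
    rw [tr_apply, Matrix.one_apply_ne hi₁, if_pos ⟨rfl, rfl⟩] at h5
    simp at h5
  · have hCblk : ∀ g : Matrix.GeneralLinearGroup (Fin n) F,
        g ∈ centralizer ({t} : Set (Matrix.GeneralLinearGroup (Fin n) F)) →
          IsBlk l ((g : Matrix.GeneralLinearGroup (Fin n) F) : Matrix (Fin n) (Fin n) F) := by
      intro g hg
      rw [← comm_tDiag_iff h2]
      have h3 : t * g = g * t := mem_centralizer_iff.mp hg t rfl
      exact (congrArg Units.val h3).symm
    have hCmem : ∀ g : Matrix.GeneralLinearGroup (Fin n) F,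
        IsBlk l ((g : Matrix.GeneralLinearGroup (Fin n) F) : Matrix (Fin n) (Fin n) F) →
        g ∈ centralizer ({t} : Set (Matrix.GeneralLinearGroup (Fin n) F)) := by
      intro g hg
      refine mem_centralizer_iff.mpr fun u hu => ?_
      rw [Set.mem_singleton_iff.mp hu]
      apply Units.ext
      exact ((comm_tDiag_iff h2 _).mpr hg).symm
    let LG : Subgroup (Matrix.GeneralLinearGroup (Fin n) F) := (blockSL (F := F) l).map SpecialLinearGroup.toGL
    have hLGq : IsQuasisimple ↥LG :=
      quasisimple_of_mulEquiv ((blockSL (F := F) l).equivMapOfInjective SpecialLinearGroup.toGL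
        SpecialLinearGroup.toGL_injective) (quasisimple_of_mulEquiv (blockEquiv l).symm
          (slIdx_isQuasisimple hF hn h33))
    have hLGC : LG ≤ centralizer ({t} : Set (Matrix.GeneralLinearGroup (Fin n) F)) := by
      rintro _ ⟨s, hs, rfl⟩
      exact hCmem _ hs.1
    have hL₁q : IsQuasisimple (LG.subgroupOf (centralizer ({t} : Set (Matrix.GeneralLinearGroup (Fin n) F)))) :=
      (quasisimple_subgroupOf_iff hLGC).mpr hLGq
    have hL₁n : (LG.subgroupOf (centralizer ({t} : Set (Matrix.GeneralLinearGroup (Fin n) F)))).Normal := by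
      refine ⟨fun x hx g => ?_⟩
      rw [mem_subgroupOf] at hx ⊢
      obtain ⟨s, hs, hsx⟩ := hx
      have hgB := hCblk _ g.2
      have hgB' := hCblk _ (g⁻¹).2
      have hxv : ((x : Matrix.GeneralLinearGroup (Fin n) F) : Matrix (Fin n) (Fin n) F) =
          (s : Matrix (Fin n) (Fin n) F) := by
        rw [← hsx]; rfl
      set g₀ : Matrix (Fin n) (Fin n) F := ((g : Matrix.GeneralLinearGroup (Fin n) F) : Matrix (Fin n) (Fin n) F) with hg₀
      set g₁ : Matrix (Fin n) (Fin n) F := (((g⁻¹ : ↥(centralizer ({t} : Set (Matrix.GeneralLinearGroup (Fin n) F)))) : Matrix.GeneralLinearGroup (Fin n) F) : Matrix (Fin n) (Fin n) F) with hg₁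
      have h01 : g₀ * g₁ = 1 :=
        congrArg (fun y : ↥(centralizer ({t} : Set (Matrix.GeneralLinearGroup (Fin n) F))) =>
          ((y : Matrix.GeneralLinearGroup (Fin n) F) : Matrix (Fin n) (Fin n) F)) (mul_inv_cancel g)
      let s' : SpecialLinearGroup (Fin n) F := ⟨g₀ * (s : Matrix (Fin n) (Fin n) F) * g₁, by
        rw [Matrix.det_mul, Matrix.det_mul, s.2, mul_one, ← Matrix.det_mul, h01, Matrix.det_one]⟩
      have hs' : s' ∈ blockSL (F := F) l := by
        refine ⟨(hgB.mul hs.1).mul hgB', ?_⟩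
        show (g₀ * (s : Matrix (Fin n) (Fin n) F) * g₁) l l = 1
        rw [IsBlk.mul_ll (hgB.mul hs.1), IsBlk.mul_ll hgB, hs.2, mul_one, ← IsBlk.mul_ll hgB, h01]
        simp
      refine ⟨s', hs', ?_⟩
      apply Units.ext
      show g₀ * (s : Matrix (Fin n) (Fin n) F) * g₁ = _
      rw [← hxv]
      rfl
    -- an involution in `L`
    let D : Matrix (Fin n) (Fin n) F :=
      Matrix.diagonal (fun i => (if i = i₁ then (-1 : F) else 1) * (if i = i₂ then (-1 : F) else 1))
    have hDdet : D.det = 1 := by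
      rw [Matrix.det_diagonal, Finset.prod_mul_distrib, Finset.prod_ite_eq', Finset.prod_ite_eq']
      simp
    let d : SpecialLinearGroup (Fin n) F := ⟨D, hDdet⟩
    have hdm : d ∈ blockSL (F := F) l := by
      refine ⟨fun i hi => ⟨Matrix.diagonal_apply_ne _ hi, Matrix.diagonal_apply_ne _ hi.symm⟩, ?_⟩
      show D l l = 1
      simp [D, hi₁.symm, hi₂.symm]
    let x₁ : ↥(centralizer ({t} : Set (Matrix.GeneralLinearGroup (Fin n) F))) :=
      ⟨SpecialLinearGroup.toGL d, hLGC ⟨d, hdm, rfl⟩⟩
    have hx₁L : x₁ ∈ LG.subgroupOf (centralizer ({t} : Set (Matrix.GeneralLinearGroup (Fin n) F))) :=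
      mem_subgroupOf.mpr ⟨d, hdm, rfl⟩
    have hx₁2 : x₁ ^ 2 = 1 := by
      rw [sq]
      apply Subtype.ext
      apply Units.ext
      show D * D = 1
      rw [Matrix.diagonal_mul_diagonal, ← Matrix.diagonal_one]
      congr 1
      ext i
      show ((if i = i₁ then (-1 : F) else 1) * (if i = i₂ then (-1 : F) else 1)) *
        ((if i = i₁ then (-1 : F) else 1) * (if i = i₂ then (-1 : F) else 1)) = 1
      split_ifs <;> simp
    have hx₁1 : x₁ ≠ 1 := by
      intro h
      have h3 : D i₁ i₁ = 1 := by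
        have h4 := congrArg (fun y : ↥(centralizer ({t} : Set (Matrix.GeneralLinearGroup (Fin n) F))) =>
          ((y : Matrix.GeneralLinearGroup (Fin n) F) : Matrix (Fin n) (Fin n) F) i₁ i₁) h
        have h5 : D i₁ i₁ = (1 : Matrix (Fin n) (Fin n) F) i₁ i₁ := h4
        simpa using h5
      simp only [D, Matrix.diagonal_apply_eq, if_true, if_neg hi₁₂, mul_one] at h3
      exact hneg h3
    have hx₁o : orderOf x₁ = 2 := orderOf_eq_prime hx₁2 hx₁1
    have hx₁O : x₁ ∉ oddCore ↥(centralizer ({t} : Set (Matrix.GeneralLinearGroup (Fin n) F))) := by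
      intro h
      have := orderOf_coprime_of_mem_pPrimeCore h
      rw [hx₁o] at this
      simp at this
    refine ⟨(LG.subgroupOf (centralizer ({t} : Set (Matrix.GeneralLinearGroup (Fin n) F)))).map
      (QuotientGroup.mk' (oddCore ↥(centralizer ({t} : Set (Matrix.GeneralLinearGroup (Fin n) F))))),
      (hL₁n.map _ (QuotientGroup.mk'_surjective _)).isSubnormal, ?_⟩
    have hnt : Nontrivial ↥((LG.subgroupOf (centralizer ({t} : Set (Matrix.GeneralLinearGroup (Fin n) F)))).map
        (QuotientGroup.mk' (oddCore ↥(centralizer ({t} : Set (Matrix.GeneralLinearGroup (Fin n) F)))))) := by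
      refine ⟨⟨⟨_, x₁, hx₁L, rfl⟩, 1, ?_⟩⟩
      intro h
      have h3 := congrArg Subtype.val h
      exact hx₁O ((QuotientGroup.eq_one_iff x₁).mp h3)
    exact quasisimple_of_surjective ((QuotientGroup.mk' _).subgroupMap _)
      (MonoidHom.subgroupMap_surjective _ _) hL₁q

end Cfsg.Agent.S1340
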