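import Cfsg.Statements.S1457
import Cfsg.Agent.Lib.OddOrder.PStable

set_option autoImplicit false
open Cfsg

namespace Cfsg.Agent.S1457

/-- Let G be a solvable group of odd order, p a prime, S a Sylow p-subgroup of G and A an abelian subgroup of S normal in S. Then A ≤ O_{p',p}(G). -/
theorem result {G : Type*} [Group G] [Finite G] [Group.IsSolvable G] (hodd : Odd (Nat.card G)) (p : ℕ) [Fact p.Prime] (S : Sylow p G) (A : Subgroup G) (hA : A ≤ (S : Subgroup G)) (hAc : IsMulCommutative A)
    (hAn : (S : Subgroup G) ≤ Subgroup.normalizer (A : Set G)) :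
    A ≤ Cfsg.pPrimePCore p G := by
  by_cases hp : p = 2
  · subst hp
    have h1 : Nat.card (S : Subgroup G) ∣ Nat.card G := Subgroup.card_subgroup_dvd_card _
    obtain ⟨k, hk⟩ := (IsPGroup.iff_card (p := 2)).mp S.isPGroup'
    have h2 : k = 0 := by
      by_contra hne
      obtain ⟨j, rfl⟩ := Nat.exists_eq_succ_of_ne_zero hne
      have : 2 ∣ Nat.card G := (Dvd.intro_left (2 ^ j) (by rw [pow_succ])).trans (hk ▸ h1)
      exact (Nat.not_even_iff_odd.mpr hodd) (even_iff_two_dvd.mpr this)
    subst h2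
    have h3 : Nat.card (S : Subgroup G) = 1 := by simpa using hk
    have h4 : (S : Subgroup G) = ⊥ := Subgroup.eq_bot_of_card_eq _ h3
    rw [h4] at hA
    exact hA.trans bot_le
  · exact Cfsg.Agent.Lib.OddOrder.PStable.le_pPrimePCore_of_comm hp hodd S hA hAc hAn

end Cfsg.Agent.S1457
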