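import Cfsg.Statements.S1458
import Cfsg.Agent.Lib.ZJStrong.ZJe
import Cfsg.Agent.Lib.OddOrder.PStable
import Cfsg.Agent.Lib.CaseTh.SolvableCharP

set_option autoImplicit false
open Cfsg

namespace Cfsg.Agent.S1458

open Cfsg.Agent.Lib.PLocal.Thompson Cfsg.Agent.Lib.Core.Basic

section aux

variable {G H : Type*} [Group G] [Group H]

lemma card_map_of_injOn (K : Subgroup G) (f : G →* H) (hf : ∀ x ∈ K, f x = 1 → x = 1) :
    Nat.card (K.map f) = Nat.card K := by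
  have hinj : Function.Injective (f.subgroupMap K) := by
    rw [injective_iff_map_eq_one]
    rintro ⟨x, hx⟩ h
    have h1 : f x = 1 := congrArg Subtype.val h
    exact Subtype.ext (hf x hx h1)
  exact (Nat.card_congr (Equiv.ofBijective _ ⟨hinj, f.subgroupMap_surjective K⟩)).symm

lemma eq_of_map_eq {P : Subgroup G} (f : G →* H) (hf : ∀ x ∈ P, f x = 1 → x = 1) {a b : G}
    (ha : a ∈ P) (hb : b ∈ P) (h : f a = f b) : a = b := by
  have h1 : f (a * b⁻¹) = 1 := by rw [map_mul, map_inv, h, mul_inv_cancel]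
  have := hf _ (P.mul_mem ha (P.inv_mem hb)) h1
  exact mul_inv_eq_one.1 this

lemma isMaxIn_comap {e : ℕ} {P : Subgroup G} (f : G →* H) (hf : ∀ x ∈ P, f x = 1 → x = 1)
    {B : Subgroup H} (hBP : B ≤ P.map f) (hB : IsAbExp e B) :
    (B.comap f ⊓ P) ≤ P ∧ IsAbExp e (B.comap f ⊓ P) ∧ (B.comap f ⊓ P).map f = B := by
  refine ⟨inf_le_right, ?_, ?_⟩
  · rw [isAbExp_iff]
    refine ⟨?_, ?_⟩
    · rintro a ⟨ha1, ha2⟩ b ⟨hb1, hb2⟩
      apply eq_of_map_eq f hf (P.mul_mem ha2 hb2) (P.mul_mem hb2 ha2)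
      rw [map_mul, map_mul]
      exact (isAbExp_iff.1 hB).1 _ ha1 _ hb1
    · rintro a ⟨ha1, ha2⟩
      apply hf _ (P.pow_mem ha2 e)
      rw [map_pow]
      exact (isAbExp_iff.1 hB).2 _ ha1
  · ext x
    constructor
    · rintro ⟨y, ⟨hy1, hy2⟩, rfl⟩
      exact hy1
    · intro hx
      obtain ⟨y, hy, rfl⟩ := hBP hx
      exact ⟨y, ⟨hx, hy⟩, rfl⟩

lemma isMaxIn_map {e : ℕ} {P A : Subgroup G} (f : G →* H) (hf : ∀ x ∈ P, f x = 1 → x = 1)
    (hA : IsMaxIn e P A) : IsMaxIn e (P.map f) (A.map f) := by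
  refine ⟨Subgroup.map_mono hA.1, hA.2.1.map f, ?_⟩
  intro B hBP hB
  obtain ⟨h1, h2, h3⟩ := isMaxIn_comap f hf hBP hB
  have h4 := hA.2.2 _ h1 h2
  rw [card_map_of_injOn A f (fun x hx => hf x (hA.1 hx))]
  have h5 := card_map_of_injOn (B.comap f ⊓ P) f (fun x hx => hf x hx.2)
  rw [h3] at h5
  rwa [h5]

lemma isMaxIn_of_map {e : ℕ} {P : Subgroup G} {B : Subgroup H} (f : G →* H)
    (hf : ∀ x ∈ P, f x = 1 → x = 1) (hB : IsMaxIn e (P.map f) B) :
    IsMaxIn e P (B.comap f ⊓ P) ∧ (B.comap f ⊓ P).map f = B := by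
  obtain ⟨h1, h2, h3⟩ := isMaxIn_comap f hf hB.1 hB.2.1
  refine ⟨⟨h1, h2, ?_⟩, h3⟩
  intro C hC hC'
  have h4 := hB.2.2 (C.map f) (Subgroup.map_mono hC) (hC'.map f)
  rw [card_map_of_injOn C f (fun x hx => hf x (hC hx))] at h4
  have h5 := card_map_of_injOn (B.comap f ⊓ P) f (fun x hx => hf x hx.2)
  rw [h3] at h5
  rwa [← h5]

lemma jOf_map_of_injOn {e : ℕ} (P : Subgroup G) (f : G →* H) (hf : ∀ x ∈ P, f x = 1 → x = 1) :
    (jOf e P).map f = jOf e (P.map f) := by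
  apply le_antisymm
  · rw [jOf, Subgroup.map_le_iff_le_comap]
    refine sSup_le ?_
    intro A hA
    rw [← Subgroup.map_le_iff_le_comap]
    exact (isMaxIn_map f hf hA).le_jOf
  · refine sSup_le ?_
    intro B hB
    obtain ⟨h1, h2⟩ := isMaxIn_of_map f hf hB
    rw [← h2]
    exact Subgroup.map_mono h1.le_jOf

lemma zjOf_map_of_injOn {e : ℕ} (P : Subgroup G) (f : G →* H) (hf : ∀ x ∈ P, f x = 1 → x = 1) :
    (zjOf e P).map f = zjOf e (P.map f) := by
  ext x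
  rw [mem_zjOf_iff, ← jOf_map_of_injOn P f hf]
  constructor
  · rintro ⟨y, hy, rfl⟩
    rw [SetLike.mem_coe, mem_zjOf_iff] at hy
    refine ⟨⟨y, hy.1, rfl⟩, ?_⟩
    rintro _ ⟨z, hz, rfl⟩
    rw [← map_mul, ← map_mul, hy.2 z hz]
  · rintro ⟨⟨y, hy, rfl⟩, h⟩
    refine ⟨y, ?_, rfl⟩
    rw [SetLike.mem_coe, mem_zjOf_iff]
    refine ⟨hy, ?_⟩
    intro z hz
    apply eq_of_map_eq f hf (P.mul_mem (jOf_le e P hz) (jOf_le e P hy))
      (P.mul_mem (jOf_le e P hy) (jOf_le e P hz))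
    rw [map_mul, map_mul]
    exact h _ ⟨z, hz, rfl⟩

end aux

/-- Let G be a solvable group of odd order, p a prime and S a Sylow p-subgroup of G. Then the subgroup generated by the centre of the Thompson subgroup of S and O_{p'}(G) is normal in G. -/
theorem result {G : Type*} [Group G] [Finite G] [Group.IsSolvable G] (hodd : Odd (Nat.card G)) (p : ℕ) [Fact p.Prime] (S : Sylow p G) :
    (Cfsg.centerThompsonOf p (S : Subgroup G) ⊔ Cfsg.pPrimeCore p G).Normal := by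
  classical
  by_cases hp : p = 2
  · subst hp
    have h1 : Cfsg.pPrimeCore 2 G = ⊤ := by
      rw [pPrimeCore_eq_top_iff, Nat.coprime_two_right]
      exact hodd
    rw [h1, sup_top_eq]
    infer_instance
  set N : Subgroup G := Cfsg.pPrimeCore p G with hN
  have hNn : N.Normal := Subgroup.normal_of_characteristic _
  let π : G →* G ⧸ N := QuotientGroup.mk' N
  have hπ : Function.Surjective π := QuotientGroup.mk'_surjective N
  have hf : ∀ x ∈ (S : Subgroup G), π x = 1 → x = 1 := by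
    intro x hx hx1
    have hxN : x ∈ N := (QuotientGroup.eq_one_iff x).1 hx1
    have h2 := inf_eq_bot_of_isPGroup_of_coprime (A := (S : Subgroup G)) (B := N) (p := p)
      S.isPGroup' (pPrimeCore_coprime)
    have h3 : x ∈ (S : Subgroup G) ⊓ N := ⟨hx, hxN⟩
    rw [h2] at h3
    simpa using h3
  let Sb : Sylow p (G ⧸ N) := S.mapSurjective hπ
  have hSb : (Sb : Subgroup (G ⧸ N)) = (S : Subgroup G).map π := Sylow.coe_mapSurjective hπ S
  have hoddX : Odd (Nat.card (G ⧸ N)) := Cfsg.Agent.Lib.OddOrder.PStable.odd_card_quotient N hodd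
  have hcore : Cfsg.pPrimeCore p (G ⧸ N) = ⊥ := pPrimeCore_quotient_eq_bot
  have : Group.IsSolvable (G ⧸ N) := inferInstance
  have hc := Cfsg.Agent.Lib.CaseTh.SolvableCharP.centralizer_pCore_le (X := G ⧸ N) p hcore
  have hnorm : (zjOf p (Sb : Subgroup (G ⧸ N))).Normal :=
    Cfsg.Agent.Lib.ZJStrong.ZJe.normal_zje hp hc
      (fun P _ hP => Cfsg.Agent.Lib.OddOrder.PStable.isPStableOn hp hoddX hP) Sb
  rw [hSb, ← zjOf_map_of_injOn _ π hf] at hnorm
  rw [centerThompsonOf_eq]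
  have hEq : zjOf p (S : Subgroup G) ⊔ N = ((zjOf p (S : Subgroup G)).map π).comap π := by
    rw [Subgroup.comap_map_eq, QuotientGroup.ker_mk']
  rw [hEq]
  exact Subgroup.Normal.comap hnorm π

end Cfsg.Agent.S1458
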