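import Cfsg.Statements.S1464
import Cfsg.Agent.Lib.OddOrder.PStable

set_option autoImplicit false
open Cfsg

namespace Cfsg.Agent.S1464

/-- Let p be an odd prime and G a solvable group of odd order, P a p-subgroup with O_{p'}(G)P normal in G, and A a p-subgroup of N_G(P) with [[P, A], A] = 1. Then the image of A in the quotient N_G(P)/C_G(P) is contained in the p-core of that quotient. -/
theorem result {G : Type*} [Group G] [Finite G] [Group.IsSolvable G] (hodd : Odd (Nat.card G)) (p : ℕ) [Fact p.Prime] (hp : p ≠ 2) (P A : Subgroup G) (hP : IsPGroup p P) (hPn : (Cfsg.pPrimeCore p G ⊔ P).Normal)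
    (hA : IsPGroup p A) (hAN : A ≤ Subgroup.normalizer (P : Set G)) (hquad : ⁅⁅P, A⁆, A⁆ = ⊥) :
    (A.subgroupOf (Subgroup.normalizer (P : Set G))).map
        (QuotientGroup.mk' ((Subgroup.centralizer (P : Set G)).subgroupOf (Subgroup.normalizer (P : Set G))))
      ≤ Cfsg.pCore p _ := by
  classical
  set N := Subgroup.normalizer (P : Set G) with hN
  set P' := P.subgroupOf N with hP'
  have hP'n : P'.Normal := Subgroup.normal_in_normalizer
  have hoddN : Odd (Nat.card N) := Odd.of_dvd_nat hodd (Subgroup.card_subgroup_dvd_card N)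
  have hP'p : IsPGroup p P' := hP.comap_of_injective N.subtype N.subtype_injective
  have hst := Cfsg.Agent.Lib.OddOrder.PStable.isPStableOn hp hoddN hP'p
  have hE : Subgroup.centralizer (P' : Set N) = (Subgroup.centralizer (P : Set G)).subgroupOf N := by
    ext x
    rw [Subgroup.mem_subgroupOf, Subgroup.mem_centralizer_iff, Subgroup.mem_centralizer_iff]
    constructor
    · intro h y hy
      have hyN : y ∈ N := Subgroup.le_normalizer hy
      exact congrArg Subtype.val (h ⟨y, hyN⟩ (Subgroup.mem_subgroupOf.2 hy))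
    · intro h y hy
      exact Subtype.ext (h y (Subgroup.mem_subgroupOf.1 hy))
  have key : ∀ (D : Subgroup N) [D.Normal], D = Subgroup.centralizer (P' : Set N) → ∀ a : N, (a : G) ∈ A →
      (QuotientGroup.mk a : N ⧸ D) ∈ Cfsg.pCore p (N ⧸ D) := by
    rintro D _ rfl a ha
    refine hst a ?_
    refine Cfsg.Agent.Lib.QuadAct.Stable.quadratic_zpowers_of_forall ?_ ?_
    · rw [Subgroup.normalizer_eq_top_iff.mpr hP'n]; exact Subgroup.mem_top _
    · intro v hv
      apply Subtype.ext
      have := Cfsg.Agent.Lib.QuadAct.Basic.comm_comm_eq_one_of_quadratic hquad (Subgroup.mem_subgroupOf.1 hv) ha ha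
      exact this
  rintro _ ⟨a, ha, rfl⟩
  exact key _ hE.symm a (Subgroup.mem_subgroupOf.1 ha)

end Cfsg.Agent.S1464
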