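import Cfsg.Statements.S1468
import Cfsg.Agent.Lib.Puig.Rel
import Cfsg.Agent.Lib.Core.Basic
import Cfsg.Agent.S1465
-- import your own Cfsg.Agent.* helpers here

set_option autoImplicit false
open Cfsg

namespace Cfsg.Agent.S1468


open Cfsg.Agent.Lib.Puig.Rel in
/-- Comparison of the Puig series of `S` and of `T = O_p(G)`. -/
theorem rel_seq_compare {G : Type*} [Group G] [Finite G] [Group.IsSolvable G]
    (hodd : Odd (Nat.card G)) (p : ℕ) [Fact p.Prime] (hp : p ≠ 2)
    (hO : Cfsg.pPrimeCore p G = ⊥) (S : Sylow p G) (n : ℕ) :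
    relSeq (S : Subgroup G) (2 * n) ≤ relSeq (Cfsg.pCore p G) (2 * n) ∧
      relSeq (Cfsg.pCore p G) (2 * n + 1) ≤ relSeq (S : Subgroup G) (2 * n + 1) := by
  have hTS : Cfsg.pCore p G ≤ (S : Subgroup G) :=
    Cfsg.Agent.Lib.Core.Basic.pCore_le_sylow S
  have hodd_step : ∀ k : ℕ, relSeq (S : Subgroup G) (2 * k) ≤ relSeq (Cfsg.pCore p G) (2 * k) →
      relSeq (Cfsg.pCore p G) (2 * k + 1) ≤ relSeq (S : Subgroup G) (2 * k + 1) := by
    intro k hk
    show relStep _ _ ≤ relStep _ _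
    apply sSup_le
    rintro A ⟨hAT, hA, hXA⟩
    exact le_relStep (hAT.trans hTS) hA (hk.trans hXA)
  induction n with
  | zero =>
    have h0 : relSeq (S : Subgroup G) (2 * 0) ≤ relSeq (Cfsg.pCore p G) (2 * 0) := by
      show relSeq _ 0 ≤ _
      rw [relSeq_zero]; exact bot_le
    exact ⟨h0, hodd_step 0 h0⟩
  | succ k ih =>
    have hTn : (Cfsg.pCore p G).Normal := Cfsg.pCore_normal p G
    have hTp : IsPGroup p (Cfsg.pCore p G) := Cfsg.Agent.Lib.Core.Basic.pCore_isPGroup
    set T := Cfsg.pCore p G with hT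
    set P := relSeq T (2 * k + 1) with hP
    have hPT : P ≤ T := relSeq_le T _
    haveI hPn : P.Normal := relSeq_normal hTn _
    have hPp : IsPGroup p P := hTp.to_le hPT
    let 𝒜 : Set (Subgroup G) := {A : Subgroup G | A ≤ (S : Subgroup G) ∧ IsMulCommutative A ∧
      relSeq (S : Subgroup G) (2 * k + 1) ≤ Subgroup.normalizer (A : Set G)}
    have hS𝒜 : ∀ B ∈ 𝒜, IsMulCommutative B ∧ IsPGroup p B ∧
        P ≤ Subgroup.normalizer (B : Set G) := by
      rintro B ⟨hBS, hB, hXB⟩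
      exact ⟨hB, S.isPGroup'.to_le hBS, ih.2.trans hXB⟩
    have hC : T ⊓ Subgroup.centralizer (P : Set G) ≤ P := by
      rintro x ⟨hxT, hxC⟩
      have h1 : Subgroup.zpowers x ≤ relStep T P := by
        apply le_relStep
        · rw [Subgroup.zpowers_le]; exact hxT
        · infer_instance
        · have h2 : P ≤ Subgroup.centralizer (Subgroup.zpowers x : Set G) := by
            have h4 : Subgroup.zpowers x ≤ Subgroup.centralizer (P : Set G) :=
              (Subgroup.zpowers_le (g := x)).mpr hxC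
            exact Subgroup.le_centralizer_iff.mp h4
          exact h2.trans (Subgroup.centralizer_le_normalizer _)
      have h3 : x ∈ relSeq T (2 * (k + 1)) := h1 (Subgroup.mem_zpowers x)
      exact relSeq_even_le_odd T (k + 1) k h3
    have hkey := (Cfsg.Agent.S1465.result hodd p hp P hPp 𝒜 hS𝒜).2 hO hC
    have h0 : relSeq (S : Subgroup G) (2 * (k + 1)) ≤ relSeq T (2 * (k + 1)) := by
      show relStep (S : Subgroup G) (relSeq (S : Subgroup G) (2 * k + 1)) ≤ relStep T P
      apply sSup_le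
      rintro A ⟨hAS, hA, hXA⟩
      have hAT : A ≤ T := (le_sSup (show A ∈ 𝒜 from ⟨hAS, hA, hXA⟩)).trans hkey
      exact le_relStep hAT hA (ih.2.trans hXA)
    exact ⟨h0, hodd_step _ h0⟩

open Cfsg.Agent.Lib.Puig.Rel in
theorem rel_chain {G : Type*} [Group G] [Finite G] [Group.IsSolvable G]
    (hodd : Odd (Nat.card G)) (p : ℕ) [Fact p.Prime] (hp : p ≠ 2)
    (hO : Cfsg.pPrimeCore p G = ⊥) (S : Sylow p G) :
    relLower (S : Subgroup G) ≤ relLower (Cfsg.pCore p G) ∧
      relLower (Cfsg.pCore p G) ≤ relUpper (Cfsg.pCore p G) ∧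
      relUpper (Cfsg.pCore p G) ≤ relUpper (S : Subgroup G) := by
  refine ⟨?_, relLower_le_relUpper _, ?_⟩
  · apply iSup_le
    intro n
    exact (rel_seq_compare hodd p hp hO S n).1.trans (relSeq_even_le_lower _ n)
  · apply le_iInf
    intro n
    exact (relUpper_le_odd _ n).trans (rel_seq_compare hodd p hp hO S n).2


/-- Let p be an odd prime, G a solvable group of odd order with O_{p'}(G) = 1, S a Sylow p-subgroup and T = O_p(G). Then, viewing the Puig subgroups of S and of T inside G, L_*(S) ≤ L_*(T) ≤ L(T) ≤ L(S). -/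
theorem result {G : Type*} [Group G] [Finite G] [Group.IsSolvable G] (hodd : Odd (Nat.card G)) (p : ℕ) [Fact p.Prime] (hp : p ≠ 2) (hO : Cfsg.pPrimeCore p G = ⊥) (S : Sylow p G) :
    (Cfsg.puigLower ↥(S : Subgroup G)).map (S : Subgroup G).subtype ≤ (Cfsg.puigLower ↥(Cfsg.pCore p G)).map (Cfsg.pCore p G).subtype ∧
      (Cfsg.puigLower ↥(Cfsg.pCore p G)).map (Cfsg.pCore p G).subtype ≤ (Cfsg.puigSubgroup ↥(Cfsg.pCore p G)).map (Cfsg.pCore p G).subtype ∧
      (Cfsg.puigSubgroup ↥(Cfsg.pCore p G)).map (Cfsg.pCore p G).subtype ≤ (Cfsg.puigSubgroup ↥(S : Subgroup G)).map (S : Subgroup G).subtype := by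
  have key := rel_chain (G := G) hodd p hp hO S
  simpa only [Cfsg.Agent.Lib.Puig.Rel.relLower_eq_map, Cfsg.Agent.Lib.Puig.Rel.relUpper_eq_map] using key

end Cfsg.Agent.S1468
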