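import Cfsg.Statements.S1469
import Cfsg.Agent.Lib.Puig.Rel
import Cfsg.Agent.Lib.Core.SylowFacts
import Cfsg.Agent.S1468
-- import your own Cfsg.Agent.* helpers here

set_option autoImplicit false
open Cfsg

namespace Cfsg.Agent.S1469


open Cfsg.Agent.Lib.Puig.Rel Cfsg.Agent.Lib.OddLocal.PStep Cfsg.Agent.Lib.Core.Basic
  Cfsg.Agent.Lib.Core.SylowFacts Cfsg.Agent.S1468

universe u

/-- The centre of `L(H)`, inside `G`. -/
def relZ {G : Type*} [Group G] (H : Subgroup G) : Subgroup G :=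
  relUpper H ⊓ Subgroup.centralizer (relUpper H : Set G)

theorem relZ_eq {G : Type*} [Group G] (S : Subgroup G) :
    ((Subgroup.center ↥(Cfsg.puigSubgroup ↥S)).map (Cfsg.puigSubgroup ↥S).subtype).map S.subtype
      = relZ S := by
  apply le_antisymm
  · rintro _ ⟨_, ⟨z, hz, rfl⟩, rfl⟩
    refine Subgroup.mem_inf.mpr ⟨?_, ?_⟩
    · rw [relUpper_eq_map]
      exact ⟨z, z.2, rfl⟩
    · rw [relUpper_eq_map, Subgroup.mem_centralizer_iff]
      rintro _ ⟨y, hy, rfl⟩
      have h := Subgroup.mem_center_iff.mp hz ⟨y, hy⟩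
      have h' := congrArg (fun w : ↥(Cfsg.puigSubgroup ↥S) => ((w : ↥S) : G)) h
      exact h'
  · rintro x ⟨hx, hxC⟩
    rw [relUpper_eq_map] at hx hxC
    obtain ⟨y, hy, rfl⟩ := hx
    refine ⟨y, ⟨⟨y, hy⟩, ?_, rfl⟩, rfl⟩
    show _ ∈ Subgroup.center _
    rw [Subgroup.mem_center_iff]
    rintro ⟨w, hw⟩
    have h1 := Subgroup.mem_centralizer_iff.mp hxC (S.subtype w) ⟨w, hw, rfl⟩
    apply Subtype.ext
    apply Subtype.ext
    exact h1

theorem relZ_map {G G' : Type*} [Group G] [Group G'] (f : G →* G') (H : Subgroup G)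
    (hf : Function.Injective (f.comp H.subtype)) : (relZ H).map f = relZ (H.map f) := by
  apply le_antisymm
  · rintro _ ⟨x, ⟨hxL, hxC⟩, rfl⟩
    refine Subgroup.mem_inf.mpr ⟨?_, ?_⟩
    · rw [← map_relUpper f H hf]
      exact ⟨x, hxL, rfl⟩
    · rw [← map_relUpper f H hf, Subgroup.mem_centralizer_iff]
      rintro _ ⟨y, hy, rfl⟩
      rw [← map_mul, ← map_mul, Subgroup.mem_centralizer_iff.mp hxC y hy]
  · rintro y ⟨hy, hyC⟩
    rw [← map_relUpper f H hf] at hy hyC
    obtain ⟨x, hx, rfl⟩ := hy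
    refine ⟨x, Subgroup.mem_inf.mpr ⟨hx, ?_⟩, rfl⟩
    rw [Subgroup.mem_centralizer_iff]
    intro z hz
    have h1 := Subgroup.mem_centralizer_iff.mp hyC (f z) ⟨z, hz, rfl⟩
    rw [← map_mul, ← map_mul] at h1
    have hxH : x ∈ H := relUpper_le H hx
    have hzH : z ∈ H := relUpper_le H hz
    have h2 : (f.comp H.subtype) (⟨z, hzH⟩ * ⟨x, hxH⟩) = (f.comp H.subtype) (⟨x, hxH⟩ * ⟨z, hzH⟩) := h1
    have h3 := hf h2
    exact congrArg Subtype.val h3

theorem conj_mem_relUpper {G : Type*} [Group G] (H : Subgroup G) {g x : G}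
    (hg : g ∈ Subgroup.normalizer (H : Set G)) (hx : x ∈ relUpper H) :
    g * x * g⁻¹ ∈ relUpper H := by
  rw [relUpper, Subgroup.mem_iInf] at hx ⊢
  intro i
  exact conj_mem_relSeq H _ g hg x (hx i)

theorem conj_mem_relZ {G : Type*} [Group G] (H : Subgroup G) {g x : G}
    (hg : g ∈ Subgroup.normalizer (H : Set G)) (hx : x ∈ relZ H) :
    g * x * g⁻¹ ∈ relZ H := by
  refine Subgroup.mem_inf.mpr ⟨conj_mem_relUpper H hg hx.1, ?_⟩
  rw [Subgroup.mem_centralizer_iff]
  intro y hy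
  have hy' : g⁻¹ * y * g⁻¹⁻¹ ∈ relUpper H := conj_mem_relUpper H (inv_mem hg) hy
  have h1 := Subgroup.mem_centralizer_iff.mp hx.2 _ hy'
  have h2 : g * (g⁻¹ * y * g⁻¹⁻¹ * x) * g⁻¹ = g * (x * (g⁻¹ * y * g⁻¹⁻¹)) * g⁻¹ := by rw [h1]
  calc y * (g * x * g⁻¹) = g * (g⁻¹ * y * g⁻¹⁻¹ * x) * g⁻¹ := by group
    _ = g * (x * (g⁻¹ * y * g⁻¹⁻¹)) * g⁻¹ := h2
    _ = g * x * g⁻¹ * y := by group

theorem relZ_normal_of_normal {G : Type*} [Group G] {H : Subgroup G} (hH : H.Normal) :
    (relZ H).Normal :=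
  ⟨fun x hx g => conj_mem_relZ H (mem_normalizer_of_normal hH g) hx⟩

theorem relZ_comm {G : Type*} [Group G] (H : Subgroup G) : IsMulCommutative (relZ H) := by
  rw [subgroup_comm_iff]
  intro a ha b hb
  exact (Subgroup.mem_centralizer_iff.mp ha.2 b hb.1).symm

theorem relZ_le_relLower {G : Type*} [Group G] [Finite G] (H : Subgroup G) : relZ H ≤ relLower H := by
  intro x hx
  have h1 : Subgroup.zpowers x ≤ relStep H (relUpper H) := by
    apply le_relStep
    · rw [Subgroup.zpowers_le]; exact relUpper_le H hx.1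
    · infer_instance
    · have h4 : Subgroup.zpowers x ≤ Subgroup.centralizer (relUpper H : Set G) :=
        (Subgroup.zpowers_le (g := x)).mpr hx.2
      exact (Subgroup.le_centralizer_iff.mp h4).trans (Subgroup.centralizer_le_normalizer _)
  rw [relStep_relUpper] at h1
  exact h1 (Subgroup.mem_zpowers x)

theorem relZ_normal_of_core (p : ℕ) [Fact p.Prime] (hp : p ≠ 2) :
    ∀ (n : ℕ) (G : Type u) [Group G] [Finite G] [Group.IsSolvable G], Nat.card G = n → Odd n →
      Cfsg.pPrimeCore p G = ⊥ → ∀ S : Sylow p G, (relZ (S : Subgroup G)).Normal := by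
  intro n
  induction n using Nat.strong_induction_on with
  | _ n ih =>
  intro G _ _ _ hn hodd hO S
  subst hn
  set L := relUpper (S : Subgroup G) with hL
  set M := relLower (S : Subgroup G) with hM
  by_cases hcase : ∃ G₃ : Subgroup G, G₃.Normal ∧ G₃ ≠ ⊤ ∧ L ≤ G₃
  · obtain ⟨G₃, hG₃n, hG₃, hLG₃⟩ := hcase
    haveI := hG₃n
    let S₁' : Sylow p ↥G₃ := sylowOfNormal S G₃
    have hS₁ : (S₁' : Subgroup G₃).map G₃.subtype = (S : Subgroup G) ⊓ G₃ :=
      map_sylowOfNormal S G₃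
    have hcard : Nat.card G₃ < Nat.card G :=
      lt_of_not_ge (fun h => hG₃ (Subgroup.eq_top_of_le_card _ h))
    have hodd3 : Odd (Nat.card G₃) := Odd.of_dvd_nat hodd (Subgroup.card_subgroup_dvd_card _)
    have hO3 : Cfsg.pPrimeCore p G₃ = ⊥ := by
      have h1 := map_pPrimeCore_le_of_isSubnormal (p := p) (Subgroup.Normal.isSubnormal hG₃n)
      rw [hO, le_bot_iff, Subgroup.map_eq_bot_iff_of_injective _ G₃.subtype_injective] at h1
      exact h1
    have hZ' := ih _ hcard G₃ rfl hodd3 hO3 S₁'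
    have hrel := relLower_relUpper_of_le (S := (S : Subgroup G)) (S₁ := (S : Subgroup G) ⊓ G₃)
      inf_le_left (le_inf (relUpper_le _) hLG₃)
    have hZS : relZ ((S : Subgroup G) ⊓ G₃) = relZ (S : Subgroup G) := by
      unfold relZ
      rw [hrel.2]
    have hZ : (relZ (S₁' : Subgroup G₃)).map G₃.subtype = relZ (S : Subgroup G) := by
      rw [relZ_map _ _ (G₃.subtype_injective.comp (Subgroup.subtype_injective _)), hS₁, hZS]
    have hG₃N : G₃ ≤ Subgroup.normalizer (relZ (S : Subgroup G) : Set G) := by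
      rw [Subgroup.le_normalizer_iff]
      intro a ha x hx
      rw [← hZ] at hx ⊢
      obtain ⟨y, hy, rfl⟩ := hx
      exact ⟨⟨a, ha⟩ * y * ⟨a, ha⟩⁻¹, hZ'.conj_mem y hy ⟨a, ha⟩, by simp⟩
    have hNN : Subgroup.normalizer (((S₁' : Subgroup G₃).map G₃.subtype : Subgroup G) : Set G) ≤
        Subgroup.normalizer (relZ (S : Subgroup G) : Set G) := by
      rw [Subgroup.le_normalizer_iff]
      intro g hg x hx
      rw [hS₁] at hg
      rw [← hZS] at hx ⊢
      exact conj_mem_relZ _ hg hx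
    have hF := Sylow.normalizer_sup_eq_top S₁'
    have htop : Subgroup.normalizer (relZ (S : Subgroup G) : Set G) = ⊤ := by
      rw [eq_top_iff, ← hF]
      exact sup_le hNN hG₃N
    refine ⟨fun x hx g => ?_⟩
    have hg : g ∈ Subgroup.normalizer (relZ (S : Subgroup G) : Set G) := by
      rw [htop]; trivial
    exact (Subgroup.mem_normalizer_iff.mp hg x).1 hx
  · have hcase' : ∀ G₃ : Subgroup G, G₃.Normal → L ≤ G₃ → G₃ = ⊤ :=
      fun G₃ h1 h2 => by_contra (fun h => hcase ⟨G₃, h1, h, h2⟩)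
    have hTn : (Cfsg.pCore p G).Normal := Cfsg.pCore_normal p G
    have hTp : IsPGroup p (Cfsg.pCore p G) := pCore_isPGroup
    have hTS : Cfsg.pCore p G ≤ (S : Subgroup G) := pCore_le_sylow S
    obtain ⟨hc1, hc2, hc3⟩ := rel_chain (G := G) hodd p hp hO S
    set T := Cfsg.pCore p G with hT
    have hZ₀M : relZ (S : Subgroup G) ≤ M := relZ_le_relLower _
    have hZ₀LT : relZ (S : Subgroup G) ≤ relUpper T := hZ₀M.trans (hc1.trans hc2)
    have hZ₀ZT : relZ (S : Subgroup G) ≤ relZ T := by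
      intro x hx
      refine Subgroup.mem_inf.mpr ⟨hZ₀LT hx, ?_⟩
      rw [Subgroup.mem_centralizer_iff]
      intro y hy
      exact Subgroup.mem_centralizer_iff.mp hx.2 y (hc3 hy)
    haveI hPn : (relZ T).Normal := relZ_normal_of_normal hTn
    have hPT : relZ T ≤ T := inf_le_left.trans (relUpper_le T)
    have hPp : IsPGroup p (relZ T) := hTp.to_le hPT
    have hPM : relZ T ≤ M := by
      have h1 : relZ T ≤ relStep (S : Subgroup G) (relUpper (S : Subgroup G)) := by
        apply le_relStep (hPT.trans hTS) (relZ_comm T)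
        rw [Subgroup.le_normalizer_iff]
        intro g _ x hx
        exact hPn.conj_mem x hx g
      rwa [relStep_relUpper] at h1
    let 𝒜 : Set (Subgroup G) := {A : Subgroup G | A ≤ (S : Subgroup G) ∧ IsMulCommutative A ∧
      M ≤ Subgroup.normalizer (A : Set G)}
    have hS𝒜 : ∀ B ∈ 𝒜, IsMulCommutative B ∧ IsPGroup p B ∧
        relZ T ≤ Subgroup.normalizer (B : Set G) := by
      rintro B ⟨hBS, hB, hXB⟩
      exact ⟨hB, S.isPGroup'.to_le hBS, hPM.trans hXB⟩
    have h1 := (Cfsg.Agent.S1465.result hodd p hp (relZ T) hPp 𝒜 hS𝒜).1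
    have hsSup : sSup 𝒜 = L := relStep_relLower (S : Subgroup G)
    rw [hsSup] at h1
    set C := Subgroup.centralizer (relZ T : Set G) with hC
    -- every normal subgroup of `G / C` containing the image of `L` is everything
    have hnorm : ∀ K : Subgroup (G ⧸ C), K.Normal → L.map (QuotientGroup.mk' C) ≤ K → K = ⊤ := by
      intro K hK hLK
      have h2 := hcase' (K.comap (QuotientGroup.mk' C)) (hK.comap _)
        (Subgroup.map_le_iff_le_comap.mp hLK)
      rw [eq_top_iff]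
      intro y _
      obtain ⟨x, rfl⟩ := QuotientGroup.mk'_surjective C y
      have : x ∈ K.comap (QuotientGroup.mk' C) := by rw [h2]; trivial
      exact this
    have hQtop : Cfsg.pCore p (G ⧸ C) = ⊤ := hnorm _ (Cfsg.pCore_normal p _) h1
    have hQp : IsPGroup p (G ⧸ C) := by
      have h3 : IsPGroup p (Cfsg.pCore p (G ⧸ C)) := pCore_isPGroup
      rw [hQtop] at h3
      intro y
      obtain ⟨k, hk⟩ := h3 ⟨y, trivial⟩
      refine ⟨k, ?_⟩
      simpa using congrArg Subtype.val hk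
    have hLtop : L.map (QuotientGroup.mk' C) = ⊤ := by
      rcases eq_top_or_exists_le_coatom (L.map (QuotientGroup.mk' C)) with h | ⟨K, hKc, hLK⟩
      · exact h
      · exfalso
        haveI : Group.IsNilpotent (G ⧸ C) := hQp.isNilpotent
        have hnc := normalizerCondition_of_isNilpotent (G := G ⧸ C)
        have hK1 : K < Subgroup.normalizer (K : Set (G ⧸ C)) := hnc K hKc.lt_top
        have hK2 : Subgroup.normalizer (K : Set (G ⧸ C)) = ⊤ := hKc.2 _ hK1
        have hKn : K.Normal := Subgroup.normalizer_eq_top_iff.mp hK2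
        exact hKc.1 (hnorm K hKn hLK)
    have hcent : ∀ g : G, ∀ z ∈ relZ (S : Subgroup G), g * z * g⁻¹ = z := by
      intro g z hz
      have hgm : QuotientGroup.mk' C g ∈ L.map (QuotientGroup.mk' C) := by rw [hLtop]; trivial
      obtain ⟨l, hl, hlg⟩ := hgm
      have hc : l⁻¹ * g ∈ C := by
        rw [← QuotientGroup.eq]
        exact hlg
      obtain ⟨c, hcC, rfl⟩ : ∃ c ∈ C, g = l * c := ⟨l⁻¹ * g, hc, by group⟩
      have h5 : c * z = z * c := (Subgroup.mem_centralizer_iff.mp hcC z (hZ₀ZT hz)).symm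
      have h6 : l * z = z * l := Subgroup.mem_centralizer_iff.mp hz.2 l hl
      calc l * c * z * (l * c)⁻¹ = l * (c * z) * c⁻¹ * l⁻¹ := by group
        _ = l * (z * c) * c⁻¹ * l⁻¹ := by rw [h5]
        _ = (l * z) * l⁻¹ := by group
        _ = z := by rw [h6]; group
    refine ⟨fun x hx g => ?_⟩
    rw [hcent g x hx]
    exact hx


/-- Let p be an odd prime, G a solvable group of odd order and S a Sylow p-subgroup, and let Z be the centre of the Puig subgroup L(S), viewed inside G. Then G is generated by O_{p'}(G) and N_G(Z); and if O_{p'}(G) = 1 then Z is normal in G. -/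
theorem result {G : Type*} [Group G] [Finite G] [Group.IsSolvable G] (hodd : Odd (Nat.card G)) (p : ℕ) [Fact p.Prime] (hp : p ≠ 2) (S : Sylow p G) :
    Cfsg.pPrimeCore p G ⊔ Subgroup.normalizer ((((Subgroup.center ↥(Cfsg.puigSubgroup ↥(S : Subgroup G))).map (Cfsg.puigSubgroup ↥(S : Subgroup G)).subtype).map (S : Subgroup G).subtype : Subgroup G) : Set G) = ⊤ ∧
      (Cfsg.pPrimeCore p G = ⊥ → (((Subgroup.center ↥(Cfsg.puigSubgroup ↥(S : Subgroup G))).map (Cfsg.puigSubgroup ↥(S : Subgroup G)).subtype).map (S : Subgroup G).subtype).Normal) := by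
  rw [relZ_eq]
  haveI : Finite (G ⧸ Cfsg.pPrimeCore p G) := inferInstance
  have hO' : Cfsg.pPrimeCore p G = ⊥ → (relZ (S : Subgroup G)).Normal := fun hO =>
    relZ_normal_of_core p hp _ G rfl hodd hO S
  refine ⟨?_, hO'⟩
  set K := Cfsg.pPrimeCore p G with hK
  haveI hKn : K.Normal := Cfsg.pPrimeCore_normal p G
  have hKc : (Nat.card K).Coprime p := pPrimeCore_coprime
  set f : G →* G ⧸ K := QuotientGroup.mk' K with hf
  have hfs : Function.Surjective f := QuotientGroup.mk'_surjective K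
  have hSK : (S : Subgroup G) ⊓ K = ⊥ :=
    inf_eq_bot_of_isPGroup_of_coprime S.isPGroup' hKc
  have hinj : Function.Injective (f.comp (S : Subgroup G).subtype) := by
    rw [injective_iff_map_eq_one]
    rintro ⟨x, hx⟩ hx1
    have hxK : x ∈ K := by
      have : f x = 1 := hx1
      rwa [hf, QuotientGroup.mk'_apply, QuotientGroup.eq_one_iff] at this
    have : x ∈ (S : Subgroup G) ⊓ K := ⟨hx, hxK⟩
    rw [hSK] at this
    exact Subtype.ext this
  let S' : Sylow p (G ⧸ K) := S.mapSurjective hfs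
  have hS' : (S' : Subgroup (G ⧸ K)) = (S : Subgroup G).map f := rfl
  have hoddQ : Odd (Nat.card (G ⧸ K)) := Odd.of_dvd_nat hodd (Subgroup.card_quotient_dvd_card K)
  have hZ' : (relZ (S' : Subgroup (G ⧸ K))).Normal :=
    relZ_normal_of_core p hp _ (G ⧸ K) rfl hoddQ pPrimeCore_quotient_eq_bot S'
  have hZmap : relZ (S' : Subgroup (G ⧸ K)) = (relZ (S : Subgroup G)).map f := by
    rw [hS', relZ_map f _ hinj]
  set Z₀ := relZ (S : Subgroup G) with hZ₀
  have hZ₀S : Z₀ ≤ (S : Subgroup G) := inf_le_left.trans (relUpper_le _)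
  have hZ₀p : IsPGroup p Z₀ := S.isPGroup'.to_le hZ₀S
  have hEeq : (Z₀.map f).comap f = Z₀ ⊔ K := by
    rw [Subgroup.comap_map_eq, hf, QuotientGroup.ker_mk']
  haveI hEn : (K ⊔ Z₀ : Subgroup G).Normal := by
    have h1 : (K ⊔ Z₀ : Subgroup G) = (Z₀.map f).comap f := by rw [hEeq, sup_comm]
    rw [h1]
    rw [← hZmap]
    exact hZ'.comap f
  have hZ₀K : K ⊓ Z₀ = ⊥ := by
    apply le_antisymm _ bot_le
    rw [← hSK]
    exact le_inf (inf_le_right.trans hZ₀S) inf_le_left
  have hcard : Nat.card K * Nat.card Z₀ = Nat.card (K ⊔ Z₀ : Subgroup G) :=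
    Cfsg.Agent.Lib.Coprime.Action.card_sup_of_le_normalizer
      (fun x _ => mem_normalizer_of_normal hKn x) hZ₀K
  have hSyl : Cfsg.Agent.Lib.Coprime.Action.IsSylowIn p Z₀ (K ⊔ Z₀) := by
    refine ⟨le_sup_right, hZ₀p, ?_⟩
    have h2 := Cfsg.Agent.Lib.Coprime.Action.card_eq_card_mul_relIndex
      (H := Z₀) (K := K ⊔ Z₀) le_sup_right
    rw [← hcard, mul_comm] at h2
    have h3 : Nat.card K = Z₀.relIndex (K ⊔ Z₀) :=
      Nat.eq_of_mul_eq_mul_left Nat.card_pos h2
    rw [← h3]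
    intro hpd
    have := Nat.Coprime.coprime_dvd_left hpd hKc
    exact (Fact.out : p.Prime).one_lt.ne' (by simpa using this)
  obtain ⟨P, hP⟩ := Cfsg.Agent.Lib.Coprime.Action.exists_sylow_of_isSylowIn hSyl
  have hF := Sylow.normalizer_sup_eq_top P
  rw [hP] at hF
  rw [eq_top_iff, ← hF]
  apply sup_le le_sup_right
  apply sup_le le_sup_left
  refine le_trans ?_ le_sup_right
  rw [Subgroup.le_normalizer_iff]
  intro a ha x hx
  exact mul_mem (mul_mem ha hx) (inv_mem ha)

end Cfsg.Agent.S1469
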