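import Cfsg.Statements.S1524
import Cfsg.Agent.Lib.Sibley.Main

set_option autoImplicit false
open Cfsg

namespace Cfsg.Agent.S1524

/-- Let G be a finite group and H ≤ L subgroups with L of odd order, H ≠ ⊥ nilpotent and normal in L with a nontrivial complement W₁ in L (H ⊓ W₁ = ⊥, H ⊔ W₁ = L) acting on H without non-identity fixed points (L is a Frobenius group with kernel H), and suppose the underlying set of H is a TI-subset of G whose normaliser is L. Let S be the set of functions on L induced from the non-principal irreducible characters of H. Then (S, L minus 1, induction to G) is coherent. -/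
theorem result {G : Type*} [Group G] [Fintype G] (H L W₁ : Subgroup G) [Fintype L] (hodd : Odd (Nat.card L)) (hHL : H ≤ L) (hW₁L : W₁ ≤ L) (hH1 : H ≠ ⊥) (hW1 : W₁ ≠ ⊥) (hnil : Group.IsNilpotent H) (hHn : ∀ x ∈ L, ∀ h ∈ H, x * h * x⁻¹ ∈ H) (hinf : H ⊓ W₁ = ⊥) (hsup : H ⊔ W₁ = L) (hfpf : ∀ w ∈ W₁, w ≠ 1 → ∀ h ∈ H, w * h = h * w → h = 1) (hTI : Cfsg.IsTISubset (H : Set G)) (hN : Subgroup.normalizer (H : Set G) = L) : Cfsg.IsCoherent (Cfsg.inducedIrrAbove (H.subgroupOf L) ⊥) {1}ᶜ (fun α : L → ℂ => Cfsg.indFun L α) := by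
  classical
  have hK := Cfsg.Agent.Lib.Sibley.Main.normal_subgroupOf hHn
  have hC := Cfsg.Agent.Lib.Sibley.Main.centralizer_le_of_fpf hHL hW₁L hHn hsup hfpf
  refine Cfsg.Agent.Lib.Sibley.Main.sibley hodd hHL hH1 ?_ hK hC hTI hN
  intro hle
  obtain ⟨w, hw, hw1⟩ := (Subgroup.ne_bot_iff_exists_ne_one.mp hW1 : ∃ w : W₁, w ≠ 1) |>.imp (fun x hx => hx) |> fun ⟨x, hx⟩ =>
    (⟨x.1, x.2, fun e => hx (Subtype.ext e)⟩ : ∃ y, y ∈ W₁ ∧ y ≠ 1)
  have h1 : w ∈ H ⊓ W₁ := Subgroup.mem_inf.mpr ⟨hle (hW₁L hw), hw⟩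
  rw [hinf, Subgroup.mem_bot] at h1
  exact hw1 h1

end Cfsg.Agent.S1524
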