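import Cfsg.Statements.S1533
import Cfsg.Agent.Lib.Coh.SibleyMain

set_option autoImplicit false
open Cfsg

namespace Cfsg.Agent.S1533

/-- Let G be a finite group, p an odd prime, and P a nontrivial Sylow p-subgroup whose underlying set is a TI-subset of G, with P properly contained in its set normaliser N and C_G(x) ≤ P for every non-identity x ∈ P. Let S be the set of irreducible characters χ of N with χ x ≠ χ 1 for some x ∈ P. Then either S has exactly one member, P is elementary abelian and Nat.card P = [N:P] + 1; or (S, N minus 1, induction to G) is coherent. -/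
theorem result {G : Type*} [Group G] [Fintype G] (p : ℕ) [Fact p.Prime] (hp : p ≠ 2) (P : Sylow p G) (hP1 : (P : Subgroup G) ≠ ⊥) (hTI : Cfsg.IsTISubset ((P : Subgroup G) : Set G)) (hlt : (P : Subgroup G) < Subgroup.normalizer ((P : Subgroup G) : Set G)) (hC : ∀ k ∈ (P : Subgroup G), k ≠ 1 → Subgroup.centralizer ({k} : Set G) ≤ (P : Subgroup G)) [Fintype ↥(Subgroup.normalizer ((P : Subgroup G) : Set G))] : (Nat.card {χ : ↥(Subgroup.normalizer ((P : Subgroup G) : Set G)) → ℂ // Cfsg.IsIrrCharacter ↥(Subgroup.normalizer ((P : Subgroup G) : Set G)) χ ∧ ∃ x : ↥(Subgroup.normalizer ((P : Subgroup G) : Set G)), (x : G) ∈ (P : Subgroup G) ∧ χ x ≠ χ 1} = 1 ∧ Cfsg.IsElementaryAbelian p (P : Subgroup G) ∧ Nat.card (P : Subgroup G) = ((P : Subgroup G).subgroupOf (Subgroup.normalizer ((P : Subgroup G) : Set G))).index + 1) ∨ Cfsg.IsCoherent {χ : ↥(Subgroup.normalizer ((P : Subgroup G) : Set G)) → ℂ | Cfsg.IsIrrCharacter ↥(Subgroup.normalizer ((P : Subgroup G) : Set G)) χ ∧ ∃ x : ↥(Subgroup.normalizer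 ((P : Subgroup G) : Set G)), (x : G) ∈ (P : Subgroup G) ∧ χ x ≠ χ 1} {1}ᶜ (fun α => Cfsg.indFun (Subgroup.normalizer ((P : Subgroup G) : Set G)) α) := by
  classical
  by_cases hab : IsMulCommutative (P : Subgroup G)
  · by_cases he : Nat.card (P : Subgroup G) =
        ((P : Subgroup G).subgroupOf (Subgroup.normalizer ((P : Subgroup G) : Set G))).index + 1
    · left
      obtain ⟨h1, h2, q, hq, hqd, h3⟩ := Cfsg.Agent.Lib.Coh.SibleyMain.card_case hP1 hC he
      refine ⟨?_, ⟨h2, ?_⟩, he⟩
      · rw [Nat.card_congr (Equiv.subtypeEquivRight fun χ =>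
          (Cfsg.Agent.Lib.CharDeep.TIFNRel.mem_nontrivOn_iff (K := (P : Subgroup G))).symm)]
        rw [Nat.card_eq_fintype_card, Fintype.card_coe]
        exact h1
      · have hqp : q = p := by
          obtain ⟨m, hm⟩ := (P.isPGroup' : IsPGroup p (P : Subgroup G)).exists_card_eq
          rw [hm] at hqd
          exact (Nat.prime_dvd_prime_iff_eq hq Fact.out).mp (hq.dvd_of_dvd_pow hqd)
        subst hqp
        exact h3
    · right
      rcases Cfsg.Agent.Lib.Coh.SibleyMain.feit_case hP1 hlt hTI hC he with h | ⟨q, -, -, h, -⟩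
      · rw [Cfsg.Agent.Lib.CharDeep.TIFNRel.set_eq rfl]
        exact h
      · exact absurd hab h
  · right
    rw [Cfsg.Agent.Lib.CharDeep.TIFNRel.set_eq rfl]
    exact Cfsg.Agent.Lib.Coh.Sibley.coherent_nonabelian P hp hab hTI hC

end Cfsg.Agent.S1533
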