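import Cfsg.Statements.S1534
import Cfsg.Agent.Lib.Coh.SibleyMain

set_option autoImplicit false
open Cfsg

namespace Cfsg.Agent.S1534

/-- Let G be a finite group and K a nontrivial nilpotent subgroup whose underlying set is a TI-subset of G, properly contained in its set normaliser N, with C_G(k) ≤ K for every non-identity k ∈ K; let e be the index of K in N and S the set of irreducible characters χ of N with χ k ≠ χ 1 for some k ∈ K. Then one of: S has exactly one member, Nat.card K = e + 1 and K is an elementary abelian p-group for some prime p; or K is a Sylow 2-subgroup of G (Nat.card K is the largest power of 2 dividing Nat.card G) and [K : [K,K]] < 4e²; or (S, N minus 1, induction to G) is coherent. -/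
theorem result {G : Type*} [Group G] [Fintype G] (K : Subgroup G) (hK1 : K ≠ ⊥) (hnil : Group.IsNilpotent K) (hTI : Cfsg.IsTISubset (K : Set G)) (hlt : K < Subgroup.normalizer (K : Set G)) (hC : ∀ k ∈ K, k ≠ 1 → Subgroup.centralizer ({k} : Set G) ≤ K) [Fintype ↥(Subgroup.normalizer (K : Set G))] : (Nat.card {χ : ↥(Subgroup.normalizer (K : Set G)) → ℂ // Cfsg.IsIrrCharacter ↥(Subgroup.normalizer (K : Set G)) χ ∧ ∃ k : ↥(Subgroup.normalizer (K : Set G)), (k : G) ∈ K ∧ χ k ≠ χ 1} = 1 ∧ Nat.card K = (K.subgroupOf (Subgroup.normalizer (K : Set G))).index + 1 ∧ ∃ p : ℕ, p.Prime ∧ Cfsg.IsElementaryAbelian p K) ∨ (Nat.card K = 2 ^ (Nat.card G).factorization 2 ∧ (⁅K, K⁆.subgroupOf K).index < 4 * (K.subgroupOf (Subgroup.normalizer (K : Set G))).index ^ 2) ∨ Cfsg.IsCoherent {χ : ↥(Subgroup.normalizer (K : Set G)) → ℂ | Cfsg.IsIrrCharacter ↥(Subgroup.normalizer (K : Set G)) χ ∧ ∃ k : ↥(Subgroup.normalizer (K : Set G)), (k : G) ∈ K ∧ χ k ≠ χ 1} {1}ᶜ (fun α => Cfsg.indFun (Subgroup.normalizer (K : Set G)) α) := by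
  classical
  by_cases he : Nat.card K = (K.subgroupOf (Subgroup.normalizer (K : Set G))).index + 1
  · left
    obtain ⟨h1, h2, q, hq, hqd, h3⟩ := Cfsg.Agent.Lib.Coh.SibleyMain.card_case hK1 hC he
    refine ⟨?_, he, q, hq, h2, h3⟩
    rw [Nat.card_congr (Equiv.subtypeEquivRight fun χ =>
      (Cfsg.Agent.Lib.CharDeep.TIFNRel.mem_nontrivOn_iff (K := K)).symm)]
    rw [Nat.card_eq_fintype_card, Fintype.card_coe]
    exact h1
  · rcases Cfsg.Agent.Lib.Coh.SibleyMain.feit_case hK1 hlt hTI hC he with h | ⟨q, hq, ⟨m, hm⟩, hab, hidx⟩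
    · right
      right
      rw [Cfsg.Agent.Lib.CharDeep.TIFNRel.set_eq rfl]
      exact h
    · haveI : Fact q.Prime := ⟨hq⟩
      have hKp : IsPGroup q K := IsPGroup.of_card hm
      obtain ⟨Q, rfl⟩ := Cfsg.Agent.Lib.Coh.SibleyMain.exists_sylow_eq hKp hK1 hC
      by_cases hq2 : q = 2
      · subst hq2
        right
        left
        have hcard : Nat.card (Q : Subgroup G) = 2 ^ (Nat.card G).factorization 2 :=
          Q.card_eq_multiplicity
        refine ⟨hcard, ?_⟩
        rw [Cfsg.Agent.Lib.Coh.SibleyMain.commutator_subgroupOf]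
        set e := ((Q : Subgroup G).subgroupOf
          (Subgroup.normalizer ((Q : Subgroup G) : Set G))).index with he_def
        have hidx2 : (commutator (Q : Subgroup G)).index ∣ 2 ^ m := by
          rw [← hm]
          exact Subgroup.index_dvd_card _
        obtain ⟨r, -, hr⟩ := (Nat.dvd_prime_pow Nat.prime_two).mp hidx2
        rw [hr] at hidx ⊢
        have he1 : 1 < e := by
          have h0 : e ≠ 0 := by
            rw [he_def]
            exact Subgroup.index_ne_zero_of_finite
          have h1 : e ≠ 1 := by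
            rw [he_def, Ne, Subgroup.index_eq_one]
            exact Cfsg.Agent.Lib.Coh.SibleyMain.subgroupOf_ne_top hlt
          omega
        have heo : Odd e := by
          rw [← Nat.not_even_iff_odd, even_iff_two_dvd]
          intro h2
          have h3 : Nat.card (Q : Subgroup G) * e ∣ Nat.card G := by
            have h4 : Nat.card ((Q : Subgroup G).subgroupOf
                (Subgroup.normalizer ((Q : Subgroup G) : Set G))) * e =
                Nat.card (Subgroup.normalizer ((Q : Subgroup G) : Set G)) :=
              Subgroup.card_mul_index _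
            rw [Cfsg.Agent.Lib.Coh.SylowCentral.card_subgroupOf] at h4
            rw [h4]
            exact Subgroup.card_subgroup_dvd_card _
          have h5 : 2 ^ ((Nat.card G).factorization 2 + 1) ∣ Nat.card G := by
            refine dvd_trans ?_ h3
            rw [hcard, pow_succ]
            exact mul_dvd_mul_left _ h2
          exact Nat.pow_succ_factorization_not_dvd Nat.card_pos.ne' Nat.prime_two h5
        exact Cfsg.Agent.Lib.Coh.SibleyMain.two_arith he1 heo hidx
      · right
        right
        rw [Cfsg.Agent.Lib.CharDeep.TIFNRel.set_eq rfl]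
        exact Cfsg.Agent.Lib.Coh.Sibley.coherent_nonabelian Q hq2 hab hTI hC

end Cfsg.Agent.S1534
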