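import Cfsg.Statements.S1617
import Cfsg.Agent.Lib.Rank3Case.Contra
import Cfsg.Agent.Lib.OddTransCore.VSys
import Cfsg.Agent.Lib.OddTransCore.Reduce
-- import your own Cfsg.Agent.* helpers here

set_option autoImplicit false
open Cfsg

namespace Cfsg.Agent.S1617

/-- A generating conjugacy class of involutions on which the group (with trivial solvable radical) acts with rank 3 is a class of 3-transpositions. -/
theorem result {G : Type*} [Group G] [Finite G] (hsol : ∀ N : Subgroup G, N.Normal → Group.IsSolvable ↥N → N = ⊥) {D : Set G} (hinv : ∀ d ∈ D, orderOf d = 2) (hconj : ∃ d ∈ D, D = conjugatesOf d) (hgen : Subgroup.closure D = ⊤) (hrank : ∀ x ∈ D, ∃ y ∈ D, ∃ z ∈ D, {w : G | ∃ g : G, Commute g x ∧ g * y * g⁻¹ = w} ≠ {w : G | ∃ g : G, Commute g x ∧ g * x * g⁻¹ = w} ∧ {w : G | ∃ g : G, Commute g x ∧ g * z * g⁻¹ = w} ≠ {w : G | ∃ g : G, Commute g x ∧ g * x * g⁻¹ = w} ∧ {w : G | ∃ g : G, Commute g x ∧ g * y * g⁻¹ = w} ≠ {w : G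 | ∃ g : G, Commute g x ∧ g * z * g⁻¹ = w} ∧ D = {w : G | ∃ g : G, Commute g x ∧ g * x * g⁻¹ = w} ∪ {w : G | ∃ g : G, Commute g x ∧ g * y * g⁻¹ = w} ∪ {w : G | ∃ g : G, Commute g x ∧ g * z * g⁻¹ = w}) : Cfsg.IsThreeTranspositionClass D := by
  classical
  rcases Cfsg.Agent.Lib.OddTrans.RankReduce.reduce hsol hinv hconj hgen hrank with h | ⟨p, hp, hp5, hall⟩
  · exact h
  · exfalso
    have hp2 : p ≠ 2 := by omega
    have hcl : ∀ a ∈ D, ∀ g : G, g * a * g⁻¹ ∈ D := by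
      obtain ⟨d, hd, hD⟩ := hconj
      intro a ha g
      have ha' : IsConj d a := (hD ▸ ha : a ∈ conjugatesOf d)
      rw [hD]
      show IsConj d _
      exact ha'.trans (isConj_iff.mpr ⟨g, rfl⟩)
    have hne1 : ∀ d ∈ D, d ≠ 1 := by
      intro d hd h
      have := hinv d hd
      rw [h, orderOf_one] at this
      omega
    have hPS : Cfsg.Agent.Lib.OddTransCore.PS p D :=
      ⟨fun d hd => ⟨hne1 d hd, Cfsg.Agent.Lib.OddTrans.RankReduce.inv_self_of (hinv d hd)⟩, hcl, hall⟩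
    refine Cfsg.Agent.Lib.Rank3Case.contra hsol hinv hconj hgen hrank hp hp5 hall ?_
    intro a ha b hb hab hne y hy hya hyb
    have h1 := hPS.delta_one (fun G' _ _ D' => Cfsg.Agent.Lib.OddTransCore.no_vsys hp hp2 G' D') hp hp2 ha hb hy hab hne hya hyb
    have hzi : (a * b)⁻¹ = a * b := by
      have hai := Cfsg.Agent.Lib.OddTrans.RankReduce.inv_eq_self_of (hinv a ha)
      have hbi := Cfsg.Agent.Lib.OddTrans.RankReduce.inv_eq_self_of (hinv b hb)
      rw [mul_inv_rev, hai, hbi]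
      exact hab.symm.eq
    rw [hzi]
    exact h1.symm

end Cfsg.Agent.S1617
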