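import Cfsg.Statements.S1893
import Cfsg.Agent.Lib.H29.SCNCent
import Cfsg.Agent.Lib.Core.Residual

set_option autoImplicit false
open Cfsg

namespace Cfsg.Agent.S1893


/-- Let S be a finite solvable group, π a set of primes containing neither 2 nor 3, H a Hall π-subgroup of S, and A a self-centralizing normal subgroup of the Fitting subgroup F(H). Then C_S(A) = A × D for a normal subgroup D of C_S(A) whose order has no prime divisor in π. -/
theorem result {S : Type*} [Group S] [Finite S] [Group.IsSolvable S]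
    (π : Set ℕ) (h2 : 2 ∉ π) (h3 : 3 ∉ π) (H : Subgroup S) (hH : Cfsg.IsPiHall π H)
    (A : Subgroup S) (hA : Cfsg.IsSCN ((Cfsg.fittingSubgroup H).map H.subtype) A) :
    ∃ D : Subgroup S, D ≤ Subgroup.centralizer (A : Set S) ∧
      (∀ c ∈ Subgroup.centralizer (A : Set S), ∀ d ∈ D, c * d * c⁻¹ ∈ D) ∧
      A ⊓ D = ⊥ ∧ A ⊔ D = Subgroup.centralizer (A : Set S) ∧
      ∀ q : ℕ, q.Prime → q ∣ Nat.card D → q ∉ π := by
  classical
  have hAH : A ≤ H := hA.1.trans (Subgroup.map_subtype_le _)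
  have hAc : A ≤ Subgroup.centralizer (A : Set S) := by
    intro a ha
    have h : a ∈ ((Cfsg.fittingSubgroup H).map H.subtype) ⊓ Subgroup.centralizer (A : Set S) :=
      hA.2.2.symm.le ha
    exact h.2
  set C : Subgroup S := Subgroup.centralizer (A : Set S) with hC
  set A' : Subgroup C := A.subgroupOf C with hA'
  have hcen : ∀ a ∈ A', ∀ c : C, c * a = a * c := by
    intro a ha c
    apply Subtype.ext
    have h1 : (a : S) ∈ A := ha
    exact (Subgroup.mem_centralizer_iff.mp c.2 _ h1).symm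
  have hA'n : A'.Normal := by
    constructor
    intro a ha c
    rw [hcen a ha c, mul_assoc, mul_inv_cancel, mul_one]
    exact ha
  have hI : ∀ q : ℕ, q.Prime → q ∈ π → ¬ q ∣ A'.index := by
    intro q hq hqπ hqd
    have hqf : Fact q.Prime := ⟨hq⟩
    have hqc : q ∣ Nat.card (C ⧸ A') := by
      rwa [← Subgroup.index_eq_card]
    obtain ⟨y, hy⟩ := exists_prime_orderOf_dvd_card' q hqc
    induction y using QuotientGroup.induction_on with
    | H c =>
      obtain ⟨a, b, hab, -, ⟨k, hk⟩, hbc, -, -⟩ :=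
        Cfsg.Agent.Lib.Core.Residual.exists_pPart_pPrimePart q c (isOfFinOrder_of_finite c)
      have ha : a ∈ A' := by
        have h1 : (a : S) ^ q ^ k = 1 := by simpa using congrArg Subtype.val hk
        exact Cfsg.Agent.Lib.H29.SCNCent.mem_of_hall π h2 h3 H hH A hA hqπ a.2 h1
      have h2' : ((c : C) : C ⧸ A') = ((b : C) : C ⧸ A') := by
        rw [← hab, QuotientGroup.mk_mul, (QuotientGroup.eq_one_iff a).mpr ha, one_mul]
      rw [h2'] at hy
      have h3' : orderOf ((b : C) : C ⧸ A') ∣ orderOf b := by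
        apply orderOf_dvd_of_pow_eq_one
        rw [← QuotientGroup.mk_pow, pow_orderOf_eq_one]
        rfl
      rw [hy] at h3'
      exact (Nat.Prime.coprime_iff_not_dvd hq).mp hbc.symm h3'
  have hcop : Nat.Coprime (Nat.card A') A'.index := by
    apply Nat.coprime_of_dvd
    intro q hq hq1 hq2
    have h1 : Nat.card A' ∣ Nat.card H := by
      have e : Nat.card A' = Nat.card A :=
        Nat.card_congr (Subgroup.subgroupOfEquivOfLe hAc).toEquiv
      rw [e]
      exact Subgroup.card_dvd_of_le hAH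
    exact hI q hq (hH.1 q hq (hq1.trans h1)) hq2
  obtain ⟨D₀, hD₀⟩ := Subgroup.exists_right_complement'_of_coprime hcop
  have hsup : A' ⊔ D₀ = ⊤ := hD₀.sup_eq_top
  have hdisj : Disjoint A' D₀ := hD₀.disjoint
  have hdecomp : ∀ c : C, ∃ a ∈ A', ∃ d ∈ D₀, a * d = c := by
    intro c
    have : c ∈ A' ⊔ D₀ := by rw [hsup]; trivial
    exact Subgroup.mem_sup_of_normal_left.mp this
  refine ⟨D₀.map C.subtype, Subgroup.map_subtype_le _, ?_, ?_, ?_, ?_⟩
  · rintro c hc _ ⟨d, hd, rfl⟩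
    obtain ⟨a, ha, d₁, hd₁, hc1⟩ := hdecomp ⟨c, hc⟩
    refine ⟨d₁ * d * d₁⁻¹, D₀.mul_mem (D₀.mul_mem hd₁ hd) (D₀.inv_mem hd₁), ?_⟩
    have h1 : (⟨c, hc⟩ : C) * d * (⟨c, hc⟩ : C)⁻¹ = d₁ * d * d₁⁻¹ := by
      rw [← hc1]
      have h2' : d₁ * d * a⁻¹ = a⁻¹ * (d₁ * d) := by
        have := hcen a⁻¹ (A'.inv_mem ha) (d₁ * d)
        exact this
      calc a * d₁ * d * (a * d₁)⁻¹ = a * (d₁ * d * d₁⁻¹ * a⁻¹) := by group
        _ = a * (a⁻¹ * (d₁ * d * d₁⁻¹)) := by
            rw [hcen a⁻¹ (A'.inv_mem ha) (d₁ * d * d₁⁻¹)]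
        _ = d₁ * d * d₁⁻¹ := by group
    exact (congrArg Subtype.val h1).symm
  · rw [eq_bot_iff]
    rintro x ⟨hx1, d, hd, rfl⟩
    have h1 : d ∈ A' := hx1
    have h2' : d = 1 := by
      have := (Subgroup.disjoint_def.mp hdisj) h1 hd
      exact this
    simp [h2']
  · apply le_antisymm
    · exact sup_le hAc (Subgroup.map_subtype_le _)
    · intro c hc
      obtain ⟨a, ha, d, hd, hc1⟩ := hdecomp ⟨c, hc⟩
      have h1 : ((a : S)) * (d : S) = c := congrArg Subtype.val hc1
      rw [← h1]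
      exact Subgroup.mul_mem_sup ha (Subgroup.mem_map_of_mem _ hd)
  · intro q hq hqd hqπ
    have e : Nat.card (D₀.map C.subtype) = Nat.card D₀ :=
      Nat.card_congr (D₀.equivMapOfInjective _ (Subgroup.subtype_injective _)).toEquiv.symm
    rw [e, ← hD₀.symm.index_eq_card] at hqd
    exact hI q hq hqπ hqd

end Cfsg.Agent.S1893
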