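import Cfsg.Statements.S1895
import Cfsg.Agent.Lib.PGroups.RankTwoMain
import Cfsg.Agent.Lib.PGroups.LowerCentral
import Cfsg.Agent.Lib.TransferCtl.EngelNorm
import Cfsg.Agent.Lib.QuadAct.Basic

set_option autoImplicit false
open Cfsg

namespace Cfsg.Agent.S1895


open Subgroup
open scoped commutatorElement

universe u

section LemmaB

variable {Q : Type u} [Group Q] [Finite Q] {p : ℕ} [hp : Fact p.Prime]

theorem index_le_of_gen (T : Subgroup Q) [T.Normal] {a b : Q} (hab : ⁅a, b⁆ ∈ T) (ha : a ^ p ∈ T)
    (hb : b ^ p ∈ T) (hgen : closure ({a, b} : Set Q) ⊔ T = ⊤) : T.index ≤ p ^ 2 := by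
  have hpp := hp.out
  let f := QuotientGroup.mk' T
  have hfT : ∀ t ∈ T, f t = 1 := fun t ht => (QuotientGroup.eq_one_iff t).mpr ht
  have hcomm : f a * f b = f b * f a := by
    have h1 := hfT _ hab
    rw [commutatorElement_def, map_mul, map_mul, map_mul, map_inv, map_inv] at h1
    have h2 : f a * f b = (f a * f b * (f a)⁻¹ * (f b)⁻¹) * (f b * f a) := by group
    rw [h2, h1, one_mul]
  let A := zpowers (f a)
  let B := zpowers (f b)
  have htop : A ⊔ B = ⊤ := by
    rw [eq_top_iff]
    intro v _
    obtain ⟨g, rfl⟩ := QuotientGroup.mk'_surjective T v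
    have hg : g ∈ closure ({a, b} : Set Q) ⊔ T := by rw [hgen]; exact mem_top _
    rw [mem_sup_of_normal_right] at hg
    obtain ⟨c, hc, t, ht, rfl⟩ := hg
    rw [map_mul, hfT t ht, mul_one]
    have hle : (closure ({a, b} : Set Q)).map f ≤ A ⊔ B := by
      rw [MonoidHom.map_closure, closure_le]
      rintro _ ⟨y, hy | hy, rfl⟩
      · subst hy; exact mem_sup_left (mem_zpowers _)
      · have hy' : y = b := hy
        subst hy'; exact mem_sup_right (mem_zpowers _)
    exact hle (mem_map_of_mem _ hc)
  have hAN : A ≤ normalizer (B : Set (Q ⧸ T)) := by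
    intro u hu
    have hcu : ∀ w ∈ B, u * w = w * u := by
      intro w hw
      obtain ⟨k, rfl⟩ := mem_zpowers_iff.mp hu
      obtain ⟨m, rfl⟩ := mem_zpowers_iff.mp hw
      exact ((Commute.zpow_zpow (show Commute (f a) (f b) from hcomm)) k m)
    rw [mem_normalizer_iff]
    intro w
    constructor
    · intro hw
      rw [hcu w hw, mul_inv_cancel_right]
      exact hw
    · intro hw
      have h := hcu _ hw
      have h1 : u * w * u⁻¹ * u = u * w := by group
      rw [h1] at h
      have h2 := mul_left_cancel h
      rwa [h2] at hw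
  have hc := Cfsg.Agent.Lib.QuadAct.Basic.card_sup_mul_card_inf_of_le_normalizer A B hAN
  rw [htop, Subgroup.card_top] at hc
  have hcA : Nat.card A ≤ p := by
    rw [Nat.card_zpowers]
    apply Nat.le_of_dvd hpp.pos
    apply orderOf_dvd_of_pow_eq_one
    rw [← map_pow]; exact hfT _ ha
  have hcB : Nat.card B ≤ p := by
    rw [Nat.card_zpowers]
    apply Nat.le_of_dvd hpp.pos
    apply orderOf_dvd_of_pow_eq_one
    rw [← map_pow]; exact hfT _ hb
  rw [index_eq_card]
  have hpos : 0 < Nat.card (A ⊓ B : Subgroup (Q ⧸ T)) := Nat.card_pos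
  calc Nat.card (Q ⧸ T) ≤ Nat.card (Q ⧸ T) * Nat.card (A ⊓ B : Subgroup (Q ⧸ T)) :=
        Nat.le_mul_of_pos_right _ hpos
    _ = Nat.card A * Nat.card B := hc
    _ ≤ p * p := Nat.mul_le_mul hcA hcB
    _ = p ^ 2 := by ring

theorem pow_le_lcs (hG : IsPGroup p Q) : ∀ (d i : ℕ),
    (⊤ : Subgroup Q).lowerCentralSeries (i + d) ≠ ⊥ →
      p ^ (d + 1) ≤ Nat.card ((⊤ : Subgroup Q).lowerCentralSeries i) := by
  have := hG.isNilpotent
  intro d
  induction d with
  | zero =>
    intro i h
    have h1 := Cfsg.Agent.Lib.PGroups.LowerCentral.mul_card_le_of_lt hG (bot_lt_iff_ne_bot.mpr h)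
    simpa using h1
  | succ d ih =>
    intro i h
    have h1 := ih (i + 1) (by rw [show i + 1 + d = i + (d + 1) by omega]; exact h)
    have hne : (⊤ : Subgroup Q).lowerCentralSeries i ≠ ⊥ := by
      intro h0
      apply h
      have : ∀ k, (⊤ : Subgroup Q).lowerCentralSeries (i + k) = ⊥ := by
        intro k
        induction k with
        | zero => simpa using h0
        | succ k ih2 =>
          rw [← add_assoc, Subgroup.lowerCentralSeries_succ, ih2, commutator_bot_left]
      exact this _
    have hlt := Cfsg.Agent.Lib.PGroups.LowerCentral.commutator_top_lt _ hne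
    rw [Subgroup.lowerCentralSeries_succ] at h1
    have h2 := Cfsg.Agent.Lib.PGroups.LowerCentral.mul_card_le_of_lt hG hlt
    calc p ^ (d + 1 + 1) = p * p ^ (d + 1) := by ring
      _ ≤ _ := Nat.mul_le_mul_left p h1
      _ ≤ _ := h2

theorem lemmaB (hp2 : p ≠ 2) (n : ℕ) (hcard : Nat.card Q = p ^ n) (hrk : Cfsg.PRankLE p 2 Q)
    (T : Subgroup Q) [hT : T.Normal] (hc : ∀ a b : Q, ⁅a, b⁆ ∈ T) (hx : ∀ a : Q, a ^ p ∈ T)
    (hirr : center Q ⊔ T = T ∨ center Q ⊔ T = ⊤) : T.index ≤ p ^ 2 := by
  have hpp := hp.out
  have hQp : IsPGroup p Q := IsPGroup.of_card hcard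
  rcases Cfsg.Agent.Lib.PGroups.RankTwoMain.main hp2 n hcard hrk with hm | h1 | h2 | h3
  · -- metacyclic
    obtain ⟨N, hN, hNc, hQc⟩ := hm
    obtain ⟨a, ha⟩ := hNc.exists_generator
    obtain ⟨bb, hb⟩ := hQc.exists_generator
    obtain ⟨b, rfl⟩ := QuotientGroup.mk_surjective bb
    refine index_le_of_gen T (a := (a : Q)) (b := b) (hc _ _) (hx _) (hx _) ?_
    rw [eq_top_iff]
    intro g _
    apply mem_sup_left
    obtain ⟨k, hk⟩ := mem_zpowers_iff.mp (hb (g : Q ⧸ N))
    have h1 : (b ^ k)⁻¹ * g ∈ N := by
      rw [← QuotientGroup.eq]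
      rw [← hk]
      rfl
    obtain ⟨m, hm⟩ := mem_zpowers_iff.mp (ha ⟨_, h1⟩)
    have h2 : ((a : Q)) ^ m = (b ^ k)⁻¹ * g := by
      have := congrArg Subtype.val hm
      simpa using this
    have h3 : g = b ^ k * (a : Q) ^ m := by rw [h2]; group
    rw [h3]
    exact mul_mem (zpow_mem (subset_closure (by simp)) _) (zpow_mem (subset_closure (by simp)) _)
  · -- central product type
    obtain ⟨hn, x, y, z, hgen, hxp, hyp, hzp, hxz, hyz, hrel⟩ := h1
    by_contra hlt
    push Not at hlt
    have hzc : ∀ g : Q, g * z = z * g := by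
      have htop : (⊤ : Subgroup Q) ≤ centralizer ({z} : Set Q) := by
        rw [← hgen, closure_le]
        rintro w (rfl | rfl | hw)
        · exact mem_centralizer_singleton_iff.mpr hxz
        · exact mem_centralizer_singleton_iff.mpr hyz
        · have hw' : w = z := hw
          subst hw'
          exact mem_centralizer_singleton_iff.mpr rfl
      intro g
      exact mem_centralizer_singleton_iff.mp (htop (mem_top g))
    have hzcenter : z ∈ center Q := mem_center_iff.mpr hzc
    by_cases hzT : z ∈ T
    · -- two generators modulo `T`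
      apply absurd (index_le_of_gen T (a := x) (b := y) (hc _ _) (hx _) (hx _) ?_) (not_le.mpr hlt)
      rw [eq_top_iff, ← hgen, closure_le]
      have hxm : x ∈ closure ({x, y} : Set Q) := subset_closure (by simp)
      have hym : y ∈ closure ({x, y} : Set Q) := subset_closure (by simp)
      rintro w (rfl | rfl | hw)
      · exact mem_sup_left hxm
      · exact mem_sup_left hym
      · have hw' : w = z := hw
        subst hw'
        exact mem_sup_right hzT
    have hC : center Q ⊔ T = ⊤ := by
      rcases hirr with h | h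
      · exfalso
        apply hzT
        rw [← h]
        exact mem_sup_left hzcenter
      · exact h
    let W : Subgroup Q := zpowers z
    have hWc : W ≤ center Q := by
      rw [zpowers_le]; exact hzcenter
    haveI hWn : W.Normal := by
      constructor
      intro w hw g
      have : g * w = w * g := mem_center_iff.mp (hWc hw) g
      rw [this, mul_inv_cancel_right]
      exact hw
    -- the commutator relation
    set c := z ^ p ^ (n - 3) with hc_def
    have hcc : ∀ g : Q, g * c = c * g := by
      intro g
      rw [hc_def]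
      exact ((show Commute g z from hzc g).pow_right _)
    have hcomm : ⁅x, y⁆ = c⁻¹ := by
      have h1 : x * y * x⁻¹ * c = y := by
        have h2 : x * (x⁻¹ * y * x) * x⁻¹ = y := by group
        rw [hrel] at h2
        calc x * y * x⁻¹ * c = x * y * (x⁻¹ * c) := by group
          _ = x * y * (c * x⁻¹) := by rw [hcc]
          _ = x * (y * c) * x⁻¹ := by group
          _ = y := h2
      rw [commutatorElement_def]
      have h3 : x * y * x⁻¹ = y * c⁻¹ := by
        rw [eq_mul_inv_iff_mul_eq]; exact h1
      rw [h3, mul_inv_eq_iff_eq_mul]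
      exact ((show Commute y c from hcc y).inv_right)
    have hWidx : W.index ≤ p ^ 2 := by
      refine index_le_of_gen W (a := x) (b := y) ?_ ?_ ?_ ?_
      · rw [hcomm]
        exact inv_mem (pow_mem (mem_zpowers z) _)
      · rw [hxp]; exact one_mem _
      · rw [hyp]; exact one_mem _
      · rw [eq_top_iff, ← hgen, closure_le]
        have hxm : x ∈ closure ({x, y} : Set Q) := subset_closure (by simp)
        have hym : y ∈ closure ({x, y} : Set Q) := subset_closure (by simp)
        rintro w (rfl | rfl | hw)
        · exact mem_sup_left hxm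
        · exact mem_sup_left hym
        · have hw' : w = z := hw
          subst hw'
          exact mem_sup_right (mem_zpowers _)
    let f := QuotientGroup.mk' T
    have hTrel : T.relIndex (W ⊔ T) = p := by
      rw [relIndex_sup_right]
      have h1 := relIndex_ker (K := W) f
      rw [QuotientGroup.ker_mk'] at h1
      rw [h1]
      show Nat.card ((zpowers z).map f) = p
      rw [MonoidHom.map_zpowers, Nat.card_zpowers]
      apply orderOf_eq_prime
      · rw [← map_pow]
        exact (QuotientGroup.eq_one_iff _).mpr (hx z)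
      · intro h
        exact hzT ((QuotientGroup.eq_one_iff _).mp h)
    have h1 := relIndex_mul_index (show T ≤ W ⊔ T from le_sup_right)
    rw [hTrel] at h1
    have hD : p < (W ⊔ T).index := by
      have h2 : p * p < p * (W ⊔ T).index := by
        rw [h1]
        calc p * p = p ^ 2 := by ring
          _ < T.index := hlt
      exact lt_of_mul_lt_mul_left h2 (Nat.zero_le _)
    have h3 := relIndex_mul_index (show W ≤ W ⊔ T from le_sup_left)
    have h4 : W.relIndex (W ⊔ T) < p := by
      by_contra hge
      push Not at hge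
      have h5 : p * (W ⊔ T).index ≤ W.relIndex (W ⊔ T) * (W ⊔ T).index :=
        Nat.mul_le_mul_right _ hge
      rw [h3] at h5
      have h6 : p * p < p * (W ⊔ T).index := Nat.mul_lt_mul_of_pos_left hD hpp.pos
      have : p ^ 2 = p * p := by ring
      omega
    have h5 : W.relIndex (W ⊔ T) = 1 := by
      have h6 : W.relIndex (W ⊔ T) ∣ p ^ n := by
        rw [← hcard]
        exact (relIndex_dvd_card _ _).trans (Subgroup.card_subgroup_dvd_card _)
      obtain ⟨j, hj, hj2⟩ := (Nat.dvd_prime_pow hpp).mp h6
      rw [hj2] at h4 ⊢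
      have : j = 0 := by
        by_contra hj0
        have : p ^ 1 ≤ p ^ j := Nat.pow_le_pow_right hpp.pos (by omega)
        rw [pow_one] at this
        omega
      rw [this, pow_zero]
    have hTW : T ≤ W := by
      have h6 := relIndex_eq_one.mp h5
      exact le_trans le_sup_right h6
    have hcenter : center Q = ⊤ := by
      rw [← hC]
      exact (sup_eq_left.mpr (hTW.trans hWc)).symm
    have hc1 : c = 1 := by
      have h2 : x⁻¹ * y * x = y := by
        have := mem_center_iff.mp (hcenter ▸ mem_top x : x ∈ center Q) y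
        rw [mul_assoc, this, inv_mul_cancel_left]
      rw [h2] at hrel
      exact (mul_eq_left.mp hrel.symm)
    have hWcard : Nat.card W ≤ p ^ (n - 3) := by
      show Nat.card (zpowers z) ≤ _
      rw [Nat.card_zpowers]
      exact Nat.le_of_dvd (pow_pos hpp.pos _) (orderOf_dvd_of_pow_eq_one hc1)
    have h7 := card_mul_index W
    rw [hcard] at h7
    have h8 : p ^ n ≤ p ^ (n - 3) * p ^ 2 := by
      rw [← h7]
      exact Nat.mul_le_mul hWcard hWidx
    rw [← pow_add] at h8
    have h9 := (Nat.pow_le_pow_iff_right hpp.one_lt).mp h8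
    omega
  · obtain ⟨hn, s, x, y, z, -, hgen, hxp, hyp, hzp, hyz, hrel, hrel2⟩ := h2
    refine index_le_of_gen T (a := x) (b := z) (hc _ _) (hx _) (hx _) ?_
    rw [eq_top_iff, ← hgen, closure_le]
    have hy : y = x⁻¹ * z * x * z⁻¹ := by rw [hrel2]; group
    have hxm : x ∈ closure ({x, z} : Set Q) := subset_closure (by simp)
    have hzm : z ∈ closure ({x, z} : Set Q) := subset_closure (by simp)
    rintro w (rfl | rfl | hw)
    · exact mem_sup_left hxm
    · rw [hy]
      exact mem_sup_left (mul_mem (mul_mem (mul_mem (inv_mem hxm) hzm) hxm) (inv_mem hzm))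
    · have hw' : w = z := hw
      subst hw'
      exact mem_sup_left hzm
  · obtain ⟨-, hn, hne⟩ := h3
    rcases Nat.eq_or_lt_of_le hn with h2n | h3n
    · have h5 := card_mul_index T
      rw [hcard, ← h2n] at h5
      have hpos : 0 < Nat.card T := Nat.card_pos
      calc T.index ≤ Nat.card T * T.index := Nat.le_mul_of_pos_left _ hpos
        _ = p ^ 2 := h5
    · have key := pow_le_lcs hQp (n - 3) 1 (by
        rw [show 1 + (n - 3) = n - 2 by omega]; exact hne)
      rw [Subgroup.top_lowerCentralSeries_one] at key
      have hle : commutator Q ≤ T := by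
        rw [_root_.commutator_def, commutator_le]
        intro a _ b _
        exact hc a b
      have hTc : p ^ (n - 2) ≤ Nat.card T := by
        have h6 : p ^ (n - 3 + 1) ≤ Nat.card T :=
          key.trans (Nat.card_le_card_of_injective _ (inclusion_injective hle))
        rwa [show n - 3 + 1 = n - 2 by omega] at h6
      have h5 := card_mul_index T
      rw [hcard] at h5
      have h6 : p ^ (n - 2) * T.index ≤ p ^ (n - 2) * p ^ 2 := by
        rw [← pow_add, show n - 2 + 2 = n by omega, ← h5]
        exact Nat.mul_le_mul_right _ hTc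
      exact Nat.le_of_mul_le_mul_left h6 (pow_pos hpp.pos _)

end LemmaB

section Main

variable {G : Type u} [Group G] [Finite G] {p : ℕ} [hp : Fact p.Prime]

theorem elementary_of_chief (H K : Subgroup G) [hH : H.Normal] [hK : K.Normal] (hKH : K < H)
    (hpow : ∃ n : ℕ, K.relIndex H = p ^ n)
    (hchief : ∀ L : Subgroup G, L.Normal → K ≤ L → L ≤ H → L = K ∨ L = H) :
    (∀ a ∈ H, ∀ b ∈ H, ⁅a, b⁆ ∈ K) ∧ (∀ a ∈ H, a ^ p ∈ K) := by
  let f := QuotientGroup.mk' K
  have hfs : Function.Surjective f := QuotientGroup.mk'_surjective K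
  have hker : f.ker = K := QuotientGroup.ker_mk' K
  let X := H.map f
  have hXn : X.Normal := hH.map f hfs
  have hXp : IsPGroup p X := by
    obtain ⟨n, hn⟩ := hpow
    apply IsPGroup.of_card (n := n)
    rw [← hn]
    have h0 := relIndex_ker (K := H) f
    rw [hker] at h0
    exact h0.symm
  have hch : IsChiefFactor X (⊥ : Subgroup (G ⧸ K)) := by
    refine ⟨?_, hXn, inferInstance, ?_⟩
    · rw [bot_lt_iff_ne_bot]
      intro h
      rw [Subgroup.map_eq_bot_iff, hker] at h
      exact absurd h (not_le_of_gt hKH)
    · intro N hN _ hNX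
      have hle : K ≤ N.comap f := by
        intro k hk
        rw [mem_comap]
        have : f k = 1 := (QuotientGroup.eq_one_iff k).mpr hk
        rw [this]; exact one_mem _
      have hcH : N.comap f ≤ H := by
        intro g hg
        obtain ⟨h, hh, hhg⟩ := hNX hg
        have h1 : h⁻¹ * g ∈ K := by
          rw [← QuotientGroup.eq]
          exact hhg
        have h2 : g = h * (h⁻¹ * g) := by group
        rw [h2]
        exact H.mul_mem hh (hKH.le h1)
      have hmap : (N.comap f).map f = N := map_comap_eq_self_of_surjective hfs N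
      rcases hchief _ (hN.comap f) hle hcH with h | h
      · left
        rw [← hmap, h, Subgroup.map_eq_bot_iff, hker]
      · right
        rw [← hmap, h]
  obtain ⟨h1, h2⟩ := Cfsg.Agent.Lib.TransferCtl.EngelNorm.chief_elementary hch le_rfl hXp
  constructor
  · intro a ha b hb
    have := h1 _ (mem_map_of_mem f ha) _ (mem_map_of_mem f hb)
    rw [mem_bot] at this
    rw [← map_commutatorElement] at this
    exact (QuotientGroup.eq_one_iff _).mp this
  · intro a ha
    have := h2 _ (mem_map_of_mem f ha)
    rw [mem_bot, ← map_pow] at this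
    exact (QuotientGroup.eq_one_iff _).mp this

theorem main_result (hp2 : p ≠ 2) (hr : Cfsg.PRankLE p 2 G)
    (H K : Subgroup G) [hH : H.Normal] [hK : K.Normal] (hKH : K < H) (hpow : ∃ n : ℕ, K.relIndex H = p ^ n)
    (hchief : ∀ L : Subgroup G, L.Normal → K ≤ L → L ≤ H → L = K ∨ L = H) :
    K.relIndex H = p ∨ K.relIndex H = p ^ 2 := by
  have hpp := hp.out
  obtain ⟨hcomm, hpowK⟩ := elementary_of_chief H K hKH hpow hchief
  let P₀ : Sylow p H := default
  let S : Subgroup G := (P₀ : Subgroup H).map H.subtype
  have hSH : S ≤ H := map_subtype_le _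
  have hSp : IsPGroup p S := by
    have h1 : IsPGroup p ((P₀ : Subgroup H).map H.subtype) := P₀.isPGroup'.map _
    exact h1
  have hN : normalizer (S : Set G) ⊔ H = ⊤ := Sylow.normalizer_sup_eq_top P₀
  -- `S K = H`
  have hSK : S ⊔ K = H := by
    have hK' : (K.subgroupOf H).Normal := inferInstance
    have h1 : (P₀ : Subgroup H) ⊔ K.subgroupOf H = ⊤ := by
      obtain ⟨n, hn⟩ := hpow
      have hd1 := index_dvd_of_le (show (P₀ : Subgroup H) ≤ (P₀ : Subgroup H) ⊔ K.subgroupOf H from le_sup_left)
      have hd2 := index_dvd_of_le (show K.subgroupOf H ≤ (P₀ : Subgroup H) ⊔ K.subgroupOf H from le_sup_right)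
      have hd3 : (K.subgroupOf H).index = p ^ n := hn
      rw [hd3] at hd2
      obtain ⟨j, _, hj⟩ := (Nat.dvd_prime_pow hpp).mp hd2
      rw [← index_eq_one, hj]
      have : j = 0 := by
        by_contra hj0
        apply P₀.not_dvd_index
        refine dvd_trans ?_ hd1
        rw [hj]
        exact dvd_pow_self p hj0
      rw [this, pow_zero]
    have h2 := congrArg (Subgroup.map H.subtype) h1
    rw [Subgroup.map_sup, subgroupOf_map_subtype, ← MonoidHom.range_eq_map, range_subtype,
      inf_of_le_left hKH.le] at h2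
    exact h2
  have hrel : K.relIndex H = K.relIndex S := by
    rw [← hSK, relIndex_sup_right]
  -- irreducibility
  have hirr : ∀ U : Subgroup G, S ⊓ K ≤ U → U ≤ S →
      (∀ n ∈ normalizer (S : Set G), ∀ u ∈ U, n * u * n⁻¹ ∈ U) → U = S ⊓ K ∨ U = S := by
    intro U hTU hUS hinv
    have hUH : U ≤ H := hUS.trans hSH
    have hLn : (U ⊔ K).Normal := by
      constructor
      intro x hx g
      have hg : g ∈ normalizer (S : Set G) ⊔ H := by rw [hN]; exact mem_top _
      rw [mem_sup_of_normal_right] at hg
      obtain ⟨n, hn, h, hh, rfl⟩ := hg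
      rw [mem_sup_of_normal_right] at hx
      obtain ⟨u, hu, k, hk, rfl⟩ := hx
      have hc1 : ⁅h, u⁆ ∈ K := hcomm h hh u (hUH hu)
      have hk1 : h * k * h⁻¹ ∈ K := hK.conj_mem k hk h
      have heq : n * h * (u * k) * (n * h)⁻¹ =
          (n * ⁅h, u⁆ * n⁻¹) * ((n * u * n⁻¹) * (n * (h * k * h⁻¹) * n⁻¹)) := by
        rw [commutatorElement_def]; group
      rw [heq]
      refine mul_mem (mem_sup_right (hK.conj_mem _ hc1 n)) (mul_mem (mem_sup_left (hinv n hn u hu))
        (mem_sup_right (hK.conj_mem _ hk1 n)))
    rcases hchief _ hLn le_sup_right (sup_le hUH hKH.le) with h | h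
    · left
      apply le_antisymm _ hTU
      intro u hu
      refine ⟨hUS hu, ?_⟩
      rw [← h]
      exact mem_sup_left hu
    · right
      apply le_antisymm hUS
      intro s hs
      have hsH : s ∈ U ⊔ K := by rw [h]; exact hSH hs
      rw [mem_sup_of_normal_right] at hsH
      obtain ⟨u, hu, k, hk, rfl⟩ := hsH
      have hk2 : k ∈ S := by
        have : k = u⁻¹ * (u * k) := by group
        rw [this]
        exact mul_mem (inv_mem (hUS hu)) hs
      exact mul_mem hu (hTU ⟨hk2, hk⟩)
  -- the p-group `S`
  obtain ⟨m, hm⟩ := IsPGroup.iff_card.mp hSp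
  have hrkS : Cfsg.PRankLE p 2 S := by
    intro A hAc hAe
    have h1 := hr (A.map S.subtype) ?_ ?_
    · rwa [Subgroup.card_map_of_injective S.subtype_injective] at h1
    · constructor
      constructor
      rintro ⟨_, a, ha, rfl⟩ ⟨_, b, hb, rfl⟩
      apply Subtype.ext
      have := hAc.is_comm.comm ⟨a, ha⟩ ⟨b, hb⟩
      have h2 := congrArg (fun x : A => ((x : S) : G)) this
      simpa using h2
    · rintro _ ⟨a, ha, rfl⟩
      have := hAe a ha
      simpa using congrArg (fun x : S => (x : G)) this
  have hidx : (K.subgroupOf S).index ≤ p ^ 2 := by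
    apply lemmaB hp2 m hm hrkS (K.subgroupOf S)
    · intro a b
      rw [mem_subgroupOf]
      exact hcomm _ (hSH a.2) _ (hSH b.2)
    · intro a
      rw [mem_subgroupOf]
      exact hpowK _ (hSH a.2)
    · -- center
      let U : Subgroup G := (center S).map S.subtype ⊔ (S ⊓ K)
      have hUmap : (center S ⊔ K.subgroupOf S).map S.subtype = U := by
        rw [Subgroup.map_sup, subgroupOf_map_subtype, inf_comm]
      have hUS : U ≤ S := sup_le (map_subtype_le _) inf_le_left
      have hconj : ∀ n ∈ normalizer (S : Set G), ∀ u ∈ U, n * u * n⁻¹ ∈ U := by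
        intro n hn u hu
        have hle : U.map (MulAut.conj n).toMonoidHom ≤ U := by
          rw [Subgroup.map_sup, sup_le_iff]
          constructor
          · rintro _ ⟨_, ⟨c, hc, rfl⟩, rfl⟩
            apply mem_sup_left
            have hcS : n * (c : G) * n⁻¹ ∈ S := (mem_normalizer_iff.mp hn c).mp c.2
            refine ⟨⟨_, hcS⟩, ?_, rfl⟩
            show _ ∈ center S
            rw [mem_center_iff]
            rintro ⟨s, hs⟩
            apply Subtype.ext
            have hs' : n⁻¹ * s * n ∈ S := by
              have := (mem_normalizer_iff.mp (inv_mem hn) s).mp hs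
              simpa using this
            have h1 := mem_center_iff.mp (show c ∈ center S from hc) ⟨_, hs'⟩
            have h2 := congrArg (fun x : S => n * (x : G) * n⁻¹) h1
            simp only [MulMemClass.coe_mul] at h2 ⊢
            simp only [mul_assoc, mul_inv_cancel_left] at h2 ⊢
            simpa [mul_assoc] using h2
          · rintro _ ⟨t, ⟨ht1, ht2⟩, rfl⟩
            apply mem_sup_right
            exact ⟨(mem_normalizer_iff.mp hn t).mp ht1, hK.conj_mem t ht2 n⟩
        exact hle ⟨u, hu, rfl⟩
      rcases hirr U le_sup_right hUS hconj with h | h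
      · left
        apply map_injective S.subtype_injective
        rw [hUmap, h, subgroupOf_map_subtype, inf_comm]
      · right
        apply map_injective S.subtype_injective
        rw [hUmap, h, ← MonoidHom.range_eq_map, range_subtype]
  obtain ⟨n, hn⟩ := hpow
  have hle : p ^ n ≤ p ^ 2 := by
    rw [← hn, hrel]
    exact hidx
  have hn2 : n ≤ 2 := (Nat.pow_le_pow_iff_right hpp.one_lt).mp hle
  have hn0 : n ≠ 0 := by
    rintro rfl
    rw [pow_zero, relIndex_eq_one] at hn
    exact absurd hn (not_le_of_gt hKH)
  rw [hn]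
  have hcases : n = 1 ∨ n = 2 := by omega
  rcases hcases with rfl | rfl
  · left; exact pow_one p
  · right; rfl

end Main



/-- Let p be an odd prime and G a finite p-solvable group with no elementary abelian subgroup of order p³. Then every chief factor H/K of G (H, K normal in G with no normal subgroup of G strictly between them) whose order is a power of p has order p or p². -/
theorem result {G : Type*} [Group G] [Finite G] {p : ℕ} [Fact p.Prime] (hp : p ≠ 2)
    (hG : Cfsg.IsPSolvable p G) (hr : Cfsg.PRankLE p 2 G)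
    (H K : Subgroup G) [H.Normal] [K.Normal] (hKH : K < H) (hpow : ∃ n : ℕ, K.relIndex H = p ^ n)
    (hchief : ∀ L : Subgroup G, L.Normal → K ≤ L → L ≤ H → L = K ∨ L = H) :
    K.relIndex H = p ∨ K.relIndex H = p ^ 2 := by
  exact main_result hp hr H K hKH hpow hchief

end Cfsg.Agent.S1895
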