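import Cfsg.Statements.S1907
import Cfsg.Agent.Lib.Core.Series
import Cfsg.Agent.Lib.Coprime.Action
import Cfsg.Agent.Lib.LocalStruct.PClosed

set_option autoImplicit false
open Cfsg Pointwise

namespace Cfsg.Agent.S1907

open Subgroup Cfsg.Agent.Lib.Core.Basic Cfsg.Agent.Lib.Core.Series Cfsg.Agent.Lib.Coprime.Action
  Cfsg.Agent.Lib.Coprime.SchurZassenhaus

variable {G : Type*} [Group G] [Finite G] {p : ℕ} [Fact p.Prime]

/-- Key lemma: a `p`-element `y` normalizing a `p'`-subgroup `C`; any element `y' ∈ y C` which has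
the same order as `y` and is a `p`-element is conjugate to `y` by an element of `C`. -/
theorem exists_conj_of_mem_coset (C : Subgroup G) (hCp : (Nat.card C).Coprime p) {y y' : G}
    (hyN : y ∈ normalizer (C : Set G)) (hy : ∃ k : ℕ, orderOf y = p ^ k)
    (hord : orderOf y' = orderOf y) (hyy' : y⁻¹ * y' ∈ C) :
    ∃ c ∈ C, c * y * c⁻¹ = y' := by
  classical
  obtain ⟨k, hk⟩ := hy
  set A := zpowers y with hA
  set A₂ := zpowers y' with hA₂
  have hAp : IsPGroup p A := by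
    refine IsPGroup.of_card (n := k) ?_
    rw [hA, Nat.card_zpowers, hk]
  have hA₂p : IsPGroup p A₂ := by
    refine IsPGroup.of_card (n := k) ?_
    rw [hA₂, Nat.card_zpowers, hord, hk]
  have hAN : A ≤ normalizer (C : Set G) := by
    rw [hA, zpowers_le]; exact hyN
  have hdisj : ∀ {B : Subgroup G}, IsPGroup p B → C ⊓ B = ⊥ := by
    intro B hB
    refine disjoint_of_coprime_card ?_
    obtain ⟨n, hn⟩ := hB.exists_card_eq
    rw [hn]
    exact Nat.Coprime.pow_right n hCp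
  have hCA : C ⊓ A = ⊥ := hdisj hAp
  have hcard := card_sup_of_le_normalizer hAN hCA
  set E := C ⊔ A with hE
  have hAE : A ≤ E := le_sup_right
  have hyE : y ∈ E := hAE (mem_zpowers y)
  have hy'E : y' ∈ E := by
    have : y' = y * (y⁻¹ * y') := by group
    rw [this]
    exact E.mul_mem hyE (Subgroup.mem_sup_left hyy')
  have hA₂E : A₂ ≤ E := by
    rw [hA₂, zpowers_le]; exact hy'E
  have hrel : A.relIndex E = Nat.card C := by
    have h1 := card_eq_card_mul_relIndex hAE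
    rw [← hcard, mul_comm] at h1
    exact (Nat.eq_of_mul_eq_mul_left Nat.card_pos h1).symm
  have hnd : ¬ p ∣ A.relIndex E := by
    rw [hrel]
    intro h
    have := Nat.Coprime.eq_one_of_dvd hCp.symm h
    exact (Fact.out : p.Prime).one_lt.ne' this
  have hs1 : IsSylowIn p A E := ⟨hAE, hAp, hnd⟩
  have hs2 : IsSylowIn p A₂ E := by
    refine ⟨hA₂E, hA₂p, ?_⟩
    rw [← relIndex_eq_of_card_eq hAE hA₂E (by rw [hA, hA₂, Nat.card_zpowers, Nat.card_zpowers, hord])]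
    exact hnd
  obtain ⟨e, heE, he⟩ := hs1.exists_conj hs2
  obtain ⟨c, hc, a, ha, rfl⟩ := exists_mul_of_mem_sup hAN heE
  have hconj : MulAut.conj c • A = A₂ := by
    rw [← he, conj_mul_smul]
    congr 1
    have : MulAut.conj a • A = A := conj_smul_self_of_mem_normalizer (by
      exact Subgroup.le_normalizer ha)
    exact this.symm
  have hmem : c * y * c⁻¹ ∈ A₂ := by
    rw [← hconj]
    exact conj_mem_conj_smul c y A (mem_zpowers y)
  refine ⟨c, hc, ?_⟩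
  -- `(c y c⁻¹)⁻¹ y'` lies in `A₂ ⊓ C = 1`
  have hcy : (c * y * c⁻¹)⁻¹ * y' ∈ C := by
    have h1 : y⁻¹ * c⁻¹ * y ∈ C :=
      inv_conj_mem_of_le_normalizer hAN (mem_zpowers y) (C.inv_mem hc)
    have h5 : (c * y * c⁻¹)⁻¹ * y' = c * (y⁻¹ * c⁻¹ * y) * (y⁻¹ * y') := by
      group
    rw [h5]
    exact C.mul_mem (C.mul_mem hc h1) hyy'
  have hcy2 : (c * y * c⁻¹)⁻¹ * y' ∈ A₂ := A₂.mul_mem (A₂.inv_mem hmem) (mem_zpowers y')
  have hbot : (c * y * c⁻¹)⁻¹ * y' ∈ C ⊓ A₂ := ⟨hcy, hcy2⟩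
  rw [hdisj hA₂p, Subgroup.mem_bot] at hbot
  exact inv_mul_eq_one.mp hbot

/-- Every element of `O_{p',p}(G)` is of the form `t * d` with `t ∈ P`, `d ∈ O_{p'}(G)`. -/
theorem exists_mul_of_mem_pPrimePCore (P : Sylow p G) {m : G} (hm : m ∈ pPrimePCore p G) :
    ∃ t ∈ (P : Subgroup G) ⊓ pPrimePCore p G, ∃ d ∈ pPrimeCore p G, m = t * d := by
  set D := pPrimeCore p G with hD
  let f := QuotientGroup.mk' D
  have hf : Function.Surjective f := QuotientGroup.mk'_surjective D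
  let Q : Sylow p (G ⧸ D) := P.mapSurjective hf
  have h1 : (m : G ⧸ D) ∈ (Q : Subgroup (G ⧸ D)) := pCore_le_sylow Q hm
  obtain ⟨t, ht, hmt⟩ : ∃ t ∈ (P : Subgroup G), f t = (m : G ⧸ D) := h1
  have hd : t⁻¹ * m ∈ D := by
    have : (t : G ⧸ D) = (m : G ⧸ D) := hmt
    exact QuotientGroup.eq.mp this
  refine ⟨t, ⟨ht, ?_⟩, t⁻¹ * m, hd, by group⟩
  have h2 : t = m * (t⁻¹ * m)⁻¹ := by group
  rw [h2]
  exact (pPrimePCore p G).mul_mem hm (pPrimeCore_le_pPrimePCore (p := p) (G := G) ((pPrimeCore p G).inv_mem hd))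

/-- Elements of `D ⊓ N(H)` centralize `H` when `H` is a `p`-subgroup. -/
theorem mem_centralizer_of_mem_inf_normalizer {H : Subgroup G} (hH : IsPGroup p H) {c : G}
    (hcD : c ∈ pPrimeCore p G) (hcN : c ∈ normalizer (H : Set G)) :
    c ∈ centralizer (H : Set G) := by
  rw [Subgroup.mem_centralizer_iff]
  intro h hh
  have h1 : h * c * h⁻¹ * c⁻¹ ∈ pPrimeCore p G := by
    have := (inferInstance : (pPrimeCore p G).Normal).conj_mem c hcD h
    exact (pPrimeCore p G).mul_mem this ((pPrimeCore p G).inv_mem hcD)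
  have h2 : h * c * h⁻¹ * c⁻¹ ∈ H := by
    have h3 : c * h⁻¹ * c⁻¹ ∈ H := (Subgroup.mem_normalizer_iff.mp hcN h⁻¹).mp (H.inv_mem hh)
    have : h * c * h⁻¹ * c⁻¹ = h * (c * h⁻¹ * c⁻¹) := by group
    rw [this]
    exact H.mul_mem hh h3
  have hb : pPrimeCore p G ⊓ H = ⊥ := by
    refine disjoint_of_coprime_card ?_
    obtain ⟨n, hn⟩ := hH.exists_card_eq
    rw [hn]
    exact Nat.Coprime.pow_right n pPrimeCore_coprime
  have h4 : h * c * h⁻¹ * c⁻¹ ∈ pPrimeCore p G ⊓ H := ⟨h1, h2⟩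
  rw [hb, Subgroup.mem_bot] at h4
  have h5 : h * c * h⁻¹ = c := mul_inv_eq_one.mp h4
  have h6 : h * c = c * h := mul_inv_eq_iff_eq_mul.mp h5
  exact h6

omit [Finite G] in
theorem centralizer_le_normalizer' (H : Subgroup G) :
    centralizer (H : Set G) ≤ normalizer (H : Set G) :=
  by
  intro c hc
  rw [Subgroup.mem_normalizer_iff]
  intro h
  have key : ∀ {c : G}, c ∈ centralizer (H : Set G) → ∀ {h : G}, h ∈ H → c * h * c⁻¹ = h := by
    intro c hc h hh
    have := (Subgroup.mem_centralizer_iff.mp hc) h hh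
    rw [← this]
    group
  constructor
  · intro hh
    rwa [key hc hh]
  · intro hh
    have := key ((centralizer (H : Set G)).inv_mem hc) hh
    have e : c⁻¹ * (c * h * c⁻¹) * c⁻¹⁻¹ = h := by group
    rw [e] at this
    rw [this]
    exact hh

/-- Part (a). -/
theorem part_a (P : Sylow p G) {y d : G}
    (hy : y ∈ normalizer (((P : Subgroup G) ⊓ pPrimePCore p G : Subgroup G) : Set G))
    (hp : ∃ k : ℕ, orderOf y = p ^ k) (hd : d ∈ pPrimeCore p G)
    (hd' : d⁻¹ * y * d ∈ normalizer (((P : Subgroup G) ⊓ pPrimePCore p G : Subgroup G) : Set G)) :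
    ∃ d₁ ∈ pPrimeCore p G ⊓ centralizer ({y} : Set G),
      ∃ d₂ ∈ pPrimeCore p G ⊓ centralizer (((P : Subgroup G) ⊓ pPrimePCore p G : Subgroup G) : Set G),
        d = d₁ * d₂ := by
  set H : Subgroup G := (P : Subgroup G) ⊓ pPrimePCore p G with hHdef
  set N := normalizer (H : Set G) with hN
  set D := pPrimeCore p G with hD
  have hHp : IsPGroup p H := P.isPGroup'.to_le inf_le_left
  set C := D ⊓ N with hC
  have hCp : (Nat.card C).Coprime p := by
    refine Nat.Coprime.coprime_dvd_left (Subgroup.card_dvd_of_le inf_le_left) pPrimeCore_coprime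
  have hyC : y ∈ normalizer (C : Set G) := by
    rw [Subgroup.mem_normalizer_iff]
    intro x
    constructor
    · rintro ⟨h1, h2⟩
      exact ⟨(inferInstance : D.Normal).conj_mem x h1 y, N.mul_mem (N.mul_mem hy h2) (N.inv_mem hy)⟩
    · rintro ⟨h1, h2⟩
      have e : x = y⁻¹ * (y * x * y⁻¹) * y := by group
      rw [e]
      refine ⟨?_, N.mul_mem (N.mul_mem (N.inv_mem hy) h2) hy⟩
      have := (inferInstance : D.Normal).conj_mem _ h1 y⁻¹
      simpa using this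
  have hcoset : y⁻¹ * (d⁻¹ * y * d) ∈ C := by
    refine ⟨?_, N.mul_mem (N.inv_mem hy) hd'⟩
    have h1 : y⁻¹ * d⁻¹ * y ∈ D := by
      have := (inferInstance : D.Normal).conj_mem _ (D.inv_mem hd) y⁻¹
      simpa using this
    have e : y⁻¹ * (d⁻¹ * y * d) = y⁻¹ * d⁻¹ * y * d := by group
    rw [e]
    exact D.mul_mem h1 hd
  have hord : orderOf (d⁻¹ * y * d) = orderOf y := by
    have := orderOf_injective (MulAut.conj d⁻¹).toMonoidHom (MulAut.conj d⁻¹).injective y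
    simpa [MulAut.conj_apply] using this
  obtain ⟨c, hc, hcy⟩ := exists_conj_of_mem_coset C hCp hyC hp hord hcoset
  refine ⟨d * c, ⟨D.mul_mem hd hc.1, ?_⟩, c⁻¹, ⟨D.inv_mem hc.1, ?_⟩, by group⟩
  · show d * c ∈ centralizer ({y} : Set G)
    rw [Subgroup.mem_centralizer_singleton_iff]
    have e : c * y * c⁻¹ = d⁻¹ * y * d := hcy
    have : d * c * y = d * (c * y * c⁻¹) * c := by group
    rw [this, e]
    group
  · exact (centralizer (H : Set G)).inv_mem (mem_centralizer_of_mem_inf_normalizer hHp hc.1 hc.2)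

/-- Frattini: every element of `G` is of the form `d * n`. -/
theorem exists_mul_normalizer (P : Sylow p G) (g : G) :
    ∃ d ∈ pPrimeCore p G, ∃ n ∈ normalizer (((P : Subgroup G) ⊓ pPrimePCore p G : Subgroup G) : Set G),
      g = d * n := by
  set M := pPrimePCore p G with hM
  have h1 := Cfsg.Agent.Lib.LocalStruct.PClosed.frattini_inf P M
  have h2 : g⁻¹ ∈ normalizer (((P : Subgroup G) ⊓ M : Subgroup G) : Set G) ⊔ M := by
    rw [h1]; exact mem_top _
  have h3 : g⁻¹ ∈ ((normalizer (((P : Subgroup G) ⊓ M : Subgroup G) : Set G) ⊔ M : Subgroup G) : Set G) := h2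
  rw [Subgroup.mul_normal] at h3
  obtain ⟨n₀, hn₀, m, hm, e⟩ := Set.mem_mul.mp h3
  obtain ⟨t, ht, d₀, hd₀, rfl⟩ := exists_mul_of_mem_pPrimePCore P hm
  have htN : t ∈ normalizer (((P : Subgroup G) ⊓ M : Subgroup G) : Set G) :=
    Subgroup.le_normalizer ht
  refine ⟨d₀⁻¹, (pPrimeCore p G).inv_mem hd₀, t⁻¹ * n₀⁻¹, ?_, ?_⟩
  · exact Subgroup.mul_mem _ (Subgroup.inv_mem _ htN) (Subgroup.inv_mem _ hn₀)
  · have : g = (g⁻¹)⁻¹ := by group
    rw [this, ← e]
    group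

/-- Let P be a Sylow p-subgroup of a finite group G, H = P ∩ O_{p',p}(G), N = N_G(H) and D = O_{p'}(G). (a) If y is an element of p-power order of N and d ∈ D with d⁻¹ y d ∈ N, then d = d₁ d₂ with d₁ ∈ C_D(y) and d₂ ∈ C_D(H). (b) Two elements of P that are conjugate in G are conjugate in N. -/
theorem result {G : Type*} [Group G] [Finite G] {p : ℕ} [Fact p.Prime] (P : Sylow p G) :
    (∀ y ∈ Subgroup.normalizer (((P : Subgroup G) ⊓ Cfsg.pPrimePCore p G : Subgroup G) : Set G), (∃ k : ℕ, orderOf y = p ^ k) →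
      ∀ d ∈ Cfsg.pPrimeCore p G, d⁻¹ * y * d ∈ Subgroup.normalizer (((P : Subgroup G) ⊓ Cfsg.pPrimePCore p G : Subgroup G) : Set G) →
        ∃ d₁ ∈ Cfsg.pPrimeCore p G ⊓ Subgroup.centralizer ({y} : Set G),
          ∃ d₂ ∈ Cfsg.pPrimeCore p G ⊓ Subgroup.centralizer (((P : Subgroup G) ⊓ Cfsg.pPrimePCore p G : Subgroup G) : Set G), d = d₁ * d₂) ∧
    ∀ x y : G, x ∈ (P : Subgroup G) → y ∈ (P : Subgroup G) → IsConj x y →
      ∃ n ∈ Subgroup.normalizer (((P : Subgroup G) ⊓ Cfsg.pPrimePCore p G : Subgroup G) : Set G), n * x * n⁻¹ = y := by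
  refine ⟨fun y hy hp d hd hd' => part_a P hy hp hd hd', ?_⟩
  intro x y hx hy hxy
  obtain ⟨g, rfl⟩ := isConj_iff.mp hxy
  set N := normalizer (((P : Subgroup G) ⊓ pPrimePCore p G : Subgroup G) : Set G) with hN
  have hPN : (P : Subgroup G) ≤ N := Cfsg.Agent.Lib.LocalStruct.PClosed.le_normalizer_inf (by
    rw [Subgroup.normalizer_eq_top]; exact le_top)
  obtain ⟨d, hd, n, hn, rfl⟩ := exists_mul_normalizer P g
  have hzN : n * x * n⁻¹ ∈ N := N.mul_mem (N.mul_mem hn (hPN hx)) (N.inv_mem hn)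
  have hzp : ∃ k : ℕ, orderOf (n * x * n⁻¹) = p ^ k := by
    have h1 := orderOf_injective (MulAut.conj n).toMonoidHom (MulAut.conj n).injective x
    have h2 : orderOf (n * x * n⁻¹) = orderOf x := by simpa [MulAut.conj_apply] using h1
    rw [h2]
    obtain ⟨k, hk⟩ := IsPGroup.iff_orderOf.mp P.isPGroup' ⟨x, hx⟩
    exact ⟨k, by rwa [Subgroup.orderOf_mk] at hk⟩
  obtain ⟨d₁, hd₁, d₂, hd₂, hdd⟩ := part_a P hzN hzp ((pPrimeCore p G).inv_mem hd) (by
    have : d⁻¹⁻¹ * (n * x * n⁻¹) * d⁻¹ = d * n * x * (d * n)⁻¹ := by group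
    rw [this]
    exact hPN hy)
  have hd₂N : d₂ ∈ N := centralizer_le_normalizer' _ hd₂.2
  refine ⟨d₂⁻¹ * n, N.mul_mem (N.inv_mem hd₂N) hn, ?_⟩
  have hcomm : d₁ * (n * x * n⁻¹) = (n * x * n⁻¹) * d₁ := by
    have := Subgroup.mem_centralizer_singleton_iff.mp hd₁.2
    exact this
  have e1 : d = d₂⁻¹ * d₁⁻¹ := by
    have : d⁻¹⁻¹ = (d₁ * d₂)⁻¹ := by rw [hdd]
    simpa using this
  rw [e1]
  have h7 : d₁⁻¹ * (n * x * n⁻¹) * d₁ = n * x * n⁻¹ := by
    rw [mul_assoc, ← hcomm]; group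
  calc d₂⁻¹ * n * x * (d₂⁻¹ * n)⁻¹ = d₂⁻¹ * (n * x * n⁻¹) * d₂ := by group
    _ = d₂⁻¹ * (d₁⁻¹ * (n * x * n⁻¹) * d₁) * d₂ := by rw [h7]
    _ = d₂⁻¹ * d₁⁻¹ * n * x * (d₂⁻¹ * d₁⁻¹ * n)⁻¹ := by group

end Cfsg.Agent.S1907
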