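import Cfsg.Statements.S1910
import Cfsg.Agent.Lib.Coprime.Action
import Cfsg.Agent.Lib.Core.SylowFacts

set_option autoImplicit false
open Cfsg

namespace Cfsg.Agent.S1910

open Subgroup Cfsg.Agent.Lib.Coprime.Action Cfsg.Agent.Lib.Coprime.SchurZassenhaus
open scoped Pointwise

variable {G : Type*} [Group G] [Finite G]

/-- A `2`-element lying in an odd order subgroup is trivial. -/
theorem eq_one_of_odd {L : Subgroup G} (hL : Odd (Nat.card L)) {x : G} (hx : x ∈ L)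
    (h2 : ∃ k : ℕ, x ^ 2 ^ k = 1) : x = 1 := by
  obtain ⟨k, hk⟩ := h2
  have h1 : orderOf x ∣ Nat.card L := Subgroup.orderOf_dvd_natCard L hx
  have h3 : orderOf x ∣ 2 ^ k := orderOf_dvd_of_pow_eq_one hk
  have h4 : Nat.Coprime (Nat.card L) (2 ^ k) := Nat.Coprime.pow_right k (Nat.coprime_two_right.mpr hL)
  exact orderOf_eq_one_iff.mp (Nat.eq_one_of_dvd_coprimes h4 h1 h3)

theorem two_elt {Y : Subgroup G} (hY : IsPGroup 2 Y) {x : G} (hx : x ∈ Y) : ∃ k : ℕ, x ^ 2 ^ k = 1 := by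
  obtain ⟨k, hk⟩ := hY ⟨x, hx⟩
  exact ⟨k, congrArg Subtype.val hk⟩

/-- Main local analysis. -/
theorem main1 {Q K T Q₁ : Subgroup G}
    (hKt : ∀ g : G, g ∉ normalizer (K : Set G) → Odd (Nat.card ↥(K ⊓ K.map (MulAut.conj g).toMonoidHom)))
    (hQK : Odd (Nat.card ↥(Q ⊓ K))) (hTK : T ≤ K) (hTN : T ≤ normalizer (Q : Set G))
    (hTp : IsPGroup 2 T) (hT1 : T ≠ ⊥) (hQ₁Q : Q₁ ≤ Q) (hQ₁p : IsPGroup 2 Q₁)
    (hTQ₁ : T ≤ normalizer (Q₁ : Set G)) :
    (Q₁ ⊓ centralizer (T : Set G) ≤ normalizer (K : Set G)) ∧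
      (Q₁ ⊓ centralizer (T : Set G) < Q₁ →
        ∃ f : T →* ↥(Q₁ ⊓ centralizer (T : Set G) : Subgroup G), Function.Injective f) := by
  have : Fact (Nat.Prime 2) := ⟨Nat.prime_two⟩
  set R := Q₁ ⊓ centralizer (T : Set G) with hR
  set Y := T ⊔ Q₁ with hY
  have hYp : IsPGroup 2 Y := IsPGroup.to_sup_of_normal_right' hTp hQ₁p hTQ₁
  have hQ₁Y : Q₁ ≤ Y := le_sup_right
  have hTY : T ≤ Y := le_sup_left
  have hQKY : ∀ {x : G}, x ∈ Q → x ∈ K → x ∈ Y → x = 1 := fun hq hk hy =>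
    eq_one_of_odd hQK ⟨hq, hk⟩ (two_elt hYp hy)
  have hTQ₁1 : ∀ {x : G}, x ∈ T → x ∈ Q₁ → x = 1 := fun ht hq =>
    hQKY (hQ₁Q hq) (hTK ht) (hTY ht)
  -- a `2`-element commuting with `t ≠ 1` of `T` normalizes `K`
  have step1 : ∀ {x t : G}, x ∈ Q₁ → t ∈ T → t ≠ 1 → x * t = t * x → x ∈ normalizer (K : Set G) := by
    intro x t hx ht ht1 hc
    by_contra hn
    have h1 := hKt x hn
    refine ht1 (eq_one_of_odd h1 ⟨hTK ht, ?_⟩ (two_elt hTp ht))
    refine ⟨t, hTK ht, ?_⟩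
    show x * t * x⁻¹ = t
    rw [hc]; group
  have step2 : ∀ {x : G}, x ∈ Q₁ → x ∈ normalizer (K : Set G) → x ∈ centralizer (T : Set G) := by
    intro x hx hxN
    refine Subgroup.mem_centralizer_iff.mpr fun s hs => ?_
    have hc : x * s * x⁻¹ * s⁻¹ = 1 := by
      refine hQKY ?_ ?_ ?_
      · have h1 : s * x⁻¹ * s⁻¹ ∈ Q := conj_mem_of_le_normalizer hTN hs (Q.inv_mem (hQ₁Q hx))
        have e : x * s * x⁻¹ * s⁻¹ = x * (s * x⁻¹ * s⁻¹) := by group
        rw [e]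
        exact Q.mul_mem (hQ₁Q hx) h1
      · exact K.mul_mem ((Subgroup.mem_normalizer_iff.mp hxN s).mp (hTK hs)) (K.inv_mem (hTK hs))
      · exact Y.mul_mem (Y.mul_mem (Y.mul_mem (hQ₁Y hx) (hTY hs)) (Y.inv_mem (hQ₁Y hx))) (Y.inv_mem (hTY hs))
    have h2 : x * s = s * x := by
      have h3 : x * s * x⁻¹ = s := mul_inv_eq_one.mp hc
      exact mul_inv_eq_iff_eq_mul.mp h3
    exact h2.symm
  obtain ⟨⟨t₁, ht₁⟩, ht₁1⟩ := (Subgroup.ne_bot_iff_exists_ne_one).mp hT1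
  have ht₁1' : t₁ ≠ 1 := fun h => ht₁1 (Subtype.ext h)
  refine ⟨?_, ?_⟩
  · rintro r ⟨hrQ, hrC⟩
    exact step1 hrQ ht₁ ht₁1' ((Subgroup.mem_centralizer_iff.mp hrC t₁ ht₁).symm)
  · intro hlt
    -- `T` centralizes `R`
    have hTR : ∀ {t r : G}, t ∈ T → r ∈ R → t * r = r * t := fun ht hr =>
      Subgroup.mem_centralizer_iff.mp hr.2 _ ht
    have hTNR : T ≤ normalizer (R : Set G) := by
      rw [Subgroup.le_normalizer_iff]
      intro t ht r hr
      rw [hTR ht hr]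
      simpa using hr
    set W := R ⊔ T with hW
    have hWY : W ≤ Y := sup_le (inf_le_left.trans hQ₁Y) hTY
    -- elements of `W ∩ Q₁` are in `R`
    have hWQ : ∀ {x : G}, x ∈ W → x ∈ Q₁ → x ∈ R := by
      intro x hx hq
      obtain ⟨r, hr, t, ht, rfl⟩ := exists_mul_of_mem_sup hTNR hx
      have h1 : t ∈ Q₁ := by
        have e : t = r⁻¹ * (r * t) := by group
        rw [e]
        exact Q₁.mul_mem (Q₁.inv_mem hr.1) hq
      rw [hTQ₁1 ht h1, mul_one]
      exact hr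
    obtain ⟨x₀, hx₀, hx₀R⟩ := SetLike.exists_of_lt hlt
    have hW' : W.subgroupOf Y < ⊤ := by
      refine lt_top_iff_ne_top.mpr fun h => hx₀R ?_
      have h1 : (⟨x₀, hQ₁Y hx₀⟩ : Y) ∈ W.subgroupOf Y := by rw [h]; trivial
      exact hWQ h1 hx₀
    have hnil : Group.IsNilpotent Y := hYp.isNilpotent
    have hNC := Group.normalizerCondition_of_isNilpotent (G := Y) (W.subgroupOf Y) hW'
    obtain ⟨y, hy, hyW⟩ := SetLike.exists_of_lt hNC
    have hyW' : (y : G) ∉ W := hyW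
    have hyY : (y : G) ∈ Q₁ ⊔ T := by rw [sup_comm]; exact y.2
    obtain ⟨x, hx, t₀, ht₀, e⟩ := exists_mul_of_mem_sup hTQ₁ hyY
    have hxW : x ∉ W := by
      intro h
      apply hyW'
      rw [e]
      exact W.mul_mem h (le_sup_right (a := R) ht₀)
    have hxR : x ∉ R := fun h => hxW (le_sup_left (a := R) (b := T) h)
    -- conjugates of `T` by `x` lie in `W`
    have hconj : ∀ {t : G}, t ∈ T → x⁻¹ * t * x ∈ W := by
      intro t ht
      have h1 : (y⁻¹ : Y) ∈ normalizer (((W.subgroupOf Y : Subgroup Y) : Set Y)) :=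
        Subgroup.inv_mem _ hy
      have h2 : (⟨t, hTY ht⟩ : Y) ∈ W.subgroupOf Y := by
        show t ∈ W
        exact le_sup_right (a := R) ht
      have h3 := (Subgroup.mem_normalizer_iff.mp h1 _).mp h2
      have h4 : (y : G)⁻¹ * t * (y : G) ∈ W := by
        have h5 : ((y⁻¹ * ⟨t, hTY ht⟩ * y⁻¹⁻¹ : Y) : G) ∈ W := h3
        simpa using h5
      have e2 : x = (y : G) * t₀⁻¹ := by rw [e]; group
      have e3 : x⁻¹ * t * x = t₀ * ((y : G)⁻¹ * t * (y : G)) * t₀⁻¹ := by rw [e2]; group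
      rw [e3]
      have ht₀W : t₀ ∈ W := le_sup_right (a := R) ht₀
      exact W.mul_mem (W.mul_mem ht₀W h4) (W.inv_mem ht₀W)
    have hcR : ∀ {t : G}, t ∈ T → x⁻¹ * t * x * t⁻¹ ∈ R := by
      intro t ht
      have hq : x⁻¹ * t * x * t⁻¹ ∈ Q₁ := by
        have h1 : t * x * t⁻¹ ∈ Q₁ := conj_mem_of_le_normalizer hTQ₁ ht hx
        have e1 : x⁻¹ * t * x * t⁻¹ = x⁻¹ * (t * x * t⁻¹) := by group
        rw [e1]
        exact Q₁.mul_mem (Q₁.inv_mem hx) h1
      refine hWQ ?_ hq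
      exact W.mul_mem (hconj ht) (W.inv_mem (le_sup_right (a := R) ht))
    have hcmul : ∀ {t s : G}, t ∈ T → s ∈ T →
        x⁻¹ * (t * s) * x * (t * s)⁻¹ = (x⁻¹ * t * x * t⁻¹) * (x⁻¹ * s * x * s⁻¹) := by
      intro t s ht hs
      have h1 := hTR ht (hcR hs)
      have e1 : (x⁻¹ * t * x * t⁻¹) * (x⁻¹ * s * x * s⁻¹) =
          x⁻¹ * t * x * t⁻¹ * (x⁻¹ * s * x * s⁻¹) := rfl
      have e2 : x⁻¹ * (t * s) * x * (t * s)⁻¹ = (x⁻¹ * t * x * t⁻¹) * (t * (x⁻¹ * s * x * s⁻¹)) * t⁻¹ := by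
        group
      rw [e2, h1]
      group
    let f : T →* ↥R :=
      { toFun := fun t => ⟨x⁻¹ * t * x * (t : G)⁻¹, hcR t.2⟩
        map_one' := by
          apply Subtype.ext
          simp
        map_mul' := by
          intro a b
          apply Subtype.ext
          exact hcmul a.2 b.2 }
    refine ⟨f, (injective_iff_map_eq_one f).mpr ?_⟩
    rintro ⟨t, ht⟩ ht1
    have h1 : x⁻¹ * t * x * t⁻¹ = 1 := congrArg Subtype.val ht1
    have h2 : x * t = t * x := by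
      have h3 : x⁻¹ * t * x = t := mul_inv_eq_one.mp h1
      have h4 : t * x = x * t := by
        have := congrArg (fun z => x * z) h3
        simpa [mul_assoc] using this
      exact h4.symm
    by_contra hne
    have ht' : t ≠ 1 := fun h => hne (Subtype.ext h)
    exact hxR ⟨hx, step2 hx (step1 hx ht ht' h2)⟩

/-- The Sylow intersection with a normalized factor. -/
theorem sylow_inf {p : ℕ} [Fact p.Prime] {Q T S : Subgroup G} (hTN : T ≤ normalizer (Q : Set G))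
    (hS : IsSylowIn p S (Q ⊔ T)) : IsSylowIn p (S ⊓ Q) Q := by
  refine ⟨inf_le_right, hS.2.1.to_le inf_le_left, ?_⟩
  rw [Subgroup.inf_relIndex_right]
  intro h
  apply hS.2.2
  have hLN : Q ⊔ T ≤ normalizer (Q : Set G) := sup_le Subgroup.le_normalizer hTN
  have hN : (Q.subgroupOf (Q ⊔ T)).Normal :=
    (Subgroup.normal_subgroupOf_iff_le_normalizer le_sup_left).mpr hLN
  have h1 := Cfsg.Agent.Lib.Core.SylowFacts.relIndex_dvd_index_of_normal_right
    (S.subgroupOf (Q ⊔ T)) (Q.subgroupOf (Q ⊔ T))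
  have h2 : (S.subgroupOf (Q ⊔ T)).relIndex (Q.subgroupOf (Q ⊔ T)) = S.relIndex Q := by
    show (S.comap (Q ⊔ T).subtype).relIndex _ = _
    rw [Subgroup.relIndex_comap, Subgroup.subgroupOf_map_subtype, inf_eq_left.mpr le_sup_left]
  rw [h2] at h1
  exact h.trans h1

theorem card_le_of_isSylowIn {p : ℕ} [Fact p.Prime] {T L B : Subgroup G} (hT : IsSylowIn p T L)
    (hBL : B ≤ L) (hB : IsPGroup p B) : Nat.card B ≤ Nat.card T := by
  have hB' : IsPGroup p (B.subgroupOf L) := hB.comap_subtype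
  obtain ⟨P, hP⟩ := hB'.exists_le_sylow
  have hPL := isSylowIn_map P
  obtain ⟨k, hk, e⟩ := hPL.exists_conj hT
  rw [← e, card_conj_smul]
  refine Subgroup.card_le_of_le ?_
  intro b hb
  exact ⟨⟨b, hBL hb⟩, hP hb, rfl⟩

theorem exists_isSylowIn_ge {p : ℕ} [Fact p.Prime] {R B : Subgroup G} (hRB : R ≤ B)
    (hR : IsPGroup p R) : ∃ T : Subgroup G, R ≤ T ∧ IsSylowIn p T B := by
  have hR' : IsPGroup p (R.subgroupOf B) := hR.comap_subtype
  obtain ⟨P, hP⟩ := hR'.exists_le_sylow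
  refine ⟨(P : Subgroup B).map B.subtype, ?_, isSylowIn_map P⟩
  intro b hb
  exact ⟨⟨b, hRB hb⟩, hP hb, rfl⟩

/-- Tightly embeddedness passes to conjugates. -/
theorem tight_conj {Q : Subgroup G}
    (hQ : ∀ g : G, g ∉ normalizer (Q : Set G) → Odd (Nat.card ↥(Q ⊓ Q.map (MulAut.conj g).toMonoidHom)))
    (g x : G) (hx : x ∉ normalizer ((Q.map (MulAut.conj g).toMonoidHom : Subgroup G) : Set G)) :
    Odd (Nat.card ↥(Q.map (MulAut.conj g).toMonoidHom ⊓
      (Q.map (MulAut.conj g).toMonoidHom).map (MulAut.conj x).toMonoidHom)) := by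
  set h := g⁻¹ * x * g with hh
  have hmem : ∀ z : G, z ∈ Q.map (MulAut.conj g).toMonoidHom ↔ g⁻¹ * z * g ∈ Q := fun z =>
    mem_conj_smul_iff g z Q
  have h1 : h ∉ normalizer (Q : Set G) := by
    intro hN
    apply hx
    rw [Subgroup.mem_normalizer_iff]
    intro z
    rw [hmem, hmem]
    have e : g⁻¹ * (x * z * x⁻¹) * g = h * (g⁻¹ * z * g) * h⁻¹ := by rw [hh]; group
    rw [e]
    exact Subgroup.mem_normalizer_iff.mp hN _
  have h2 := hQ h h1
  have e : Q.map (MulAut.conj g).toMonoidHom ⊓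
      (Q.map (MulAut.conj g).toMonoidHom).map (MulAut.conj x).toMonoidHom =
      (Q ⊓ Q.map (MulAut.conj h).toMonoidHom).map (MulAut.conj g).toMonoidHom := by
    rw [Subgroup.map_inf _ _ _ (MulAut.conj g).injective]
    congr 1
    rw [Subgroup.map_map, Subgroup.map_map]
    congr 1
    ext z
    simp [hh, MulAut.conj_apply]
    group
  rw [e, Subgroup.card_map_of_injective (MulAut.conj g).injective]
  exact h2

/-- Let Q be a tightly embedded subgroup of a finite group G, g an element outside N_G(Q), T a nontrivial Sylow 2-subgroup of Q^g ∩ N_G(Q), and S a Sylow 2-subgroup of QT containing T. Then T ∩ Q = 1, and N_S(T) is the direct product of T and N_S(T) ∩ Q, with N_S(T) ∩ Q isomorphic to T. -/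
theorem result {G : Type*} [Group G] [Finite G] (Q : Subgroup G) (hQ : Cfsg.IsTightlyEmbedded Q)
    (g : G) (hg : g ∉ Subgroup.normalizer (Q : Set G))
    (T : Subgroup G) (hT1 : T ≠ ⊥) (hT : T ≤ Q.map (MulAut.conj g).toMonoidHom ⊓ Subgroup.normalizer (Q : Set G))
    (hTsyl : IsPGroup 2 T ∧ ¬ 2 ∣ T.relIndex (Q.map (MulAut.conj g).toMonoidHom ⊓ Subgroup.normalizer (Q : Set G)))
    (S : Subgroup G) (hTS : T ≤ S) (hS : S ≤ Q ⊔ T) (hSsyl : IsPGroup 2 S ∧ ¬ 2 ∣ S.relIndex (Q ⊔ T)) :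
    T ⊓ Q = ⊥ ∧
      T ⊓ (S ⊓ Subgroup.normalizer (T : Set G) ⊓ Q) = ⊥ ∧
      ⁅T, S ⊓ Subgroup.normalizer (T : Set G) ⊓ Q⁆ = ⊥ ∧
      T ⊔ (S ⊓ Subgroup.normalizer (T : Set G) ⊓ Q) = S ⊓ Subgroup.normalizer (T : Set G) ∧
      Nonempty (↥(S ⊓ Subgroup.normalizer (T : Set G) ⊓ Q) ≃* T) := by
  have : Fact (Nat.Prime 2) := ⟨Nat.prime_two⟩
  have hQKdef : Odd (Nat.card ↥(Q ⊓ Q.map (MulAut.conj g).toMonoidHom)) := hQ.2 g hg
  have hKt := tight_conj hQ.2 g
  set K := Q.map (MulAut.conj g).toMonoidHom with hK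
  have hTK : T ≤ K := hT.trans inf_le_left
  have hTN : T ≤ normalizer (Q : Set G) := hT.trans inf_le_right
  have hTp : IsPGroup 2 T := hTsyl.1
  have hKQ : Odd (Nat.card ↥(K ⊓ Q)) := by rwa [inf_comm]
  have hTs : IsSylowIn 2 T (K ⊓ normalizer (Q : Set G)) := ⟨hT, hTsyl.1, hTsyl.2⟩
  set Q₁ := S ⊓ Q with hQ₁
  have hQ₁Q : Q₁ ≤ Q := inf_le_right
  have hQ₁p : IsPGroup 2 Q₁ := hSsyl.1.to_le inf_le_left
  have hTQ₁ : T ≤ normalizer (Q₁ : Set G) := by
    rw [Subgroup.le_normalizer_iff]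
    rintro t ht z ⟨hzS, hzQ⟩
    exact ⟨S.mul_mem (S.mul_mem (hTS ht) hzS) (S.inv_mem (hTS ht)),
      conj_mem_of_le_normalizer hTN ht hzQ⟩
  have hSs : IsSylowIn 2 S (Q ⊔ T) := ⟨hS, hSsyl.1, hSsyl.2⟩
  have hQ₁s : IsSylowIn 2 Q₁ Q := sylow_inf hTN hSs
  have hTQ : T ⊓ Q = ⊥ := by
    rw [eq_bot_iff]
    rintro x ⟨hxT, hxQ⟩
    exact eq_one_of_odd hQKdef ⟨hxQ, hTK hxT⟩ (two_elt hTp hxT)
  have hR₀ : S ⊓ normalizer (T : Set G) ⊓ Q = Q₁ ⊓ centralizer (T : Set G) := by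
    apply le_antisymm
    · rintro x ⟨⟨hxS, hxN⟩, hxQ⟩
      refine ⟨⟨hxS, hxQ⟩, Subgroup.mem_centralizer_iff.mpr fun t ht => ?_⟩
      have h1 : x * t * x⁻¹ * t⁻¹ ∈ T ⊓ Q := by
        refine ⟨T.mul_mem ((Subgroup.mem_normalizer_iff.mp hxN t).mp ht) (T.inv_mem ht), ?_⟩
        have h2 : t * x⁻¹ * t⁻¹ ∈ Q := conj_mem_of_le_normalizer hTN ht (Q.inv_mem hxQ)
        have e : x * t * x⁻¹ * t⁻¹ = x * (t * x⁻¹ * t⁻¹) := by group
        rw [e]
        exact Q.mul_mem hxQ h2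
      rw [hTQ] at h1
      have h3 : x * t * x⁻¹ * t⁻¹ = 1 := h1
      have h4 : x * t * x⁻¹ = t := mul_inv_eq_one.mp h3
      exact (mul_inv_eq_iff_eq_mul.mp h4).symm
    · rintro x ⟨⟨hxS, hxQ⟩, hxC⟩
      exact ⟨⟨hxS, Subgroup.centralizer_le_normalizer _ hxC⟩, hxQ⟩
  have hmain := main1 hKt hQKdef hTK hTN hTp hT1 hQ₁Q hQ₁p hTQ₁
  refine ⟨hTQ, ?_, ?_, ?_, ?_⟩
  · rw [eq_bot_iff]
    rintro x ⟨hxT, ⟨_, hxQ⟩⟩
    have h1 : x ∈ T ⊓ Q := ⟨hxT, hxQ⟩
    rwa [hTQ] at h1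
  · rw [hR₀, eq_bot_iff, Subgroup.commutator_le]
    rintro t ht r ⟨_, hrC⟩
    have h1 : t * r = r * t := Subgroup.mem_centralizer_iff.mp hrC t ht
    rw [commutatorElement_def, h1]
    simp
  · apply le_antisymm
    · refine sup_le (le_inf hTS Subgroup.le_normalizer) inf_le_left
    · rintro x ⟨hxS, hxN⟩
      obtain ⟨k, hk, a, ha, e⟩ := exists_mul_of_mem_sup hTN (hS hxS)
      have hk' : k ∈ S ⊓ normalizer (T : Set G) ⊓ Q := by
        have e1 : k = x * a⁻¹ := by rw [e]; group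
        refine ⟨⟨?_, ?_⟩, hk⟩
        · rw [e1]
          exact S.mul_mem hxS (S.inv_mem (hTS ha))
        · rw [e1]
          exact (normalizer (T : Set G)).mul_mem hxN
            ((normalizer (T : Set G)).inv_mem (Subgroup.le_normalizer ha))
      rw [e]
      exact (T ⊔ (S ⊓ normalizer (T : Set G) ⊓ Q)).mul_mem
        (le_sup_right (a := T) hk') (le_sup_left (b := S ⊓ normalizer (T : Set G) ⊓ Q) ha)
  · rw [hR₀]
    set R := Q₁ ⊓ centralizer (T : Set G) with hR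
    have hRp : IsPGroup 2 R := hQ₁p.to_le inf_le_left
    obtain ⟨hRN, hRf⟩ := hmain
    -- `K` has Sylow subgroup the conjugate of `Q₁`
    set Q₁' := Q₁.map (MulAut.conj g).toMonoidHom with hQ₁'
    have hQ₁'s : IsSylowIn 2 Q₁' K := by
      refine ⟨Subgroup.map_mono hQ₁Q, hQ₁p.map _, ?_⟩
      rw [hQ₁', hK, Subgroup.relIndex_map_map_of_injective _ _ (MulAut.conj g).injective]
      exact hQ₁s.2.2
    have hcardQ₁' : Nat.card Q₁' = Nat.card Q₁ :=
      Subgroup.card_map_of_injective (MulAut.conj g).injective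
    have hTleQ₁ : Nat.card T ≤ Nat.card Q₁ := by
      rw [← hcardQ₁']
      exact card_le_of_isSylowIn hQ₁'s hTK hTp
    -- `R ≠ 1`
    have hR1 : R ≠ ⊥ := by
      by_cases hlt : R < Q₁
      · obtain ⟨f, hf⟩ := hRf hlt
        intro hbot
        apply hT1
        rw [eq_bot_iff]
        intro t ht
        have h1 : f ⟨t, ht⟩ = 1 := by
          apply Subtype.ext
          have h2 : ((f ⟨t, ht⟩ : R) : G) ∈ (⊥ : Subgroup G) := hbot ▸ (f ⟨t, ht⟩).2
          exact h2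
        have h2 : (⟨t, ht⟩ : T) = 1 := (injective_iff_map_eq_one f).mp hf _ h1
        exact congrArg Subtype.val h2
      · have hRQ₁ : R = Q₁ := by
          by_contra hne
          exact hlt (lt_of_le_of_ne inf_le_left hne)
        rw [hRQ₁]
        intro hbot
        have h1 := card_eq_card_mul_relIndex hQ₁Q
        rw [hbot, Subgroup.card_bot, one_mul] at h1
        have h2 := hQ₁s.2.2
        rw [hbot, ← h1] at h2
        exact h2 (even_iff_two_dvd.mp hQ.1)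
    -- the Sylow `T*` of `Q ⊓ N(K)` containing `R`
    have hRB : R ≤ Q ⊓ normalizer (K : Set G) := le_inf (inf_le_left.trans hQ₁Q) hRN
    obtain ⟨Tst, hRT, hTst⟩ := exists_isSylowIn_ge hRB hRp
    have hTstp : IsPGroup 2 Tst := hTst.2.1
    have hTstQ : Tst ≤ Q := hTst.1.trans inf_le_left
    have hTstN : Tst ≤ normalizer (K : Set G) := hTst.1.trans inf_le_right
    have hTst1 : Tst ≠ ⊥ := fun h => hR1 (by rw [eq_bot_iff, ← h]; exact hRT)
    -- the Sylow `S*` of `K ⊔ T*` containing `T*`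
    obtain ⟨Sst, hTstS, hSst⟩ := exists_isSylowIn_ge (le_sup_right : Tst ≤ K ⊔ Tst) hTstp
    set Q₂ := Sst ⊓ K with hQ₂
    have hQ₂s : IsSylowIn 2 Q₂ K := sylow_inf hTstN hSst
    have hTstQ₂ : Tst ≤ normalizer (Q₂ : Set G) := by
      rw [Subgroup.le_normalizer_iff]
      rintro t ht z ⟨hzS, hzQ⟩
      exact ⟨Sst.mul_mem (Sst.mul_mem (hTstS ht) hzS) (Sst.inv_mem (hTstS ht)),
        conj_mem_of_le_normalizer hTstN ht hzQ⟩
    have hmain2 := main1 (Q := K) (K := Q) hQ.2 hKQ hTstQ hTstN hTstp hTst1 inf_le_right hQ₂s.2.1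
      hTstQ₂
    set Rst := Q₂ ⊓ centralizer (Tst : Set G) with hRst
    obtain ⟨hRstN, hRstf⟩ := hmain2
    have hRstp : IsPGroup 2 Rst := hQ₂s.2.1.to_le inf_le_left
    have hRstleT : Nat.card Rst ≤ Nat.card T :=
      card_le_of_isSylowIn hTs (le_inf (inf_le_left.trans inf_le_right) hRstN) hRstp
    have hcardQ₂ : Nat.card Q₂ = Nat.card Q₁ := by
      obtain ⟨k, _, e⟩ := hQ₁'s.exists_conj hQ₂s
      rw [← e, card_conj_smul, hcardQ₁']
    have hRleTst : Nat.card R ≤ Nat.card Tst := Subgroup.card_le_of_le hRT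
    have hTstleRst : Rst < Q₂ → Nat.card Tst ≤ Nat.card Rst := by
      intro hlt
      obtain ⟨f, hf⟩ := hRstf hlt
      exact Nat.card_le_card_of_injective f hf
    by_cases hlt : R < Q₁
    · obtain ⟨f, hf⟩ := hRf hlt
      have hTleR : Nat.card T ≤ Nat.card R := Nat.card_le_card_of_injective f hf
      by_cases hlt2 : Rst < Q₂
      · have hc : Nat.card T = Nat.card R :=
          le_antisymm hTleR (hRleTst.trans ((hTstleRst hlt2).trans hRstleT))
        exact ⟨(MulEquiv.ofBijective f ((Nat.bijective_iff_injective_and_card f).mpr ⟨hf, hc⟩)).symm⟩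
      · exfalso
        have hRstQ₂ : Rst = Q₂ := by
          by_contra hne
          exact hlt2 (lt_of_le_of_ne inf_le_left hne)
        have h1 : Nat.card Q₂ ≤ Nat.card T := by rw [← hRstQ₂]; exact hRstleT
        have h2 : Nat.card R < Nat.card Q₁ := by
          refine lt_of_le_of_ne (Subgroup.card_le_of_le inf_le_left) fun hc => hlt.ne ?_
          exact Subgroup.eq_of_le_of_card_ge inf_le_left hc.ge
        omega
    · have hRQ₁ : R = Q₁ := by
        by_contra hne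
        exact hlt (lt_of_le_of_ne inf_le_left hne)
      have hQ₁leT : Nat.card Q₁ ≤ Nat.card T := by
        by_cases hlt2 : Rst < Q₂
        · rw [← hRQ₁]
          exact hRleTst.trans ((hTstleRst hlt2).trans hRstleT)
        · have hRstQ₂ : Rst = Q₂ := by
            by_contra hne
            exact hlt2 (lt_of_le_of_ne inf_le_left hne)
          rw [← hcardQ₂, ← hRstQ₂]
          exact hRstleT
      -- `T` is a Sylow subgroup of `K`
      have hTsK : IsSylowIn 2 T K := by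
        refine ⟨hTK, hTp, ?_⟩
        rw [relIndex_eq_of_card_eq hTK hQ₁'s.1 (by rw [hcardQ₁']; exact le_antisymm hTleQ₁ hQ₁leT)]
        exact hQ₁'s.2.2
      obtain ⟨k, _, e⟩ := hQ₁'s.exists_conj hTsK
      rw [hRQ₁]
      refine ⟨(Q₁.equivMapOfInjective _ (MulAut.conj g).injective).trans
        ((Subgroup.equivSMul (MulAut.conj k) Q₁').trans (MulEquiv.subgroupCongr e))⟩

end Cfsg.Agent.S1910
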