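import Cfsg.Statements.S1914
import Cfsg.Agent.Lib.InvZ4.Top
import Cfsg.Agent.Lib.Components.Basic

set_option autoImplicit false
open Cfsg

namespace Cfsg.Agent.S1914

/-- Let A be a semisimple subgroup (a central product of quasisimple groups, A = E(A)) of a finite group and t an involution normalizing A such that the Sylow 2-subgroups of C_A(t) are cyclic of order 4. Then A has 2-rank exactly 1. -/
theorem result {G : Type*} [Group G] [Finite G] (A : Subgroup G) (hA : Cfsg.layer ↥A = ⊤)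
    (t : G) (ht : orderOf t = 2) (htA : t ∈ Subgroup.normalizer (A : Set G))
    (hC : ∀ R : Sylow 2 ↥(A ⊓ Subgroup.centralizer ({t} : Set G)), IsCyclic R ∧ Nat.card R = 4) :
    Cfsg.PRankLE 2 1 A ∧ ¬ Cfsg.PRankLE 2 0 A := by
  classical
  haveI : Fact (Nat.Prime 2) := ⟨Nat.prime_two⟩
  have hcm : commutator ↥A = ⊤ := by
    have h1 := Cfsg.Agent.Lib.Components.Basic.layer_perfect (G := ↥A)
    rw [hA] at h1
    rw [commutator_def]
    exact h1
  have htt : t * t = 1 := by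
    rw [← sq, ← ht]
    exact pow_orderOf_eq_one t
  have ht1 : t ≠ 1 := by
    rintro rfl
    simp at ht
  set B : Subgroup G := A ⊓ Subgroup.centralizer ({t} : Set G) with hB
  obtain ⟨R⟩ : Nonempty (Sylow 2 ↥B) := Sylow.nonempty
  obtain ⟨hRc, hRcard⟩ := hC R
  obtain ⟨g, hg⟩ := IsCyclic.exists_generator (α := R)
  have hgo : orderOf g = 4 := by
    rw [← hRcard]
    exact orderOf_eq_card_of_forall_mem_zpowers hg
  set x : G := ((g : ↥B) : G) with hx
  have hxB : x ∈ B := (g : ↥B).2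
  have hxo : orderOf x = 4 := by
    rw [hx, Subgroup.orderOf_coe, Subgroup.orderOf_coe, hgo]
  have hxc : Nat.card (Subgroup.zpowers x) = 4 := by
    rw [Nat.card_zpowers, hxo]
  have hxp : IsPGroup 2 (Subgroup.zpowers x) :=
    IsPGroup.of_card (n := 2) (by rw [hxc]; norm_num)
  have hZ : Cfsg.Agent.Lib.KleinSD.IsMax2 (Subgroup.zpowers x) B := by
    refine ⟨Subgroup.zpowers_le.mpr hxB, hxp, ?_⟩
    intro Q hQB hQp hxQ
    have hQ' : IsPGroup 2 (Q.subgroupOf B) := by
      rintro ⟨⟨q, hqB⟩, hq⟩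
      obtain ⟨k, hk⟩ := hQp ⟨q, hq⟩
      refine ⟨k, ?_⟩
      apply Subtype.ext
      apply Subtype.ext
      have := congrArg Subtype.val hk
      simpa using this
    obtain ⟨R', hR'⟩ := hQ'.exists_le_sylow
    have h1 : Nat.card (Q.subgroupOf B) ≤ Nat.card R' := Subgroup.card_le_of_le hR'
    rw [(hC R').2] at h1
    have h2 : Nat.card (Q.subgroupOf B) = Nat.card Q :=
      Nat.card_congr (Subgroup.subgroupOfEquivOfLe hQB).toEquiv
    rw [h2] at h1
    have h3 : Subgroup.zpowers x = Q := Subgroup.eq_of_le_of_card_ge hxQ (by rw [hxc]; exact h1)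
    rw [h3]
  refine ⟨Cfsg.Agent.Lib.InvZ4.Top.main_rank hcm htt ht1 htA hxo hZ, ?_⟩
  intro h0
  have hxA : x ∈ A := (Subgroup.mem_inf.mp hxB).1
  let u : ↥A := ⟨x * x, mul_mem hxA hxA⟩
  have hzz := Cfsg.Agent.Lib.InvZ4.Grow.sq_sq_z4 hxo
  have hz1 := Cfsg.Agent.Lib.InvZ4.Grow.sq_ne_one_z4 hxo
  have hu2 : u ^ 2 = 1 := by
    apply Subtype.ext
    simp only [u, sq, Subgroup.coe_mul, MulMemClass.mk_mul_mk, OneMemClass.coe_one]
    exact hzz
  have hu1 : u ≠ 1 := by
    intro h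
    exact hz1 (congrArg Subtype.val h)
  have huo : orderOf u = 2 := orderOf_eq_prime hu2 hu1
  have h1 := h0 (Subgroup.zpowers u) ⟨⟨by
    rintro ⟨_, i, rfl⟩ ⟨_, j, rfl⟩
    apply Subtype.ext
    exact ((Commute.refl u).zpow_zpow i j).eq⟩⟩ (by
      rintro _ ⟨i, rfl⟩
      show (u ^ i) ^ 2 = 1
      rw [← zpow_natCast, ← zpow_mul, mul_comm, zpow_mul, zpow_natCast, hu2, one_zpow])
  rw [Nat.card_zpowers, huo] at h1
  norm_num at h1

end Cfsg.Agent.S1914
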