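import Cfsg.Statements.S1915
import Cfsg.Agent.Lib.KleinSD.Main
import Cfsg.Agent.Lib.Components.Basic

set_option autoImplicit false
open Cfsg

namespace Cfsg.Agent.S1915

/-- Let A be a semisimple subgroup (A = E(A)) of a finite group and U a Klein four-group normalizing A. If the subgroup of A generated by the normalizers N_A(V) of the nontrivial subgroups V of U has 2-rank exactly 1, then A has 2-rank exactly 1. -/
theorem result {G : Type*} [Group G] [Finite G] (A : Subgroup G) (hA : Cfsg.layer ↥A = ⊤)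
    (U : Subgroup G) (hU : IsKleinFour U) (hUA : U ≤ Subgroup.normalizer (A : Set G))
    (hΓ : Cfsg.PRankLE 2 1 ↥(⨆ V : {V : Subgroup G // V ≤ U ∧ V ≠ ⊥}, A ⊓ Subgroup.normalizer ((V : Subgroup G) : Set G)) ∧
      ¬ Cfsg.PRankLE 2 0 ↥(⨆ V : {V : Subgroup G // V ≤ U ∧ V ≠ ⊥}, A ⊓ Subgroup.normalizer ((V : Subgroup G) : Set G))) :
    Cfsg.PRankLE 2 1 A ∧ ¬ Cfsg.PRankLE 2 0 A := by
  classical
  have hperf : ∀ (f : ↥A →* ℤˣ) (g : ↥A), f g = 1 := by
    intro f g
    have h1 : ⁅(⊤ : Subgroup ↥A), (⊤ : Subgroup ↥A)⁆ = ⊤ := by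
      have := Cfsg.Agent.Lib.Components.Basic.layer_perfect (G := ↥A)
      rwa [hA] at this
    have h2 : (⊤ : Subgroup ↥A) ≤ f.ker := by
      rw [← h1, Subgroup.commutator_le]
      intro x _ y _
      rw [MonoidHom.mem_ker, map_commutatorElement, commutatorElement_eq_one_iff_mul_comm]
      exact mul_comm _ _
    exact h2 (Subgroup.mem_top g)
  set Γ : Subgroup G := ⨆ V : {V : Subgroup G // V ≤ U ∧ V ≠ ⊥},
    A ⊓ Subgroup.normalizer ((V : Subgroup G) : Set G) with hΓdef
  have hΓA : Γ ≤ A := iSup_le fun V => inf_le_left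
  refine ⟨?_, ?_⟩
  · refine Cfsg.Agent.Lib.KleinSD.rank_le_one A hperf U hU hUA ?_
    intro t ht ht1 x x' hx hx' hx2 hx'2 hx1 hx'1 hne hc htx htx'
    -- the four-group inside `Γ`
    let V : {V : Subgroup G // V ≤ U ∧ V ≠ ⊥} :=
      ⟨Subgroup.zpowers t, Subgroup.zpowers_le.mpr ht, by
        simpa using ht1⟩
    have hnorm : ∀ f : G, f ∈ A → t * f = f * t → f ∈ Γ := by
      intro f hf hft
      have h1 : f ∈ A ⊓ Subgroup.normalizer ((V : Subgroup G) : Set G) := by
        refine Subgroup.mem_inf.mpr ⟨hf, ?_⟩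
        apply Cfsg.Agent.Lib.KleinSD.mem_normalizer_of_conj_mem
        rintro _ ⟨k, rfl⟩
        have h3 : f * t * f⁻¹ = t := by
          rw [← hft]; group
        show f * t ^ k * f⁻¹ ∈ Subgroup.zpowers t
        rw [← conj_zpow, h3]
        exact zpow_mem (Subgroup.mem_zpowers t) _
      exact (le_iSup (fun V : {V : Subgroup G // V ≤ U ∧ V ≠ ⊥} =>
        A ⊓ Subgroup.normalizer ((V : Subgroup G) : Set G)) V) h1
    let F := Cfsg.Agent.Lib.KleinSD.four x x' hx2 hx'2 hc
    have hFΓ : F ≤ Γ := by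
      rintro f (rfl | rfl | rfl | rfl)
      · exact one_mem _
      · exact hnorm _ hx htx
      · exact hnorm _ hx' htx'
      · exact mul_mem (hnorm _ hx htx) (hnorm _ hx' htx')
    have hcard : Nat.card F = 4 := Cfsg.Agent.Lib.KleinSD.card_four hx1 hx'1 hne
    have h1 := hΓ.1 (F.subgroupOf Γ) ⟨⟨fun a b => by
      apply Subtype.ext
      apply Subtype.ext
      exact Cfsg.Agent.Lib.KleinSD.four_comm (hx := hx2) (hx' := hx'2) (hc := hc) a.2 b.2⟩⟩ (fun a ha => by
      apply Subtype.ext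
      exact Cfsg.Agent.Lib.KleinSD.four_sq (hx := hx2) (hx' := hx'2) (hc := hc) ha)
    have h2 : Nat.card (F.subgroupOf Γ) = Nat.card F :=
      Nat.card_congr (Subgroup.subgroupOfEquivOfLe hFΓ).toEquiv
    rw [h2, hcard] at h1
    norm_num at h1
  · intro h0
    apply hΓ.2
    intro B hBc hB2
    let ι : ↥Γ →* ↥A := Subgroup.inclusion hΓA
    have hι : Function.Injective ι := Subgroup.inclusion_injective hΓA
    have h1 := h0 (B.map ι) ⟨⟨by
      rintro ⟨_, a, ha, rfl⟩ ⟨_, b, hb, rfl⟩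
      apply Subtype.ext
      have := hBc.is_comm.comm ⟨a, ha⟩ ⟨b, hb⟩
      have h3 := congrArg (fun u : B => ι u) this
      simpa using h3⟩⟩ (by
      rintro _ ⟨a, ha, rfl⟩
      rw [← map_pow, hB2 a ha, map_one])
    rwa [Subgroup.card_map_of_injective hι] at h1

end Cfsg.Agent.S1915
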