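import Cfsg.Statements.S1921
import Cfsg.Agent.Lib.Components.Central

set_option autoImplicit false
open Cfsg

namespace Cfsg.Agent.S1921

/-- Let a be an involution of a finite group H and L a component of H with a L a⁻¹ ≠ L; put M = ⟨L, aLa⁻¹⟩ and let J be the subgroup generated by the elements x · a x a⁻¹ with x ∈ L (the diagonal). Then every element of M outside J·Z(M) generates M together with J. -/
theorem result {H : Type*} [Group H] [Finite H] (a : H) (ha : orderOf a = 2) (L : Subgroup H) (hL : Cfsg.IsComponent L)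
    (hLa : L.map (MulAut.conj a).toMonoidHom ≠ L) (x : H) (hxM : x ∈ L ⊔ L.map (MulAut.conj a).toMonoidHom)
    (hxJ : x ∉ Subgroup.closure {y : H | ∃ l ∈ L, y = l * (a * l * a⁻¹)} ⊔
      ((L ⊔ L.map (MulAut.conj a).toMonoidHom) ⊓ Subgroup.centralizer ((L ⊔ L.map (MulAut.conj a).toMonoidHom : Subgroup H) : Set H))) :
    Subgroup.closure {y : H | ∃ l ∈ L, y = l * (a * l * a⁻¹)} ⊔ Subgroup.zpowers x = L ⊔ L.map (MulAut.conj a).toMonoidHom := by
  classical
  open Subgroup Cfsg.Agent.Lib.Components.Basic in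
  have hQ := hL.2
  set La := L.map (MulAut.conj a).toMonoidHom with hLa'
  have hcomp : Cfsg.IsComponent La := isComponent_conj a hL
  have hc : ⁅L, La⁆ = ⊥ := (component_eq_or_commutator_eq_bot hL hcomp).resolve_left (Ne.symm hLa)
  have hcomm : ∀ u ∈ L, ∀ v ∈ La, u * v = v * u := by
    intro u hu v hv
    have := commutator_eq_bot_iff_le_centralizer.mp hc hu
    exact (mem_centralizer_iff.mp this v hv).symm
  have hconj : ∀ l ∈ L, a * l * a⁻¹ ∈ La := fun l hl => ⟨l, hl, by simp⟩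
  set J : Subgroup H := closure {y : H | ∃ l ∈ L, y = l * (a * l * a⁻¹)} with hJdef
  have hJ : ∀ l ∈ L, l * (a * l * a⁻¹) ∈ J := fun l hl => subset_closure ⟨l, hl, rfl⟩
  have hJM : J ≤ L ⊔ La := by
    rw [hJdef, closure_le]
    rintro _ ⟨l, hl, rfl⟩
    exact mul_mem (mem_sup_left hl) (mem_sup_right (hconj l hl))
  obtain ⟨l₁, hl₁, w, ⟨l₂, hl₂, hw⟩, hx⟩ := mem_sup_of_commutator_eq_bot hc hxM
  have hw' : w = a * l₂ * a⁻¹ := by rw [← hw]; simp
  set y := l₁ * l₂⁻¹ with hy
  have hyL : y ∈ L := mul_mem hl₁ (inv_mem hl₂)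
  have hxy : x = y * (l₂ * (a * l₂ * a⁻¹)) := by
    rw [← hx, hw', hy]; group
  set Y := J ⊔ zpowers x with hY
  have hJY : J ≤ Y := le_sup_left
  have hxY : x ∈ Y := mem_sup_right (mem_zpowers x)
  have hyY : y ∈ Y := by
    have : y = x * (l₂ * (a * l₂ * a⁻¹))⁻¹ := by rw [hxy]; group
    rw [this]
    exact mul_mem hxY (inv_mem (hJY (hJ l₂ hl₂)))
  -- `y` is not central in `L`
  have hycen : ¬ ∀ l ∈ L, l * y = y * l := by
    intro hcen
    apply hxJ
    have hyZ : y ∈ (L ⊔ La) ⊓ centralizer ((L ⊔ La : Subgroup H) : Set H) := by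
      refine ⟨mem_sup_left hyL, ?_⟩
      have h1 : L ⊔ La ≤ centralizer ({y} : Set H) := by
        apply sup_le
        · intro l hl
          rw [mem_centralizer_iff]
          rintro _ rfl
          exact (hcen l hl).symm
        · intro v hv
          rw [mem_centralizer_iff]
          rintro _ rfl
          exact hcomm y hyL v hv
      show y ∈ centralizer ((L ⊔ La : Subgroup H) : Set H)
      rw [mem_centralizer_iff]
      intro h hh
      exact (mem_centralizer_iff.mp (h1 hh) y rfl).symm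
    rw [hxy]
    have h2 : (l₂ * (a * l₂ * a⁻¹)) * y = y * (l₂ * (a * l₂ * a⁻¹)) := by
      have := mem_centralizer_iff.mp hyZ.2 _ (hJM (hJ l₂ hl₂))
      exact this
    rw [← h2]
    exact mul_mem (mem_sup_left (hJ l₂ hl₂)) (mem_sup_right hyZ)
  -- normality
  have hN : (Y.subgroupOf L).Normal := by
    constructor
    intro n hn g
    rw [mem_subgroupOf] at hn ⊢
    have h1 : (g : H) * (a * g * a⁻¹) ∈ Y := hJY (hJ g g.2)
    have h2 := mul_mem (mul_mem h1 hn) (inv_mem h1)
    have h3 : a * (g : H) * a⁻¹ * (n : H) = n * (a * g * a⁻¹) := (hcomm n n.2 _ (hconj g g.2)).symm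
    have h4 : (g : H) * (a * g * a⁻¹) * n * ((g : H) * (a * g * a⁻¹))⁻¹ = g * n * (g : H)⁻¹ := by
      calc (g : H) * (a * g * a⁻¹) * n * ((g : H) * (a * g * a⁻¹))⁻¹
          = g * (a * g * a⁻¹ * n) * (a * g * a⁻¹)⁻¹ * (g : H)⁻¹ := by group
        _ = g * (n * (a * g * a⁻¹)) * (a * g * a⁻¹)⁻¹ * (g : H)⁻¹ := by rw [h3]
        _ = g * n * (g : H)⁻¹ := by group
    rw [h4] at h2
    simpa using h2
  rcases normal_eq_top_or_le_center hQ (Y.subgroupOf L) with h | h
  · have hLY : L ≤ Y := subgroupOf_eq_top.mp h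
    apply le_antisymm
    · exact sup_le hJM ((zpowers_le).2 hxM)
    · apply sup_le hLY
      rintro _ ⟨l, hl, rfl⟩
      have : (MulAut.conj a).toMonoidHom l = l⁻¹ * (l * (a * l * a⁻¹)) := by simp
      rw [this]
      exact mul_mem (inv_mem (hLY hl)) (hJY (hJ l hl))
  · exfalso
    apply hycen
    intro l hl
    have h1 : (⟨y, hyL⟩ : L) ∈ Y.subgroupOf L := by rw [mem_subgroupOf]; exact hyY
    have h2 := mem_center_iff.mp (h h1) ⟨l, hl⟩
    exact congrArg Subtype.val h2

end Cfsg.Agent.S1921
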