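import Cfsg.Statements.S1922
import Cfsg.Agent.Lib.StrongEmb.Basic
import Cfsg.Agent.Lib.Involutions.Dihedral
import Cfsg.Agent.Lib.Coprime.Action

set_option autoImplicit false
open Cfsg

namespace Cfsg.Agent.S1922

open Cfsg.Agent.Lib.Involutions.Dihedral Cfsg.Agent.Lib.StrongEmb.Basic

section Dihedral

variable {G : Type*} [Group G]

lemma isConj_refl_even {x y : G} (hx : x ^ 2 = 1) (hy : y ^ 2 = 1) (k : ℤ) :
    IsConj x (x * (x * y) ^ (2 * k)) := by
  rw [isConj_iff]
  refine ⟨(x * y) ^ (-k), ?_⟩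
  rw [conj_rot hx hy]
  congr 2
  ring

lemma isConj_refl_odd {x y : G} (hx : x ^ 2 = 1) (hy : y ^ 2 = 1) (k : ℤ) :
    IsConj y (x * (x * y) ^ (2 * k + 1)) := by
  have h1 := isConj_refl_even hy hx (-k)
  have h2 : x * (x * y) ^ (2 * k + 1) = y * (y * x) ^ (2 * -k) := by
    have h3 : y * x = (x * y)⁻¹ := by
      rw [mul_inv_rev, inv_eq_of_sq hx, inv_eq_of_sq hy]
    rw [h3, inv_zpow, ← zpow_neg, zpow_add, zpow_one]
    have h4 : (x * y) ^ (-(2 * -k)) = (x * y) ^ (2 * k) := by congr 1; ring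
    rw [h4]
    have h5 : y = x * (x * y) := by rw [← mul_assoc, mul_self_of_sq hx, one_mul]
    have h6 : (x * y) ^ (2 * k) * (x * y) = (x * y) * (x * y) ^ (2 * k) :=
      ((Commute.refl (x * y)).zpow_left _).eq
    rw [h6, ← mul_assoc, ← mul_assoc]
    congr 1
    nth_rewrite 2 [h5]
    rw [mul_assoc]
  rw [h2]
  exact h1

lemma sqrt_unique [Finite G] {a b : G} (h : a ^ 2 = b ^ 2) (ha : Odd (orderOf a)) (hb : Odd (orderOf b)) :
    a = b := by
  obtain ⟨e, he⟩ : ∃ e, orderOf a * orderOf b + 1 = e + e := (ha.mul hb).add_one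
  have h1 : (a ^ 2) ^ e = a := by
    rw [← pow_mul, two_mul, ← he, pow_succ, pow_mul, pow_orderOf_eq_one, one_pow, one_mul]
  have h2 : (b ^ 2) ^ e = b := by
    rw [← pow_mul, two_mul, ← he, pow_succ, mul_comm (orderOf a), pow_mul, pow_orderOf_eq_one, one_pow,
      one_mul]
  rw [← h1, ← h2, h]

/-- The midpoint, conjugate to `x`. -/
lemma exists_mid {x y : G} (hx : x ^ 2 = 1) (hy : y ^ 2 = 1) (hodd : Odd (orderOf (x * y))) :
    ∃ τ : G, τ ^ 2 = 1 ∧ τ * x * τ⁻¹ = y ∧ IsConj x τ := by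
  obtain ⟨k, hk⟩ := hodd
  have hr : ∀ n : ℤ, (x * y) ^ (n * (2 * (k : ℤ) + 1)) = 1 := by
    intro n
    have h1 : (x * y) ^ (2 * (k : ℤ) + 1) = 1 := by
      rw [← orderOf_dvd_iff_zpow_eq_one, hk]
      push_cast
      exact dvd_refl _
    rw [mul_comm, zpow_mul, h1, one_zpow]
  refine ⟨x * (x * y) ^ ((k : ℤ) + 1), refl_sq hx hy _, ?_, ?_⟩
  · rw [conj_refl hx hy]
    have h1 : (x * y) ^ (2 * ((k : ℤ) + 1)) = x * y := by
      have : (2 * ((k : ℤ) + 1)) = 1 * (2 * (k : ℤ) + 1) + 1 := by ring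
      rw [this, zpow_add, hr, one_mul, zpow_one]
    rw [h1, ← mul_assoc, mul_self_of_sq hx, one_mul]
  · -- `x * r ^ (k + 1) = x * r ^ (2 * ((k + 1) * (k + 1)))`
    have h1 : (x * y) ^ ((k : ℤ) + 1) = (x * y) ^ (2 * (((k : ℤ) + 1) * ((k : ℤ) + 1))) := by
      have : (2 * (((k : ℤ) + 1) * ((k : ℤ) + 1))) = ((k : ℤ) + 1) * (2 * (k : ℤ) + 1) + ((k : ℤ) + 1) := by
        ring
      rw [this, zpow_add (x * y) (((k : ℤ) + 1) * (2 * (k : ℤ) + 1)) ((k : ℤ) + 1), hr, one_mul]
    rw [h1]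
    exact isConj_refl_even hx hy _

end Dihedral

section Abstract

variable {G : Type*} [Group G] [Finite G] {Ω : Type*} [MulAction G Ω]

/-- The hypotheses on the class of `z`. -/
structure Hyp (z : G) (Ω : Type*) [MulAction G Ω] : Prop where
  zsq : z ^ 2 = 1
  exi : ∀ x, IsConj z x → ∃ ω : Ω, x • ω = ω
  uni : ∀ x, IsConj z x → ∀ ω ω' : Ω, x • ω = ω → x • ω' = ω' → ω = ω'
  prod : ∀ x y, IsConj z x → IsConj z y → x ≠ y → x * y = y * x →
    ∀ ω ω' : Ω, (x * y) • ω = ω → (x * y) • ω' = ω' → ω = ω'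

variable {z : G}

omit [Finite G] in
theorem Hyp.sq' (h : Hyp z Ω) {x : G} (hx : IsConj z x) : x ^ 2 = 1 := by
  obtain ⟨g, rfl⟩ := isConj_iff.mp hx
  rw [conj_pow, h.zsq]
  simp

/-- The central involution has at most one fixed point. -/
theorem Hyp.central (h : Hyp z Ω) {x y : G} (hx : IsConj z x) (hy : IsConj z y)
    (heven : Even (orderOf (x * y))) :
    ∃ c ∈ Subgroup.zpowers (x * y), Commute c x ∧ Commute c y ∧
      ∀ ω ω' : Ω, c • ω = ω → c • ω' = ω' → ω = ω' := by
  have hx2 := h.sq' hx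
  have hy2 := h.sq' hy
  obtain ⟨hc, hcx, hcy⟩ := central_involution hx2 hy2 heven
  set c := (x * y) ^ (orderOf (x * y) / 2) with hcdef
  refine ⟨c, ⟨_, zpow_natCast _ _⟩, hcx, hcy, ?_⟩
  obtain ⟨m, hm⟩ := heven
  have hdiv : orderOf (x * y) / 2 = m := by omega
  -- `x * c` is in the class
  have hxc : IsConj z (x * c) := by
    rcases Nat.even_or_odd' m with ⟨j, hj | hj⟩
    · have : x * c = x * (x * y) ^ (2 * (j : ℤ)) := by
        rw [hcdef, hdiv, hj, ← zpow_natCast]
        push_cast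
        rfl
      rw [this]
      exact hx.trans (isConj_refl_even hx2 hy2 _)
    · have : x * c = x * (x * y) ^ (2 * (j : ℤ) + 1) := by
        rw [hcdef, hdiv, hj, ← zpow_natCast]
        push_cast
        rfl
      rw [this]
      exact hy.trans (isConj_refl_odd hx2 hy2 _)
  have hc1 : c ≠ 1 := by
    intro h1
    rw [h1, orderOf_one] at hc
    omega
  have hne : x ≠ x * c := by
    intro h1
    exact hc1 (by simpa using h1.symm)
  have hcomm : x * (x * c) = (x * c) * x := by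
    rw [mul_assoc x c x, hcx.eq]
  have hmul : x * (x * c) = c := by
    rw [← mul_assoc, mul_self_of_sq hx2, one_mul]
  have := h.prod x (x * c) hx hxc hne hcomm
  rwa [hmul] at this

omit [Finite G] in
/-- A commuting element fixes the fixed point. -/
theorem Hyp.commute_fix (h : Hyp z Ω) {x c : G} (hx : IsConj z x) (hc : Commute c x) {ω : Ω}
    (hω : x • ω = ω) : c • ω = ω := by
  refine h.uni x hx _ _ ?_ hω
  rw [smul_smul, ← hc.eq, mul_smul, hω]

/-- Lemma A: distinct fixed points give odd products. -/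
theorem Hyp.odd_of_ne (h : Hyp z Ω) {x y : G} (hx : IsConj z x) (hy : IsConj z y) {ω ω' : Ω}
    (hω : x • ω = ω) (hω' : y • ω' = ω') (hne : ω ≠ ω') : Odd (orderOf (x * y)) := by
  by_contra hodd
  rw [Nat.not_odd_iff_even] at hodd
  obtain ⟨c, -, hcx, hcy, hu⟩ := h.central hx hy hodd
  exact hne (hu _ _ (h.commute_fix hx hcx hω) (h.commute_fix hy hcy hω'))

/-- Elements of the class swapping `a` and `b` have odd products. -/
theorem Hyp.odd_of_swap (h : Hyp z Ω) {τ τ' : G} (hτ : IsConj z τ) (hτ' : IsConj z τ') {a b : Ω}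
    (h1 : τ • a = b) (h2 : τ' • a = b) (hne : a ≠ b) : Odd (orderOf (τ * τ')) := by
  by_contra hodd
  rw [Nat.not_odd_iff_even] at hodd
  obtain ⟨c, hc, -, -, hu⟩ := h.central hτ hτ' hodd
  have hb : ∀ {σ : G}, IsConj z σ → σ • a = b → σ • b = a := by
    intro σ hσ hab
    rw [← hab, smul_smul, ← sq, h.sq' hσ, one_smul]
  have h3 : (τ * τ') • a = a := by
    rw [mul_smul, h2, hb hτ h1]
  have h4 : (τ * τ') • b = b := by
    rw [mul_smul, hb hτ' h2, h1]
  have hfix : ∀ {ω : Ω}, (τ * τ') • ω = ω → c • ω = ω := by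
    intro ω hω
    obtain ⟨n, rfl⟩ := hc
    have : (τ * τ') ∈ MulAction.stabilizer G ω := hω
    exact (MulAction.stabilizer G ω).zpow_mem this n
  exact hne (hu _ _ (hfix h3) (hfix h4))

/-- `I a b`: elements of the class sending `a` to `b`. -/
abbrev ISet (z : G) (a b : Ω) : Type _ := {τ : G // IsConj z τ ∧ τ • a = b}

/-- `D a`: elements of the class fixing `a`. -/
abbrev DSet (z : G) (a : Ω) : Type _ := {x : G // IsConj z x ∧ x • a = a}

theorem Hyp.odd_card_ISet (h : Hyp z Ω) {a b : Ω} (hne : a ≠ b) (τ₀ : ISet z a b) :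
    Odd (Nat.card (ISet z a b)) := by
  classical
  have : Fintype (ISet z a b) := Fintype.ofFinite _
  have : Fact (Nat.Prime 2) := ⟨Nat.prime_two⟩
  obtain ⟨t, ht, hta⟩ := τ₀
  have ht2 := h.sq' ht
  have htinv : t⁻¹ = t := inv_eq_of_sq ht2
  have htb : t • b = a := by rw [← hta, smul_smul, ← sq, ht2, one_smul]
  have hmem : ∀ σ : ISet z a b, IsConj z (t * σ.1 * t⁻¹) ∧ (t * σ.1 * t⁻¹) • a = b := by
    rintro ⟨σ, hσ, hσa⟩
    refine ⟨hσ.trans (isConj_iff.mpr ⟨t, rfl⟩), ?_⟩
    rw [htinv, mul_smul, mul_smul, hta]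
    have hσb : σ • b = a := by rw [← hσa, smul_smul, ← sq, h.sq' hσ, one_smul]
    rw [hσb, hta]
  let f : Function.End (ISet z a b) := fun σ => ⟨t * σ.1 * t⁻¹, hmem σ⟩
  have hf : f ^ 2 ^ 1 = 1 := by
    funext σ
    apply Subtype.ext
    show t * (t * σ.1 * t⁻¹) * t⁻¹ = σ.1
    rw [htinv]
    calc t * (t * σ.1 * t) * t = (t * t) * σ.1 * (t * t) := by group
      _ = σ.1 := by rw [mul_self_of_sq ht2]; group
  have hm := Equiv.Perm.card_fixedPoints_modEq (α := ISet z a b) (p := 2) (n := 1) hf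
  have h1 : Fintype.card (Function.fixedPoints f) = 1 := by
    rw [Fintype.card_eq_one_iff]
    refine ⟨⟨⟨t, ht, hta⟩, ?_⟩, ?_⟩
    · apply Subtype.ext
      show t * t * t⁻¹ = t
      group
    · rintro ⟨⟨σ, hσ, hσa⟩, hfix⟩
      have hodd := h.odd_of_swap ht hσ hta hσa hne
      have hc : t * σ * t⁻¹ = σ := congrArg Subtype.val hfix
      have hsq : (t * σ) ^ 2 = 1 := by
        rw [sq, htinv] at *
        calc t * σ * (t * σ) = (t * σ * t) * σ := by group
          _ = σ * σ := by rw [hc]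
          _ = 1 := mul_self_of_sq (h.sq' hσ)
      have h2 : orderOf (t * σ) = 1 := by
        have h3 : orderOf (t * σ) ∣ 2 := orderOf_dvd_of_pow_eq_one hsq
        rcases (Nat.dvd_prime Nat.prime_two).mp h3 with h4 | h4
        · exact h4
        · rw [h4] at hodd; exact absurd hodd (by decide)
      have h5 : t * σ = 1 := orderOf_eq_one_iff.mp h2
      have h6 : σ = t := by
        have : σ = t⁻¹ := eq_inv_of_mul_eq_one_right h5
        rw [this, htinv]
      apply Subtype.ext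
      apply Subtype.ext
      exact h6
  rw [h1] at hm
  rw [Nat.card_eq_fintype_card, Nat.odd_iff]
  exact hm

/-- The bijection between `I a b` and `D a`. -/
theorem Hyp.card_ISet_eq (h : Hyp z Ω) {a b : Ω} (hne : a ≠ b) (u : DSet z b) :
    Nat.card (ISet z a b) = Nat.card (DSet z a) := by
  obtain ⟨u, hu, hub⟩ := u
  have hu2 := h.sq' hu
  have hswap : ∀ {σ : G} {c d : Ω}, IsConj z σ → σ • c = d → σ • d = c := by
    intro σ c d hσ hcd
    rw [← hcd, smul_smul, ← sq, h.sq' hσ, one_smul]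
  have hmaps : ∀ τ : ISet z a b, IsConj z (τ.1 * u * τ.1⁻¹) ∧ (τ.1 * u * τ.1⁻¹) • a = a := by
    rintro ⟨τ, hτ, hτa⟩
    refine ⟨hu.trans (isConj_iff.mpr ⟨τ, rfl⟩), ?_⟩
    have hτ2 := h.sq' hτ
    show (τ * u * τ⁻¹) • a = a
    rw [inv_eq_of_sq hτ2, mul_smul, mul_smul, hτa, hub, hswap hτ hτa]
  refine Nat.card_congr (Equiv.ofBijective (fun τ => ⟨τ.1 * u * τ.1⁻¹, hmaps τ⟩) ⟨?_, ?_⟩)
  · -- injectivity
    rintro ⟨τ, hτ, hτa⟩ ⟨τ', hτ', hτa'⟩ he
    have he' : τ * u * τ⁻¹ = τ' * u * τ'⁻¹ := congrArg Subtype.val he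
    set x := τ * u * τ⁻¹ with hx
    have hxc : IsConj z x := hu.trans (isConj_iff.mpr ⟨τ, rfl⟩)
    have hxa : x • a = a := (hmaps ⟨τ, hτ, hτa⟩).2
    have hτ2 := h.sq' hτ
    have hτ'2 := h.sq' hτ'
    -- `τ` has a fixed point different from `a`
    have hoddof : ∀ {σ : G}, IsConj z σ → σ • a = b → Odd (orderOf (σ * x)) := by
      intro σ hσ hσa
      obtain ⟨c, hc⟩ := h.exi σ hσ
      refine h.odd_of_ne hσ hxc hc hxa ?_
      rintro rfl
      exact hne (by rw [← hσa, hc])
    have hs1 : (τ * x) ^ 2 = u * x := by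
      have : x = τ * u * τ := by rw [hx, inv_eq_of_sq hτ2]
      rw [sq]
      calc τ * x * (τ * x) = (τ * x * τ) * x := by group
        _ = u * x := by
          congr 1
          nth_rewrite 1 [this]
          calc τ * (τ * u * τ) * τ = (τ * τ) * u * (τ * τ) := by group
            _ = u := by rw [mul_self_of_sq hτ2]; group
    have hs2 : (τ' * x) ^ 2 = u * x := by
      have : x = τ' * u * τ' := by rw [he', inv_eq_of_sq hτ'2]
      rw [sq]
      calc τ' * x * (τ' * x) = (τ' * x * τ') * x := by group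
        _ = u * x := by
          congr 1
          nth_rewrite 1 [this]
          calc τ' * (τ' * u * τ') * τ' = (τ' * τ') * u * (τ' * τ') := by group
            _ = u := by rw [mul_self_of_sq hτ'2]; group
    have := sqrt_unique (hs1.trans hs2.symm) (hoddof hτ hτa) (hoddof hτ' hτa')
    apply Subtype.ext
    exact mul_right_cancel this
  · -- surjectivity
    rintro ⟨x, hx, hxa⟩
    have hodd : Odd (orderOf (u * x)) := h.odd_of_ne hu hx hub hxa hne.symm
    obtain ⟨τ, hτ2, hτ, hτc⟩ := exists_mid hu2 (h.sq' hx) hodd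
    have hτz : IsConj z τ := hu.trans hτc
    have hτb : τ • b = a := by
      refine h.uni x hx _ _ ?_ hxa
      rw [← hτ, mul_smul, mul_smul, inv_smul_smul, hub]
    have hτa : τ • a = b := hswap hτz hτb
    refine ⟨⟨τ, hτz, hτa⟩, ?_⟩
    apply Subtype.ext
    exact hτ

/-- The main counting: `D a` has odd order. -/
theorem Hyp.odd_card_DSet (h : Hyp z Ω) {a b : Ω} (hne : a ≠ b) (ua : DSet z a) (ub : DSet z b) :
    Odd (Nat.card (DSet z a)) := by
  rw [← h.card_ISet_eq hne ub]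
  have hcard := h.card_ISet_eq hne ub
  have : Nonempty (ISet z a b) := by
    have h1 : Nat.card (ISet z a b) ≠ 0 := by
      rw [hcard]
      have : Nonempty (DSet z a) := ⟨ua⟩
      exact Nat.card_pos.ne'
    exact (Nat.card_ne_zero.mp h1).1
  exact h.odd_card_ISet hne this.some

end Abstract

section Main

variable {G : Type*} [Group G] [Finite G]

open Subgroup

variable {z : G} {H : Subgroup G}

omit [Finite G] in
/-- The fixed points of a conjugate of `z`. -/
theorem fix_iff (h0 : ∀ g : G, z ∈ H.map (MulAut.conj g).toMonoidHom ↔ g ∈ H) (g k : G) :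
    (g * z * g⁻¹) • (k : G ⧸ H) = k ↔ (k : G ⧸ H) = g := by
  rw [smul_mk_eq_mk_iff, mk_eq_mk_iff]
  have e : k⁻¹ * (g * z * g⁻¹) * k = ((k⁻¹ * g)⁻¹)⁻¹ * z * (k⁻¹ * g)⁻¹ := by group
  rw [e, ← mem_map_conj_iff, h0, H.inv_mem_iff]

theorem hyp_of_one (hz : orderOf z = 2)
    (h0 : ∀ g : G, z ∈ H.map (MulAut.conj g).toMonoidHom ↔ g ∈ H)
    (h1 : ∀ t : G, IsConj z t → t ≠ z → t * z = z * t → ∀ g : G, z * t ∈ H.map (MulAut.conj g).toMonoidHom ↔ g ∈ H) :
    Hyp z (G ⧸ H) := by
  refine ⟨by rw [← hz]; exact pow_orderOf_eq_one z, ?_, ?_, ?_⟩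
  · intro x hx
    obtain ⟨g, rfl⟩ := isConj_iff.mp hx
    exact ⟨(g : G ⧸ H), (fix_iff h0 g g).mpr rfl⟩
  · intro x hx ω ω'
    obtain ⟨g, rfl⟩ := isConj_iff.mp hx
    induction ω using QuotientGroup.induction_on with
    | H k =>
    induction ω' using QuotientGroup.induction_on with
    | H k' =>
      intro h2 h3
      rw [(fix_iff h0 g k).mp h2, (fix_iff h0 g k').mp h3]
  · intro x y hx hy hne hxy ω ω'
    obtain ⟨g, rfl⟩ := isConj_iff.mp hx
    set t := g⁻¹ * y * g with ht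
    have hy' : y = g * t * g⁻¹ := by rw [ht]; group
    have htc : IsConj z t := by
      refine hy.trans (isConj_iff.mpr ⟨g⁻¹, ?_⟩)
      rw [ht]; group
    have htne : t ≠ z := by
      rintro rfl
      exact hne (by rw [hy'])
    have hcomm : t * z = z * t := by
      rw [hy'] at hxy
      have h2 : g * (z * t) * g⁻¹ = g * (t * z) * g⁻¹ := by
        calc g * (z * t) * g⁻¹ = g * z * g⁻¹ * (g * t * g⁻¹) := by group
          _ = g * t * g⁻¹ * (g * z * g⁻¹) := hxy
          _ = g * (t * z) * g⁻¹ := by group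
      exact (mul_left_cancel (mul_right_cancel h2)).symm
    have key : ∀ k : G, (g * z * g⁻¹ * y) • (k : G ⧸ H) = k → (k : G ⧸ H) = g := by
      intro k hk
      rw [smul_mk_eq_mk_iff] at hk
      have h2 : k⁻¹ * (g * z * g⁻¹ * y) * k = (g⁻¹ * k)⁻¹ * (z * t) * (g⁻¹ * k) := by
        rw [hy']; group
      rw [h2, ← mem_map_conj_iff, h1 t htc htne hcomm] at hk
      exact (mk_eq_mk_iff g k).mpr hk |>.symm
    induction ω using QuotientGroup.induction_on with
    | H k =>
    induction ω' using QuotientGroup.induction_on with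
    | H k' =>
      intro h2 h3
      rw [key k h2, key k' h3]

omit [Finite G] in
theorem centralizer_le_of_h0 (h0 : ∀ g : G, z ∈ H.map (MulAut.conj g).toMonoidHom ↔ g ∈ H) :
    centralizer ({z} : Set G) ≤ H := by
  intro c hc
  have hzH : z ∈ H := by
    have := (h0 1).mpr H.one_mem
    rw [mem_map_conj_iff] at this
    simpa using this
  rw [← h0, mem_map_conj_iff]
  have h1 : c * z = z * c := (Subgroup.mem_centralizer_singleton_iff).mp hc
  have : c⁻¹ * z * c = z := by
    rw [mul_assoc, ← h1]; group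
  rwa [this]

theorem odd_index_quot (hz : orderOf z = 2)
    (h0 : ∀ g : G, z ∈ H.map (MulAut.conj g).toMonoidHom ↔ g ∈ H) :
    Odd (Nat.card (G ⧸ H)) := by
  classical
  have : Fintype (G ⧸ H) := Fintype.ofFinite _
  have : Fact (Nat.Prime 2) := ⟨Nat.prime_two⟩
  have hz2 : z ^ 2 = 1 := by rw [← hz]; exact pow_orderOf_eq_one z
  let f : Function.End (G ⧸ H) := fun ω => z • ω
  have hf : f ^ 2 ^ 1 = 1 := by
    funext ω
    show z • z • ω = ω
    rw [smul_smul, ← sq, hz2, one_smul]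
  have hm := Equiv.Perm.card_fixedPoints_modEq (α := G ⧸ H) (p := 2) (n := 1) hf
  have hfix : ∀ k : G, z • (k : G ⧸ H) = k ↔ (k : G ⧸ H) = (1 : G) := by
    intro k
    have := fix_iff h0 1 k
    simpa using this
  have h1 : Fintype.card (Function.fixedPoints f) = 1 := by
    rw [Fintype.card_eq_one_iff]
    refine ⟨⟨((1 : G) : G ⧸ H), (hfix 1).mpr rfl⟩, ?_⟩
    rintro ⟨ω, hω⟩
    apply Subtype.ext
    induction ω using QuotientGroup.induction_on with
    | H k => exact (hfix k).mp hω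
  rw [h1] at hm
  rw [Nat.card_eq_fintype_card, Nat.odd_iff]
  exact hm

/-- `|H : C(z)| = |D_{ω₀}|`. -/
theorem relIndex_eq (hz : orderOf z = 2)
    (h0 : ∀ g : G, z ∈ H.map (MulAut.conj g).toMonoidHom ↔ g ∈ H) :
    (centralizer ({z} : Set G)).relIndex H = Nat.card (DSet z (((1 : G) : G ⧸ H))) := by
  have hmem : ∀ h : H, IsConj z ((h : G) * z * (h : G)⁻¹) ∧
      ((h : G) * z * (h : G)⁻¹) • (((1 : G) : G ⧸ H)) = ((1 : G) : G ⧸ H) := by
    intro h
    refine ⟨isConj_iff.mpr ⟨h, rfl⟩, ?_⟩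
    rw [fix_iff h0]
    exact ((mk_eq_mk_iff _ _).mpr (by simpa using h.2))
  let φ : H → DSet z (((1 : G) : G ⧸ H)) := fun h => ⟨(h : G) * z * (h : G)⁻¹, hmem h⟩
  have hφ : ∀ a b : H, a⁻¹ * b ∈ (centralizer ({z} : Set G)).subgroupOf H ↔ φ a = φ b := by
    intro a b
    rw [Subgroup.mem_subgroupOf, Subtype.ext_iff]
    show _ ↔ (a : G) * z * (a : G)⁻¹ = (b : G) * z * (b : G)⁻¹
    rw [Subgroup.coe_mul, Subgroup.coe_inv, Subgroup.mem_centralizer_singleton_iff]
    constructor
    · intro h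
      calc (a : G) * z * (a : G)⁻¹
          = a * ((z * ((a : G)⁻¹ * b)) * ((a : G)⁻¹ * b)⁻¹) * (a : G)⁻¹ := by group
        _ = a * ((((a : G)⁻¹ * b) * z) * ((a : G)⁻¹ * b)⁻¹) * (a : G)⁻¹ := by rw [h]
        _ = _ := by group
    · intro h
      calc ((a : G)⁻¹ * b) * z = (a : G)⁻¹ * ((b : G) * z * (b : G)⁻¹) * b := by group
        _ = (a : G)⁻¹ * ((a : G) * z * (a : G)⁻¹) * b := by rw [h]
        _ = _ := by group
  rw [Subgroup.relIndex, Subgroup.index]
  refine Nat.card_congr (Equiv.ofBijective (Quotient.lift φ ?_) ⟨?_, ?_⟩)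
  · intro a b hab
    exact (hφ a b).mp (QuotientGroup.leftRel_apply.mp hab)
  · intro p q
    induction p using QuotientGroup.induction_on with
    | H a =>
    induction q using QuotientGroup.induction_on with
    | H b =>
      intro he
      exact QuotientGroup.eq.mpr ((hφ a b).mpr he)
  · rintro ⟨x, hx, hxa⟩
    obtain ⟨g, rfl⟩ := isConj_iff.mp hx
    have h1 := (fix_iff h0 g 1).mp hxa
    have h2 : g ∈ H := by
      have := (mk_eq_mk_iff 1 g).mp h1
      simpa using this
    exact ⟨((⟨g, h2⟩ : H) : H ⧸ (centralizer ({z} : Set G)).subgroupOf H), rfl⟩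

/-- Direction (1) ⇒ (2a). -/
theorem center_of_one (hz : orderOf z = 2) (hH : H ≠ ⊤)
    (h0 : ∀ g : G, z ∈ H.map (MulAut.conj g).toMonoidHom ↔ g ∈ H)
    (h1 : ∀ t : G, IsConj z t → t ≠ z → t * z = z * t → ∀ g : G, z * t ∈ H.map (MulAut.conj g).toMonoidHom ↔ g ∈ H) :
    ∃ P : Sylow 2 G, z ∈ (Subgroup.center ↥(P : Subgroup G)).map (P : Subgroup G).subtype := by
  classical
  have : Fact (Nat.Prime 2) := ⟨Nat.prime_two⟩
  have hyp := hyp_of_one hz h0 h1
  obtain ⟨g, hg⟩ : ∃ g, g ∉ H := by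
    by_contra hall
    push Not at hall
    exact hH (eq_top_iff.mpr fun x _ => hall x)
  have hne : ((1 : G) : G ⧸ H) ≠ (g : G ⧸ H) := by
    intro h
    apply hg
    have := (mk_eq_mk_iff 1 g).mp h
    simpa using this
  have hfix1 : z • ((1 : G) : G ⧸ H) = ((1 : G) : G ⧸ H) := by
    have := (fix_iff h0 1 1).mpr rfl
    simpa using this
  have hfixg : (g * z * g⁻¹) • (g : G ⧸ H) = (g : G ⧸ H) := (fix_iff h0 g g).mpr rfl
  have hd := hyp.odd_card_DSet hne ⟨z, IsConj.refl z, hfix1⟩ ⟨_, isConj_iff.mpr ⟨g, rfl⟩, hfixg⟩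
  rw [← relIndex_eq hz h0] at hd
  have hn := odd_index_quot hz h0
  have hC := centralizer_le_of_h0 h0
  have hind : (centralizer ({z} : Set G)).index = (centralizer ({z} : Set G)).relIndex H * H.index :=
    (Subgroup.relIndex_mul_index hC).symm
  have hodd : Odd (centralizer ({z} : Set G)).index := by
    rw [hind]
    exact hd.mul hn
  obtain ⟨P₀⟩ : Nonempty (Sylow 2 G) := inferInstance
  have hmod := P₀.isPGroup'.card_modEq_card_fixedPoints (G ⧸ centralizer ({z} : Set G))
  have hne' : Nat.card (MulAction.fixedPoints (P₀ : Subgroup G) (G ⧸ centralizer ({z} : Set G))) ≠ 0 := by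
    intro h3
    rw [h3] at hmod
    rw [Subgroup.index, Nat.odd_iff] at hodd
    have : Nat.card (G ⧸ centralizer ({z} : Set G)) % 2 = 0 := hmod
    omega
  have : Finite (MulAction.fixedPoints (P₀ : Subgroup G) (G ⧸ centralizer ({z} : Set G))) := Subtype.finite
  obtain ⟨⟨q, hq⟩⟩ := (Nat.card_ne_zero.mp hne').1
  induction q using QuotientGroup.induction_on with
  | H k =>
    -- `P = k⁻¹ P₀ k` centralizes `z`
    let P : Sylow 2 G := k⁻¹ • P₀
    have hPmem : ∀ {x : G}, x ∈ (P : Subgroup G) ↔ k * x * k⁻¹ ∈ (P₀ : Subgroup G) := by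
      intro x
      show x ∈ ((k⁻¹ • P₀ : Sylow 2 G) : Subgroup G) ↔ _
      rw [Sylow.coe_subgroup_smul, Cfsg.Agent.Lib.Coprime.SchurZassenhaus.mem_conj_smul_iff, inv_inv]
    have hPC : ∀ x ∈ (P : Subgroup G), x * z = z * x := by
      intro x hx
      have h2 := hPmem.mp hx
      have h3 := hq ⟨_, h2⟩
      have h4 : (k * x * k⁻¹) • (k : G ⧸ centralizer ({z} : Set G)) = k := h3
      rw [smul_mk_eq_mk_iff] at h4
      have h5 : k⁻¹ * (k * x * k⁻¹) * k = x := by group
      rw [h5, Subgroup.mem_centralizer_singleton_iff] at h4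
      exact h4
    have hzN : z ∈ normalizer ((P : Subgroup G) : Set G) := by
      rw [Subgroup.mem_normalizer_iff]
      intro x
      constructor
      · intro hx
        have : z * x * z⁻¹ = x := by rw [← hPC x hx]; group
        rwa [this]
      · intro hx
        have h2 := hPC _ hx
        have : x = z * x * z⁻¹ := by
          have h3 : z * x * z⁻¹ * z = z * (z * x * z⁻¹) := h2
          have h4 : z * x = z * (z * x * z⁻¹) := by simpa using h3
          exact mul_left_cancel h4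
        rw [this]
        exact hx
    have hzp : IsPGroup 2 (zpowers z) := by
      refine IsPGroup.of_card (n := 1) ?_
      rw [Nat.card_zpowers, hz, pow_one]
    have hzP : z ∈ (P : Subgroup G) := by
      have h2 := hzp.inf_normalizer_sylow P
      have h3 := h2.le ⟨mem_zpowers z, hzN⟩
      exact h3.2
    refine ⟨P, ⟨⟨z, hzP⟩, Subgroup.mem_center_iff.mpr ?_, rfl⟩⟩
    rintro ⟨x, hx⟩
    apply Subtype.ext
    exact hPC x hx

/-- Direction (2) ⇒ (1). -/
theorem one_of_two (hz : orderOf z = 2)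
    (h0 : ∀ g : G, z ∈ H.map (MulAut.conj g).toMonoidHom ↔ g ∈ H)
    (P : Sylow 2 G) (hP : z ∈ (Subgroup.center ↥(P : Subgroup G)).map (P : Subgroup G).subtype)
    {t : G} (ht : IsConj z t) (hne : t ≠ z) (hc : t * z = z * t)
    (h2 : Subgroup.centralizer ({z * t} : Set G) ≤ H) (g : G) :
    z * t ∈ H.map (MulAut.conj g).toMonoidHom ↔ g ∈ H := by
  open Cfsg.Agent.Lib.Coprime.Action Cfsg.Agent.Lib.Coprime.SchurZassenhaus in
  have : Fact (Nat.Prime 2) := ⟨Nat.prime_two⟩
  have hC := centralizer_le_of_h0 h0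
  obtain ⟨w, hw, hwz⟩ := hP
  have hzP : z ∈ (P : Subgroup G) := hwz ▸ w.2
  have hzc : ∀ x ∈ (P : Subgroup G), x * z = z * x := by
    intro x hx
    have h3 := Subgroup.mem_center_iff.mp hw ⟨x, hx⟩
    have h4 := congrArg Subtype.val h3
    rw [← hwz]
    exact h4
  have hPH : (P : Subgroup G) ≤ H := fun x hx =>
    hC (Subgroup.mem_centralizer_singleton_iff.mpr (hzc x hx))
  have hzH : z ∈ H := hPH hzP
  have htH : t ∈ H := hC (Subgroup.mem_centralizer_singleton_iff.mpr hc)
  have hz2 : z ^ 2 = 1 := by rw [← hz]; exact pow_orderOf_eq_one z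
  have ht2 : t ^ 2 = 1 := by
    obtain ⟨u, rfl⟩ := isConj_iff.mp ht
    rw [conj_pow, hz2]; simp
  rw [mem_map_conj_iff]
  constructor
  · intro h3
    set a' := g⁻¹ * (z * t) * g with ha'
    have ha2 : a' ^ 2 = 1 := by
      have h4 : (z * t) ^ 2 = 1 := by
        rw [(Commute.mul_pow (hc.symm) 2), hz2, ht2, one_mul]
      rw [ha']
      have := conj_pow (a := g⁻¹) (b := z * t) (i := 2)
      rw [inv_inv] at this
      rw [this, h4]; simp
    have ha1 : a' ≠ 1 := by
      intro h4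
      have h5 : z * t = 1 := by
        have : z * t = g * a' * g⁻¹ := by rw [ha']; group
        rw [this, h4]; simp
      have h6 : t = z⁻¹ := eq_inv_of_mul_eq_one_right h5
      have h7 : z⁻¹ = z := inv_eq_of_sq hz2
      exact hne (by rw [h6, h7])
    have hord : orderOf a' = 2 := orderOf_eq_prime ha2 ha1
    have hQp : IsPGroup 2 (zpowers a') := by
      refine IsPGroup.of_card (n := 1) ?_
      rw [Nat.card_zpowers, hord, pow_one]
    have hQ' : IsPGroup 2 ((zpowers a').subgroupOf H) := hQp.comap_subtype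
    obtain ⟨R, hR⟩ := hQ'.exists_le_sylow
    have hs1 := isSylowIn_map R
    have hs2 : IsSylowIn 2 (P : Subgroup G) H := by
      refine ⟨hPH, P.isPGroup', ?_⟩
      intro hd
      apply P.not_dvd_index
      have := Subgroup.relIndex_mul_index hPH
      rw [← this]
      exact hd.trans (dvd_mul_right _ _)
    obtain ⟨m, hmH, hm⟩ := hs1.exists_conj hs2
    have haR : a' ∈ (R : Subgroup H).map H.subtype := by
      refine ⟨⟨a', h3⟩, hR ?_, rfl⟩
      exact mem_zpowers a'
    have hmem : m * a' * m⁻¹ ∈ (P : Subgroup G) := by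
      rw [← hm]
      exact conj_mem_conj_smul m a' _ haR
    set k := g * m⁻¹ with hk
    have h4 := hzc _ hmem
    have hcen : k * z * k⁻¹ ∈ centralizer ({z * t} : Set G) := by
      rw [Subgroup.mem_centralizer_singleton_iff]
      have e1 : m * a' * m⁻¹ = k⁻¹ * (z * t) * k := by
        rw [ha', hk]; group
      rw [e1] at h4
      calc k * z * k⁻¹ * (z * t) = k * (z * (k⁻¹ * (z * t) * k)) * k⁻¹ := by group
        _ = k * ((k⁻¹ * (z * t) * k) * z) * k⁻¹ := by rw [h4]
        _ = z * t * (k * z * k⁻¹) := by group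
    have h5 := h2 hcen
    have h6 : k⁻¹ ∈ H := by
      rw [← h0, mem_map_conj_iff, inv_inv]
      exact h5
    have h7 : k ∈ H := by simpa using H.inv_mem h6
    have e2 : g = k * m := by rw [hk]; group
    rw [e2]
    exact H.mul_mem h7 hmH
  · intro hg
    exact H.mul_mem (H.mul_mem (H.inv_mem hg) (H.mul_mem hzH htH)) hg

end Main

/-- Let z be an involution of a finite group G and H a proper subgroup such that z lies in gHg⁻¹ exactly when g ∈ H. Then the following are equivalent: (1) for every conjugate t ≠ z of z commuting with z, the product zt lies in gHg⁻¹ exactly when g ∈ H; (2) z lies in the centre of some Sylow 2-subgroup of G, and for every conjugate t ≠ z of z commuting with z, the centralizer of zt is contained in H. -/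
theorem result {G : Type*} [Group G] [Finite G] (z : G) (hz : orderOf z = 2) (H : Subgroup G) (hH : H ≠ ⊤)
    (h0 : ∀ g : G, z ∈ H.map (MulAut.conj g).toMonoidHom ↔ g ∈ H) :
    (∀ t : G, IsConj z t → t ≠ z → t * z = z * t → ∀ g : G, z * t ∈ H.map (MulAut.conj g).toMonoidHom ↔ g ∈ H) ↔
      ((∃ P : Sylow 2 G, z ∈ (Subgroup.center ↥(P : Subgroup G)).map (P : Subgroup G).subtype) ∧
        ∀ t : G, IsConj z t → t ≠ z → t * z = z * t → Subgroup.centralizer ({z * t} : Set G) ≤ H) := by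
  constructor
  · intro h1
    refine ⟨center_of_one hz hH h0 h1, ?_⟩
    intro t ht hne hc c hcC
    have h2 := (h1 t ht hne hc 1).mpr H.one_mem
    rw [mem_map_conj_iff] at h2
    have h3 : z * t ∈ H := by simpa using h2
    rw [← h1 t ht hne hc c, mem_map_conj_iff]
    have h4 : c * (z * t) = (z * t) * c := (Subgroup.mem_centralizer_singleton_iff).mp hcC
    have h5 : c⁻¹ * (z * t) * c = z * t := by
      rw [mul_assoc, ← h4]; group
    rwa [h5]
  · rintro ⟨⟨P, hP⟩, h2⟩ t ht hne hc g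
    exact one_of_two hz h0 P hP ht hne hc (h2 t ht hne hc) g

end Cfsg.Agent.S1922
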