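import Cfsg.Statements.S1944
import Cfsg.Agent.Lib.Core.Series
import Cfsg.Agent.Lib.Coprime.Action
import Cfsg.Agent.Lib.LocalStruct.PClosed
import Cfsg.Agent.S1907

set_option autoImplicit false
open Cfsg

namespace Cfsg.Agent.S1944

open Subgroup Cfsg.Agent.Lib.Core.Basic Cfsg.Agent.Lib.Core.Series
open scoped IsMulCommutative

section Central

variable {Γ : Type*} [Group Γ] [Finite Γ] {p : ℕ} [Fact p.Prime] (T : Sylow p Γ)

/-- `Z(O_p)`. -/
abbrev cA (p : ℕ) (Γ : Type*) [Group Γ] : Subgroup Γ :=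
  pCore p Γ ⊓ centralizer (pCore p Γ : Set Γ)

instance cA_comm : IsMulCommutative (cA p Γ) := ⟨⟨by
  rintro ⟨a, ha⟩ ⟨b, hb⟩
  apply Subtype.ext
  exact ((Subgroup.mem_centralizer_iff.mp ha.2) b hb.1).symm⟩⟩

theorem cA_conj {a : Γ} (ha : a ∈ cA p Γ) (g : Γ) : g * a * g⁻¹ ∈ cA p Γ := by
  refine ⟨(pCore_normal p Γ).conj_mem a ha.1 g, ?_⟩
  refine Subgroup.mem_centralizer_iff.mpr ?_
  intro h hh
  have h1 : g⁻¹ * h * g⁻¹⁻¹ ∈ pCore p Γ := (pCore_normal p Γ).conj_mem h hh g⁻¹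
  have h2 := (Subgroup.mem_centralizer_iff.mp ha.2) _ h1
  simp only [inv_inv] at h2
  calc h * (g * a * g⁻¹) = g * ((g⁻¹ * h * g) * a) * g⁻¹ := by group
    _ = g * (a * (g⁻¹ * h * g)) * g⁻¹ := by rw [h2]
    _ = g * a * g⁻¹ * h := by group

/-- The centre of a Sylow subgroup. -/
abbrev cZ : Subgroup Γ := (T : Subgroup Γ) ⊓ centralizer ((T : Subgroup Γ) : Set Γ)

variable {T}

theorem cZ_le (hZ : cZ T ≤ pCore p Γ) : cZ T ≤ cA p Γ := by
  intro z hz
  refine ⟨hZ hz, ?_⟩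
  refine Subgroup.mem_centralizer_iff.mpr ?_
  intro h hh
  exact (Subgroup.mem_centralizer_iff.mp hz.2) h (pCore_le_sylow T hh)

/-- The transfer-like map. -/
noncomputable def tau (hZ : cZ T ≤ pCore p Γ) : cZ T →* cA p Γ := by
  classical
  letI := Fintype.ofFinite (Γ ⧸ (T : Subgroup Γ))
  exact
  { toFun := fun z => ∏ c : Γ ⧸ (T : Subgroup Γ),
      (⟨c.out * z * c.out⁻¹, cA_conj (cZ_le hZ z.2) _⟩ : cA p Γ)
    map_one' := by
      apply Finset.prod_eq_one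
      intro a _
      apply Subtype.ext
      simp
    map_mul' := by
      intro v w
      rw [← Finset.prod_mul_distrib]
      apply Finset.prod_congr rfl
      intro a _
      apply Subtype.ext
      simp [mul_assoc] }

theorem tau_apply (hZ : cZ T ≤ pCore p Γ) (z : cZ T) [Fintype (Γ ⧸ (T : Subgroup Γ))] :
    tau hZ z = ∏ c : Γ ⧸ (T : Subgroup Γ),
      (⟨c.out * z * c.out⁻¹, cA_conj (cZ_le hZ z.2) _⟩ : cA p Γ) := by
  classical
  unfold tau
  simp only [MonoidHom.coe_mk, OneHom.coe_mk]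
  congr!

/-- Conjugation, as an endomorphism of `A`. -/
noncomputable def conjA (g : Γ) : cA p Γ →* cA p Γ where
  toFun a := ⟨g * a * g⁻¹, cA_conj a.2 g⟩
  map_one' := by apply Subtype.ext; simp
  map_mul' := by intro a b; apply Subtype.ext; simp [mul_assoc]

theorem tau_central (hZ : cZ T ≤ pCore p Γ) (z : cZ T) (g : Γ) :
    g * (tau hZ z : Γ) * g⁻¹ = tau hZ z := by
  classical
  letI := Fintype.ofFinite (Γ ⧸ (T : Subgroup Γ))
  have h : conjA g (tau hZ z) = tau hZ z := by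
    rw [tau_apply, map_prod]
    refine Fintype.prod_equiv (MulAction.toPerm g) _ _ ?_
    intro c
    apply Subtype.ext
    show g * (c.out * z * c.out⁻¹) * g⁻¹ = (g • c).out * z * (g • c).out⁻¹
    have hmem : ((g • c).out)⁻¹ * (g * c.out) ∈ (T : Subgroup Γ) := by
      rw [← QuotientGroup.eq]
      have h0 : ((g * c.out : Γ) : Γ ⧸ (T : Subgroup Γ)) = g • ((c.out : Γ) : Γ ⧸ (T : Subgroup Γ)) := rfl
      rw [h0, QuotientGroup.out_eq', QuotientGroup.out_eq']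
    have hcomm := (Subgroup.mem_centralizer_iff.mp z.2.2) _ hmem
    set t := ((g • c).out)⁻¹ * (g * c.out) with ht
    have e1 : g * c.out = (g • c).out * t := by rw [ht]; group
    have e2 : g * (c.out * z * c.out⁻¹) * g⁻¹ = (g * c.out) * z * (g * c.out)⁻¹ := by group
    rw [e2, e1]
    calc (g • c).out * t * z * ((g • c).out * t)⁻¹ = (g • c).out * (t * z) * t⁻¹ * ((g • c).out)⁻¹ := by group
      _ = (g • c).out * (z * t) * t⁻¹ * ((g • c).out)⁻¹ := by rw [hcomm]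
      _ = _ := by group
  exact congrArg Subtype.val h

theorem tau_of_central (hZ : cZ T ≤ pCore p Γ) (z : cZ T) (hz : (z : Γ) ∈ center Γ) :
    (tau hZ z : Γ) = (z : Γ) ^ (T : Subgroup Γ).index := by
  classical
  letI := Fintype.ofFinite (Γ ⧸ (T : Subgroup Γ))
  have h1 : ∀ c : Γ ⧸ (T : Subgroup Γ),
      (⟨c.out * z * c.out⁻¹, cA_conj (cZ_le hZ z.2) _⟩ : cA p Γ) = ⟨z, cZ_le hZ z.2⟩ := by
    intro c
    apply Subtype.ext
    show c.out * z * c.out⁻¹ = z
    rw [(Subgroup.mem_center_iff.mp hz c.out)]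
    group
  rw [tau_apply]
  simp only [h1, Finset.prod_const, Finset.card_univ]
  rw [Subgroup.coe_pow, Subgroup.index, ← Nat.card_eq_fintype_card]

theorem central_direct_factor (hZ : cZ T ≤ pCore p Γ) :
    ∃ K : Subgroup Γ, K ≤ cZ T ∧ ((T : Subgroup Γ) ⊓ center Γ) ⊓ K = ⊥ ∧
      ((T : Subgroup Γ) ⊓ center Γ) ⊔ K = cZ T := by
  classical
  have hcop : ∀ x ∈ (T : Subgroup Γ), ((T : Subgroup Γ).index).Coprime (orderOf x) := by
    intro x hx
    obtain ⟨k, hk⟩ := IsPGroup.iff_orderOf.mp T.isPGroup' ⟨x, hx⟩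
    rw [Subgroup.orderOf_mk] at hk
    rw [hk]
    refine Nat.Coprime.pow_right k ?_
    exact ((Fact.out : p.Prime).coprime_iff_not_dvd.mpr T.not_dvd_index).symm
  have hΩ : (T : Subgroup Γ) ⊓ center Γ ≤ cZ T := by
    intro x hx
    refine ⟨hx.1, ?_⟩
    refine Subgroup.mem_centralizer_iff.mpr ?_
    intro h _
    exact (Subgroup.mem_center_iff.mp hx.2 h)
  refine ⟨(tau hZ).ker.map (cZ T).subtype, ?_, ?_, ?_⟩
  · exact map_subtype_le _
  · rw [eq_bot_iff]
    rintro x ⟨hx, ⟨z, hzk, rfl⟩⟩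
    have h1 := tau_of_central hZ z hx.2
    rw [MonoidHom.mem_ker.mp hzk] at h1
    have h2 : (z : Γ) ^ (T : Subgroup Γ).index = 1 := by simpa using h1.symm
    have h3 := Nat.eq_one_of_dvd_coprimes (hcop _ z.2.1) (orderOf_dvd_of_pow_eq_one h2) dvd_rfl
    exact Subgroup.mem_bot.mpr (orderOf_eq_one_iff.mp h3)
  · apply le_antisymm
    · exact sup_le hΩ (map_subtype_le _)
    · intro z hz
      set y : Γ := ((tau hZ ⟨z, hz⟩ : cA p Γ) : Γ) with hy
      have hyT : y ∈ (T : Subgroup Γ) := pCore_le_sylow T (tau hZ ⟨z, hz⟩).2.1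
      have hyc : y ∈ center Γ := by
        rw [Subgroup.mem_center_iff]
        intro g
        have := tau_central hZ ⟨z, hz⟩ g
        rw [← hy] at this
        rw [mul_inv_eq_iff_eq_mul] at this
        exact this
      obtain ⟨m, hm⟩ := exists_pow_eq_self_of_coprime (hcop y hyT)
      set ω : Γ := y ^ m with hω
      have hωΩ : ω ∈ (T : Subgroup Γ) ⊓ center Γ :=
        ⟨Subgroup.pow_mem _ hyT m, Subgroup.pow_mem _ hyc m⟩
      have hωZ := hΩ hωΩ
      have hτ : (tau hZ ⟨ω, hωZ⟩ : Γ) = y := by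
        rw [tau_of_central hZ _ hωΩ.2]
        show (y ^ m) ^ _ = y
        rw [← pow_mul, mul_comm, pow_mul]
        exact hm
      have hk : (⟨ω, hωZ⟩ : cZ T)⁻¹ * ⟨z, hz⟩ ∈ (tau hZ).ker := by
        rw [MonoidHom.mem_ker, map_mul, map_inv]
        apply Subtype.ext
        have h5 : tau hZ ⟨ω, hωZ⟩ = tau hZ ⟨z, hz⟩ := Subtype.ext hτ
        rw [h5]
        simp
      have e : z = ω * ((cZ T).subtype ((⟨ω, hωZ⟩ : cZ T)⁻¹ * ⟨z, hz⟩)) := by
        simp
      rw [e]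
      exact Subgroup.mul_mem _ (Subgroup.mem_sup_left hωΩ)
        (Subgroup.mem_sup_right ⟨_, hk, rfl⟩)

end Central

variable {G : Type*} [Group G] [Finite G] {p : ℕ} [Fact p.Prime]

theorem inj_on_sylow (S : Sylow p G) {x y : G} (hx : x ∈ (S : Subgroup G)) (hy : y ∈ (S : Subgroup G))
    (h : (x : G ⧸ pPrimeCore p G) = (y : G ⧸ pPrimeCore p G)) : x = y := by
  have h1 : x⁻¹ * y ∈ pPrimeCore p G := QuotientGroup.eq.mp h
  have h2 : x⁻¹ * y ∈ (S : Subgroup G) := Subgroup.mul_mem _ (Subgroup.inv_mem _ hx) hy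
  have hb : pPrimeCore p G ⊓ (S : Subgroup G) = ⊥ := by
    refine Cfsg.Agent.Lib.Coprime.SchurZassenhaus.disjoint_of_coprime_card ?_
    obtain ⟨n, hn⟩ := S.isPGroup'.exists_card_eq
    rw [hn]
    exact Nat.Coprime.pow_right n pPrimeCore_coprime
  have h3 : x⁻¹ * y ∈ pPrimeCore p G ⊓ (S : Subgroup G) := ⟨h1, h2⟩
  rw [hb, Subgroup.mem_bot] at h3
  exact inv_mul_eq_one.mp h3

/-- a `p`-element of `O_{p',p}(G)` is conjugate into `S` by an element of `O_{p'}(G)`. -/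
theorem exists_conj_mem (S : Sylow p G) {z : G} (hz : z ∈ pPrimePCore p G)
    (hp : ∃ k : ℕ, orderOf z = p ^ k) :
    ∃ d ∈ pPrimeCore p G, d * z * d⁻¹ ∈ (S : Subgroup G) := by
  open Cfsg.Agent.Lib.Coprime.Action Cfsg.Agent.Lib.Coprime.SchurZassenhaus in
  set M := pPrimePCore p G with hM
  obtain ⟨S', hS'⟩ := Cfsg.Agent.Lib.LocalStruct.PClosed.exists_sylow_inf S (K := M)
    (by rw [Subgroup.normalizer_eq_top]; exact le_top)
  obtain ⟨k, hk⟩ := hp
  have hQ : IsPGroup p ((zpowers z).subgroupOf M) := by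
    have : IsPGroup p (zpowers z) := by
      refine IsPGroup.of_card (n := k) ?_
      rw [Nat.card_zpowers, hk]
    exact this.comap_subtype
  obtain ⟨R, hR⟩ := hQ.exists_le_sylow
  have h1 := isSylowIn_map R
  have h2 := isSylowIn_map S'
  rw [hS'] at h2
  obtain ⟨m, hmM, hm⟩ := h1.exists_conj h2
  have hzR : z ∈ (R : Subgroup M).map M.subtype := by
    refine ⟨⟨z, hz⟩, hR ?_, rfl⟩
    exact mem_zpowers z
  have h3 : m * z * m⁻¹ ∈ (S : Subgroup G) ⊓ M := by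
    rw [← hm]
    exact conj_mem_conj_smul m z _ hzR
  obtain ⟨t, ht, d, hd, rfl⟩ := Cfsg.Agent.S1907.exists_mul_of_mem_pPrimePCore S hmM
  refine ⟨d, hd, ?_⟩
  have e : d * z * d⁻¹ = t⁻¹ * (t * d * z * (t * d)⁻¹) * t := by group
  rw [e]
  exact Subgroup.mul_mem _ (Subgroup.mul_mem _ (Subgroup.inv_mem _ ht.1) h3.1) ht.1

/-- Let S be a Sylow p-subgroup of the finite group G and suppose that the centre Z(S) lies in O_{p',p}(G). The elements of S each of which is its only G-conjugate in S form a subgroup W of Z(S); W is then a direct factor of Z(S): there is a subgroup K of Z(S) with W ∩ K = 1 and WK = Z(S). -/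
theorem result {G : Type*} [Group G] [Finite G] {p : ℕ} [Fact p.Prime] (S : Sylow p G)
    (hZ : ((S : Subgroup G) ⊓ Subgroup.centralizer ((S : Subgroup G) : Set G)) ≤ Cfsg.pPrimePCore p G) :
    ∃ W K : Subgroup G, (∀ x : G, x ∈ W ↔ (x ∈ (S : Subgroup G) ∧ ∀ g : G, g * x * g⁻¹ ∈ (S : Subgroup G) → g * x * g⁻¹ = x)) ∧
      K ≤ ((S : Subgroup G) ⊓ Subgroup.centralizer ((S : Subgroup G) : Set G)) ∧ W ⊓ K = ⊥ ∧ W ⊔ K = ((S : Subgroup G) ⊓ Subgroup.centralizer ((S : Subgroup G) : Set G)) := by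
  set D := pPrimeCore p G with hD
  let φ : G →* G ⧸ D := QuotientGroup.mk' D
  have hφ : Function.Surjective φ := QuotientGroup.mk'_surjective D
  let T : Sylow p (G ⧸ D) := S.mapSurjective hφ
  have hT : (T : Subgroup (G ⧸ D)) = (S : Subgroup G).map φ := rfl
  have hinj : ∀ {x y : G}, x ∈ (S : Subgroup G) → y ∈ (S : Subgroup G) → φ x = φ y → x = y :=
    fun hx hy h => inj_on_sylow S hx hy h
  -- elements of `S` whose image centralizes `T` are in `Z(S)`
  have hcen : ∀ {s : G}, s ∈ (S : Subgroup G) → φ s ∈ centralizer ((T : Subgroup (G ⧸ D)) : Set (G ⧸ D)) →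
      s ∈ centralizer ((S : Subgroup G) : Set G) := by
    intro s hs h
    refine Subgroup.mem_centralizer_iff.mpr ?_
    intro s' hs'
    apply hinj (Subgroup.mul_mem _ hs' hs) (Subgroup.mul_mem _ hs hs')
    rw [map_mul, map_mul]
    exact Subgroup.mem_centralizer_iff.mp h (φ s') ⟨s', hs', rfl⟩
  have hZT : cZ T ≤ pCore p (G ⧸ D) := by
    rintro t ⟨ht, htc⟩
    obtain ⟨s, hs, rfl⟩ := ht
    exact hZ ⟨hs, hcen hs htc⟩
  obtain ⟨K₀, hK₀, hK₁, hK₂⟩ := central_direct_factor hZT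
  have hSM : (S : Subgroup G) ⊓ (center (G ⧸ D)).comap φ ≤ (S : Subgroup G) ⊓ centralizer ((S : Subgroup G) : Set G) := by
    rintro x ⟨hx, hxc⟩
    refine ⟨hx, hcen hx ?_⟩
    refine Subgroup.mem_centralizer_iff.mpr ?_
    intro h _
    exact (Subgroup.mem_center_iff.mp hxc h)
  refine ⟨(S : Subgroup G) ⊓ (center (G ⧸ D)).comap φ, (S : Subgroup G) ⊓ K₀.comap φ, ?_, ?_, ?_, ?_⟩
  · intro x
    constructor
    · rintro ⟨hx, hxc⟩
      refine ⟨hx, fun g hg => ?_⟩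
      apply hinj hg hx
      have h1 := Subgroup.mem_center_iff.mp hxc (φ g)
      rw [map_mul, map_mul, map_inv, h1]
      group
    · rintro ⟨hx, hw⟩
      refine ⟨hx, ?_⟩
      have hxZ : x ∈ (S : Subgroup G) ⊓ centralizer ((S : Subgroup G) : Set G) := by
        refine ⟨hx, Subgroup.mem_centralizer_iff.mpr fun s hs => ?_⟩
        have := hw s (Subgroup.mul_mem _ (Subgroup.mul_mem _ hs hx) (Subgroup.inv_mem _ hs))
        exact mul_inv_eq_iff_eq_mul.mp this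
      refine Subgroup.mem_center_iff.mpr fun g' => ?_
      obtain ⟨g, rfl⟩ := hφ g'
      have hzM : g * x * g⁻¹ ∈ pPrimePCore p G :=
        (pPrimePCore_normal (p := p) (G := G)).conj_mem x (hZ hxZ) g
      have hord : ∃ k : ℕ, orderOf (g * x * g⁻¹) = p ^ k := by
        have h1 := orderOf_injective (MulAut.conj g).toMonoidHom (MulAut.conj g).injective x
        have h2 : orderOf (g * x * g⁻¹) = orderOf x := by simpa [MulAut.conj_apply] using h1
        rw [h2]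
        obtain ⟨k, hk⟩ := IsPGroup.iff_orderOf.mp S.isPGroup' ⟨x, hx⟩
        exact ⟨k, by rwa [Subgroup.orderOf_mk] at hk⟩
      obtain ⟨d, hd, hdz⟩ := exists_conj_mem S hzM hord
      have e : d * (g * x * g⁻¹) * d⁻¹ = (d * g) * x * (d * g)⁻¹ := by group
      rw [e] at hdz
      have h3 := hw _ hdz
      have hd1 : φ d = 1 := (QuotientGroup.eq_one_iff d).mpr hd
      have h4 := congrArg φ h3
      simp only [map_mul, map_inv, hd1, one_mul] at h4
      exact mul_inv_eq_iff_eq_mul.mp h4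
  · rintro x ⟨hx, hxK⟩
    exact ⟨hx, hcen hx (hK₀ hxK).2⟩
  · rw [eq_bot_iff]
    rintro x ⟨⟨hx, hxc⟩, ⟨-, hxK⟩⟩
    have h1 : φ x ∈ (T : Subgroup (G ⧸ D)) ⊓ center (G ⧸ D) ⊓ K₀ := ⟨⟨⟨x, hx, rfl⟩, hxc⟩, hxK⟩
    rw [hK₁, Subgroup.mem_bot] at h1
    have h2 : x = 1 := hinj hx (Subgroup.one_mem _) (by rw [h1, map_one])
    exact Subgroup.mem_bot.mpr h2
  · apply le_antisymm
    · refine sup_le hSM ?_
      rintro x ⟨hx, hxK⟩
      exact ⟨hx, hcen hx (hK₀ hxK).2⟩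
    · rintro x ⟨hx, hxc⟩
      have h1 : φ x ∈ cZ T := by
        refine ⟨⟨x, hx, rfl⟩, Subgroup.mem_centralizer_iff.mpr ?_⟩
        rintro _ ⟨s, hs, rfl⟩
        rw [← map_mul, ← map_mul, (Subgroup.mem_centralizer_iff.mp hxc) s hs]
      rw [← hK₂] at h1
      have hn : ((T : Subgroup (G ⧸ D)) ⊓ center (G ⧸ D)).Normal := ⟨fun n hn g => by
        have := Subgroup.mem_center_iff.mp hn.2 g
        rw [this, mul_assoc, mul_inv_cancel, mul_one]
        exact hn⟩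
      have h2 : φ x ∈ (((T : Subgroup (G ⧸ D)) ⊓ center (G ⧸ D) ⊔ K₀ : Subgroup (G ⧸ D)) : Set (G ⧸ D)) := h1
      rw [Subgroup.normal_mul] at h2
      obtain ⟨a, ha, b, hb, hab⟩ := Set.mem_mul.mp h2
      obtain ⟨s₁, hs₁, rfl⟩ := ha.1
      obtain ⟨s₂, hs₂, rfl⟩ := (hK₀ hb).1
      have e : x = s₁ * s₂ := hinj hx (Subgroup.mul_mem _ hs₁ hs₂) (by rw [map_mul, hab])
      rw [e]
      exact Subgroup.mul_mem _ (Subgroup.mem_sup_left ⟨hs₁, ha.2⟩) (Subgroup.mem_sup_right ⟨hs₂, hb⟩)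

end Cfsg.Agent.S1944
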