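import Cfsg.Statements.S1952
import Cfsg.Agent.Lib.Fusion.YoshidaCore

set_option autoImplicit false
open Cfsg

namespace Cfsg.Agent.S1952

open scoped commutatorElement


/-- Let P be a finite p-group with a normal elementary abelian subgroup A of index p, and let x ∈ A and y ∈ P with y outside A. If the product of the p conjugates y^(-i) x y^i (i = 0, …, p−1) is not the identity, then the wreath product Z_p ≀ Z_p, realised as a Sylow p-subgroup of the symmetric group of degree p², is a homomorphic image of P. -/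
theorem result {P : Type*} [Group P] [Finite P] {p : ℕ} [Fact p.Prime] (hP : IsPGroup p P) (A : Subgroup P) [A.Normal]
    (hA : Cfsg.IsElementaryAbelian p A) (hidx : A.index = p) (x y : P) (hx : x ∈ A) (hy : y ∉ A)
    (hprod : ((List.range p).map (fun i => (y ^ i)⁻¹ * x * y ^ i)).prod ≠ 1) :
    ∃ (Q : Sylow p (Equiv.Perm (Fin (p ^ 2)))) (f : P →* ↥(Q : Subgroup (Equiv.Perm (Fin (p ^ 2))))), Function.Surjective f := by
  classical
  by_contra hno
  haveI hfin : Fintype (P ⧸ A) := Fintype.ofFinite _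
  obtain ⟨hcomm, hexp⟩ := hA
  have hcomm' : ∀ a b : A, a * b = b * a := fun a b => hcomm.is_comm.comm a b
  have hmemf : ∀ i : ℕ, (y ^ i)⁻¹ * x * y ^ i ∈ A := by
    intro i
    have := (inferInstance : A.Normal).conj_mem x hx (y ^ i)⁻¹
    rwa [inv_inv] at this
  let f : ℕ → A := fun i => ⟨(y ^ i)⁻¹ * x * y ^ i, hmemf i⟩
  let w : A := ((List.range p).map f).prod
  have hw : (w : P) = ((List.range p).map (fun i => (y ^ i)⁻¹ * x * y ^ i)).prod := by
    have := map_list_prod A.subtype ((List.range p).map f)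
    rw [List.map_map] at this
    exact this
  have hw1 : w ≠ 1 := by
    intro h0
    apply hprod
    rw [← hw, h0]
    rfl
  obtain ⟨ν, -, hν⟩ := Cfsg.Agent.Lib.Fusion.YoshidaCore.exists_hom_ne_one (p := p) (⊥ : Subgroup A) (by
    rw [commutator_def, Subgroup.commutator_le]
    intro a _ b _
    rw [commutatorElement_def, hcomm' a b]
    simp) (by
    intro g
    have : g ^ p = 1 := Subtype.ext (by simpa using hexp g)
    rw [this]
    exact one_mem _) w (by
    intro h0
    exact hw1 ((Subgroup.mem_bot).1 h0))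
  have key := Cfsg.Agent.Lib.Fusion.YoshidaGroup.prod_eq_one_of_no_wreath hP hno A hidx ν ⟨x, hx⟩
  apply hν
  rw [← key]
  -- reindexing
  have hcard : Nat.card (P ⧸ A) = p := hidx
  have hy1 : ((y : P) : P ⧸ A) ≠ 1 := by
    intro h0
    exact hy ((QuotientGroup.eq_one_iff _).1 h0)
  have hord : orderOf ((y : P) : P ⧸ A) = p :=
    orderOf_eq_prime (by rw [← hcard]; exact pow_card_eq_one') hy1
  let g : Fin p → P ⧸ A := fun i => ((y ^ (i : ℕ) : P) : P ⧸ A)
  have hginj : Function.Injective g := by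
    intro i j hij
    have h1 : ((y : P) : P ⧸ A) ^ (i : ℕ) = ((y : P) : P ⧸ A) ^ (j : ℕ) := hij
    have h2 := pow_injOn_Iio_orderOf (x := ((y : P) : P ⧸ A)) (by simpa [hord] using i.2)
      (by simpa [hord] using j.2) h1
    exact Fin.ext h2
  have hgbij : Function.Bijective g := by
    refine (Fintype.bijective_iff_injective_and_card g).2 ⟨hginj, ?_⟩
    rw [Fintype.card_fin, ← Nat.card_eq_fintype_card, hcard]
  have hterm : ∀ i : Fin p, ν (Cfsg.Agent.Lib.Fusion.YoshidaGroup.cjn A (g i).out ⟨x, hx⟩) = ν (f i) := by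
    intro i
    have h1 : (((g i).out : P) : P ⧸ A) = ((y ^ (i : ℕ) : P) : P ⧸ A) := QuotientGroup.out_eq' _
    have h2 : (y ^ (i : ℕ))⁻¹ * (g i).out ∈ A := QuotientGroup.eq.1 h1.symm
    have h3 : Cfsg.Agent.Lib.Fusion.YoshidaGroup.cjn A (g i).out ⟨x, hx⟩ = (⟨_, h2⟩ : A)⁻¹ * f i * ⟨_, h2⟩ := by
      apply Subtype.ext
      simp only [Cfsg.Agent.Lib.Fusion.YoshidaGroup.cjn_coe, Subgroup.coe_mul, Subgroup.coe_inv, f]
      group
    rw [h3, hcomm' _ (f i), mul_assoc, inv_mul_cancel, mul_one]
  have hlist : ν w = ∏ i ∈ Finset.range p, ν (f i) := by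
    have h1 : ν w = ((List.range p).map (fun i => ν (f i))).prod := by
      have := map_list_prod ν ((List.range p).map f)
      rw [List.map_map] at this
      exact this
    rw [h1]
    rfl
  rw [hlist, Finset.prod_range, ← hgbij.prod_comp]
  exact (Finset.prod_congr rfl (fun i _ => hterm i)).symm

end Cfsg.Agent.S1952
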