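import Cfsg.Statements.S1953
import Cfsg.Agent.Lib.PLocal.ConstrainedQd

set_option autoImplicit false
open Cfsg

namespace Cfsg.Agent.S1953

/-- Let p be an odd prime and P a Sylow p-subgroup of the finite group G, and suppose that for no p-subgroup Q of G does N_G(Q)/C_G(Q) have a section isomorphic to SL₂(p). Call a subgroup Q of P centric-radical when Z(Q) is a Sylow p-subgroup of C_G(Q) and the only normal subgroup X of N_G(Q) containing Q·C_G(Q) such that the index of Q·C_G(Q) in X is a power of p is Q·C_G(Q) itself (that is, N_G(Q)/Q·C_G(Q) has no nontrivial normal p-subgroup). Then there is a centric-radical subgroup Q of P contained in every centric-radical subgroup of P; it is normal in P, and N_G(Q) controls strong fusion in P: whenever a subgroup A of P has g A g⁻¹ ≤ P, the element g is a product h c with h in N_G(Q) and c centralizing A. -/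
theorem result {G : Type*} [Group G] [Finite G] {p : ℕ} [Fact p.Prime] (hp : p ≠ 2) (P : Sylow p G)
    (hfree : ∀ Q : Subgroup G, IsPGroup p ↥Q → ¬ ∃ (H K : Subgroup G) (_ : (K.subgroupOf H).Normal),
      Subgroup.centralizer (Q : Set G) ≤ K ∧ K ≤ H ∧ H ≤ Subgroup.normalizer (Q : Set G) ∧
      Nonempty ((↥H ⧸ K.subgroupOf H) ≃* Matrix.SpecialLinearGroup (Fin 2) (ZMod p)))
    (cr : Subgroup G → Prop)
    (hcr : ∀ Q : Subgroup G, cr Q ↔ (Q ≤ (P : Subgroup G) ∧
      (∃ R : Sylow p ↥(Subgroup.centralizer (Q : Set G)),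
        (R : Subgroup ↥(Subgroup.centralizer (Q : Set G))).map (Subgroup.centralizer (Q : Set G)).subtype = Q ⊓ Subgroup.centralizer (Q : Set G)) ∧
      ∀ X : Subgroup G, X ≤ Subgroup.normalizer (Q : Set G) →
        (∀ n ∈ Subgroup.normalizer (Q : Set G), X.map (MulAut.conj n).toMonoidHom = X) →
        Q ⊔ Subgroup.centralizer (Q : Set G) ≤ X → (∃ k : ℕ, (Q ⊔ Subgroup.centralizer (Q : Set G)).relIndex X = p ^ k) →
        X = Q ⊔ Subgroup.centralizer (Q : Set G))) :
    ∃ Q : Subgroup G, cr Q ∧ (∀ R : Subgroup G, cr R → Q ≤ R) ∧ (∀ x ∈ (P : Subgroup G), Q.map (MulAut.conj x).toMonoidHom = Q) ∧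
      ∀ A : Subgroup G, A ≤ (P : Subgroup G) → ∀ g : G, A.map (MulAut.conj g).toMonoidHom ≤ (P : Subgroup G) →
        ∃ h ∈ Subgroup.normalizer (Q : Set G), ∃ c ∈ Subgroup.centralizer (A : Set G), g = h * c := by
  classical
  open Cfsg.Agent.Lib.PLocal.ConstrainedQd Cfsg.Agent.Lib.ZJ.Reduction in
  have hqd := not_involves_of_automizers hfree
  open Cfsg.Agent.Lib.PLocal.ConstrainedQd Cfsg.Agent.Lib.ZJ.Reduction in
  obtain ⟨Q, hQ, hctl, hmax⟩ := exists_max_ctl (P : Subgroup G)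
  open Cfsg.Agent.Lib.PLocal.ConstrainedQd Cfsg.Agent.Lib.ZJ.Reduction in
  have hS : SylowIn p (P : Subgroup G) ⊤ := SylowIn.of_sylow P le_top
  open Cfsg.Agent.Lib.PLocal.ConstrainedQd Cfsg.Agent.Lib.ZJ.Reduction in
  have hSQ : (P : Subgroup G) ≤ NN Q := hctl.le_NN hQ
  open Cfsg.Agent.Lib.PLocal.ConstrainedQd Cfsg.Agent.Lib.ZJ.Reduction in
  have hDQ := inf_centralizer_le_of_max hp hqd P hQ hctl hmax
  open Cfsg.Agent.Lib.PLocal.ConstrainedQd Cfsg.Agent.Lib.ZJ.Reduction in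
  have hCN : Subgroup.centralizer (Q : Set G) ≤ NN Q := centralizer_le_normalizer_set Q
  open Cfsg.Agent.Lib.PLocal.ConstrainedQd Cfsg.Agent.Lib.ZJ.Reduction in
  have hNC : NN Q ≤ NN (Subgroup.centralizer (Q : Set G)) := by
    intro n hn
    apply mem_NN_of_cj_le
    rintro _ ⟨c, hc, rfl⟩
    exact conj_mem_centralizer hn hc
  open Cfsg.Agent.Lib.PLocal.ConstrainedQd Cfsg.Agent.Lib.ZJ.Reduction in
  have hDs : SylowIn p ((P : Subgroup G) ⊓ Subgroup.centralizer (Q : Set G))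
      (Subgroup.centralizer (Q : Set G)) := (hS.mono hSQ le_top).inf_normal hCN hNC
  open Cfsg.Agent.Lib.PLocal.ConstrainedQd Cfsg.Agent.Lib.ZJ.Reduction in
  refine ⟨Q, ?_, ?_, ?_, ?_⟩
  · rw [hcr]
    refine ⟨hQ, ⟨hDs.toSylow, ?_⟩, fun X hXN hNX hQX hk =>
      radical_of_max hp hqd P hQ hctl hmax hXN hNX hQX hk⟩
    show (((P : Subgroup G) ⊓ Subgroup.centralizer (Q : Set G)).subgroupOf
      (Subgroup.centralizer (Q : Set G))).map (Subgroup.centralizer (Q : Set G)).subtype = _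
    rw [Subgroup.subgroupOf_map_subtype, inf_eq_left.2 inf_le_right]
    exact le_antisymm (le_inf hDQ inf_le_right) (inf_le_inf_right _ hQ)
  · intro R hR
    obtain ⟨hRS, ⟨T, hT⟩, hrad⟩ := (hcr R).1 hR
    exact le_of_cr hS.isP hQ hctl hRS (sylowIn_of_sylow T hT) hrad
  · intro x hx
    exact mem_NN_iff_cj.1 (hSQ hx)
  · intro A hA g hg
    exact good_iff.1 (hctl A hA g hg)


end Cfsg.Agent.S1953
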