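import Cfsg.Statements.S2029
import Cfsg.Agent.Lib.KlingerMason.Main

set_option autoImplicit false
open Cfsg

namespace Cfsg.Agent.S2029

open Cfsg.Agent.Lib.KlingerMason Subgroup
open Cfsg.Agent.Lib.Coprime.Action Cfsg.Agent.Lib.Coprime.Generation

/-- Lower bound for `r`. -/
theorem rank_ge {G : Type*} [Group G] [Finite G] {p r n : ℕ} [hpp : Fact p.Prime] (hp : p ≠ 2)
    (hR : RankBound p r G)
    (hmax : ∀ (E : Subgroup G) (v : G), EA p E → orderOf v = 2 → E ≤ centralizer ({v} : Set G) →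
      Nat.card E ≤ p ^ r)
    {T A : Subgroup G} (hT : IsPGroup 2 T) (hT1 : T ≠ ⊥) (hA : EA p A) (hAc : Nat.card A = p ^ n)
    (hAT : A ≤ normalizer (T : Set G)) (hn : 2 ≤ n) : n ≤ r := by
  have : Fact (Nat.Prime 2) := ⟨Nat.prime_two⟩
  have hp1 : 1 < p := hpp.out.one_lt
  have hcomm : IsMulCommutative A := ⟨⟨fun a b => Subtype.ext (hA.comm a a.2 b b.2)⟩⟩
  have hcop : (Nat.card A).Coprime (Nat.card T) :=
    IsPGroup.coprime_card_of_ne p 2 hp _ _ hA.isPGroup hT
  have hsup := iSup_cocyclic_eq hAT hcop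
  have hex : ∃ B : Subgroup G, B ≤ A ∧ (∃ a ∈ A, B ⊔ zpowers a = A) ∧
      T ⊓ centralizer (B : Set G) ≠ ⊥ := by
    by_contra hc
    push Not at hc
    apply hT1
    rw [← hsup, eq_bot_iff]
    refine iSup₂_le ?_
    rintro B ⟨hB, hB2⟩
    exact (hc B hB hB2).le
  obtain ⟨B, hBA, ⟨a, ha, hBa⟩, hM1⟩ := hex
  have hB : EA p B := hA.mono hBA
  obtain ⟨b, hBc⟩ := hB.exists_card
  have hnb : n ≤ b + 1 := by
    by_cases haB : a ∈ B
    · have h1 : B = A := by
        rw [← hBa]
        exact le_antisymm le_sup_left (sup_le le_rfl (by rw [Subgroup.zpowers_le]; exact haB))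
      rw [h1, hAc] at hBc
      have := Nat.pow_right_injective hpp.out.two_le hBc
      omega
    · have h1 := (EA.sup_zpowers hB (hA.pow a ha) haB (fun e he => hA.comm a ha e (hBA he))).2
      rw [hBa, hAc, hBc, ← pow_succ] at h1
      have := Nat.pow_right_injective hpp.out.two_le h1
      omega
  have hB1 : B ≠ ⊥ := by
    intro he
    rw [he, Subgroup.card_bot] at hBc
    have h1 : b ≠ 0 := by omega
    have : 1 < p ^ b := Nat.one_lt_pow h1 hp1
    omega
  obtain ⟨M, hM⟩ : ∃ M, M = T ⊓ centralizer (B : Set G) := ⟨_, rfl⟩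
  rw [← hM] at hM1
  have hMT : M ≤ T := by rw [hM]; exact inf_le_left
  have hMp : IsPGroup 2 M := IsPGroup.to_le hT hMT
  have hMB : ∀ m ∈ M, ∀ c ∈ B, m * c = c * m := by
    intro m hm c hc
    rw [hM] at hm
    exact ((Subgroup.mem_centralizer_iff.mp hm.2) c hc).symm
  -- a central involution of `M`
  haveI hMnt : Nontrivial M := (Subgroup.nontrivial_iff_ne_bot M).mpr hM1
  have hcen : Nontrivial (center M) := hMp.center_nontrivial
  obtain ⟨⟨z₀, hz₀⟩, hz₀1⟩ := exists_ne (1 : center M)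
  have hz₀1' : (z₀ : G) ≠ 1 := by
    intro h
    apply hz₀1
    apply Subtype.ext
    exact Subtype.ext h
  obtain ⟨k, hk⟩ := Cfsg.Agent.Lib.Coprime.Eigen.exists_pow_orderOf_eq (p := 2) hz₀1' (by
    obtain ⟨k, hk⟩ := hMp z₀
    exact ⟨k, by simpa using congrArg Subtype.val hk⟩)
  obtain ⟨z, hz⟩ : ∃ z, z = (z₀ : G) ^ k := ⟨_, rfl⟩
  rw [← hz] at hk
  have hzM : z ∈ M := by rw [hz]; exact M.pow_mem z₀.2 k
  have hz2 : z ^ 2 = 1 := by rw [← hk]; exact pow_orderOf_eq_one z
  have hz1 : z ≠ 1 := by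
    rintro rfl
    rw [orderOf_one] at hk
    omega
  have hzc : ∀ m ∈ M, z * m = m * z := by
    intro m hm
    have h1 : (⟨m, hm⟩ : M) * z₀ = z₀ * ⟨m, hm⟩ := (Subgroup.mem_center_iff.mp hz₀) ⟨m, hm⟩
    have h2 : m * (z₀ : G) = z₀ * m := congrArg Subtype.val h1
    have h3 : Commute (z₀ : G) m := h2.symm
    rw [hz]
    exact (h3.pow_left k).eq
  by_cases hcase : ∃ z' ∈ M, z' ^ 2 = 1 ∧ z' ≠ 1 ∧ z' ≠ z
  · obtain ⟨z', hz'M, hz'2, hz'1, hz'z⟩ := hcase
    obtain ⟨h1, h2⟩ := two_invol hz2 hz'2 (hzc z' hz'M) hz1 hz'1 hz'z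
    have hne : zpowers z ⊔ zpowers z' ≠ ⊥ := by
      intro he
      rw [he, Subgroup.card_bot] at h2
      omega
    have := hR 2 b B _ hB hB1 hBc h1 hne h2
      (sup_le (zpowers_le_centralizer (hMB z hzM)) (zpowers_le_centralizer (hMB z' hz'M)))
    omega
  · push Not at hcase
    have hAC : A ≤ centralizer ({z} : Set G) := by
      intro α hα
      rw [Subgroup.mem_centralizer_iff]
      rintro t rfl
      have hAM : α * t * α⁻¹ ∈ M := by
        rw [hM] at hzM ⊢
        refine Subgroup.mem_inf.mpr ⟨Subgroup.le_normalizer_iff.mp hAT α hα t hzM.1, ?_⟩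
        rw [Subgroup.mem_centralizer_iff]
        intro c hc
        have h1 : Commute α c := hA.comm α hα c (hBA hc)
        have h2 : Commute t c := ((Subgroup.mem_centralizer_iff.mp hzM.2) c hc).symm
        exact (((h1.mul_left h2).mul_left (Commute.inv_left h1)).eq).symm
      have h1 : (α * t * α⁻¹) ^ 2 = 1 := by rw [conj_pow, hz2]; group
      have h2 : α * t * α⁻¹ ≠ 1 := by
        intro h
        apply hz1
        have : t = α⁻¹ * (α * t * α⁻¹) * α := by group
        rw [this, h]; group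
      have h3 := hcase _ hAM h1 h2
      calc t * α = α * t * α⁻¹ * α := by rw [h3]
        _ = α * t := by group
    have := hmax A z hA hk hAC
    rw [hAc] at this
    exact (Nat.pow_le_pow_iff_right hp1).mp this

/-- Let p be an odd prime and G a finite group that is both of local characteristic p (p divides its order and every p-local subgroup N satisfies C_N(O_p(N)) ≤ O_p(N)) and of characteristic 2 type (even order and every 2-local subgroup M satisfies C_M(O_2(M)) ≤ O_2(M)). Then every 2-local subgroup of G has p-rank at most 2. -/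
theorem result {G : Type*} [Group G] [Finite G] (p : ℕ) [Fact p.Prime] (hp : p ≠ 2) (hGp : Cfsg.IsOfLocalCharacteristic p G) (hG2 : Cfsg.IsCharacteristicTwoType G) : Cfsg.TwoLocalPRankLE p 2 G := by
  have : Fact (Nat.Prime 2) := ⟨Nat.prime_two⟩
  have hpp : p.Prime := Fact.out
  have hSp : SelfCent p G := hGp.2
  have hS2 : SelfCent 2 G := hG2.2
  rintro H ⟨T, hT, hT1, rfl⟩ A hAc hAp
  by_contra hcon
  push Not at hcon
  -- transfer `A` to `G`
  obtain ⟨A', hA'⟩ : ∃ A', A' = A.map (normalizer (T : Set G)).subtype := ⟨_, rfl⟩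
  have hcard' : Nat.card A' = Nat.card A := by
    rw [hA']
    exact Nat.card_congr (Subgroup.equivMapOfInjective _ _ (Subgroup.subtype_injective _)).symm.toEquiv
  have hEA : EA p A' := by
    rw [hA']
    constructor
    · rintro _ ⟨a, ha, rfl⟩ _ ⟨b, hb, rfl⟩
      have := mul_comm' (⟨a, ha⟩ : A) (⟨b, hb⟩ : A)
      have h2 : a * b = b * a := congrArg Subtype.val this
      exact congrArg Subtype.val h2
    · rintro _ ⟨a, ha, rfl⟩
      have := hAp a ha
      exact congrArg Subtype.val this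
  obtain ⟨n, hn⟩ := hEA.exists_card
  have hn3 : 3 ≤ n := by
    rw [hcard'] at hn
    rw [hn] at hcon
    by_contra hc
    have h1 : n ≤ 2 := by omega
    have := Nat.pow_le_pow_right hpp.pos h1
    omega
  have hAT : A' ≤ normalizer (T : Set G) := by
    rw [hA']
    rintro _ ⟨a, _, rfl⟩
    exact a.2
  -- an involution
  have hT2 : ∃ z : G, orderOf z = 2 := by
    haveI : Nontrivial T := (Subgroup.nontrivial_iff_ne_bot T).mpr hT1
    obtain ⟨⟨z₀, hz₀⟩, hz₀1⟩ := exists_ne (1 : T)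
    have hz₀1' : z₀ ≠ 1 := fun h => hz₀1 (Subtype.ext h)
    obtain ⟨k, hk⟩ := Cfsg.Agent.Lib.Coprime.Eigen.exists_pow_orderOf_eq (p := 2) hz₀1' (by
      obtain ⟨k, hk⟩ := hT ⟨z₀, hz₀⟩
      exact ⟨k, by simpa using congrArg Subtype.val hk⟩)
    exact ⟨_, hk⟩
  obtain ⟨z, hz⟩ := hT2
  -- the maximal rank
  classical
  let P : ℕ → Prop := fun a => ∃ (E : Subgroup G) (v : G), EA p E ∧ orderOf v = 2 ∧
    E ≤ centralizer ({v} : Set G) ∧ Nat.card E = p ^ a
  have hP0 : P 0 := ⟨⊥, z, EA.bot p, hz, bot_le, by simp⟩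
  obtain ⟨r, hr⟩ : ∃ r, r = Nat.findGreatest P (Nat.card G) := ⟨_, rfl⟩
  have hPr : P r := by
    rw [hr]
    exact Nat.findGreatest_spec (P := P) (Nat.zero_le _) hP0
  have hmax : ∀ (E : Subgroup G) (v : G), EA p E → orderOf v = 2 → E ≤ centralizer ({v} : Set G) →
      Nat.card E ≤ p ^ r := by
    intro E v hE hv hEv
    obtain ⟨a, ha⟩ := hE.exists_card
    have hPa : P a := ⟨E, v, hE, hv, hEv, ha⟩
    have h1 : a ≤ Nat.card G := by
      have h2 : Nat.card E ≤ Nat.card G := Subgroup.card_le_card_group E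
      rw [ha] at h2
      have h3 : a < p ^ a := Nat.lt_pow_self hpp.one_lt
      omega
    have h2 : a ≤ r := by
      rw [hr]
      exact Nat.le_findGreatest h1 hPa
    rw [ha]
    exact Nat.pow_le_pow_right hpp.pos h2
  have hR : RankBound p r G := rank_bound hp hSp hmax
  have hnr : n ≤ r := rank_ge hp hR hmax hT hT1 hEA hn hAT (by omega)
  obtain ⟨E, v, hE, hv, hEv, hEc⟩ := hPr
  exact main_contra hp hSp hS2 hR hmax (by omega) hE hEc hv hEv

end Cfsg.Agent.S2029
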