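import Cfsg.Statements.S2060
import Cfsg.Agent.Lib.Golay.OutGroups

set_option autoImplicit false
open Cfsg

namespace Cfsg.Agent.S2060

open Cfsg Cfsg.Agent.Lib.Golay.Core Cfsg.Agent.Lib.Golay.Perm Cfsg.Agent.Lib.Golay.OutAbs
  Cfsg.Agent.Lib.Golay.OutKer Cfsg.Agent.Lib.Golay.OutFam Cfsg.Agent.Lib.Golay.OutGroups
open Cfsg.Agent.Lib.PermComp Cfsg.Agent.Lib.Golay.M12

def o11_n : Nat := nat_lit 24
def o11_w : Nat := nat_lit 5
def o11_mask : Nat := nat_lit 31
def o11_L : Nat := nat_lit 120
def o11_maskL : Nat := nat_lit 0xffffffffffffffffffffffffffffff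
def o11_idc : Nat := nat_lit 0xbdab49ca307b9ac5a928398a418820
def o11_T : List Nat := [nat_lit 0xbd6717b56939461b52507314831040, nat_lit 0x3c69574ac97cc465aa04bb0a81b420]
def o11_prog : List (Nat × Nat × Nat) := [(nat_lit 1, nat_lit 1, nat_lit 0), (nat_lit 0, nat_lit 2, nat_lit 1), (nat_lit 0, nat_lit 0, nat_lit 3), (nat_lit 0, nat_lit 3, nat_lit 4), (nat_lit 0, nat_lit 0, nat_lit 5), (nat_lit 0, nat_lit 0, nat_lit 5), (nat_lit 0, nat_lit 0, nat_lit 7), (nat_lit 0, nat_lit 0, nat_lit 7), (nat_lit 0, nat_lit 0, nat_lit 8), (nat_lit 0, nat_lit 0, nat_lit 10), (nat_lit 0, nat_lit 0, nat_lit 10), (nat_lit 0, nat_lit 0, nat_lit 11), (nat_lit 0, nat_lit 11, nat_lit 11), (nat_lit 0, nat_lit 0, nat_lit 12), (nat_lit 0, nat_lit 0, nat_lit 13), (nat_lit 0, nat_lit 0, nat_lit 3), (nat_lit 0, nat_lit 13, nat_lit 17), (nat_lit 0, nat_lit 0, nat_lit 18), (nat_lit 0, nat_lit 4, nat_lit 0), (nat_lit 1, nat_lit 0, nat_lit 0), (nat_lit 1, nat_lit 4, nat_lit 0), (nat_lit 0, nat_lit 5, nat_lit 5), (nat_lit 0, nat_lit 0, nat_lit 3),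 (nat_lit 0, nat_lit 0, nat_lit 7), (nat_lit 0, nat_lit 0, nat_lit 8), (nat_lit 0, nat_lit 0, nat_lit 6), (nat_lit 0, nat_lit 0, nat_lit 7), (nat_lit 0, nat_lit 0, nat_lit 11), (nat_lit 0, nat_lit 0, nat_lit 9), (nat_lit 0, nat_lit 0, nat_lit 13), (nat_lit 0, nat_lit 10, nat_lit 9), (nat_lit 0, nat_lit 0, nat_lit 1), (nat_lit 0, nat_lit 16, nat_lit 13), (nat_lit 0, nat_lit 0, nat_lit 17), (nat_lit 0, nat_lit 0, nat_lit 15), (nat_lit 0, nat_lit 0, nat_lit 19), (nat_lit 0, nat_lit 0, nat_lit 20), (nat_lit 0, nat_lit 0, nat_lit 18), (nat_lit 0, nat_lit 0, nat_lit 22), (nat_lit 0, nat_lit 0, nat_lit 20), (nat_lit 0, nat_lit 0, nat_lit 21), (nat_lit 0, nat_lit 0, nat_lit 25), (nat_lit 0, nat_lit 11, nat_lit 21), (nat_lit 0, nat_lit 0, nat_lit 23), (nat_lit 0, nat_lit 0, nat_lit 24), (nat_lit 0, nat_lit 0, nat_lit 3), (nat_lit 0, nat_lit 27, nat_lit 27), (nat_lit 0, nat_lit 0, nat_lit 28), (nat_lit 0, nat_lit 0, nat_lit 32), (nat_lit 0, nat_lit 0, nat_lit 30), (nat_lit 0, nat_lit 0, nat_lit 34), (nat_lit 0, nat_lit 0,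 nat_lit 32), (nat_lit 0, nat_lit 0, nat_lit 33), (nat_lit 0, nat_lit 8, nat_lit 0), (nat_lit 1, nat_lit 22, nat_lit 0), (nat_lit 1, nat_lit 9, nat_lit 0), (nat_lit 0, nat_lit 2, nat_lit 10), (nat_lit 0, nat_lit 0, nat_lit 3), (nat_lit 0, nat_lit 0, nat_lit 4), (nat_lit 0, nat_lit 0, nat_lit 5), (nat_lit 0, nat_lit 0, nat_lit 6), (nat_lit 0, nat_lit 6, nat_lit 5), (nat_lit 0, nat_lit 0, nat_lit 1), (nat_lit 0, nat_lit 31, nat_lit 17), (nat_lit 0, nat_lit 0, nat_lit 18), (nat_lit 0, nat_lit 0, nat_lit 19), (nat_lit 0, nat_lit 0, nat_lit 12), (nat_lit 0, nat_lit 0, nat_lit 35), (nat_lit 0, nat_lit 0, nat_lit 22), (nat_lit 0, nat_lit 0, nat_lit 37), (nat_lit 0, nat_lit 0, nat_lit 24), (nat_lit 0, nat_lit 0, nat_lit 17), (nat_lit 0, nat_lit 0, nat_lit 18), (nat_lit 0, nat_lit 0, nat_lit 19), (nat_lit 0, nat_lit 19, nat_lit 0)]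
def o11_s0 : Nat := nat_lit 0xbd6717b56939461b52507314831040
def o11_s1 : Nat := nat_lit 0x9d6eab0cac3ada27d2507262432020
def o11_s2 : Nat := nat_lit 0xbda8e7a0ed2d4925c46c5267030820
def o11_s3 : Nat := nat_lit 0x2ccea5b1c9b448d7d506a42f218820
def o11_s4 : Nat := nat_lit 0x89df3ac2eda150655992591c918820
noncomputable def o11_lev0 : Core.Lev := Core.mkLev o11_n o11_w o11_mask o11_L o11_maskL o11_idc (nat_lit 1) [o11_s3, o11_s4, o11_s2, o11_s1, o11_s0] [(nat_lit 2, o11_s0, nat_lit 1), (nat_lit 8, o11_s1, nat_lit 2), (nat_lit 4, o11_s0, nat_lit 2), (nat_lit 6, o11_s3, nat_lit 8), (nat_lit 18, o11_s4, nat_lit 8), (nat_lit 12, o11_s2, nat_lit 8), (nat_lit 16, o11_s1, nat_lit 8), (nat_lit 9, o11_s4, nat_lit 4), (nat_lit 3, o11_s1, nat_lit 18), (nat_lit 13, o11_s0, nat_lit 18)]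
noncomputable def o11_lev1 : Core.Lev := Core.mkLev o11_n o11_w o11_mask o11_L o11_maskL o11_idc (nat_lit 2) [o11_s3, o11_s4, o11_s2, o11_s1] [(nat_lit 8, o11_s1, nat_lit 2), (nat_lit 6, o11_s3, nat_lit 8), (nat_lit 18, o11_s4, nat_lit 8), (nat_lit 12, o11_s2, nat_lit 8), (nat_lit 16, o11_s1, nat_lit 8), (nat_lit 4, o11_s4, nat_lit 6), (nat_lit 9, o11_s2, nat_lit 6), (nat_lit 3, o11_s1, nat_lit 18), (nat_lit 13, o11_s3, nat_lit 12)]
noncomputable def o11_lev2 : Core.Lev := Core.mkLev o11_n o11_w o11_mask o11_L o11_maskL o11_idc (nat_lit 3) [o11_s3, o11_s4, o11_s2] [(nat_lit 6, o11_s2, nat_lit 3), (nat_lit 16, o11_s3, nat_lit 6), (nat_lit 4, o11_s4, nat_lit 6), (nat_lit 9, o11_s2, nat_lit 6), (nat_lit 13, o11_s4, nat_lit 16), (nat_lit 18, o11_s3, nat_lit 4), (nat_lit 8, o11_s3, nat_lit 9), (nat_lit 12, o11_s4, nat_lit 9)]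
noncomputable def o11_lev3 : Core.Lev := Core.mkLev o11_n o11_w o11_mask o11_L o11_maskL o11_idc (nat_lit 4) [o11_s3, o11_s4] [(nat_lit 18, o11_s3, nat_lit 4), (nat_lit 9, o11_s4, nat_lit 4), (nat_lit 12, o11_s3, nat_lit 18), (nat_lit 16, o11_s4, nat_lit 18), (nat_lit 8, o11_s3, nat_lit 9), (nat_lit 13, o11_s3, nat_lit 12), (nat_lit 6, o11_s4, nat_lit 12)]
noncomputable def o11_levels : List Core.Lev := [o11_lev0, o11_lev1, o11_lev2, o11_lev3]

set_option maxRecDepth 100000 in
theorem o11_check : Core.checkAll o11_n o11_w o11_mask o11_L o11_maskL o11_idc o11_T o11_prog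
    o11_levels = true := by decide +kernel

theorem o11_order : Core.orderC o11_levels = 7920 := by decide +kernel

def Pa : ℕ := 983435072843990828779021698901151808
def Pai : ℕ := 970567384681219435340729552166356352
def Pb : ℕ := 313674380516085836957177657543472160
def Pc : ℕ := 974380510768821363662145534143076928

def reps : List Rep := [(5279, 22683679506751550833761978213862465, 553480637861674527270077532107506711),
  (15777, 4765869038642744130981275296407781, 634328058946142271410521687819227447),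
  (18147, 3268859222038275714265792154671265, 427856901202136295694226293589792791),
  (39257, 25090160797061226955562048428447875, 356102949182286093069745390240150839),
  (52005, 24724661325194292204184199308288162, 548092441457431338381251502096614071),
  (57883, 2849900656430427395160809144619105, 352076735845281473135312249878009879),
  (75309, 18483949523933425322747626544993378, 177365204898560356536506693901648311),
  (133817, 26301637235267057340349541641327747, 433017057180537399279260470191591799),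
  (140167, 15014634657666150928115994481400897, 508282598388696462023387252605125655),
  (153797, 20309549632401037508155789084564674, 425308794961801452514350849068695863),
  (185603, 17043941738623924534181736303962369, 678217654684904141157677693905544215),
  (298027, 18832464250538121152515378041394273, 181993128495746031954829736785526807),
  (418953, 24872116298211976909141807389386979, 306613867292878860815355710778910199),
  (542009, 19919284173432033062687938978256003, 337925914209907233171179274478040727),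
  (551943, 7939797637451791490588936457529409, 847087434850123762949333112900453399),
  (689317, 15228666229568024389543004259818658, 880520944044436158022905650589565367),
  (8391797, 24279439852198314047231232488707202, 235446003058663030296840896052298167),
  (8398155, 21551812301370264295443844037875809, 221336437411539701612372399494315031),
  (8412681, 25216749141635705073945339388864803, 716725469487890109315551224717646263),
  (8421811, 25327794530625774396323244307354753, 594772412229387289959068769267060759),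
  (8431757, 26674539584737379975568090210868322, 590895585464657511637915494316540503),
  (8505411, 5528437795422074062040218690071745, 221012644203885771093661628957506583),
  (9193633, 19605844101373462112629273727020261, 723686731512116157125520318288021879)]

def rels : List (List Bool × ℕ) := [([true, false], 4), ([true, true, true, false], 6), ([true, true, true, false, true, true, false, true, false], 3)]

theorem ca : checkAut Pa = true := by decide +kernel
theorem cb : checkAut Pb = true := by decide +kernel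
theorem cc : checkAut Pc = true := by decide +kernel
theorem ma : g Pa ∈ Spor.M11 := g_mem_M11 ca (by decide +kernel) (by decide +kernel)
theorem mb : g Pb ∈ Spor.M11 := g_mem_M11 cb (by decide +kernel) (by decide +kernel)
theorem mc : g Pc ∈ Spor.M11 := g_mem_M11 cc (by decide +kernel) (by decide +kernel)

theorem hgen : Subgroup.closure ({g Pa, g Pb} : Set (Equiv.Perm GolayPt)) = Spor.M11 := by
  refine closure_pair (checkAut_valid ca) (checkAut_valid cb) ma mb
    (by rfl : o11_T = [Pa, Pb]) o11_check ?_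
  rw [o11_order, card_M11]

theorem fixF : ∀ t ∈ Spor.M11, ∀ j < 24, Nat.testBit 1 j = true → t (pt j) = pt j := by
  intro t ht j hj hb
  have h : ∀ j < 24, Nat.testBit 1 j = true → j = 0 := by decide
  obtain rfl := h j hj hb
  exact M11_fix ht


/-- The outer automorphism group of the Mathieu group M₁₁ (the stabiliser of a dodecad and one of its points in the automorphism group of the length-24 binary code) is trivial: every automorphism is inner. -/
theorem result : Nat.card (Cfsg.Out ↥Cfsg.Spor.M11) = 1 := by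
  have : Fact (Nat.Prime 11) := ⟨by norm_num⟩
  refine out_one_data (H := Spor.M11) (Pa := Pa) (Pai := Pai) (Pb := Pb) (Pc := Pc) (r := 3) (p := 11)
    (m := 720) (F := 1) (n := 11) (reps := reps) (rels := rels) M11_le ca ma
    (by decide +kernel) (by decide +kernel) (by decide +kernel) cb mb (by decide +kernel)
    (by decide +kernel) cc mc (by decide +kernel)
    (by rw [card_M11]) (by norm_num) (by decide +kernel) (by decide +kernel)
    (by decide) hgen (by norm_num) (by decide +kernel) (by decide +kernel) (by decide +kernel)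
    (by decide +kernel) fixF (fun _ => True) (fun _ _ _ _ => trivial) (fun _ => trivial)
    (fun t ht _ => ⟨pt 0, fixF t ht 0 (by norm_num) (by decide)⟩)

end Cfsg.Agent.S2060
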