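import Cfsg.Statements.S2061
import Cfsg.Agent.Lib.Golay.OutGroups

set_option autoImplicit false
open Cfsg

namespace Cfsg.Agent.S2061

open Cfsg Cfsg.Agent.Lib.Golay.Core Cfsg.Agent.Lib.Golay.Perm Cfsg.Agent.Lib.Golay.OutAbs
  Cfsg.Agent.Lib.Golay.OutKer Cfsg.Agent.Lib.Golay.OutFam Cfsg.Agent.Lib.Golay.OutGroups
  Cfsg.Agent.Lib.Golay.Chain Cfsg.Agent.Lib.Golay.M12
open Cfsg.Agent.Lib.PermComp
open scoped Pointwise

def o12_n : Nat := nat_lit 24
def o12_w : Nat := nat_lit 5
def o12_mask : Nat := nat_lit 31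
def o12_L : Nat := nat_lit 120
def o12_maskL : Nat := nat_lit 0xffffffffffffffffffffffffffffff
def o12_idc : Nat := nat_lit 0xbdab49ca307b9ac5a928398a418820
def o12_T : List Nat := [nat_lit 0xbd6717b56939461b52507314831040, nat_lit 0x5c6b3a22d07b9a2b9d32518a323001]
def o12_prog : List (Nat × Nat × Nat) := [(nat_lit 1, nat_lit 0, nat_lit 0), (nat_lit 1, nat_lit 2, nat_lit 0), (nat_lit 0, nat_lit 3, nat_lit 2), (nat_lit 0, nat_lit 0, nat_lit 4), (nat_lit 0, nat_lit 0, nat_lit 4), (nat_lit 0, nat_lit 0, nat_lit 5), (nat_lit 0, nat_lit 5, nat_lit 4), (nat_lit 0, nat_lit 0, nat_lit 1), (nat_lit 0, nat_lit 8, nat_lit 9), (nat_lit 0, nat_lit 0, nat_lit 10), (nat_lit 0, nat_lit 0, nat_lit 10), (nat_lit 0, nat_lit 0, nat_lit 12), (nat_lit 0, nat_lit 0, nat_lit 12), (nat_lit 0, nat_lit 0, nat_lit 13), (nat_lit 0, nat_lit 0, nat_lit 15), (nat_lit 0, nat_lit 0, nat_lit 15), (nat_lit 0, nat_lit 0, nat_lit 16), (nat_lit 0, nat_lit 10, nat_lit 15), (nat_lit 0, nat_lit 0, nat_lit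 17), (nat_lit 0, nat_lit 0, nat_lit 2), (nat_lit 0, nat_lit 16, nat_lit 21), (nat_lit 0, nat_lit 0, nat_lit 22), (nat_lit 0, nat_lit 15, nat_lit 0), (nat_lit 0, nat_lit 24, nat_lit 24), (nat_lit 0, nat_lit 0, nat_lit 24), (nat_lit 0, nat_lit 0, nat_lit 26), (nat_lit 0, nat_lit 0, nat_lit 27), (nat_lit 0, nat_lit 0, nat_lit 27), (nat_lit 0, nat_lit 0, nat_lit 28), (nat_lit 0, nat_lit 0, nat_lit 30), (nat_lit 0, nat_lit 0, nat_lit 30), (nat_lit 0, nat_lit 0, nat_lit 32), (nat_lit 0, nat_lit 13, nat_lit 0), (nat_lit 1, nat_lit 25, nat_lit 0), (nat_lit 1, nat_lit 11, nat_lit 0), (nat_lit 1, nat_lit 2, nat_lit 0), (nat_lit 0, nat_lit 16, nat_lit 13), (nat_lit 0, nat_lit 0, nat_lit 29), (nat_lit 0, nat_lit 0, nat_lit 5), (nat_lit 0, nat_lit 0, nat_lit 31), (nat_lit 0, nat_lit 0, nat_lit 20), (nat_lit 0, nat_lit 0, nat_lit 18), (nat_lit 0, nat_lit 0, nat_lit 34), (nat_lit 0, nat_lit 0, nat_lit 20), (nat_lit 0, nat_lit 0, nat_lit 11), (nat_lit 0, nat_lit 0, nat_lit 25),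 (nat_lit 0, nat_lit 12, nat_lit 10), (nat_lit 0, nat_lit 0, nat_lit 1), (nat_lit 0, nat_lit 25, nat_lit 15), (nat_lit 0, nat_lit 0, nat_lit 16), (nat_lit 0, nat_lit 0, nat_lit 42), (nat_lit 0, nat_lit 0, nat_lit 18), (nat_lit 0, nat_lit 0, nat_lit 32), (nat_lit 0, nat_lit 0, nat_lit 20), (nat_lit 0, nat_lit 0, nat_lit 21), (nat_lit 0, nat_lit 21, nat_lit 20), (nat_lit 0, nat_lit 0, nat_lit 1), (nat_lit 1, nat_lit 9, nat_lit 0), (nat_lit 1, nat_lit 1, nat_lit 0), (nat_lit 0, nat_lit 11, nat_lit 2), (nat_lit 0, nat_lit 0, nat_lit 12), (nat_lit 0, nat_lit 0, nat_lit 4), (nat_lit 0, nat_lit 0, nat_lit 14), (nat_lit 0, nat_lit 0, nat_lit 15), (nat_lit 0, nat_lit 0, nat_lit 7), (nat_lit 0, nat_lit 0, nat_lit 8), (nat_lit 0, nat_lit 0, nat_lit 9), (nat_lit 0, nat_lit 9, nat_lit 8), (nat_lit 0, nat_lit 0, nat_lit 1), (nat_lit 0, nat_lit 21, nat_lit 21), (nat_lit 0, nat_lit 0, nat_lit 13), (nat_lit 0, nat_lit 0, nat_lit 14), (nat_lit 0, nat_lit 0, nat_lit 24), (nat_lit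 0, nat_lit 0, nat_lit 25), (nat_lit 0, nat_lit 0, nat_lit 26), (nat_lit 0, nat_lit 0, nat_lit 27), (nat_lit 0, nat_lit 0, nat_lit 28), (nat_lit 0, nat_lit 0, nat_lit 29), (nat_lit 0, nat_lit 0, nat_lit 21), (nat_lit 0, nat_lit 21, nat_lit 21), (nat_lit 0, nat_lit 0, nat_lit 21), (nat_lit 0, nat_lit 0, nat_lit 22), (nat_lit 0, nat_lit 0, nat_lit 3), (nat_lit 1, nat_lit 14, nat_lit 0), (nat_lit 1, nat_lit 1, nat_lit 0), (nat_lit 0, nat_lit 0, nat_lit 1), (nat_lit 0, nat_lit 3, nat_lit 17), (nat_lit 0, nat_lit 0, nat_lit 4), (nat_lit 0, nat_lit 0, nat_lit 5), (nat_lit 0, nat_lit 0, nat_lit 6), (nat_lit 0, nat_lit 0, nat_lit 7), (nat_lit 0, nat_lit 0, nat_lit 8), (nat_lit 0, nat_lit 0, nat_lit 23), (nat_lit 0, nat_lit 0, nat_lit 10), (nat_lit 0, nat_lit 8, nat_lit 0), (nat_lit 0, nat_lit 26, nat_lit 12), (nat_lit 0, nat_lit 0, nat_lit 27), (nat_lit 0, nat_lit 0, nat_lit 28), (nat_lit 0, nat_lit 0, nat_lit 29), (nat_lit 0, nat_lit 0, nat_lit 30), (nat_lit 0, nat_lit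 0, nat_lit 17), (nat_lit 0, nat_lit 0, nat_lit 32), (nat_lit 0, nat_lit 0, nat_lit 19), (nat_lit 0, nat_lit 0, nat_lit 34), (nat_lit 0, nat_lit 0, nat_lit 21), (nat_lit 0, nat_lit 0, nat_lit 36), (nat_lit 0, nat_lit 20, nat_lit 0)]
def o12_s0 : Nat := nat_lit 0x5c6b3a22d07b9a2b9d32518a323001
def o12_s1 : Nat := nat_lit 0xbd6717b56939461b52507314831040
def o12_s2 : Nat := nat_lit 0xa56e75a5cd8aa482bccc992c280c20
def o12_s3 : Nat := nat_lit 0x2bcf15a6acba9a49b872a42c640820
def o12_s4 : Nat := nat_lit 0x2ccea5b1c9b448d7d506a42f218820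
def o12_s5 : Nat := nat_lit 0x8aa6fa22f2a96093ac8db31c618820
noncomputable def o12_lev0 : Core.Lev := Core.mkLev o12_n o12_w o12_mask o12_L o12_maskL o12_idc (nat_lit 0) [o12_s4, o12_s5, o12_s3, o12_s2, o12_s1, o12_s0] [(nat_lit 1, o12_s0, nat_lit 0), (nat_lit 2, o12_s1, nat_lit 1), (nat_lit 3, o12_s2, nat_lit 2), (nat_lit 4, o12_s1, nat_lit 2), (nat_lit 12, o12_s0, nat_lit 2), (nat_lit 8, o12_s3, nat_lit 3), (nat_lit 16, o12_s2, nat_lit 3), (nat_lit 6, o12_s1, nat_lit 3), (nat_lit 18, o12_s4, nat_lit 4), (nat_lit 13, o12_s4, nat_lit 12), (nat_lit 9, o12_s5, nat_lit 12)]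
noncomputable def o12_lev1 : Core.Lev := Core.mkLev o12_n o12_w o12_mask o12_L o12_maskL o12_idc (nat_lit 1) [o12_s4, o12_s5, o12_s3, o12_s2, o12_s1] [(nat_lit 2, o12_s1, nat_lit 1), (nat_lit 3, o12_s2, nat_lit 2), (nat_lit 4, o12_s1, nat_lit 2), (nat_lit 8, o12_s3, nat_lit 3), (nat_lit 16, o12_s2, nat_lit 3), (nat_lit 6, o12_s1, nat_lit 3), (nat_lit 18, o12_s4, nat_lit 4), (nat_lit 13, o12_s5, nat_lit 8), (nat_lit 12, o12_s2, nat_lit 8), (nat_lit 9, o12_s4, nat_lit 16)]
noncomputable def o12_lev2 : Core.Lev := Core.mkLev o12_n o12_w o12_mask o12_L o12_maskL o12_idc (nat_lit 2) [o12_s4, o12_s5, o12_s3, o12_s2] [(nat_lit 3, o12_s2, nat_lit 2), (nat_lit 8, o12_s3, nat_lit 3), (nat_lit 16, o12_s2, nat_lit 3), (nat_lit 6, o12_s4, nat_lit 8), (nat_lit 13, o12_s5, nat_lit 8), (nat_lit 18, o12_s3, nat_lit 8), (nat_lit 12, o12_s2, nat_lit 8), (nat_lit 9, o12_s4, nat_lit 16), (nat_lit 4, o12_s2, nat_lit 6)]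
noncomputable def o12_lev3 : Core.Lev := Core.mkLev o12_n o12_w o12_mask o12_L o12_maskL o12_idc (nat_lit 3) [o12_s4, o12_s5, o12_s3] [(nat_lit 8, o12_s3, nat_lit 3), (nat_lit 6, o12_s4, nat_lit 8), (nat_lit 13, o12_s5, nat_lit 8), (nat_lit 18, o12_s3, nat_lit 8), (nat_lit 16, o12_s4, nat_lit 6), (nat_lit 12, o12_s5, nat_lit 6), (nat_lit 4, o12_s4, nat_lit 13), (nat_lit 9, o12_s3, nat_lit 18)]
noncomputable def o12_lev4 : Core.Lev := Core.mkLev o12_n o12_w o12_mask o12_L o12_maskL o12_idc (nat_lit 4) [o12_s4, o12_s5] [(nat_lit 18, o12_s4, nat_lit 4), (nat_lit 6, o12_s5, nat_lit 4), (nat_lit 12, o12_s4, nat_lit 18), (nat_lit 8, o12_s5, nat_lit 18), (nat_lit 16, o12_s4, nat_lit 6), (nat_lit 13, o12_s4, nat_lit 12), (nat_lit 9, o12_s5, nat_lit 12)]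
noncomputable def o12_levels : List Core.Lev := [o12_lev0, o12_lev1, o12_lev2, o12_lev3, o12_lev4]

set_option maxRecDepth 100000 in
theorem o12_check : Core.checkAll o12_n o12_w o12_mask o12_L o12_maskL o12_idc o12_T o12_prog
    o12_levels = true := by decide +kernel

theorem o12_order : Core.orderC o12_levels = 95040 := by decide +kernel

def Pa : ℕ := 983435072843990828779021698901151808
def Pb : ℕ := 479866134820751297316027407105404929
def Pc : ℕ := 974380510768821363662145534143076928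
def Pj : ℕ := 1795248432537898728475572672376535
def Ph : ℕ := 903061152366459847886244915752145184
def Dc : ℕ := 16436384

def reps : List Rep := [(5279, 22683679506751550833761978213862465, 553480637861674527270077532107506711),
  (15777, 4765869038642744130981275296407781, 634328058946142271410521687819227447),
  (18147, 3268859222038275714265792154671265, 427856901202136295694226293589792791),
  (39257, 25090160797061226955562048428447875, 356102949182286093069745390240150839),
  (52005, 24724661325194292204184199308288162, 548092441457431338381251502096614071),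
  (57883, 2849900656430427395160809144619105, 352076735845281473135312249878009879),
  (75309, 18483949523933425322747626544993378, 177365204898560356536506693901648311),
  (133817, 26301637235267057340349541641327747, 433017057180537399279260470191591799),
  (140167, 15014634657666150928115994481400897, 508282598388696462023387252605125655),
  (153797, 20309549632401037508155789084564674, 425308794961801452514350849068695863),
  (185603, 17043941738623924534181736303962369, 678217654684904141157677693905544215),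
  (298027, 18832464250538121152515378041394273, 181993128495746031954829736785526807),
  (418953, 24872116298211976909141807389386979, 306613867292878860815355710778910199),
  (542009, 19919284173432033062687938978256003, 337925914209907233171179274478040727),
  (551943, 7939797637451791490588936457529409, 847087434850123762949333112900453399),
  (689317, 15228666229568024389543004259818658, 880520944044436158022905650589565367),
  (8391797, 24279439852198314047231232488707202, 235446003058663030296840896052298167),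
  (8398155, 21551812301370264295443844037875809, 221336437411539701612372399494315031),
  (8412681, 25216749141635705073945339388864803, 716725469487890109315551224717646263),
  (8421811, 25327794530625774396323244307354753, 594772412229387289959068769267060759),
  (8431757, 26674539584737379975568090210868322, 590895585464657511637915494316540503),
  (8505411, 5528437795422074062040218690071745, 221012644203885771093661628957506583),
  (9193633, 19605844101373462112629273727020261, 723686731512116157125520318288021879)]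

def rels : List (List Bool × ℕ) := [([true, false], 3), ([true, true, true, true, false], 6)]

theorem ca : checkAut Pa = true := by decide +kernel
theorem cb : checkAut Pb = true := by decide +kernel
theorem cc : checkAut Pc = true := by decide +kernel
theorem cj : checkAut Pj = true := by decide +kernel
theorem ch : checkAut Ph = true := by decide +kernel
theorem ma : g Pa ∈ Spor.M12 := g_mem_M12 ca (by decide +kernel)
theorem mb : g Pb ∈ Spor.M12 := g_mem_M12 cb (by decide +kernel)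
theorem mc : g Pc ∈ Spor.M12 := g_mem_M12 cc (by decide +kernel)
theorem mh : g Ph ∈ Spor.M12 := g_mem_M12 ch (by decide +kernel)

theorem hgen : Subgroup.closure ({g Pa, g Pb} : Set (Equiv.Perm GolayPt)) = Spor.M12 := by
  refine closure_pair (checkAut_valid ca) (checkAut_valid cb) ma mb
    (by rfl : o12_T = [Pa, Pb]) o12_check ?_
  rw [o12_order, card_M12]

theorem vj : validPerm Pj = true := checkAut_valid cj

theorem Dc_eq : setOf Dc = (setOf D0)ᶜ := by
  ext p
  rw [Finset.mem_compl, mem_setOf, mem_setOf]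
  have h : ∀ i < 24, (Nat.testBit Dc i = true ↔ ¬ Nat.testBit D0 i = true) := by decide +kernel
  exact h _ (idx_lt p)

theorem smul_compl {σ : Equiv.Perm GolayPt} {s : Finset GolayPt} (h : σ • s = s) :
    σ • sᶜ = sᶜ := by
  ext p
  rw [Finset.mem_compl]
  constructor
  · intro hp hps
    obtain ⟨z, hz, rfl⟩ := Finset.mem_smul_finset.mp hp
    rw [← h] at hps
    obtain ⟨w, hw, hwz⟩ := Finset.mem_smul_finset.mp hps
    have : w = z := smul_left_cancel σ hwz
    subst this
    exact (Finset.mem_compl.mp hz) hw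
  · intro hp
    refine Finset.mem_smul_finset.mpr ⟨σ⁻¹ • p, Finset.mem_compl.mpr ?_, by simp⟩
    intro hmem
    apply hp
    rw [← h]
    exact Finset.mem_smul_finset.mpr ⟨_, hmem, by simp⟩

theorem j_D : g Pj • setOf D0 = setOf Dc := by
  rw [smul_setOf vj]
  congr 1

theorem ji_D : (g Pj)⁻¹ • setOf D0 = setOf Dc := by
  have h : g Pj • setOf Dc = setOf D0 := by
    rw [smul_setOf vj]
    congr 1
  rw [← h, smul_smul, inv_mul_cancel, one_smul]

theorem j_Dc : g Pj • setOf Dc = setOf D0 := by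
  rw [smul_setOf vj]
  congr 1

theorem ji_Dc : (g Pj)⁻¹ • setOf Dc = setOf D0 := by
  rw [← j_D, smul_smul, inv_mul_cancel, one_smul]

theorem hj : ∀ h ∈ Spor.M12, g Pj * h * (g Pj)⁻¹ ∈ Spor.M12 := by
  intro h hh
  have hM : g Pj ∈ M24 := g_mem_M24 cj
  obtain ⟨h1, h2⟩ := mem_M12_iff.mp hh
  refine mem_M12_iff.mpr ⟨M24.mul_mem (M24.mul_mem hM h1) (M24.inv_mem hM), ?_⟩
  have h3 : h • setOf Dc = setOf Dc := by
    rw [Dc_eq]
    exact smul_compl h2
  rw [mul_smul, mul_smul, ji_D, h3, j_Dc]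

theorem hj' : ∀ h ∈ Spor.M12, (g Pj)⁻¹ * h * g Pj ∈ Spor.M12 := by
  intro h hh
  have hM : g Pj ∈ M24 := g_mem_M24 cj
  obtain ⟨h1, h2⟩ := mem_M12_iff.mp hh
  refine mem_M12_iff.mpr ⟨M24.mul_mem (M24.mul_mem (M24.inv_mem hM) h1) hM, ?_⟩
  have h3 : h • setOf Dc = setOf Dc := by
    rw [Dc_eq]
    exact smul_compl h2
  rw [mul_smul, mul_smul, j_D, h3, ji_Dc]

theorem ha11 : (g Pa) ^ 11 = 1 := by
  have := (relOK_iff (checkAut_valid ca) (checkAut_valid ca) [true] 11).mp (by decide +kernel)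
  rwa [wd_true_one] at this

theorem hjA : g Pj * g Pa * (g Pj)⁻¹ = (g Pa)⁻¹ := by
  rw [conj_of_check (r := 10) vj (checkAut_valid ca) (by decide +kernel)]
  apply eq_inv_of_mul_eq_one_left
  rw [← pow_succ, ha11]

theorem hout : ∀ x ∈ Spor.M12, ¬ ∀ h ∈ Spor.M12, g Pj * h * (g Pj)⁻¹ = x * h * x⁻¹ := by
  intro x hx hall
  have hva := checkAut_valid ca
  have hvh := checkAut_valid ch
  obtain ⟨hxM, hxD⟩ := mem_M12_iff.mp hx
  set c := x⁻¹ * g Pj with hc
  have hcomm : ∀ h ∈ Spor.M12, c * h = h * c := by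
    intro h hh
    have e : c * h = x⁻¹ * (g Pj * h * (g Pj)⁻¹) * g Pj := by rw [hc]; group
    rw [e, hall h hh, hc]
    group
  -- `c` sends `0` outside the dodecad
  have h1 : c (pt 0) ∉ setOf D0 := by
    intro hmem
    have h2 : g Pj (pt 0) ∈ setOf D0 := by
      have h3 : x (c (pt 0)) = g Pj (pt 0) := by
        rw [hc, Equiv.Perm.mul_apply]
        simp
      rw [← h3]
      exact mem_setOf_of_smul hxD hmem
    rw [g_pt vj (by norm_num)] at h2
    revert h2
    decide +kernel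
  -- `c` sends `0` to a fixed point of `a`
  have h2 : g Pa (c (pt 0)) = c (pt 0) := by
    rw [← Equiv.Perm.mul_apply, ← hcomm _ ma, Equiv.Perm.mul_apply, g_pt hva (by norm_num)]
    rfl
  have h3 := idx_g hva (c (pt 0))
  rw [h2] at h3
  have key : ∀ y < 24, y = img Pa y → y = 0 ∨ y = 23 := by decide +kernel
  have h4 : c (pt 0) = pt 23 := by
    rcases key _ (idx_lt _) h3 with h5 | h5
    · exfalso
      apply h1
      rw [mem_setOf, h5]
      decide +kernel
    · have h6 := congrArg pt h5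
      rwa [pt_idx] at h6
  -- contradiction with an element fixing `0` and moving the other point
  have h5 : g Ph (c (pt 0)) = c (g Ph (pt 0)) := by
    rw [← Equiv.Perm.mul_apply, ← Equiv.Perm.mul_apply, hcomm _ mh]
  have h6 : g Ph (pt 0) = pt 0 := by
    rw [g_pt hvh (by norm_num)]
    rfl
  rw [h6, h4, g_pt hvh (by norm_num)] at h5
  revert h5
  decide +kernel

/-- The enumeration of the elements moving `0`. -/
def kOK : Bool :=
  allL (fun p => allL (fun q => allL (fun r =>
    force (comp Pb (comp p (comp q r))) fun C =>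
      cond (isInv C) (cond (relsOK Pa C rels) (Nat.beq C Pb) true) true) U4) U3) U2

theorem kOK_true : kOK = true := by decide +kernel

theorem orbit_one : ∀ q < 24, D0.testBit q = true → q ≠ 0 → ∃ i < 11, iterW Pa Pa [true] i q = 1 := by
  decide +kernel

theorem a_fix0 (i : ℕ) : ((g Pa) ^ i) (pt 0) = pt 0 := by
  induction i with
  | zero => rfl
  | succ i ih =>
    rw [pow_succ, Equiv.Perm.mul_apply, g_pt (checkAut_valid ca) (by norm_num)]
    exact ih

theorem R1_move {t : Equiv.Perm GolayPt} (ht : t ∈ Spor.M12) (ht2 : t * t = 1) (hrelt : Rel rels (g Pa) t)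
    (h0 : t (pt 0) ≠ pt 0) : ∃ i : ℕ, (g Pa) ^ i * t * ((g Pa) ^ i)⁻¹ = g Pb := by
  have hva := checkAut_valid ca
  have hvb := checkAut_valid cb
  obtain ⟨htM, htD⟩ := mem_M12_iff.mp ht
  have hmem : t (pt 0) ∈ setOf D0 := by
    apply mem_setOf_of_smul htD
    decide +kernel
  have hq : idx (t (pt 0)) ≠ 0 := by
    intro h
    apply h0
    have h1 := congrArg pt h
    rwa [pt_idx] at h1
  obtain ⟨i, -, hi⟩ := orbit_one _ (idx_lt _) (mem_setOf.mp hmem) hq
  refine ⟨i, ?_⟩
  set A := g Pa with hA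
  have hAM : A ∈ Spor.M12 := ma
  have hAi : A ^ i ∈ Spor.M12 := Spor.M12.pow_mem hAM i
  set t' := A ^ i * t * (A ^ i)⁻¹ with ht'
  have ht'M : t' ∈ Spor.M12 := Spor.M12.mul_mem (Spor.M12.mul_mem hAi ht) (Spor.M12.inv_mem hAi)
  have hAi0 : (A ^ i)⁻¹ (pt 0) = pt 0 := by
    rw [Equiv.Perm.inv_eq_iff_eq]
    exact (a_fix0 i).symm
  have h1 : t' (pt 0) = pt 1 := by
    have e : (A ^ i) (t (pt 0)) = pt 1 := by
      have h2 := idx_wd_pow hva hva [true] i (t (pt 0))
      rw [wd_true_one, hi] at h2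
      rw [← hA] at h2
      have h3 := congrArg pt h2
      rwa [pt_idx] at h3
    rw [ht', Equiv.Perm.mul_apply, Equiv.Perm.mul_apply, hAi0, e]
  have ht'2 : t' * t' = 1 := by
    have e : t' * t' = A ^ i * (t * t) * (A ^ i)⁻¹ := by rw [ht']; group
    rw [e, ht2]
    group
  have h2 : t' (pt 1) = pt 0 := by
    rw [← h1, ← Equiv.Perm.mul_apply, ht'2]
    rfl
  have hb0 : g Pb (pt 0) = pt 1 := by rw [g_pt hvb (by norm_num)]; rfl
  have hb1 : g Pb (pt 1) = pt 0 := by rw [g_pt hvb (by norm_num)]; rfl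
  have hbi0 : (g Pb)⁻¹ (pt 0) = pt 1 := by rw [Equiv.Perm.inv_eq_iff_eq, hb1]
  have hbi1 : (g Pb)⁻¹ (pt 1) = pt 0 := by rw [Equiv.Perm.inv_eq_iff_eq, hb0]
  obtain ⟨hbM, hbD⟩ := mem_M12_iff.mp mb
  obtain ⟨ht'M1, ht'D⟩ := mem_M12_iff.mp ht'M
  have hlev : Lev 2 ((g Pb)⁻¹ * t') := by
    refine ⟨M24.mul_mem (M24.inv_mem hbM) ht'M1, ?_, ?_⟩
    · rw [mul_smul, ht'D, inv_smul_eq_iff, hbD]
    · intro j hj
      obtain rfl | rfl : j = 0 ∨ j = 1 := by omega
      · rw [Equiv.Perm.mul_apply, h1, hbi1]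
      · rw [Equiv.Perm.mul_apply, h2, hbi0]
  obtain ⟨p, hp, hpc, σ1, hσ1, e1⟩ := lev_step (by norm_num) U2_ok hlev
  obtain ⟨q, hq', hqc, σ2, hσ2, e2⟩ := lev_step (by norm_num) U3_ok hσ1
  obtain ⟨r, hr, hrc, σ3, hσ3, e3⟩ := lev_step (by norm_num) U4_ok hσ2
  have h5 : σ3 = 1 := eq_one_of_fix_D0 hσ3.1 hσ3.2.1 hσ3.2.2
  have hvp := checkAut_valid hpc
  have hvq := checkAut_valid hqc
  have hvr := checkAut_valid hrc
  have hvC : validPerm (comp Pb (comp p (comp q r))) = true :=
    valid_comp hvb (valid_comp hvp (valid_comp hvq hvr))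
  have hC : t' = g (comp Pb (comp p (comp q r))) := by
    rw [g_comp hvb (valid_comp hvp (valid_comp hvq hvr)), g_comp hvp (valid_comp hvq hvr),
      g_comp hvq hvr]
    have e5 : t' = g Pb * ((g Pb)⁻¹ * t') := by group
    rw [e5, e1, e2, e3, h5]
    group
  have hsq : g (comp Pb (comp p (comp q r))) * g (comp Pb (comp p (comp q r))) = 1 := by
    rw [← hC]
    exact ht'2
  have hrel' : Rel rels A t' := by
    have h3 := hrelt.conj (A ^ i)
    have h4 : A ^ i * A * (A ^ i)⁻¹ = A := by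
      rw [(Commute.pow_left (Commute.refl A) i).eq]
      group
    rwa [h4] at h3
  rw [hC] at hrel'
  have h6 := (relsOK_iff hva hvC rels).mpr hrel'
  have h7 := allL_iff.mp (allL_iff.mp (allL_iff.mp kOK_true p hp) q hq') r hr
  simp only [force_eq, isInv_of hvC hsq, cond_true, h6] at h7
  show t' = g Pb
  rw [hC, Nat.eq_of_beq_eq_true h7]


/-- The outer automorphism group of the Mathieu group M₁₂ (the stabiliser of a dodecad in the automorphism group of the length-24 binary code) has order 2. -/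
theorem result : Nat.card (Cfsg.Out ↥Cfsg.Spor.M12) = 2 := by
  have : Fact (Nat.Prime 11) := ⟨by norm_num⟩
  have hva := checkAut_valid ca
  have hvb := checkAut_valid cb
  have hord : orderOf (g Pa) = 11 := orderOf_of_check hva (by decide +kernel) (by decide +kernel)
  have hb22 : g Pb * g Pb = 1 := by
    have h := (relOK_iff hva hvb [false] 2).mp (by decide +kernel)
    have e : wd (g Pa) (g Pb) [false] = g Pb := by
      show g Pb * 1 = g Pb
      simp
    rw [e, sq] at h
    exact h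
  refine out_two_of_rigid ma mb hb22 (g_ne_one hvb (by decide +kernel)) hgen hj hj' hjA hout
    (hnorm_of_sylow ma mc 11 3 8640 (by rw [card_M12]) (by norm_num) hord
      (conj_of_check (checkAut_valid cc) hva (by decide +kernel)) (by decide)) rels
    ((relsOK_iff hva hvb rels).mp (by decide +kernel)) ?_
  intro t ht ht2 ht1 hrelt
  by_cases h0 : t (pt 0) = pt 0
  · have hF : ∀ j < 24, Nat.testBit 1 j = true → t (pt j) = pt j := by
      intro j hj hb
      have h : ∀ j < 24, Nat.testBit 1 j = true → j = 0 := by decide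
      obtain rfl := h j hj hb
      exact h0
    exact (rigid_oct (F := 1) (n := 11) (reps := reps) (Ps := [Pa]) ca (by norm_num) (by decide +kernel)
      (by decide +kernel) (by decide +kernel) (s := Pa) (by simp) hva (Commute.refl _) (M12_le ht) ht2 ht1
      ⟨pt 0, h0⟩ hF hrelt).2
  · exact R1_move ht ht2 hrelt h0

end Cfsg.Agent.S2061
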