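import Cfsg.Statements.S2062
import Cfsg.Agent.Lib.Golay.OutGroups

set_option autoImplicit false
open Cfsg

namespace Cfsg.Agent.S2062

open Cfsg Cfsg.Agent.Lib.Golay.Core Cfsg.Agent.Lib.Golay.Perm Cfsg.Agent.Lib.Golay.OutAbs
  Cfsg.Agent.Lib.Golay.OutKer Cfsg.Agent.Lib.Golay.OutFam Cfsg.Agent.Lib.Golay.OutGroups
  Cfsg.Agent.Lib.Golay.Chain
open Cfsg.Agent.Lib.PermComp

def o22_n : Nat := nat_lit 24
def o22_w : Nat := nat_lit 5
def o22_mask : Nat := nat_lit 31
def o22_L : Nat := nat_lit 120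
def o22_maskL : Nat := nat_lit 0xffffffffffffffffffffffffffffff
def o22_idc : Nat := nat_lit 0xbdab49ca307b9ac5a928398a418820
def o22_T : List Nat := [nat_lit 0xbd6717b56939461b52507314831040, nat_lit 0xbc670ab6d4426435a9cf098a4608e0]
def o22_prog : List (Nat × Nat × Nat) := [(nat_lit 1, nat_lit 1, nat_lit 0), (nat_lit 1, nat_lit 1, nat_lit 0), (nat_lit 0, nat_lit 3, nat_lit 2), (nat_lit 0, nat_lit 0, nat_lit 4), (nat_lit 0, nat_lit 0, nat_lit 4), (nat_lit 0, nat_lit 4, nat_lit 4), (nat_lit 0, nat_lit 6, nat_lit 7), (nat_lit 0, nat_lit 0, nat_lit 8), (nat_lit 0, nat_lit 0, nat_lit 8), (nat_lit 0, nat_lit 0, nat_lit 10), (nat_lit 0, nat_lit 0, nat_lit 10), (nat_lit 0, nat_lit 0, nat_lit 11), (nat_lit 0, nat_lit 0, nat_lit 13), (nat_lit 0, nat_lit 0, nat_lit 13), (nat_lit 0, nat_lit 0, nat_lit 14), (nat_lit 0, nat_lit 9, nat_lit 14), (nat_lit 0, nat_lit 0, nat_lit 15), (nat_lit 0, nat_lit 0, nat_lit 15), (nat_lit 0, nat_lit 0, nat_lit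 3), (nat_lit 0, nat_lit 15, nat_lit 20), (nat_lit 0, nat_lit 0, nat_lit 21), (nat_lit 0, nat_lit 19, nat_lit 0), (nat_lit 0, nat_lit 23, nat_lit 23), (nat_lit 0, nat_lit 0, nat_lit 23), (nat_lit 0, nat_lit 0, nat_lit 25), (nat_lit 0, nat_lit 0, nat_lit 26), (nat_lit 0, nat_lit 0, nat_lit 26), (nat_lit 0, nat_lit 0, nat_lit 27), (nat_lit 0, nat_lit 0, nat_lit 29), (nat_lit 0, nat_lit 0, nat_lit 29), (nat_lit 0, nat_lit 0, nat_lit 31), (nat_lit 0, nat_lit 13, nat_lit 30), (nat_lit 0, nat_lit 0, nat_lit 31), (nat_lit 0, nat_lit 0, nat_lit 2), (nat_lit 0, nat_lit 29, nat_lit 35), (nat_lit 0, nat_lit 0, nat_lit 36), (nat_lit 0, nat_lit 0, nat_lit 36), (nat_lit 0, nat_lit 0, nat_lit 38), (nat_lit 0, nat_lit 0, nat_lit 38), (nat_lit 0, nat_lit 0, nat_lit 39), (nat_lit 0, nat_lit 0, nat_lit 41), (nat_lit 0, nat_lit 9, nat_lit 39), (nat_lit 0, nat_lit 0, nat_lit 41), (nat_lit 0, nat_lit 0, nat_lit 2), (nat_lit 0, nat_lit 44, nat_lit 44), (nat_lit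 0, nat_lit 0, nat_lit 45), (nat_lit 0, nat_lit 0, nat_lit 47), (nat_lit 0, nat_lit 0, nat_lit 47), (nat_lit 0, nat_lit 0, nat_lit 49), (nat_lit 0, nat_lit 0, nat_lit 49), (nat_lit 0, nat_lit 0, nat_lit 50), (nat_lit 0, nat_lit 45, nat_lit 0), (nat_lit 0, nat_lit 15, nat_lit 52), (nat_lit 0, nat_lit 0, nat_lit 53), (nat_lit 0, nat_lit 36, nat_lit 0), (nat_lit 1, nat_lit 33, nat_lit 0), (nat_lit 1, nat_lit 1, nat_lit 0), (nat_lit 0, nat_lit 2, nat_lit 38), (nat_lit 0, nat_lit 0, nat_lit 24), (nat_lit 0, nat_lit 0, nat_lit 15), (nat_lit 0, nat_lit 0, nat_lit 38), (nat_lit 0, nat_lit 0, nat_lit 6), (nat_lit 0, nat_lit 0, nat_lit 18), (nat_lit 0, nat_lit 0, nat_lit 41), (nat_lit 0, nat_lit 0, nat_lit 30), (nat_lit 0, nat_lit 0, nat_lit 43), (nat_lit 0, nat_lit 0, nat_lit 14), (nat_lit 0, nat_lit 0, nat_lit 23), (nat_lit 0, nat_lit 12, nat_lit 11), (nat_lit 0, nat_lit 0, nat_lit 1), (nat_lit 0, nat_lit 26, nat_lit 36), (nat_lit 0, nat_lit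 0, nat_lit 16), (nat_lit 0, nat_lit 0, nat_lit 17), (nat_lit 0, nat_lit 17, nat_lit 17), (nat_lit 0, nat_lit 0, nat_lit 1), (nat_lit 1, nat_lit 5, nat_lit 0), (nat_lit 1, nat_lit 1, nat_lit 0), (nat_lit 0, nat_lit 7, nat_lit 7), (nat_lit 0, nat_lit 0, nat_lit 3), (nat_lit 0, nat_lit 0, nat_lit 9), (nat_lit 0, nat_lit 0, nat_lit 5), (nat_lit 0, nat_lit 0, nat_lit 6), (nat_lit 0, nat_lit 0, nat_lit 12), (nat_lit 0, nat_lit 0, nat_lit 8), (nat_lit 0, nat_lit 0, nat_lit 9), (nat_lit 0, nat_lit 0, nat_lit 10), (nat_lit 0, nat_lit 0, nat_lit 11), (nat_lit 0, nat_lit 0, nat_lit 12), (nat_lit 0, nat_lit 12, nat_lit 12), (nat_lit 0, nat_lit 0, nat_lit 1), (nat_lit 0, nat_lit 20, nat_lit 15), (nat_lit 0, nat_lit 0, nat_lit 16), (nat_lit 0, nat_lit 0, nat_lit 22), (nat_lit 0, nat_lit 0, nat_lit 23), (nat_lit 0, nat_lit 0, nat_lit 24), (nat_lit 0, nat_lit 0, nat_lit 25), (nat_lit 0, nat_lit 0, nat_lit 26), (nat_lit 0, nat_lit 0, nat_lit 22), (nat_lit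 0, nat_lit 0, nat_lit 28), (nat_lit 0, nat_lit 0, nat_lit 29), (nat_lit 0, nat_lit 0, nat_lit 30), (nat_lit 0, nat_lit 12, nat_lit 25), (nat_lit 0, nat_lit 0, nat_lit 25), (nat_lit 0, nat_lit 0, nat_lit 27), (nat_lit 0, nat_lit 0, nat_lit 3), (nat_lit 0, nat_lit 24, nat_lit 35), (nat_lit 0, nat_lit 0, nat_lit 36), (nat_lit 0, nat_lit 0, nat_lit 32), (nat_lit 0, nat_lit 0, nat_lit 33), (nat_lit 0, nat_lit 0, nat_lit 39), (nat_lit 0, nat_lit 0, nat_lit 40), (nat_lit 0, nat_lit 35, nat_lit 0), (nat_lit 1, nat_lit 22, nat_lit 0), (nat_lit 0, nat_lit 23, nat_lit 1), (nat_lit 0, nat_lit 0, nat_lit 24), (nat_lit 0, nat_lit 0, nat_lit 3), (nat_lit 0, nat_lit 0, nat_lit 11), (nat_lit 0, nat_lit 0, nat_lit 5), (nat_lit 0, nat_lit 0, nat_lit 6), (nat_lit 0, nat_lit 0, nat_lit 14), (nat_lit 0, nat_lit 7, nat_lit 0), (nat_lit 0, nat_lit 16, nat_lit 16), (nat_lit 0, nat_lit 0, nat_lit 17), (nat_lit 0, nat_lit 0, nat_lit 33), (nat_lit 0, nat_lit 0,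 nat_lit 34), (nat_lit 0, nat_lit 0, nat_lit 20), (nat_lit 0, nat_lit 0, nat_lit 21), (nat_lit 0, nat_lit 0, nat_lit 22), (nat_lit 0, nat_lit 0, nat_lit 23), (nat_lit 0, nat_lit 39, nat_lit 39), (nat_lit 0, nat_lit 0, nat_lit 25), (nat_lit 0, nat_lit 0, nat_lit 41), (nat_lit 0, nat_lit 0, nat_lit 42), (nat_lit 0, nat_lit 0, nat_lit 21), (nat_lit 0, nat_lit 0, nat_lit 44), (nat_lit 0, nat_lit 23, nat_lit 30), (nat_lit 0, nat_lit 0, nat_lit 24), (nat_lit 0, nat_lit 0, nat_lit 32), (nat_lit 0, nat_lit 0, nat_lit 48), (nat_lit 0, nat_lit 0, nat_lit 49), (nat_lit 0, nat_lit 27, nat_lit 0)]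
def o22_s0 : Nat := nat_lit 0xbd6717b56939461b52507314831040
def o22_s1 : Nat := nat_lit 0xbac5430d49439acb460f3cc8595420
def o22_s2 : Nat := nat_lit 0xbba4964e03534b533e875a2d120820
def o22_s3 : Nat := nat_lit 0xba1b4255cc516469a5e7b422b18820
def o22_s4 : Nat := nat_lit 0xbc0ea332364b892451ebaccad18820
def o22_s5 : Nat := nat_lit 0xba91094e346b9e63d8955b0a918820
def o22_s6 : Nat := nat_lit 0xbb1f3a4232ab916218ed4a8ab18820
def o22_s7 : Nat := nat_lit 0xbd6cb22627638cfa224a834b318820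
noncomputable def o22_lev0 : Core.Lev := Core.mkLev o22_n o22_w o22_mask o22_L o22_maskL o22_idc (nat_lit 1) [o22_s4, o22_s5, o22_s6, o22_s7, o22_s3, o22_s2, o22_s1, o22_s0] [(nat_lit 2, o22_s0, nat_lit 1), (nat_lit 21, o22_s1, nat_lit 2), (nat_lit 4, o22_s0, nat_lit 2), (nat_lit 7, o22_s4, nat_lit 21), (nat_lit 8, o22_s5, nat_lit 21), (nat_lit 15, o22_s6, nat_lit 21), (nat_lit 22, o22_s7, nat_lit 21), (nat_lit 13, o22_s3, nat_lit 21), (nat_lit 18, o22_s2, nat_lit 21), (nat_lit 19, o22_s0, nat_lit 21), (nat_lit 9, o22_s5, nat_lit 4), (nat_lit 11, o22_s6, nat_lit 4), (nat_lit 17, o22_s2, nat_lit 4), (nat_lit 5, o22_s1, nat_lit 4), (nat_lit 16, o22_s7, nat_lit 7), (nat_lit 14, o22_s0, nat_lit 7), (nat_lit 10, o22_s7, nat_lit 8), (nat_lit 12, o22_s7, nat_lit 15), (nat_lit 6, o22_s7, nat_lit 13), (nat_lit 3, o22_s0, nat_lit 13), (nat_lit 20, o22_s6, nat_lit 19)]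
noncomputable def o22_lev1 : Core.Lev := Core.mkLev o22_n o22_w o22_mask o22_L o22_maskL o22_idc (nat_lit 2) [o22_s4, o22_s5, o22_s6, o22_s7, o22_s3, o22_s2, o22_s1] [(nat_lit 21, o22_s1, nat_lit 2), (nat_lit 7, o22_s4, nat_lit 21), (nat_lit 8, o22_s5, nat_lit 21), (nat_lit 15, o22_s6, nat_lit 21), (nat_lit 22, o22_s7, nat_lit 21), (nat_lit 13, o22_s3, nat_lit 21), (nat_lit 18, o22_s2, nat_lit 21), (nat_lit 11, o22_s5, nat_lit 7), (nat_lit 9, o22_s6, nat_lit 7), (nat_lit 16, o22_s7, nat_lit 7), (nat_lit 10, o22_s7, nat_lit 8), (nat_lit 12, o22_s7, nat_lit 15), (nat_lit 14, o22_s2, nat_lit 22), (nat_lit 4, o22_s4, nat_lit 13), (nat_lit 6, o22_s7, nat_lit 13), (nat_lit 5, o22_s2, nat_lit 13), (nat_lit 19, o22_s5, nat_lit 18), (nat_lit 3, o22_s1, nat_lit 18), (nat_lit 20, o22_s7, nat_lit 11), (nat_lit 17, o22_s1, nat_lit 10)]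
noncomputable def o22_lev2 : Core.Lev := Core.mkLev o22_n o22_w o22_mask o22_L o22_maskL o22_idc (nat_lit 3) [o22_s4, o22_s5, o22_s6, o22_s7, o22_s3, o22_s2] [(nat_lit 4, o22_s2, nat_lit 3), (nat_lit 13, o22_s4, nat_lit 4), (nat_lit 9, o22_s5, nat_lit 4), (nat_lit 11, o22_s6, nat_lit 4), (nat_lit 19, o22_s7, nat_lit 4), (nat_lit 17, o22_s2, nat_lit 4), (nat_lit 15, o22_s5, nat_lit 13), (nat_lit 8, o22_s6, nat_lit 13), (nat_lit 6, o22_s7, nat_lit 13), (nat_lit 18, o22_s3, nat_lit 13), (nat_lit 5, o22_s2, nat_lit 13), (nat_lit 7, o22_s6, nat_lit 9), (nat_lit 20, o22_s2, nat_lit 9), (nat_lit 12, o22_s2, nat_lit 19), (nat_lit 14, o22_s3, nat_lit 17), (nat_lit 16, o22_s2, nat_lit 17), (nat_lit 21, o22_s6, nat_lit 15), (nat_lit 10, o22_s3, nat_lit 15), (nat_lit 22, o22_s2, nat_lit 5)]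
noncomputable def o22_lev3 : Core.Lev := Core.mkLev o22_n o22_w o22_mask o22_L o22_maskL o22_idc (nat_lit 5) [o22_s4, o22_s5, o22_s6, o22_s7, o22_s3] [(nat_lit 17, o22_s3, nat_lit 5), (nat_lit 14, o22_s3, nat_lit 17)]
noncomputable def o22_lev4 : Core.Lev := Core.mkLev o22_n o22_w o22_mask o22_L o22_maskL o22_idc (nat_lit 4) [o22_s4, o22_s5, o22_s6, o22_s7] [(nat_lit 13, o22_s4, nat_lit 4), (nat_lit 9, o22_s5, nat_lit 4), (nat_lit 11, o22_s6, nat_lit 4), (nat_lit 19, o22_s7, nat_lit 4), (nat_lit 15, o22_s5, nat_lit 13), (nat_lit 8, o22_s6, nat_lit 13), (nat_lit 6, o22_s7, nat_lit 13), (nat_lit 7, o22_s6, nat_lit 9), (nat_lit 18, o22_s7, nat_lit 9), (nat_lit 20, o22_s7, nat_lit 11), (nat_lit 21, o22_s6, nat_lit 15), (nat_lit 12, o22_s7, nat_lit 15), (nat_lit 10, o22_s7, nat_lit 8), (nat_lit 16, o22_s7, nat_lit 7), (nat_lit 22, o22_s7, nat_lit 21)]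
noncomputable def o22_levels : List Core.Lev := [o22_lev0, o22_lev1, o22_lev2, o22_lev3, o22_lev4]

set_option maxRecDepth 100000 in
theorem o22_check : Core.checkAll o22_n o22_w o22_mask o22_L o22_maskL o22_idc o22_T o22_prog
    o22_levels = true := by decide +kernel

theorem o22_order : Core.orderC o22_levels = 443520 := by decide +kernel

def Pa : ℕ := 983435072843990828779021698901151808
def Pb : ℕ := 978241746458226444833005867658250464
def Pc : ℕ := 974380510768821363662145534143076928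
def Pj : ℕ := 1795248432537898728475572672376535
def P7 : ℕ := 967373462742002767606669414664448672

def reps : List Rep := [(8391797, 24279439852198314047231232488707202, 235446003058663030296840896052298167),
  (8398155, 21551812301370264295443844037875809, 221336437411539701612372399494315031),
  (8412681, 25216749141635705073945339388864803, 716725469487890109315551224717646263),
  (8421811, 25327794530625774396323244307354753, 594772412229387289959068769267060759),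
  (8431757, 26674539584737379975568090210868322, 590895585464657511637915494316540503),
  (8505411, 5528437795422074062040218690071745, 221012644203885771093661628957506583),
  (9193633, 19605844101373462112629273727020261, 723686731512116157125520318288021879)]

def rels : List (List Bool × ℕ) := [([true, false], 4), ([true, true, false], 5), ([true, true, true, false, true, false], 5)]

theorem ca : checkAut Pa = true := by decide +kernel
theorem cb : checkAut Pb = true := by decide +kernel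
theorem cc : checkAut Pc = true := by decide +kernel
theorem cj : checkAut Pj = true := by decide +kernel
theorem c7 : checkAut P7 = true := by decide +kernel
theorem ma : g Pa ∈ Spor.M22 := g_mem_M22 ca (by decide +kernel) (by decide +kernel)
theorem mb : g Pb ∈ Spor.M22 := g_mem_M22 cb (by decide +kernel) (by decide +kernel)
theorem mc : g Pc ∈ Spor.M22 := g_mem_M22 cc (by decide +kernel) (by decide +kernel)
theorem m7 : g P7 ∈ Spor.M22 := g_mem_M22 c7 (by decide +kernel) (by decide +kernel)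

theorem hgen : Subgroup.closure ({g Pa, g Pb} : Set (Equiv.Perm GolayPt)) = Spor.M22 := by
  refine closure_pair (checkAut_valid ca) (checkAut_valid cb) ma mb
    (by rfl : o22_T = [Pa, Pb]) o22_check ?_
  rw [o22_order, card_M22]

theorem fix0 {t : Equiv.Perm GolayPt} (ht : t ∈ Spor.M22) : t (pt 0) = pt 0 := by
  rw [M22_eq] at ht
  exact ht.2 0 (by simp)

theorem fix23 {t : Equiv.Perm GolayPt} (ht : t ∈ Spor.M22) : t (pt 23) = pt 23 := by
  rw [M22_eq] at ht
  exact ht.2 23 (by simp)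

theorem fixF : ∀ t ∈ Spor.M22, ∀ j < 24, Nat.testBit 8388609 j = true → t (pt j) = pt j := by
  intro t ht j hj hb
  have h : ∀ j < 24, Nat.testBit 8388609 j = true → j = 0 ∨ j = 23 := by decide
  rcases h j hj hb with rfl | rfl
  · exact fix0 ht
  · exact fix23 ht

theorem vj : validPerm Pj = true := checkAut_valid cj
theorem j0 : g Pj (pt 0) = pt 23 := by rw [g_pt vj (by norm_num)]; rfl
theorem j23 : g Pj (pt 23) = pt 0 := by rw [g_pt vj (by norm_num)]; rfl
theorem ji0 : (g Pj)⁻¹ (pt 0) = pt 23 := by rw [Equiv.Perm.inv_eq_iff_eq, j23]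
theorem ji23 : (g Pj)⁻¹ (pt 23) = pt 0 := by rw [Equiv.Perm.inv_eq_iff_eq, j0]

theorem hj : ∀ h ∈ Spor.M22, g Pj * h * (g Pj)⁻¹ ∈ Spor.M22 := by
  intro h hh
  have hM : g Pj ∈ M24 := g_mem_M24 cj
  have hhM := M22_le hh
  rw [M22_eq]
  refine ⟨M24.mul_mem (M24.mul_mem hM hhM) (M24.inv_mem hM), fun x hx => ?_⟩
  simp only [List.mem_cons, List.not_mem_nil, or_false] at hx
  rcases hx with rfl | rfl
  · rw [Equiv.Perm.mul_apply, Equiv.Perm.mul_apply, ji0, fix23 hh, j23]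
  · rw [Equiv.Perm.mul_apply, Equiv.Perm.mul_apply, ji23, fix0 hh, j0]

theorem hj' : ∀ h ∈ Spor.M22, (g Pj)⁻¹ * h * g Pj ∈ Spor.M22 := by
  intro h hh
  have hM : g Pj ∈ M24 := g_mem_M24 cj
  have hhM := M22_le hh
  rw [M22_eq]
  refine ⟨M24.mul_mem (M24.mul_mem (M24.inv_mem hM) hhM) hM, fun x hx => ?_⟩
  simp only [List.mem_cons, List.not_mem_nil, or_false] at hx
  rcases hx with rfl | rfl
  · rw [Equiv.Perm.mul_apply, Equiv.Perm.mul_apply, j0, fix23 hh, ji23]
  · rw [Equiv.Perm.mul_apply, Equiv.Perm.mul_apply, j23, fix0 hh, ji0]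

theorem ha11 : (g Pa) ^ 11 = 1 := by
  have := (relOK_iff (checkAut_valid ca) (checkAut_valid ca) [true] 11).mp (by decide +kernel)
  rwa [wd_true_one] at this

theorem hjA : g Pj * g Pa * (g Pj)⁻¹ = (g Pa)⁻¹ := by
  rw [conj_of_check (r := 10) vj (checkAut_valid ca) (by decide +kernel)]
  apply eq_inv_of_mul_eq_one_left
  rw [← pow_succ, ha11]

/-- The certificate that only the identity fixes the orbit of the point `15`. -/
def orbCert : List (ℕ × List ℕ) :=
  [(0, [689317, 1100945]), (1, [3719203]), (2, [689317]), (3, [4213932]), (4, [1100945]), (6, [150618]), (8, [36294]), (9, [18147]), (12, [5279]), (13, [10558]), (16, [69395]), (18, [262637]), (23, [])]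

theorem orbCert_ok : certOK orbCert 8047776 = true := by decide +kernel

theorem orb_iter : ∀ j < 24, Nat.testBit 8047776 j = true →
    ∃ i < 11, iterW Pa Pa [true] i 15 = j := by decide +kernel

theorem hout : ∀ x ∈ Spor.M22, ¬ ∀ h ∈ Spor.M22, g Pj * h * (g Pj)⁻¹ = x * h * x⁻¹ := by
  intro x hx hall
  have hva := checkAut_valid ca
  have hv7 := checkAut_valid c7
  set c := x⁻¹ * g Pj with hc
  have hcM : c ∈ M24 := M24.mul_mem (M24.inv_mem (M22_le hx)) (g_mem_M24 cj)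
  have hcomm : ∀ h ∈ Spor.M22, c * h = h * c := by
    intro h hh
    have e : c * h = x⁻¹ * (g Pj * h * (g Pj)⁻¹) * g Pj := by rw [hc]; group
    rw [e, hall h hh, hc]
    group
  have hxi0 : x⁻¹ (pt 0) = pt 0 := by rw [Equiv.Perm.inv_eq_iff_eq, fix0 hx]
  have hxi23 : x⁻¹ (pt 23) = pt 23 := by rw [Equiv.Perm.inv_eq_iff_eq, fix23 hx]
  have hc0 : c (pt 0) = pt 23 := by
    rw [hc, Equiv.Perm.mul_apply, j0, hxi23]
  have hc23 : c (pt 23) = pt 0 := by
    rw [hc, Equiv.Perm.mul_apply, j23, hxi0]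
  -- the third fixed point of the element of order 7
  have h15 : c (pt 15) = pt 15 := by
    have h1 : g P7 (c (pt 15)) = c (pt 15) := by
      rw [← Equiv.Perm.mul_apply, ← hcomm _ m7, Equiv.Perm.mul_apply, g_pt hv7 (by norm_num)]
      rfl
    have h2 := idx_g hv7 (c (pt 15))
    rw [h1] at h2
    have key : ∀ y < 24, y = img P7 y → y = 0 ∨ y = 23 ∨ y = 15 := by decide +kernel
    rcases key _ (idx_lt _) h2 with h3 | h3 | h3
    · exfalso
      have h4 : c (pt 15) = pt 0 := by rw [← h3, pt_idx]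
      have h5 := c.injective (h4.trans hc23.symm)
      exact absurd h5 (by decide +kernel)
    · exfalso
      have h4 : c (pt 15) = pt 23 := by rw [← h3, pt_idx]
      have h5 := c.injective (h4.trans hc0.symm)
      exact absurd h5 (by decide +kernel)
    · have h4 := congrArg pt h3
      rwa [pt_idx] at h4
  have hcA : Commute c (g Pa) := hcomm _ ma
  have hpow : ∀ i : ℕ, c (((g Pa) ^ i) (pt 15)) = ((g Pa) ^ i) (pt 15) := by
    intro i
    rw [← Equiv.Perm.mul_apply, (hcA.pow_right i).eq, Equiv.Perm.mul_apply, h15]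
  have hfixF : ∀ j < 24, Nat.testBit 8047776 j = true → c (pt j) = pt j := by
    intro j hj hb
    obtain ⟨i, -, hi⟩ := orb_iter j hj hb
    have h1 := idx_wd_pow hva hva [true] i (pt 15)
    rw [wd_true_one, idx_pt (by norm_num), hi] at h1
    have h2 : ((g Pa) ^ i) (pt 15) = pt j := by rw [← h1, pt_idx]
    rw [← h2]
    exact hpow i
  have hone := cert_fixed orbCert _ orbCert_ok hcM hfixF
  rw [hone] at hc0
  exact absurd hc0 (by decide +kernel)


/-- The outer automorphism group of the Mathieu group M₂₂ (the permutations in the automorphism group of the length-24 binary code that fix each of two given points) has order 2. -/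
theorem result : Nat.card (Cfsg.Out ↥Cfsg.Spor.M22) = 2 := by
  have : Fact (Nat.Prime 11) := ⟨by norm_num⟩
  have hva := checkAut_valid ca
  have hvb := checkAut_valid cb
  have hord : orderOf (g Pa) = 11 := orderOf_of_check hva (by decide +kernel) (by decide +kernel)
  have hb22 : g Pb * g Pb = 1 := by
    have h := (relOK_iff hva hvb [false] 2).mp (by decide +kernel)
    have e : wd (g Pa) (g Pb) [false] = g Pb := by
      show g Pb * 1 = g Pb
      simp
    rw [e, sq] at h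
    exact h
  refine out_two_of_rigid ma mb hb22 (g_ne_one hvb (by decide +kernel)) hgen hj hj' hjA hout
    (hnorm_of_sylow ma mc 11 3 40320 (by rw [card_M22]) (by norm_num) hord
      (conj_of_check (checkAut_valid cc) hva (by decide +kernel)) (by decide)) rels
    ((relsOK_iff hva hvb rels).mp (by decide +kernel)) ?_
  intro t ht ht2 ht1 hrelt
  exact (rigid_oct (F := 8388609) (n := 11) (reps := reps) (Ps := [Pa]) ca (by norm_num) (by decide +kernel)
    (by decide +kernel) (by decide +kernel) (s := Pa) (by simp) hva (Commute.refl _) (M22_le ht) ht2 ht1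
    ⟨pt 0, fix0 ht⟩ (fixF t ht) hrelt).2

end Cfsg.Agent.S2062
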