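import Cfsg.Statements.S2063
import Cfsg.Agent.Lib.Golay.OutGroups

set_option autoImplicit false
open Cfsg

namespace Cfsg.Agent.S2063

open Cfsg Cfsg.Agent.Lib.Golay.Core Cfsg.Agent.Lib.Golay.Perm Cfsg.Agent.Lib.Golay.OutAbs
  Cfsg.Agent.Lib.Golay.OutKer Cfsg.Agent.Lib.Golay.OutFam Cfsg.Agent.Lib.Golay.OutGroups
open Cfsg.Agent.Lib.PermComp

def o23_n : Nat := nat_lit 24
def o23_w : Nat := nat_lit 5
def o23_mask : Nat := nat_lit 31
def o23_L : Nat := nat_lit 120
def o23_maskL : Nat := nat_lit 0xffffffffffffffffffffffffffffff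
def o23_idc : Nat := nat_lit 0xbdab49ca307b9ac5a928398a418820
def o23_T : List Nat := [nat_lit 0xb82d5a4e5183dcd62d4941cc520c41, nat_lit 0xbd6c294db07ba235a544298e865020]
def o23_prog : List (Nat × Nat × Nat) := [(nat_lit 1, nat_lit 1, nat_lit 0), (nat_lit 1, nat_lit 1, nat_lit 0), (nat_lit 0, nat_lit 3, nat_lit 2), (nat_lit 0, nat_lit 0, nat_lit 4), (nat_lit 0, nat_lit 0, nat_lit 4), (nat_lit 0, nat_lit 0, nat_lit 5), (nat_lit 0, nat_lit 5, nat_lit 5), (nat_lit 0, nat_lit 0, nat_lit 1), (nat_lit 0, nat_lit 8, nat_lit 9), (nat_lit 0, nat_lit 0, nat_lit 10), (nat_lit 0, nat_lit 0, nat_lit 10), (nat_lit 0, nat_lit 0, nat_lit 12), (nat_lit 0, nat_lit 0, nat_lit 12), (nat_lit 0, nat_lit 0, nat_lit 13), (nat_lit 0, nat_lit 0, nat_lit 15), (nat_lit 0, nat_lit 0, nat_lit 15), (nat_lit 0, nat_lit 0, nat_lit 16), (nat_lit 0, nat_lit 10, nat_lit 15), (nat_lit 0, nat_lit 0, nat_lit 17), (nat_lit 0, nat_lit 0, nat_lit 2), (nat_lit 0, nat_lit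 15, nat_lit 21), (nat_lit 0, nat_lit 0, nat_lit 22), (nat_lit 0, nat_lit 0, nat_lit 22), (nat_lit 0, nat_lit 0, nat_lit 24), (nat_lit 0, nat_lit 0, nat_lit 24), (nat_lit 0, nat_lit 0, nat_lit 25), (nat_lit 0, nat_lit 0, nat_lit 27), (nat_lit 0, nat_lit 8, nat_lit 26), (nat_lit 0, nat_lit 0, nat_lit 1), (nat_lit 0, nat_lit 29, nat_lit 29), (nat_lit 0, nat_lit 0, nat_lit 30), (nat_lit 0, nat_lit 0, nat_lit 32), (nat_lit 0, nat_lit 0, nat_lit 32), (nat_lit 0, nat_lit 0, nat_lit 34), (nat_lit 0, nat_lit 0, nat_lit 34), (nat_lit 0, nat_lit 0, nat_lit 35), (nat_lit 0, nat_lit 18, nat_lit 0), (nat_lit 0, nat_lit 14, nat_lit 37), (nat_lit 0, nat_lit 0, nat_lit 38), (nat_lit 1, nat_lit 31, nat_lit 0), (nat_lit 1, nat_lit 20, nat_lit 0), (nat_lit 0, nat_lit 2, nat_lit 12), (nat_lit 0, nat_lit 3, nat_lit 3), (nat_lit 0, nat_lit 0, nat_lit 23), (nat_lit 0, nat_lit 0, nat_lit 24), (nat_lit 0, nat_lit 0, nat_lit 8), (nat_lit 0, nat_lit 0, nat_lit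 26), (nat_lit 0, nat_lit 0, nat_lit 39), (nat_lit 0, nat_lit 0, nat_lit 28), (nat_lit 0, nat_lit 0, nat_lit 12), (nat_lit 0, nat_lit 0, nat_lit 13), (nat_lit 0, nat_lit 11, nat_lit 0), (nat_lit 0, nat_lit 10, nat_lit 13), (nat_lit 0, nat_lit 0, nat_lit 16), (nat_lit 0, nat_lit 13, nat_lit 0), (nat_lit 1, nat_lit 3, nat_lit 0), (nat_lit 1, nat_lit 1, nat_lit 0), (nat_lit 0, nat_lit 5, nat_lit 5), (nat_lit 0, nat_lit 0, nat_lit 3), (nat_lit 0, nat_lit 0, nat_lit 7), (nat_lit 0, nat_lit 0, nat_lit 5), (nat_lit 0, nat_lit 0, nat_lit 6), (nat_lit 0, nat_lit 0, nat_lit 10), (nat_lit 0, nat_lit 0, nat_lit 8), (nat_lit 0, nat_lit 0, nat_lit 9), (nat_lit 0, nat_lit 0, nat_lit 10), (nat_lit 0, nat_lit 0, nat_lit 11), (nat_lit 0, nat_lit 0, nat_lit 12), (nat_lit 0, nat_lit 12, nat_lit 11), (nat_lit 0, nat_lit 0, nat_lit 12), (nat_lit 0, nat_lit 0, nat_lit 14), (nat_lit 0, nat_lit 0, nat_lit 14), (nat_lit 0, nat_lit 0, nat_lit 15), (nat_lit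 0, nat_lit 0, nat_lit 5), (nat_lit 0, nat_lit 22, nat_lit 19), (nat_lit 0, nat_lit 0, nat_lit 20), (nat_lit 0, nat_lit 0, nat_lit 24), (nat_lit 0, nat_lit 0, nat_lit 25), (nat_lit 0, nat_lit 0, nat_lit 26), (nat_lit 0, nat_lit 0, nat_lit 27), (nat_lit 0, nat_lit 0, nat_lit 28), (nat_lit 0, nat_lit 0, nat_lit 26), (nat_lit 0, nat_lit 0, nat_lit 30), (nat_lit 0, nat_lit 0, nat_lit 31), (nat_lit 0, nat_lit 0, nat_lit 32), (nat_lit 0, nat_lit 28, nat_lit 29), (nat_lit 0, nat_lit 0, nat_lit 29), (nat_lit 0, nat_lit 0, nat_lit 2), (nat_lit 1, nat_lit 0, nat_lit 0), (nat_lit 1, nat_lit 15, nat_lit 0), (nat_lit 0, nat_lit 16, nat_lit 16), (nat_lit 0, nat_lit 0, nat_lit 3), (nat_lit 0, nat_lit 0, nat_lit 18), (nat_lit 0, nat_lit 0, nat_lit 5), (nat_lit 0, nat_lit 0, nat_lit 20), (nat_lit 0, nat_lit 0, nat_lit 21), (nat_lit 0, nat_lit 0, nat_lit 8), (nat_lit 0, nat_lit 0, nat_lit 9), (nat_lit 0, nat_lit 0, nat_lit 24), (nat_lit 0, nat_lit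 0, nat_lit 25), (nat_lit 0, nat_lit 11, nat_lit 10), (nat_lit 0, nat_lit 0, nat_lit 12), (nat_lit 0, nat_lit 0, nat_lit 12), (nat_lit 0, nat_lit 0, nat_lit 13), (nat_lit 0, nat_lit 0, nat_lit 15), (nat_lit 0, nat_lit 0, nat_lit 16), (nat_lit 0, nat_lit 0, nat_lit 6), (nat_lit 0, nat_lit 33, nat_lit 19), (nat_lit 0, nat_lit 19, nat_lit 19), (nat_lit 0, nat_lit 0, nat_lit 20), (nat_lit 0, nat_lit 0, nat_lit 20), (nat_lit 0, nat_lit 23, nat_lit 23), (nat_lit 0, nat_lit 0, nat_lit 38), (nat_lit 0, nat_lit 0, nat_lit 25), (nat_lit 0, nat_lit 0, nat_lit 40), (nat_lit 0, nat_lit 0, nat_lit 27), (nat_lit 0, nat_lit 0, nat_lit 42), (nat_lit 0, nat_lit 6, nat_lit 28), (nat_lit 0, nat_lit 0, nat_lit 1), (nat_lit 0, nat_lit 11, nat_lit 45), (nat_lit 0, nat_lit 0, nat_lit 46), (nat_lit 0, nat_lit 20, nat_lit 0), (nat_lit 1, nat_lit 3, nat_lit 0), (nat_lit 0, nat_lit 1, nat_lit 4), (nat_lit 0, nat_lit 0, nat_lit 2), (nat_lit 0, nat_lit 0, nat_lit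 3), (nat_lit 0, nat_lit 0, nat_lit 4), (nat_lit 0, nat_lit 0, nat_lit 8), (nat_lit 0, nat_lit 5, nat_lit 0), (nat_lit 0, nat_lit 7, nat_lit 7), (nat_lit 0, nat_lit 0, nat_lit 8), (nat_lit 0, nat_lit 0, nat_lit 9), (nat_lit 0, nat_lit 0, nat_lit 13), (nat_lit 0, nat_lit 0, nat_lit 26), (nat_lit 0, nat_lit 0, nat_lit 12), (nat_lit 0, nat_lit 12, nat_lit 0), (nat_lit 0, nat_lit 13, nat_lit 10), (nat_lit 0, nat_lit 18, nat_lit 15), (nat_lit 0, nat_lit 0, nat_lit 31), (nat_lit 0, nat_lit 0, nat_lit 20), (nat_lit 0, nat_lit 0, nat_lit 18), (nat_lit 0, nat_lit 0, nat_lit 22), (nat_lit 0, nat_lit 0, nat_lit 35), (nat_lit 0, nat_lit 0, nat_lit 36), (nat_lit 0, nat_lit 21, nat_lit 0)]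
def o23_s0 : Nat := nat_lit 0xb82d5a4e5183dcd62d4941cc520c41
def o23_s1 : Nat := nat_lit 0xbda950c64c7b9b012909190a63ae60
def o23_s2 : Nat := nat_lit 0xb8ded82233a9e8c1153271944b2c20
def o23_s3 : Nat := nat_lit 0xb956493e6369a29542d4620eea8820
def o23_s4 : Nat := nat_lit 0xbd268341c9595e46b2563d62a18820
def o23_s5 : Nat := nat_lit 0xba64d4562f83a87312d362caa18820
def o23_s6 : Nat := nat_lit 0xbd6cb22627638cfa224a834b318820
def o23_s7 : Nat := nat_lit 0xb99b28523343aaa4b16f258a718820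
def o23_s8 : Nat := nat_lit 0xb926faa22da3a0b6255231cb618820
noncomputable def o23_lev0 : Core.Lev := Core.mkLev o23_n o23_w o23_mask o23_L o23_maskL o23_idc (nat_lit 0) [o23_s5, o23_s6, o23_s7, o23_s8, o23_s4, o23_s3, o23_s2, o23_s1, o23_s0] [(nat_lit 1, o23_s0, nat_lit 0), (nat_lit 19, o23_s1, nat_lit 1), (nat_lit 2, o23_s0, nat_lit 1), (nat_lit 8, o23_s5, nat_lit 19), (nat_lit 4, o23_s6, nat_lit 19), (nat_lit 16, o23_s7, nat_lit 19), (nat_lit 21, o23_s8, nat_lit 19), (nat_lit 6, o23_s4, nat_lit 19), (nat_lit 18, o23_s3, nat_lit 19), (nat_lit 20, o23_s0, nat_lit 19), (nat_lit 11, o23_s2, nat_lit 2), (nat_lit 3, o23_s0, nat_lit 2), (nat_lit 10, o23_s6, nat_lit 8), (nat_lit 15, o23_s7, nat_lit 8), (nat_lit 22, o23_s4, nat_lit 8), (nat_lit 9, o23_s1, nat_lit 8), (nat_lit 7, o23_s7, nat_lit 4), (nat_lit 14, o23_s3, nat_lit 4), (nat_lit 5, o23_s0, nat_lit 4), (nat_lit 13, o23_s8, nat_lit 16), (nat_lit 12, o23_s1, nat_lit 16), (nat_lit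 17, o23_s0, nat_lit 16)]
noncomputable def o23_lev1 : Core.Lev := Core.mkLev o23_n o23_w o23_mask o23_L o23_maskL o23_idc (nat_lit 1) [o23_s5, o23_s6, o23_s7, o23_s8, o23_s4, o23_s3, o23_s2, o23_s1] [(nat_lit 19, o23_s1, nat_lit 1), (nat_lit 8, o23_s5, nat_lit 19), (nat_lit 4, o23_s6, nat_lit 19), (nat_lit 16, o23_s7, nat_lit 19), (nat_lit 21, o23_s8, nat_lit 19), (nat_lit 6, o23_s4, nat_lit 19), (nat_lit 18, o23_s3, nat_lit 19), (nat_lit 10, o23_s6, nat_lit 8), (nat_lit 15, o23_s7, nat_lit 8), (nat_lit 22, o23_s4, nat_lit 8), (nat_lit 20, o23_s3, nat_lit 8), (nat_lit 9, o23_s1, nat_lit 8), (nat_lit 7, o23_s7, nat_lit 4), (nat_lit 14, o23_s3, nat_lit 4), (nat_lit 13, o23_s8, nat_lit 16), (nat_lit 3, o23_s3, nat_lit 16), (nat_lit 12, o23_s1, nat_lit 16), (nat_lit 11, o23_s3, nat_lit 21), (nat_lit 17, o23_s1, nat_lit 18), (nat_lit 5, o23_s2, nat_lit 10), (nat_lit 2, o23_s2, nat_lit 11)]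
noncomputable def o23_lev2 : Core.Lev := Core.mkLev o23_n o23_w o23_mask o23_L o23_maskL o23_idc (nat_lit 2) [o23_s5, o23_s6, o23_s7, o23_s8, o23_s4, o23_s3, o23_s2] [(nat_lit 11, o23_s2, nat_lit 2), (nat_lit 6, o23_s5, nat_lit 11), (nat_lit 20, o23_s6, nat_lit 11), (nat_lit 9, o23_s7, nat_lit 11), (nat_lit 12, o23_s8, nat_lit 11), (nat_lit 13, o23_s4, nat_lit 11), (nat_lit 10, o23_s3, nat_lit 11), (nat_lit 22, o23_s7, nat_lit 6), (nat_lit 7, o23_s8, nat_lit 6), (nat_lit 21, o23_s4, nat_lit 6), (nat_lit 8, o23_s3, nat_lit 6), (nat_lit 18, o23_s7, nat_lit 20), (nat_lit 15, o23_s8, nat_lit 20), (nat_lit 4, o23_s3, nat_lit 20), (nat_lit 16, o23_s8, nat_lit 13), (nat_lit 17, o23_s3, nat_lit 13), (nat_lit 5, o23_s2, nat_lit 10), (nat_lit 3, o23_s2, nat_lit 22), (nat_lit 14, o23_s2, nat_lit 7), (nat_lit 19, o23_s8, nat_lit 21)]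
noncomputable def o23_lev3 : Core.Lev := Core.mkLev o23_n o23_w o23_mask o23_L o23_maskL o23_idc (nat_lit 3) [o23_s5, o23_s6, o23_s7, o23_s8, o23_s4, o23_s3] [(nat_lit 21, o23_s3, nat_lit 3), (nat_lit 18, o23_s5, nat_lit 21), (nat_lit 22, o23_s6, nat_lit 21), (nat_lit 13, o23_s7, nat_lit 21), (nat_lit 19, o23_s8, nat_lit 21), (nat_lit 11, o23_s3, nat_lit 21), (nat_lit 9, o23_s6, nat_lit 18), (nat_lit 20, o23_s7, nat_lit 18), (nat_lit 8, o23_s8, nat_lit 18), (nat_lit 16, o23_s4, nat_lit 18), (nat_lit 15, o23_s3, nat_lit 18), (nat_lit 6, o23_s7, nat_lit 22), (nat_lit 4, o23_s8, nat_lit 22), (nat_lit 5, o23_s3, nat_lit 22), (nat_lit 17, o23_s3, nat_lit 13), (nat_lit 12, o23_s8, nat_lit 11), (nat_lit 10, o23_s3, nat_lit 11), (nat_lit 7, o23_s6, nat_lit 16), (nat_lit 14, o23_s3, nat_lit 4)]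
noncomputable def o23_lev4 : Core.Lev := Core.mkLev o23_n o23_w o23_mask o23_L o23_maskL o23_idc (nat_lit 5) [o23_s5, o23_s6, o23_s7, o23_s8, o23_s4] [(nat_lit 17, o23_s4, nat_lit 5), (nat_lit 14, o23_s4, nat_lit 17)]
noncomputable def o23_lev5 : Core.Lev := Core.mkLev o23_n o23_w o23_mask o23_L o23_maskL o23_idc (nat_lit 4) [o23_s5, o23_s6, o23_s7, o23_s8] [(nat_lit 10, o23_s5, nat_lit 4), (nat_lit 19, o23_s6, nat_lit 4), (nat_lit 7, o23_s7, nat_lit 4), (nat_lit 22, o23_s8, nat_lit 4), (nat_lit 8, o23_s6, nat_lit 10), (nat_lit 12, o23_s7, nat_lit 10), (nat_lit 9, o23_s8, nat_lit 10), (nat_lit 16, o23_s7, nat_lit 19), (nat_lit 21, o23_s8, nat_lit 19), (nat_lit 6, o23_s8, nat_lit 7), (nat_lit 15, o23_s7, nat_lit 8), (nat_lit 18, o23_s8, nat_lit 8), (nat_lit 11, o23_s8, nat_lit 12), (nat_lit 13, o23_s8, nat_lit 16), (nat_lit 20, o23_s8, nat_lit 15)]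
noncomputable def o23_levels : List Core.Lev := [o23_lev0, o23_lev1, o23_lev2, o23_lev3, o23_lev4, o23_lev5]

set_option maxRecDepth 100000 in
theorem o23_check : Core.checkAll o23_n o23_w o23_mask o23_L o23_maskL o23_idc o23_T o23_prog
    o23_levels = true := by decide +kernel

theorem o23_order : Core.orderC o23_levels = 10200960 := by decide +kernel

def Pa : ℕ := 956302485175575353788796878166559809
def Pai : ℕ := 983478296959358443554250846857397270
def Pb : ℕ := 983537878898640430847140178971480096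
def Pc : ℕ := 983435072843990828779021698901151808

def reps : List Rep := [(8391797, 24279439852198314047231232488707202, 235446003058663030296840896052298167),
  (8398155, 21551812301370264295443844037875809, 221336437411539701612372399494315031),
  (8412681, 25216749141635705073945339388864803, 716725469487890109315551224717646263),
  (8421811, 25327794530625774396323244307354753, 594772412229387289959068769267060759),
  (8431757, 26674539584737379975568090210868322, 590895585464657511637915494316540503),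
  (8471941, 20245822851776453134248765628424418, 217326863660238792901408816168042871),
  (8505411, 5528437795422074062040218690071745, 221012644203885771093661628957506583),
  (8524371, 9941127128533521292065995948857473, 597985456066948606430781281251053591),
  (8546577, 11890090290980616327027090478509316, 223536565318670749696197673756543415),
  (8593633, 26096587551580523500931747834928325, 592396125839039616598242754624658743),
  (8675909, 13279280609350002489909207009502402, 227624945026337929811117884488089911)]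

def rels : List (List Bool × ℕ) := [([true, false], 4), ([true, true, true, false, true, false], 5), ([true, true, true, false, true, true, false, true, false], 5)]

theorem ca : checkAut Pa = true := by decide +kernel
theorem cb : checkAut Pb = true := by decide +kernel
theorem cc : checkAut Pc = true := by decide +kernel
theorem ma : g Pa ∈ Spor.M23 := g_mem_M23 ca (by decide +kernel)
theorem mb : g Pb ∈ Spor.M23 := g_mem_M23 cb (by decide +kernel)
theorem mc : g Pc ∈ Spor.M23 := g_mem_M23 cc (by decide +kernel)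

theorem hgen : Subgroup.closure ({g Pa, g Pb} : Set (Equiv.Perm GolayPt)) = Spor.M23 := by
  refine closure_pair (checkAut_valid ca) (checkAut_valid cb) ma mb
    (by rfl : o23_T = [Pa, Pb]) o23_check ?_
  rw [o23_order, card_M23]

theorem fixF : ∀ t ∈ Spor.M23, ∀ j < 24, Nat.testBit 8388608 j = true → t (pt j) = pt j := by
  intro t ht j hj hb
  have h : ∀ j < 24, Nat.testBit 8388608 j = true → j = 23 := by decide
  obtain rfl := h j hj hb
  rw [M23_eq] at ht
  exact ht.2 23 (by simp)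


/-- The outer automorphism group of the Mathieu group M₂₃ (the stabiliser of a point in the automorphism group of the length-24 binary code) is trivial: every automorphism is inner. -/
theorem result : Nat.card (Cfsg.Out ↥Cfsg.Spor.M23) = 1 := by
  have : Fact (Nat.Prime 23) := ⟨by norm_num⟩
  refine out_one_data (H := Spor.M23) (Pa := Pa) (Pai := Pai) (Pb := Pb) (Pc := Pc) (r := 2) (p := 23)
    (m := 443520) (F := 8388608) (n := 23) (reps := reps) (rels := rels) M23_le ca ma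
    (by decide +kernel) (by decide +kernel) (by decide +kernel) cb mb (by decide +kernel)
    (by decide +kernel) cc mc (by decide +kernel)
    (by rw [card_M23]) (by norm_num) (by decide +kernel) (by decide +kernel)
    (by decide) hgen (by norm_num) (by decide +kernel) (by decide +kernel) (by decide +kernel)
    (by decide +kernel) fixF (fun _ => True) (fun _ _ _ _ => trivial) (fun _ => trivial)
    (fun t ht _ => ⟨pt 23, fixF t ht 23 (by norm_num) (by decide)⟩)

end Cfsg.Agent.S2063
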