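import Cfsg.Statements.S2064
import Cfsg.Agent.Lib.Golay.OutFam

set_option autoImplicit false
open Cfsg

namespace Cfsg.Agent.S2064

open Cfsg Cfsg.Agent.Lib.Golay.Core Cfsg.Agent.Lib.Golay.Perm Cfsg.Agent.Lib.Golay.OutAbs
  Cfsg.Agent.Lib.Golay.OutKer Cfsg.Agent.Lib.Golay.OutFam
open Cfsg.Agent.Lib.PermComp

def o24_n : Nat := nat_lit 24
def o24_w : Nat := nat_lit 5
def o24_mask : Nat := nat_lit 31
def o24_L : Nat := nat_lit 120
def o24_maskL : Nat := nat_lit 0xffffffffffffffffffffffffffffff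
def o24_idc : Nat := nat_lit 0xbdab49ca307b9ac5a928398a418820
def o24_T : List Nat := [nat_lit 0xb82d5a4e5183dcd62d4941cc520c41, nat_lit 0x61e26092b042db77292fb50b218a60]
def o24_prog : List (Nat × Nat × Nat) := [(nat_lit 1, nat_lit 0, nat_lit 0), (nat_lit 1, nat_lit 2, nat_lit 0), (nat_lit 0, nat_lit 3, nat_lit 2), (nat_lit 0, nat_lit 0, nat_lit 4), (nat_lit 0, nat_lit 0, nat_lit 4), (nat_lit 0, nat_lit 0, nat_lit 5), (nat_lit 0, nat_lit 5, nat_lit 4), (nat_lit 0, nat_lit 0, nat_lit 1), (nat_lit 0, nat_lit 8, nat_lit 9), (nat_lit 0, nat_lit 0, nat_lit 10), (nat_lit 0, nat_lit 0, nat_lit 10), (nat_lit 0, nat_lit 0, nat_lit 12), (nat_lit 0, nat_lit 0, nat_lit 12), (nat_lit 0, nat_lit 0, nat_lit 13), (nat_lit 0, nat_lit 0, nat_lit 15), (nat_lit 0, nat_lit 0, nat_lit 15), (nat_lit 0, nat_lit 0, nat_lit 16), (nat_lit 0, nat_lit 10, nat_lit 15), (nat_lit 0, nat_lit 0, nat_lit 17), (nat_lit 0, nat_lit 0, nat_lit 2), (nat_lit 0, nat_lit 16, nat_lit 21), (nat_lit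 0, nat_lit 0, nat_lit 22), (nat_lit 0, nat_lit 15, nat_lit 0), (nat_lit 0, nat_lit 24, nat_lit 24), (nat_lit 0, nat_lit 0, nat_lit 24), (nat_lit 0, nat_lit 0, nat_lit 26), (nat_lit 0, nat_lit 0, nat_lit 27), (nat_lit 0, nat_lit 0, nat_lit 27), (nat_lit 0, nat_lit 0, nat_lit 28), (nat_lit 0, nat_lit 0, nat_lit 30), (nat_lit 0, nat_lit 0, nat_lit 30), (nat_lit 0, nat_lit 0, nat_lit 32), (nat_lit 0, nat_lit 14, nat_lit 30), (nat_lit 0, nat_lit 0, nat_lit 32), (nat_lit 0, nat_lit 0, nat_lit 32), (nat_lit 0, nat_lit 0, nat_lit 33), (nat_lit 0, nat_lit 0, nat_lit 4), (nat_lit 0, nat_lit 32, nat_lit 38), (nat_lit 0, nat_lit 0, nat_lit 39), (nat_lit 0, nat_lit 0, nat_lit 39), (nat_lit 0, nat_lit 0, nat_lit 41), (nat_lit 0, nat_lit 0, nat_lit 41), (nat_lit 0, nat_lit 0, nat_lit 42), (nat_lit 0, nat_lit 0, nat_lit 44), (nat_lit 1, nat_lit 24, nat_lit 0), (nat_lit 1, nat_lit 22, nat_lit 0), (nat_lit 0, nat_lit 23, nat_lit 2), (nat_lit 0, nat_lit 0, nat_lit 10),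 (nat_lit 0, nat_lit 0, nat_lit 4), (nat_lit 0, nat_lit 0, nat_lit 12), (nat_lit 0, nat_lit 0, nat_lit 6), (nat_lit 0, nat_lit 0, nat_lit 43), (nat_lit 0, nat_lit 0, nat_lit 15), (nat_lit 0, nat_lit 8, nat_lit 7), (nat_lit 0, nat_lit 0, nat_lit 8), (nat_lit 0, nat_lit 0, nat_lit 2), (nat_lit 0, nat_lit 36, nat_lit 19), (nat_lit 0, nat_lit 0, nat_lit 37), (nat_lit 0, nat_lit 0, nat_lit 35), (nat_lit 0, nat_lit 0, nat_lit 15), (nat_lit 0, nat_lit 0, nat_lit 37), (nat_lit 0, nat_lit 0, nat_lit 53), (nat_lit 0, nat_lit 0, nat_lit 25), (nat_lit 0, nat_lit 0, nat_lit 19), (nat_lit 0, nat_lit 0, nat_lit 56), (nat_lit 0, nat_lit 19, nat_lit 19), (nat_lit 0, nat_lit 0, nat_lit 20), (nat_lit 0, nat_lit 0, nat_lit 2), (nat_lit 1, nat_lit 12, nat_lit 0), (nat_lit 1, nat_lit 1, nat_lit 0), (nat_lit 0, nat_lit 14, nat_lit 2), (nat_lit 0, nat_lit 0, nat_lit 3), (nat_lit 0, nat_lit 0, nat_lit 4), (nat_lit 0, nat_lit 0, nat_lit 17), (nat_lit 0, nat_lit 0, nat_lit 6),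 (nat_lit 0, nat_lit 0, nat_lit 19), (nat_lit 0, nat_lit 0, nat_lit 8), (nat_lit 0, nat_lit 0, nat_lit 9), (nat_lit 0, nat_lit 0, nat_lit 22), (nat_lit 0, nat_lit 0, nat_lit 23), (nat_lit 0, nat_lit 0, nat_lit 24), (nat_lit 0, nat_lit 11, nat_lit 11), (nat_lit 0, nat_lit 0, nat_lit 13), (nat_lit 0, nat_lit 0, nat_lit 14), (nat_lit 0, nat_lit 0, nat_lit 3), (nat_lit 0, nat_lit 29, nat_lit 29), (nat_lit 0, nat_lit 0, nat_lit 18), (nat_lit 0, nat_lit 0, nat_lit 19), (nat_lit 0, nat_lit 0, nat_lit 20), (nat_lit 0, nat_lit 0, nat_lit 21), (nat_lit 0, nat_lit 0, nat_lit 22), (nat_lit 0, nat_lit 9, nat_lit 21), (nat_lit 0, nat_lit 0, nat_lit 22), (nat_lit 0, nat_lit 0, nat_lit 24), (nat_lit 0, nat_lit 0, nat_lit 3), (nat_lit 1, nat_lit 10, nat_lit 0), (nat_lit 1, nat_lit 1, nat_lit 0), (nat_lit 0, nat_lit 12, nat_lit 12), (nat_lit 0, nat_lit 0, nat_lit 13), (nat_lit 0, nat_lit 0, nat_lit 4), (nat_lit 0, nat_lit 0, nat_lit 15), (nat_lit 0, nat_lit 0, nat_lit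 6), (nat_lit 0, nat_lit 0, nat_lit 7), (nat_lit 0, nat_lit 0, nat_lit 18), (nat_lit 0, nat_lit 0, nat_lit 9), (nat_lit 0, nat_lit 0, nat_lit 10), (nat_lit 0, nat_lit 9, nat_lit 9), (nat_lit 0, nat_lit 0, nat_lit 11), (nat_lit 0, nat_lit 0, nat_lit 2), (nat_lit 0, nat_lit 14, nat_lit 14), (nat_lit 0, nat_lit 0, nat_lit 25), (nat_lit 0, nat_lit 0, nat_lit 16), (nat_lit 0, nat_lit 0, nat_lit 17), (nat_lit 0, nat_lit 0, nat_lit 28), (nat_lit 0, nat_lit 0, nat_lit 29), (nat_lit 0, nat_lit 0, nat_lit 30), (nat_lit 0, nat_lit 0, nat_lit 31), (nat_lit 0, nat_lit 0, nat_lit 32), (nat_lit 0, nat_lit 22, nat_lit 21), (nat_lit 0, nat_lit 0, nat_lit 22), (nat_lit 0, nat_lit 0, nat_lit 24), (nat_lit 0, nat_lit 0, nat_lit 3), (nat_lit 1, nat_lit 13, nat_lit 0), (nat_lit 1, nat_lit 1, nat_lit 0), (nat_lit 0, nat_lit 2, nat_lit 15), (nat_lit 0, nat_lit 3, nat_lit 3), (nat_lit 0, nat_lit 0, nat_lit 17), (nat_lit 0, nat_lit 0, nat_lit 5), (nat_lit 0, nat_lit 5, nat_lit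 4), (nat_lit 0, nat_lit 0, nat_lit 6), (nat_lit 0, nat_lit 0, nat_lit 2), (nat_lit 0, nat_lit 22, nat_lit 9), (nat_lit 0, nat_lit 0, nat_lit 10), (nat_lit 0, nat_lit 0, nat_lit 24), (nat_lit 0, nat_lit 0, nat_lit 25), (nat_lit 0, nat_lit 0, nat_lit 26), (nat_lit 0, nat_lit 13, nat_lit 13), (nat_lit 0, nat_lit 0, nat_lit 1), (nat_lit 0, nat_lit 13, nat_lit 16), (nat_lit 0, nat_lit 0, nat_lit 17), (nat_lit 0, nat_lit 0, nat_lit 18), (nat_lit 0, nat_lit 0, nat_lit 19), (nat_lit 0, nat_lit 0, nat_lit 20), (nat_lit 0, nat_lit 0, nat_lit 21), (nat_lit 0, nat_lit 0, nat_lit 35), (nat_lit 0, nat_lit 0, nat_lit 36), (nat_lit 0, nat_lit 0, nat_lit 24), (nat_lit 0, nat_lit 0, nat_lit 25), (nat_lit 0, nat_lit 11, nat_lit 24), (nat_lit 0, nat_lit 0, nat_lit 1), (nat_lit 0, nat_lit 11, nat_lit 41), (nat_lit 0, nat_lit 0, nat_lit 29), (nat_lit 0, nat_lit 0, nat_lit 43), (nat_lit 0, nat_lit 0, nat_lit 31), (nat_lit 0, nat_lit 0, nat_lit 45), (nat_lit 0, nat_lit 0, nat_lit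 46), (nat_lit 0, nat_lit 0, nat_lit 47), (nat_lit 0, nat_lit 27, nat_lit 34), (nat_lit 0, nat_lit 0, nat_lit 34), (nat_lit 0, nat_lit 0, nat_lit 2), (nat_lit 1, nat_lit 29, nat_lit 0), (nat_lit 1, nat_lit 11, nat_lit 0), (nat_lit 0, nat_lit 2, nat_lit 31), (nat_lit 0, nat_lit 0, nat_lit 25), (nat_lit 0, nat_lit 0, nat_lit 4), (nat_lit 0, nat_lit 0, nat_lit 5), (nat_lit 0, nat_lit 0, nat_lit 28), (nat_lit 0, nat_lit 4, nat_lit 7), (nat_lit 0, nat_lit 0, nat_lit 18), (nat_lit 0, nat_lit 0, nat_lit 9), (nat_lit 0, nat_lit 0, nat_lit 39), (nat_lit 0, nat_lit 0, nat_lit 21), (nat_lit 0, nat_lit 34, nat_lit 22), (nat_lit 0, nat_lit 0, nat_lit 35), (nat_lit 0, nat_lit 0, nat_lit 43), (nat_lit 0, nat_lit 0, nat_lit 44), (nat_lit 0, nat_lit 0, nat_lit 38), (nat_lit 0, nat_lit 0, nat_lit 17), (nat_lit 0, nat_lit 0, nat_lit 40), (nat_lit 0, nat_lit 0, nat_lit 48), (nat_lit 0, nat_lit 0, nat_lit 20), (nat_lit 0, nat_lit 20, nat_lit 0), (nat_lit 0, nat_lit 22, nat_lit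 32), (nat_lit 0, nat_lit 0, nat_lit 23), (nat_lit 0, nat_lit 0, nat_lit 34), (nat_lit 0, nat_lit 23, nat_lit 0)]
def o24_s0 : Nat := nat_lit 0x61e26092b042db77292fb50b218a60
def o24_s1 : Nat := nat_lit 0xb82d5a4e5183dcd62d4941cc520c41
def o24_s2 : Nat := nat_lit 0xb8e51429cc3ac49ab4b6991f409a00
def o24_s3 : Nat := nat_lit 0xba2ae1588a831b42bd723cd2389820
def o24_s4 : Nat := nat_lit 0xbb4a88a8e45cec9a324f70cd0a8820
def o24_s5 : Nat := nat_lit 0xbb2c9819c8795753d1536923218820
def o24_s6 : Nat := nat_lit 0xb9e086be3593a6952d94b10a618820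
def o24_s7 : Nat := nat_lit 0xbd6cb22627638cfa224a834b318820
def o24_s8 : Nat := nat_lit 0xba1474922b3398d85676a3cb218820
def o24_s9 : Nat := nat_lit 0xba64d4562f83a87312d362caa18820
noncomputable def o24_lev0 : Core.Lev := Core.mkLev o24_n o24_w o24_mask o24_L o24_maskL o24_idc (nat_lit 23) [o24_s6, o24_s7, o24_s8, o24_s9, o24_s5, o24_s4, o24_s3, o24_s2, o24_s1, o24_s0] [(nat_lit 12, o24_s0, nat_lit 23), (nat_lit 9, o24_s6, nat_lit 12), (nat_lit 15, o24_s7, nat_lit 12), (nat_lit 13, o24_s8, nat_lit 12), (nat_lit 7, o24_s9, nat_lit 12), (nat_lit 21, o24_s5, nat_lit 12), (nat_lit 20, o24_s3, nat_lit 12), (nat_lit 18, o24_s7, nat_lit 9), (nat_lit 19, o24_s8, nat_lit 9), (nat_lit 22, o24_s9, nat_lit 9), (nat_lit 10, o24_s5, nat_lit 9), (nat_lit 11, o24_s3, nat_lit 9), (nat_lit 5, o24_s2, nat_lit 9), (nat_lit 6, o24_s8, nat_lit 15), (nat_lit 16, o24_s9, nat_lit 15), (nat_lit 8, o24_s0, nat_lit 15), (nat_lit 2, o24_s2, nat_lit 13), (nat_lit 14, o24_s1, nat_lit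 13), (nat_lit 17, o24_s0, nat_lit 21), (nat_lit 4, o24_s8, nat_lit 18), (nat_lit 1, o24_s0, nat_lit 19), (nat_lit 3, o24_s2, nat_lit 22), (nat_lit 0, o24_s1, nat_lit 22)]
noncomputable def o24_lev1 : Core.Lev := Core.mkLev o24_n o24_w o24_mask o24_L o24_maskL o24_idc (nat_lit 0) [o24_s6, o24_s7, o24_s8, o24_s9, o24_s5, o24_s4, o24_s3, o24_s2, o24_s1] [(nat_lit 1, o24_s1, nat_lit 0), (nat_lit 16, o24_s2, nat_lit 1), (nat_lit 2, o24_s1, nat_lit 1), (nat_lit 21, o24_s6, nat_lit 16), (nat_lit 7, o24_s7, nat_lit 16), (nat_lit 11, o24_s8, nat_lit 16), (nat_lit 15, o24_s9, nat_lit 16), (nat_lit 8, o24_s5, nat_lit 16), (nat_lit 4, o24_s4, nat_lit 16), (nat_lit 10, o24_s3, nat_lit 16), (nat_lit 12, o24_s2, nat_lit 16), (nat_lit 17, o24_s1, nat_lit 16), (nat_lit 6, o24_s3, nat_lit 2), (nat_lit 3, o24_s1, nat_lit 2), (nat_lit 22, o24_s7, nat_lit 21), (nat_lit 18, o24_s9, nat_lit 21), (nat_lit 5, o24_s4, nat_lit 21), (nat_lit 20, o24_s8, nat_lit 7), (nat_lit 13,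 o24_s5, nat_lit 7), (nat_lit 14, o24_s4, nat_lit 7), (nat_lit 19, o24_s2, nat_lit 7), (nat_lit 9, o24_s1, nat_lit 8)]
noncomputable def o24_lev2 : Core.Lev := Core.mkLev o24_n o24_w o24_mask o24_L o24_maskL o24_idc (nat_lit 1) [o24_s6, o24_s7, o24_s8, o24_s9, o24_s5, o24_s4, o24_s3, o24_s2] [(nat_lit 16, o24_s2, nat_lit 1), (nat_lit 21, o24_s6, nat_lit 16), (nat_lit 7, o24_s7, nat_lit 16), (nat_lit 11, o24_s8, nat_lit 16), (nat_lit 15, o24_s9, nat_lit 16), (nat_lit 8, o24_s5, nat_lit 16), (nat_lit 4, o24_s4, nat_lit 16), (nat_lit 10, o24_s3, nat_lit 16), (nat_lit 12, o24_s2, nat_lit 16), (nat_lit 22, o24_s7, nat_lit 21), (nat_lit 18, o24_s9, nat_lit 21), (nat_lit 5, o24_s4, nat_lit 21), (nat_lit 20, o24_s8, nat_lit 7), (nat_lit 13, o24_s5, nat_lit 7), (nat_lit 14, o24_s4, nat_lit 7), (nat_lit 19, o24_s2, nat_lit 7), (nat_lit 6, o24_s9, nat_lit 11), (nat_lit 3, o24_s3, nat_lit 4), (nat_lit 9, o24_s6, nat_lit 12), (nat_lit 17, o24_s5, nat_lit 5), (nat_lit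 2, o24_s2, nat_lit 13)]
noncomputable def o24_lev3 : Core.Lev := Core.mkLev o24_n o24_w o24_mask o24_L o24_maskL o24_idc (nat_lit 2) [o24_s6, o24_s7, o24_s8, o24_s9, o24_s5, o24_s4, o24_s3] [(nat_lit 6, o24_s3, nat_lit 2), (nat_lit 4, o24_s6, nat_lit 6), (nat_lit 13, o24_s7, nat_lit 6), (nat_lit 15, o24_s8, nat_lit 6), (nat_lit 11, o24_s9, nat_lit 6), (nat_lit 3, o24_s4, nat_lit 6), (nat_lit 19, o24_s3, nat_lit 6), (nat_lit 18, o24_s8, nat_lit 4), (nat_lit 10, o24_s9, nat_lit 4), (nat_lit 16, o24_s4, nat_lit 4), (nat_lit 12, o24_s8, nat_lit 13), (nat_lit 20, o24_s9, nat_lit 13), (nat_lit 22, o24_s4, nat_lit 13), (nat_lit 7, o24_s5, nat_lit 11), (nat_lit 5, o24_s3, nat_lit 11), (nat_lit 21, o24_s4, nat_lit 3), (nat_lit 17, o24_s3, nat_lit 3), (nat_lit 9, o24_s8, nat_lit 19), (nat_lit 8, o24_s9, nat_lit 19), (nat_lit 14, o24_s3, nat_lit 20)]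
noncomputable def o24_lev4 : Core.Lev := Core.mkLev o24_n o24_w o24_mask o24_L o24_maskL o24_idc (nat_lit 3) [o24_s6, o24_s7, o24_s8, o24_s9, o24_s5, o24_s4] [(nat_lit 21, o24_s4, nat_lit 3), (nat_lit 16, o24_s6, nat_lit 21), (nat_lit 22, o24_s7, nat_lit 21), (nat_lit 10, o24_s8, nat_lit 21), (nat_lit 18, o24_s9, nat_lit 21), (nat_lit 5, o24_s4, nat_lit 21), (nat_lit 7, o24_s7, nat_lit 16), (nat_lit 11, o24_s8, nat_lit 16), (nat_lit 15, o24_s9, nat_lit 16), (nat_lit 8, o24_s5, nat_lit 16), (nat_lit 4, o24_s4, nat_lit 16), (nat_lit 9, o24_s9, nat_lit 22), (nat_lit 12, o24_s5, nat_lit 22), (nat_lit 13, o24_s4, nat_lit 22), (nat_lit 20, o24_s5, nat_lit 10), (nat_lit 6, o24_s5, nat_lit 18), (nat_lit 17, o24_s5, nat_lit 5), (nat_lit 14, o24_s4, nat_lit 7), (nat_lit 19, o24_s9, nat_lit 8)]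
noncomputable def o24_lev5 : Core.Lev := Core.mkLev o24_n o24_w o24_mask o24_L o24_maskL o24_idc (nat_lit 5) [o24_s6, o24_s7, o24_s8, o24_s9, o24_s5] [(nat_lit 17, o24_s5, nat_lit 5), (nat_lit 14, o24_s5, nat_lit 17)]
noncomputable def o24_lev6 : Core.Lev := Core.mkLev o24_n o24_w o24_mask o24_L o24_maskL o24_idc (nat_lit 4) [o24_s6, o24_s7, o24_s8, o24_s9] [(nat_lit 6, o24_s6, nat_lit 4), (nat_lit 19, o24_s7, nat_lit 4), (nat_lit 18, o24_s8, nat_lit 4), (nat_lit 10, o24_s9, nat_lit 4), (nat_lit 13, o24_s7, nat_lit 6), (nat_lit 15, o24_s8, nat_lit 6), (nat_lit 11, o24_s9, nat_lit 6), (nat_lit 9, o24_s8, nat_lit 19), (nat_lit 8, o24_s9, nat_lit 19), (nat_lit 21, o24_s9, nat_lit 18), (nat_lit 12, o24_s8, nat_lit 13), (nat_lit 20, o24_s9, nat_lit 13), (nat_lit 16, o24_s9, nat_lit 15), (nat_lit 22, o24_s9, nat_lit 9), (nat_lit 7, o24_s9, nat_lit 12)]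
noncomputable def o24_levels : List Core.Lev := [o24_lev0, o24_lev1, o24_lev2, o24_lev3, o24_lev4, o24_lev5, o24_lev6]

set_option maxRecDepth 100000 in
theorem o24_check : Core.checkAll o24_n o24_w o24_mask o24_L o24_maskL o24_idc o24_T o24_prog
    o24_levels = true := by decide +kernel

theorem o24_order : Core.orderC o24_levels = 244823040 := by decide +kernel

def Pa : ℕ := 956302485175575353788796878166559809
def Pai : ℕ := 983478296959358443554250846857397270
def Pb : ℕ := 508244271149803029639502129667344992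
def Pc : ℕ := 983435072843990828779021698901151808
def Pu : ℕ := 983427657196189944081598741789901002

def reps : List Rep := [(5279, 22683679506751550833761978213862465, 553480637861674527270077532107506711),
  (15777, 4765869038642744130981275296407781, 634328058946142271410521687819227447),
  (18147, 3268859222038275714265792154671265, 427856901202136295694226293589792791),
  (39257, 25090160797061226955562048428447875, 356102949182286093069745390240150839),
  (45159, 24975709528425009610494834547823681, 525038952926012757822744561156719639),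
  (52005, 24724661325194292204184199308288162, 548092441457431338381251502096614071),
  (57883, 2849900656430427395160809144619105, 352076735845281473135312249878009879),
  (69395, 9956664257659855504202340007977089, 681062012720988408338721269479745559),
  (75309, 18483949523933425322747626544993378, 177365204898560356536506693901648311),
  (95313, 28661248829922930158528061582485700, 818418694678995034189992817364063383),
  (99029, 28912115988242701950273132077226114, 859998733309094771474466087646789847),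
  (118953, 8686483475922318265172447805709475, 484922272846223416808276516216520919),
  (133817, 26301637235267057340349541641327747, 433017057180537399279260470191591799),
  (140167, 15014634657666150928115994481400897, 508282598388696462023387252605125655),
  (153797, 20309549632401037508155789084564674, 425308794961801452514350849068695863),
  (201013, 4845221044656194432710990136349826, 889794719658442281503554763663016311),
  (213833, 17164726271289960422658945069654211, 675500050381655119496545429553682871),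
  (272595, 6839541255709642519421077883689089, 510801875914857948563310552402008087),
  (283537, 19565697255951731995938051593642212, 175628690460125543404272543382918679),
  (298027, 18832464250538121152515378041394273, 181993128495746031954829736785526807),
  (304405, 1594315091642122853445918899118210, 398931155852472549969925818658816727),
  (418953, 24872116298211976909141807389386979, 306613867292878860815355710778910199),
  (8391797, 24279439852198314047231232488707202, 235446003058663030296840896052298167),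
  (8398155, 21551812301370264295443844037875809, 221336437411539701612372399494315031),
  (8412681, 25216749141635705073945339388864803, 716725469487890109315551224717646263),
  (8421811, 25327794530625774396323244307354753, 594772412229387289959068769267060759),
  (8431757, 26674539584737379975568090210868322, 590895585464657511637915494316540503),
  (8471941, 20245822851776453134248765628424418, 217326863660238792901408816168042871),
  (8505411, 5528437795422074062040218690071745, 221012644203885771093661628957506583),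
  (8524371, 9941127128533521292065995948857473, 597985456066948606430781281251053591),
  (8546577, 11890090290980616327027090478509316, 223536565318670749696197673756543415),
  (8593633, 26096587551580523500931747834928325, 592396125839039616598242754624658743),
  (8675909, 13279280609350002489909207009502402, 227624945026337929811117884488089911)]

def rels : List (List Bool × ℕ) := [([true, false], 4), ([true, true, false], 6), ([true, true, true, false], 15), ([true, true, true, false, true, false, true, true, false], 8)]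

theorem ca : checkAut Pa = true := by decide +kernel
theorem cb : checkAut Pb = true := by decide +kernel
theorem cc : checkAut Pc = true := by decide +kernel
theorem cu : checkAut Pu = true := by decide +kernel

theorem hgen : Subgroup.closure ({g Pa, g Pb} : Set (Equiv.Perm GolayPt)) = M24 := by
  refine closure_pair (checkAut_valid ca) (checkAut_valid cb) (g_mem_M24 ca) (g_mem_M24 cb)
    (by rfl : o24_T = [Pa, Pb]) o24_check ?_
  rw [o24_order, Cfsg.Agent.Lib.Golay.M24.card_M24]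

theorem hu_ord : orderOf (g Pu) = 7 :=
  have : Fact (Nat.Prime 7) := ⟨by norm_num⟩
  orderOf_of_check (checkAut_valid cu) (by decide +kernel) (by decide +kernel)

theorem hu_comm : Commute (g Pu) (g Pb) := by
  show g Pu * g Pb = g Pb * g Pu
  rw [← g_comp (checkAut_valid cu) (checkAut_valid cb), ← g_comp (checkAut_valid cb) (checkAut_valid cu)]
  congr 1


/-- The outer automorphism group of the Mathieu group M₂₄ (the automorphism group of the length-24 binary code) is trivial: every automorphism is inner. -/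
theorem result : Nat.card (Cfsg.Out ↥Cfsg.M24) = 1 := by
  have : Fact (Nat.Prime 23) := ⟨by norm_num⟩
  refine out_one_data (H := M24) (Pa := Pa) (Pai := Pai) (Pb := Pb) (Pc := Pc) (r := 2) (p := 23)
    (m := 10644480) (F := 0) (n := 23) (reps := reps) (rels := rels) le_rfl ca (g_mem_M24 ca)
    (by decide +kernel) (by decide +kernel) (by decide +kernel) cb (g_mem_M24 cb) (by decide +kernel)
    (by decide +kernel) cc (g_mem_M24 cc) (by decide +kernel)
    (by rw [Cfsg.Agent.Lib.Golay.M24.card_M24]) (by norm_num) (by decide +kernel) (by decide +kernel)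
    (by decide) hgen (by norm_num) (by decide +kernel) (by decide +kernel) (by decide +kernel)
    (by decide +kernel) (by simp) (fun t => ∃ q, t q = q) ?_ ?_ (fun t _ h => h)
  · rintro x - t ⟨q, hq⟩
    refine ⟨x q, ?_⟩
    simp [hq]
  · intro α
    let hb : g Pb ∈ M24 := g_mem_M24 cb
    let hu : g Pu ∈ M24 := g_mem_M24 cu
    have h1 : orderOf ((α ⟨g Pu, hu⟩ : M24) : Equiv.Perm GolayPt) = 7 := by
      rw [Subgroup.orderOf_coe, MulEquiv.orderOf_eq, Subgroup.orderOf_mk, hu_ord]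
    have h2 : Commute ((α ⟨g Pu, hu⟩ : M24) : Equiv.Perm GolayPt) ((α ⟨g Pb, hb⟩ : M24) : Equiv.Perm GolayPt) := by
      have h3 : Commute (⟨g Pu, hu⟩ : M24) ⟨g Pb, hb⟩ := Subtype.ext hu_comm
      have h4 : Commute (α ⟨g Pu, hu⟩) (α ⟨g Pb, hb⟩) := h3.map α
      exact congrArg (fun z : M24 => (z : Equiv.Perm GolayPt)) h4
    have h5 : ((α ⟨g Pb, hb⟩ : M24) : Equiv.Perm GolayPt) * ((α ⟨g Pb, hb⟩ : M24) : Equiv.Perm GolayPt) = 1 := by
      have hb2 : (⟨g Pb, hb⟩ : M24) * ⟨g Pb, hb⟩ = 1 := by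
        apply Subtype.ext
        have := (relOK_iff (checkAut_valid ca) (checkAut_valid cb) [false] 2).mp (by decide +kernel)
        have e : wd (g Pa) (g Pb) [false] = g Pb := by
          show g Pb * 1 = g Pb
          simp
        rw [e, sq] at this
        exact this
      have h6 : α ⟨g Pb, hb⟩ * α ⟨g Pb, hb⟩ = 1 := by
        rw [← map_mul, hb2, map_one]
      exact congrArg (fun z : M24 => (z : Equiv.Perm GolayPt)) h6
    exact exists_fixed_of_commute (α ⟨g Pu, hu⟩).2 h1 h2 h5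

end Cfsg.Agent.S2064
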