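-- Statement S2065: the outer automorphism group of J1 is trivial.
import Cfsg.Statements.S2065
import Cfsg.Agent.Lib.PermComp.Spor.J1
import Cfsg.Agent.Lib.PermComp.OutP.J1.Thm

set_option autoImplicit false
set_option maxRecDepth 100000
set_option maxHeartbeats 0
open Cfsg

namespace Cfsg.Agent.S2065

open Cfsg.Agent.Lib.PermComp Cfsg.Agent.Lib.PermComp.OutP
open Cfsg.Agent.Lib.PermComp.Spor.J1 Cfsg.Agent.Lib.PermComp.Spor.CertJ1
open Cfsg.Agent.Lib.PermComp.Kron (rangeAll)

private theorem ck (i : Nat) (c : Nat) (h : rangeAll (fun q => Nat.beq (OutP.J1.F (40 + i) q) (Core.app j1_w j1_mask c q)) 0 266 = true)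
    (hc : c ∈ j1_G_T) : Has (n := 266) OutP.J1.F H266 (40 + i) := by
  obtain ⟨g, hg⟩ := j1_hT c hc
  refine ⟨g, Subgroup.subset_closure ⟨c, hc, hg⟩, fun p hp => ?_⟩
  have h1 := Nat.eq_of_beq_eq_true (Kron.rangeAll_spec h p (Nat.zero_le _) (by omega))
  rw [h1]
  exact hg ⟨p, hp⟩

/-- The outer automorphism group of the Janko group J₁ (the group generated by two explicit 7 × 7 matrices over the integers modulo 11) is trivial: every automorphism is inner. -/
theorem result : Nat.card (Cfsg.Out ↥Cfsg.Spor.J1) = 1 := by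
  obtain ⟨-, ⟨e⟩⟩ := Spor.J1.main
  have e' : ↥Cfsg.Spor.J1 ≃* H266 := e
  rw [card_out_congr e']
  refine OutP.J1.card_out card_H266 ?_
  intro g h1 h2
  have hg : g = 40 ∨ g = 41 := by omega
  rcases hg with rfl | rfl
  · exact ck 0 (Core.nthN j1_G_T 0) (by decide +kernel) (Core.nthN_mem _ 0 (by decide +kernel))
  · exact ck 1 (Core.nthN j1_G_T 1) (by decide +kernel) (Core.nthN_mem _ 1 (by decide +kernel))

end Cfsg.Agent.S2065
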