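import Cfsg.Statements.S2066
import Cfsg.Agent.Lib.J2.Order
import Cfsg.Agent.Lib.J2.Out2.Thm

set_option autoImplicit false
set_option maxRecDepth 100000
set_option maxHeartbeats 0
open Cfsg

namespace Cfsg.Agent.S2066

open Cfsg.Agent.Lib.PermComp Cfsg.Agent.Lib.PermComp.OutP Cfsg.Agent.Lib.J2
open Cfsg.Agent.Lib.J2.Cert315
open Cfsg.Agent.Lib.PermComp.Kron (rangeAll)

private theorem ck (i : Nat) (c : Nat)
    (h : rangeAll (fun q => Nat.beq (Out2.F (66 + i) q) (Core.app 9 511 c q)) 0 315 = true)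
    (hc : c ∈ g_T) : Has (n := 315) Out2.F H315 (66 + i) := by
  obtain ⟨g, hg⟩ := hT315 c hc
  refine ⟨g, Subgroup.subset_closure ⟨c, by rw [← g_T_eq]; exact hc, hg⟩, fun p hp => ?_⟩
  have h1 := Nat.eq_of_beq_eq_true (Kron.rangeAll_spec h p (Nat.zero_le _) (by omega))
  rw [h1]
  exact hg ⟨p, hp⟩

/-- The outer automorphism group of the Hall–Janko group J₂ (the icosian reflection group modulo its centre) has order 2. -/
theorem result : Nat.card (Cfsg.Out Cfsg.Spor.J2) = 2 := by
  rw [card_out_congr j2Equiv]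
  refine Out2.card_out card_H315 ?_
  intro g h1 h2
  have hg : g = 66 ∨ g = 67 ∨ g = 68 ∨ g = 69 := by omega
  rcases hg with rfl | rfl | rfl | rfl
  · exact ck 0 (Core.nthN g_T 0) (by decide +kernel) (Core.nthN_mem _ 0 (by decide +kernel))
  · exact ck 1 (Core.nthN g_T 1) (by decide +kernel) (Core.nthN_mem _ 1 (by decide +kernel))
  · exact ck 2 (Core.nthN g_T 2) (by decide +kernel) (Core.nthN_mem _ 2 (by decide +kernel))
  · exact ck 3 (Core.nthN g_T 3) (by decide +kernel) (Core.nthN_mem _ 3 (by decide +kernel))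

end Cfsg.Agent.S2066
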