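-- Statement S2067: the outer automorphism group of J3 has order 2.
import Cfsg.Statements.S2067
import Cfsg.Agent.Lib.PermComp.Spor.J3.Thm2
import Cfsg.Agent.Lib.PermComp.OutP.J3.Thm

set_option autoImplicit false
set_option maxRecDepth 100000
set_option maxHeartbeats 0
open Cfsg

namespace Cfsg.Agent.S2067

open Cfsg.Agent.Lib.PermComp Cfsg.Agent.Lib.PermComp.OutP
open Cfsg.Agent.Lib.PermComp.Kron (rangeAll)

private theorem ck (H : Subgroup (Equiv.Perm (Fin 6156)))
    (hH : ∀ j < 2, ∃ e ∈ H, ∀ (p : Nat) (hp : p < 6156), Spor.J3.T1.tab j p = (e ⟨p, hp⟩ : Fin 6156))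
    (j : Nat) (hj : j < 2)
    (h : rangeAll (fun q => Nat.beq (OutP.J3.F (66 + j) q) (Spor.J3.T1.tab j q)) 0 6156 = true) :
    Has (n := 6156) OutP.J3.F H (66 + j) := by
  obtain ⟨e, he, hg⟩ := hH j hj
  refine ⟨e, he, fun p hp => ?_⟩
  have h1 := Nat.eq_of_beq_eq_true (Kron.rangeAll_spec h p (Nat.zero_le _) (by omega))
  rw [h1]
  exact hg p hp

/-- For any field with 4 elements and any element ω of it with ω² + ω + 1 = 0, the outer automorphism group of the Janko group J₃ (the group generated by explicit 9 × 9 matrices over that field built from ω, taken modulo its centre) has order 2. -/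
theorem result {F : Type*} [Field F] [Fintype F] (hF : Fintype.card F = 4) (ω : F) (hω : ω ^ 2 + ω + 1 = 0) : Nat.card (Cfsg.Out (Cfsg.Spor.J3 F ω)) = 2 := by
  obtain ⟨H, hc, -, -, ⟨e⟩, hH⟩ := Spor.J3.main2 (Spor.J3.two_eq_zero_of_card hF) hω
  rw [card_out_congr e]
  refine OutP.J3.card_out hc ?_
  intro g h1 h2
  have hg : g = 66 ∨ g = 67 := by omega
  rcases hg with rfl | rfl
  · exact ck H hH 0 (by norm_num) (by decide +kernel)
  · exact ck H hH 1 (by norm_num) (by decide +kernel)

end Cfsg.Agent.S2067
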