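-- Statement S2071.
import Cfsg.Statements.S2071
import Cfsg.Agent.Lib.PermComp.Conway.MCo3
import Cfsg.Agent.Lib.PermComp.OutP.Co3o.Thm

set_option autoImplicit false
open Cfsg

namespace Cfsg.Agent.S2071

open Cfsg.Agent.Lib.PermComp Cfsg.Agent.Lib.PermComp.OutP Cfsg.Agent.Lib.PermComp.Conway
open Cfsg.Agent.Lib.PermComp.Conway.MCo3

/-- The outer automorphism group of the Conway group Co₃ (the stabiliser of a vector of the second shortest length in the rank-24 lattice) is trivial: every automorphism is inner. -/
theorem result : Nat.card (Cfsg.Out ↥Cfsg.Spor.Co3) = 1 := by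
  obtain ⟨e⟩ := iso_Co3
  rw [card_out_congr e]
  exact out_of_model (rho hS) (by norm_num) card_Fix_U (OutP.Co3o.card_ge hX)
    fun h => OutP.Co3o.card_out h hX

end Cfsg.Agent.S2071
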