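-- Statement S2073.
import Cfsg.Statements.S2073
import Cfsg.Agent.Lib.PermComp.Conway.MMcL
import Cfsg.Agent.Lib.PermComp.OutP.McLo.Thm

set_option autoImplicit false
open Cfsg

namespace Cfsg.Agent.S2073

open Cfsg.Agent.Lib.PermComp Cfsg.Agent.Lib.PermComp.OutP Cfsg.Agent.Lib.PermComp.Conway
open Cfsg.Agent.Lib.PermComp.Conway.MMcL

/-- The outer automorphism group of the McLaughlin group (as a two-vector stabiliser in the automorphism group of the rank-24 lattice) has order 2. -/
theorem result : Nat.card (Cfsg.Out ↥Cfsg.Spor.McL) = 2 := by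
  obtain ⟨e⟩ := iso_McL
  rw [card_out_congr e]
  exact out_of_model (rho hS) (by norm_num) card_Fix_McL (OutP.McLo.card_ge hX)
    fun h => OutP.McLo.card_out h hX

end Cfsg.Agent.S2073
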