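-- Statement S2075.
import Cfsg.Statements.S2075
import Cfsg.Agent.Lib.TC.D.HeChain.Main
import Cfsg.Agent.Lib.PermComp.OutP.Pres
import Cfsg.Agent.Lib.PermComp.OutP.He.Thm

set_option autoImplicit false
set_option maxRecDepth 100000
set_option maxHeartbeats 0
open Cfsg

namespace Cfsg.Agent.S2075

open Cfsg.Agent.Lib.PermComp Cfsg.Agent.Lib.PermComp.OutP
open Cfsg.Agent.Lib.PermComp.Kron (rangeAll)

private noncomputable abbrev pt := Cfsg.Agent.Lib.TC.D.HeSp44.Tab.pt

private theorem ck (H : Subgroup (Equiv.Perm (Fin 2058)))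
    (hH : ∀ c < 7, ∃ e ∈ H, ∀ (p : Nat) (hp : p < 2058), pt.T c p = (e ⟨p, hp⟩ : Fin 2058))
    (j : Nat) (hj : j < 7)
    (h : rangeAll (fun q => Nat.beq (OutP.He.F (66 + j) q) (pt.T j q)) 0 2058 = true) :
    Has (n := 2058) OutP.He.F H (66 + j) := by
  obtain ⟨e, he, hg⟩ := hH j hj
  refine ⟨e, he, fun p hp => ?_⟩
  have h1 := Nat.eq_of_beq_eq_true (Kron.rangeAll_spec h p (Nat.zero_le _) (by omega))
  rw [h1]
  exact hg p hp

/-- The outer automorphism group of the Held group (the finitely presented group of the definitions) has order 2. -/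
theorem result : Nat.card (Cfsg.Out Cfsg.Spor.He) = 2 := by
  obtain ⟨hs, hc⟩ := Cfsg.Agent.Lib.TC.D.HeChain.Main.simple_card
  obtain ⟨H, ⟨e⟩, hH, hgen⟩ := exists_model Cfsg.Agent.Lib.TC.D.HeSp44.Ok.ok hs hc (c0 := 0) (i0 := 18) (by decide +kernel) (by decide +kernel) (by decide +kernel)
  rw [card_out_congr e]
  refine OutP.He.card_out hH ?_
  intro g h1 h2
  have hg : g = 66 ∨ g = 67 ∨ g = 68 ∨ g = 69 ∨ g = 70 ∨ g = 71 ∨ g = 72 := by omega
  rcases hg with rfl | rfl | rfl | rfl | rfl | rfl | rfl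
  · exact ck H hgen 0 (by decide) (by decide +kernel)
  · exact ck H hgen 1 (by decide) (by decide +kernel)
  · exact ck H hgen 2 (by decide) (by decide +kernel)
  · exact ck H hgen 3 (by decide) (by decide +kernel)
  · exact ck H hgen 4 (by decide) (by decide +kernel)
  · exact ck H hgen 5 (by decide) (by decide +kernel)
  · exact ck H hgen 6 (by decide) (by decide +kernel)

end Cfsg.Agent.S2075
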