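-- Statement S2077: the outer automorphism group of the Rudvalis group is trivial.
import Cfsg.Statements.S2077
import Cfsg.Agent.Lib.RuBridge.Iso
import Cfsg.Agent.Lib.PermComp.OutP.Ru.Thm

set_option autoImplicit false
set_option maxRecDepth 100000
set_option maxHeartbeats 0
open Cfsg

namespace Cfsg.Agent.S2077

open Cfsg.Agent.Lib.PermComp Cfsg.Agent.Lib.PermComp.OutP
open Cfsg.Agent.Lib.PermComp.Kron (rangeAll)
open Cfsg.Agent.Lib.CosetCert

private theorem ck (j : Nat) (hj : j < 4)
    (h : rangeAll (fun q => Nat.beq (OutP.Ru.F (112 + j) q) (D.Ru.Tbl.F0 j q)) 0 4060 = true) :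
    Has (n := 4060) OutP.Ru.F D.Ru.Tbl.L0.G (112 + j) := by
  refine ⟨D.Ru.Tbl.L0.val j,
    D.Ru.Tbl.L0.val_mem (by rw [Cfsg.Agent.Lib.RuBridge.L0_k]; exact hj), fun p hp => ?_⟩
  have h1 := Nat.eq_of_beq_eq_true (Kron.rangeAll_spec h p (Nat.zero_le _) (by omega))
  rw [h1]
  exact (Cfsg.Agent.Lib.RuBridge.val_coe hj ⟨p, hp⟩).symm

/-- The outer automorphism group of the Rudvalis group (the unitary automorphism group of the rank-28 Gaussian lattice modulo its centre) is trivial: every automorphism is inner. -/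
theorem result : Nat.card (Cfsg.Out Cfsg.Spor.Ru) = 1 := by
  rw [card_out_congr Cfsg.Agent.Lib.RuBridge.ruIso]
  refine OutP.Ru.card_out Cfsg.Agent.Lib.RuBridge.card_L0 ?_
  intro g h1 h2
  have hg : g = 112 ∨ g = 113 ∨ g = 114 ∨ g = 115 := by omega
  rcases hg with rfl | rfl | rfl | rfl
  · exact ck 0 (by norm_num) (by decide +kernel)
  · exact ck 1 (by norm_num) (by decide +kernel)
  · exact ck 2 (by norm_num) (by decide +kernel)
  · exact ck 3 (by norm_num) (by decide +kernel)

end Cfsg.Agent.S2077
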