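-- Statement S2078.
import Cfsg.Statements.S2078
import Cfsg.Agent.Lib.TC.D.ONChain.Main
import Cfsg.Agent.Lib.PermComp.OutP.ONo.Thm
import Cfsg.Agent.Lib.PermComp.OutP.ONo.ChkX

set_option autoImplicit false
set_option maxRecDepth 100000
set_option maxHeartbeats 0
open Cfsg

namespace Cfsg.Agent.S2078

open Cfsg.Agent.Lib.PermComp Cfsg.Agent.Lib.PermComp.OutP
open Cfsg.Agent.Lib.PermComp.Kron (rangeAll rangeAll_spec)

/-- The outer automorphism group of the O'Nan group (the finitely presented group of the definitions) has order 2. -/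
theorem result : Nat.card (Cfsg.Out Cfsg.Spor.ON) = 2 := by
  obtain ⟨hs, hc⟩ := Cfsg.Agent.Lib.TC.D.ONChain.Main.simple_card
  haveI : Fact (Nat.Prime 31) := ⟨by norm_num⟩
  refine card_out_pres Cfsg.Agent.Lib.TC.D.ONa.Ok.ok hs hc (by norm_num) (c0 := 0) (i0 := 1)
    (by decide) (by decide) (by decide +kernel) OutP.ONo.hC OutP.ONo.hF (by decide) (gc := 40) (r := 7)
    (mp := 14865016320) (by decide) OutP.ONo.hcr (by norm_num) (by norm_num) (by decide +kernel)
    (by decide) (by decide +kernel) OutP.ONo.wY ?_ ?_ ?_ ?_ (c1 := 0) (q0 := 0) (by decide) (by decide) (by decide +kernel)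
  · intro c hc a ha
    have hc' : c < 8 := hc
    exact blt_lt ((Core.allL_eq_true _ _).1 (rangeAll_spec OutP.ONo.hwY_ck c (Nat.zero_le _) (by omega)) a ha)
  · intro c hc b hb
    have hc' : c < 8 := hc
    exact Nat.eq_of_beq_eq_true ((Core.allL_eq_true _ _).1 (rangeAll_spec OutP.ONo.hinv_ck c (Nat.zero_le _) (by omega)) b hb)
  · intro l hl b hb
    exact Nat.eq_of_beq_eq_true ((Core.allL_eq_true _ _).1 ((Core.allL_eq_true _ _).1 OutP.ONo.hrelY_ck l hl) b hb)
  · intro b hb
    exact Nat.eq_of_beq_eq_true ((Core.allL_eq_true _ _).1 OutP.ONo.hAY_ck b hb)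

end Cfsg.Agent.S2078
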