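import Cfsg.Statements.S5401
import Cfsg.Agent.Lib.ThreeT.Real.L24
import Cfsg.Agent.Lib.TC.D.Fi24Chain.Main
import Cfsg.Agent.Lib.ThreeT.F24.Facts

set_option autoImplicit false
set_option maxRecDepth 100000
open Cfsg

namespace Cfsg.Agent.S5401

open Cfsg.Agent.Lib.TC.Core Cfsg.Agent.Lib.TC.Pres Cfsg.Agent.Lib.TC.Perm Cfsg.Agent.Lib.TC.Main
  Cfsg.Agent.Lib.TC.Chain Cfsg.Agent.Lib.TC.Tra Cfsg.Agent.Lib.TC.F24 Cfsg.Agent.Lib.TC.G.Fi24 Cfsg.Agent.Lib.TC.D.Fi24a.Tab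
  Cfsg.Agent.Lib.TC.D.Fi24Chain.OrbD Cfsg.Agent.Lib.TC.D.Fi24Chain.Main

theorem hconn : ∀ i j : Fin pt.n, lab i.1 = lab j.1 → ∃ g, ρ g 0 = 0 ∧ ρ g i = j := by
  intro i j hij
  obtain ⟨g, hg1, hg2⟩ := orbit_facts Cfsg.Agent.Lib.TC.D.Fi24a.Ok.ok φ hφ lab oP oW oD repr
    Cfsg.Agent.Lib.TC.D.Fi24Chain.Orb.hlab i j hij
  refine ⟨Ψ g, ?_, hg2⟩
  rw [ρΨ]
  exact (mem_stab0 φ g).1 (Cfsg.Agent.Lib.TC.D.Fi24a.Ok.ok.le_stab φ hφ hg1)

theorem hsize1 (ℓ : Nat) (hℓ : ℓ < 3) : {i : Fin pt.n | lab i.1 = ℓ}.ncard = size ℓ := by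
  rw [← Cfsg.Agent.Lib.TC.D.Fi24Chain.Orb.hsize ℓ hℓ]
  exact ncard_label lab pt.n ℓ

theorem hconn' (i j : Fin pt.n) (hij : lab i.1 = lab j.1) : ∃ h ∈ L, ρ h i = j := by
  obtain ⟨g, h1, h2⟩ := hconn i j hij
  exact ⟨g, (hL g).2 h1, h2⟩

theorem hr (i : Fin pt.n) : lab i.1 < 3 :=
  allBelow_spec (by decide +kernel : allBelow lab 3 pt.n = true) i.1 i.2

theorem hC : Subgroup.centralizer ({t} : Set ψ.range) = L :=
  cent_eq L (isCoatom_of_labels (by decide) ρ htr L hL (fun i => lab i.1) hconn' 3 hr (by decide +kernel) size hsize1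
    (hnum_of_chk size 2 pt.n (by decide) (by decide) (by decide +kernel))) t hcomm hnc

theorem hyp : Cfsg.Agent.Lib.ThreeT.Real.L24.Hyp E' ρ where
  fin := inferInstance
  card := hcard
  hval := hval'
  htr := htr
  hinj := hinj
  hE := fun c hc => E'_sq c hc
  hfix := by
    intro g
    constructor
    · intro h
      exact hcomm g ((hL g).2 h)
    · intro h
      have h1 : g ∈ Subgroup.centralizer ({t} : Set ψ.range) := (mem_cent_iff t g).2 h
      rw [hC] at h1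
      exact (hL g).1 h1
  hclass := (threeT_abstract2 ρ L hL hidx (fun i => lab i.1) hconn' 3 hr t t_order hcomm hC hcl
    (fun l => Ψ (prodA E (wds l))) hg).1
  hsimple := by
    obtain ⟨D, -, -, -, H, hidx', hFi, -, -⟩ := main_range
    obtain ⟨h1, h2⟩ := hFi
    refine ⟨H, hidx', h1, ?_⟩
    haveI := h1
    have : Finite H := inferInstance
    refine Cfsg.Agent.Lib.ThreeT.F24.Facts.exists_ne_of_simple' ?_
    rw [h2]
    norm_num
  hconn := hconn
  hsize := hsize1 1 (by decide)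
  hθ := ⟨θ, θ_inj, fun x => θ_comm _ ⟨x, rfl⟩, by
    rw [hθ 0 (by decide)]
    rfl⟩
  hE2 := by
    refine ⟨?_, ?_, ?_⟩
    · exact MonoidHom.map_isConj Ψ (conj_all 2 (by decide))
    · intro h
      have h1 := hval' [2] (by decide) (⟨1, by decide⟩ : Fin pt.n)
      have h0 := hval' [0] (by decide) (⟨1, by decide⟩ : Fin pt.n)
      have e1 : prodA E' [2] = prodA E' [0] := by
        simp only [prodA_cons, prodA_nil, one_mul]
        exact h
      rw [e1, h0] at h1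
      revert h1
      decide +kernel
    · exact (E'_comm 2 (by decide) (by decide)).symm

/-- Existence of the Fischer 3-transposition groups: there exist finite groups generated by a conjugacy class of 3-transpositions on which they act primitively that are of type M(22), of type M(23), and of type M(24) respectively. -/
theorem result : (∃ (X : Type) (_ : Group X) (_ : Finite X) (E : Set X), Cfsg.IsThreeTranspositionClass E ∧ Cfsg.IsPrimitiveUnderConj E ∧ Cfsg.IsOfTypeM22 X E) ∧ (∃ (X : Type) (_ : Group X) (_ : Finite X) (E : Set X), Cfsg.IsThreeTranspositionClass E ∧ Cfsg.IsPrimitiveUnderConj E ∧ Cfsg.IsOfTypeM23 X E) ∧ (∃ (X : Type) (_ : Group X) (_ : Finite X) (E : Set X), Cfsg.IsThreeTranspositionClass E ∧ Cfsg.IsPrimitiveUnderConj E ∧ Cfsg.IsOfTypeM24 X E) := by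
  refine ⟨⟨_, inferInstance, inferInstance, _, Cfsg.Agent.Lib.ThreeT.Real.L22.main⟩,
    ⟨_, inferInstance, inferInstance, _, Cfsg.Agent.Lib.ThreeT.Real.L23.main⟩,
    ⟨ψ.range, inferInstance, inferInstance, _, Cfsg.Agent.Lib.ThreeT.Real.L24.main hyp⟩⟩

end Cfsg.Agent.S5401
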