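import Cfsg.Statements.S2082
import Cfsg.Agent.Lib.TC.D.HNOut.Main
import Cfsg.Agent.Lib.TC.D.HNO.Cnt
import Cfsg.Agent.Lib.TC.D.HNO.Orb
import Cfsg.Agent.Lib.TC.D.HNO.PtOk

set_option autoImplicit false
open Cfsg

namespace Cfsg.Agent.S2082

/-- The outer automorphism group of the Harada–Norton group (the finitely presented group of the definitions) has order 2. -/
theorem result : Nat.card (Cfsg.Out Cfsg.Spor.HN) = 2 := by
  obtain ⟨φ, M⟩ := Cfsg.Agent.Lib.Schur.HN.Model.model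
  obtain ⟨ρ, hr, hk, hl⟩ := Cfsg.Agent.Lib.TC.D.HNOut.Rho.rho_data
    Cfsg.Agent.Lib.TC.D.HNO.PtOk.hgood Cfsg.Agent.Lib.TC.D.HNOut.Main.card_kk'
  exact Cfsg.Agent.Lib.TC.D.HNOut.Main.card_out φ M ρ hr hk hl
    Cfsg.Agent.Lib.TC.D.HNO.Orb.hlab
    (fun i => Cfsg.Agent.Lib.TC.Chain.allBelow_spec Cfsg.Agent.Lib.TC.D.HNO.Cnt.hb i.1 i.2)
    (fun ℓ hℓ => by
      rw [← Cfsg.Agent.Lib.TC.D.HNO.Cnt.hsize ℓ hℓ]
      exact Cfsg.Agent.Lib.TC.Perm.ncard_label _ _ ℓ)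

end Cfsg.Agent.S2082
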