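import Cfsg.Statements.S2247
import Cfsg.Agent.Lib.Suzuki.Sylow2

set_option autoImplicit false
open Cfsg

namespace Cfsg.Agent.S2247

open Cfsg.Agent.Lib.Suzuki.Core Cfsg.Agent.Lib.Suzuki.Elements Cfsg.Agent.Lib.Suzuki.Stab
open Cfsg.Agent.Lib.Suzuki.Group Cfsg.Agent.Lib.Suzuki.Simple Cfsg.Agent.Lib.Suzuki.Sylow2

section
variable {F : Type*} [Field F] [Fintype F] [CharP F 2] {m : ℕ} (hc : Ctx F m)

/-- The Borel subgroup: the stabiliser of the point at infinity. -/
abbrev BB (F : Type*) [Field F] [Fintype F] (m : ℕ) : Subgroup (Sz F m) :=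
  MulAction.stabilizer (Sz F m) (infO : OO F m)

lemma mem_BB {g : Sz F m} : g ∈ BB F m ↔ g • suzukiPointInfinity F = suzukiPointInfinity F := by
  rw [MulAction.mem_stabilizer_iff]
  constructor
  · intro h
    exact congrArg Subtype.val h
  · intro h
    exact Subtype.ext h

lemma BB_le_normalizer : BB F m ≤ Subgroup.normalizer ((Usub hc : Subgroup (Sz F m)) : Set (Sz F m)) := by
  intro g hg
  apply Subgroup.mem_normalizer_fintype
  intro u hu
  exact conj_mem_Usub_of_fix hc (mem_BB.1 hg) hu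

lemma normalizer_le_BB : Subgroup.normalizer ((Usub hc : Subgroup (Sz F m)) : Set (Sz F m)) ≤ BB F m := by
  intro g hg
  rw [mem_BB]
  rcases mem_ovoid_iff.mp (smul_mem_ovoid g.2 (inf_mem_ovoid (F := F) m)) with h | ⟨x, y, h⟩
  · exact h
  exfalso
  have h1 : g⁻¹ * uS hc 1 0 * g ∈ Usub hc := by
    have h2 : g⁻¹ ∈ Subgroup.normalizer ((Usub hc : Subgroup (Sz F m)) : Set (Sz F m)) := inv_mem hg
    have := (Subgroup.mem_normalizer_iff.1 h2 (uS hc 1 0)).1 (uS_mem hc _ _)
    simpa using this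
  obtain ⟨a, b, hab⟩ := h1
  have h3 : uS hc 1 0 * g = g * uS hc a b := by
    rw [← hab]; group
  have h4 := congrArg (fun k : Sz F m => k • suzukiPointInfinity F) h3
  simp only [mul_smul, uS_smul_inf] at h4
  have h' : g • suzukiPointInfinity F = pt m x y := h
  rw [h', uS_smul_pt] at h4
  have h5 := (pt_eq_pt_iff.1 h4).1
  have h6 : x + 1 + x = 0 := by rw [h5]; exact CharTwo.add_self_eq_zero x
  have : (1 : F) = 0 := by
    have h7 : x + 1 + x = 1 + (x + x) := by ring
    rw [h7, CharTwo.add_self_eq_zero, add_zero] at h6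
    exact h6
  exact one_ne_zero this

lemma normalizer_eq_BB : Subgroup.normalizer ((Usub hc : Subgroup (Sz F m)) : Set (Sz F m)) = BB F m :=
  le_antisymm (normalizer_le_BB hc) (BB_le_normalizer hc)

lemma nontrivial_OO : Nontrivial (OO F m) :=
  ⟨⟨infO, ptO 0 0, fun h => pt_ne_inf (congrArg Subtype.val h).symm⟩⟩

include hc in
lemma isCoatom_BB : IsCoatom (BB F m) := by
  have h2 := two_trans hc
  haveI := nontrivial_OO (F := F) (m := m)
  haveI hprim : MulAction.IsPreprimitive (Sz F m) (OO F m) :=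
    MulAction.isPreprimitive_of_is_two_pretransitive h2
  exact (MulAction.isCoatom_stabilizer_iff_preprimitive (Sz F m) (infO : OO F m)).2 hprim

/-- The opposite unipotent subgroup. -/
def WW : Subgroup (Sz F m) := (Usub hc).map (MulAut.conj (wS hc)).toMonoidHom

lemma mem_WW {x : Sz F m} : x ∈ WW hc ↔ ∃ u ∈ Usub hc, x = wS hc * u * wS hc := by
  unfold WW
  rw [Subgroup.mem_map]
  constructor
  · rintro ⟨u, hu, rfl⟩
    refine ⟨u, hu, ?_⟩
    simp [MulAut.conj_apply, wS_inv]
  · rintro ⟨u, hu, rfl⟩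
    refine ⟨u, hu, ?_⟩
    simp [MulAut.conj_apply, wS_inv]

lemma sup_normal : (Usub hc ⊔ WW hc).Normal := by
  set L := Usub hc ⊔ WW hc with hL
  have hUL : Usub hc ≤ L := le_sup_left
  have hWL : WW hc ≤ L := le_sup_right
  have hw : wS hc ∈ Subgroup.normalizer (L : Set (Sz F m)) := by
    apply Subgroup.mem_normalizer_fintype
    have : L ≤ L.comap (MulAut.conj (wS hc)).toMonoidHom := by
      rw [hL]
      apply sup_le
      · intro u hu
        exact hWL ((mem_WW hc).2 ⟨u, hu, by simp [MulAut.conj_apply, wS_inv]⟩)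
      · intro x hx
        obtain ⟨u, hu, rfl⟩ := (mem_WW hc).1 hx
        have : (MulAut.conj (wS hc)).toMonoidHom (wS hc * u * wS hc) = u := by
          simp only [MulEquiv.toMonoidHom_eq_coe, MonoidHom.coe_coe, MulAut.conj_apply, wS_inv]
          have e := wS_mul_self hc
          calc wS hc * (wS hc * u * wS hc) * wS hc = (wS hc * wS hc) * u * (wS hc * wS hc) := by group
            _ = u := by rw [e]; group
        rw [Subgroup.mem_comap, this]
        exact hUL hu
    intro x hx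
    exact this hx
  have hh : ∀ l : Fˣ, hS hc l ∈ Subgroup.normalizer (L : Set (Sz F m)) := by
    intro l
    apply Subgroup.mem_normalizer_fintype
    have hfix : ∀ l : Fˣ, hS hc l • suzukiPointInfinity F = suzukiPointInfinity F := hS_smul_inf hc
    have : L ≤ L.comap (MulAut.conj (hS hc l)).toMonoidHom := by
      rw [hL]
      apply sup_le
      · intro u hu
        exact hUL (conj_mem_Usub_of_fix hc (hfix l) hu)
      · intro x hx
        obtain ⟨u, hu, rfl⟩ := (mem_WW hc).1 hx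
        apply hWL
        rw [mem_WW]
        refine ⟨hS hc l⁻¹ * u * (hS hc l⁻¹)⁻¹, conj_mem_Usub_of_fix hc (hfix _) hu, ?_⟩
        have e0 := wS_mul_self hc
        have e1 : hS hc l * wS hc = wS hc * hS hc l⁻¹ := by
          rw [← wS_conj_hS hc l]
          calc hS hc l * wS hc = (wS hc * wS hc) * hS hc l * wS hc := by rw [e0]; group
            _ = wS hc * (wS hc * hS hc l * wS hc) := by group
        have e2 : wS hc * (hS hc l)⁻¹ = (hS hc l⁻¹)⁻¹ * wS hc := by
          have := congrArg (fun k => k⁻¹) e1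
          simp only [_root_.mul_inv_rev, wS_inv] at this
          exact this
        change hS hc l * (wS hc * u * wS hc) * (hS hc l)⁻¹ = _
        calc hS hc l * (wS hc * u * wS hc) * (hS hc l)⁻¹
            = (hS hc l * wS hc) * u * (wS hc * (hS hc l)⁻¹) := by group
          _ = (wS hc * hS hc l⁻¹) * u * ((hS hc l⁻¹)⁻¹ * wS hc) := by rw [e1, e2]
          _ = wS hc * (hS hc l⁻¹ * u * (hS hc l⁻¹)⁻¹) * wS hc := by group
    intro x hx
    exact this hx
  have htop : Subgroup.normalizer (L : Set (Sz F m)) = ⊤ := by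
    rw [eq_top_iff]
    intro g _
    have hU : ∀ a b, uS hc a b ∈ Subgroup.normalizer (L : Set (Sz F m)) := fun a b =>
      Subgroup.le_normalizer (hUL (uS_mem hc a b))
    rcases bruhat hc g with ⟨a, b, l, rfl⟩ | ⟨x, y, a, b, l, rfl⟩
    · exact mul_mem (hU a b) (hh l)
    · exact mul_mem (mul_mem (hU x y) hw) (mul_mem (hU a b) (hh l))
  exact Subgroup.normalizer_eq_top_iff.1 htop

/-- A maximal subgroup containing `U` is the Borel subgroup. -/
theorem unique_coatom {M : Subgroup (Sz F m)} (hM : IsCoatom M) (hU : Usub hc ≤ M) : M = BB F m := by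
  by_cases hfix : M ≤ BB F m
  · exact ((hM.le_iff.1 hfix).resolve_left (isCoatom_BB hc).1).symm
  exfalso
  obtain ⟨g, hgM, hgB⟩ := SetLike.not_le_iff_exists.1 hfix
  rcases bruhat hc g with ⟨a, b, l, rfl⟩ | ⟨x, y, a, b, l, rfl⟩
  · apply hgB
    rw [mem_BB, mul_smul, hS_smul_inf, uS_smul_inf]
  · -- `w h ∈ M`
    have hl : hS hc l⁻¹ • suzukiPointInfinity F = suzukiPointInfinity F := hS_smul_inf hc l⁻¹
    have hconj : ∀ u ∈ Usub hc, (hS hc l)⁻¹ * u * hS hc l ∈ M := by
      intro u hu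
      have := hU (conj_mem_Usub_of_fix hc hl hu)
      rw [hS_inv, inv_inv, ← hS_inv] at this
      exact this
    have hwh : wS hc * hS hc l ∈ M := by
      have h1 : (uS hc x y)⁻¹ ∈ M := inv_mem (hU (uS_mem hc _ _))
      have h2 : (hS hc l)⁻¹ * (uS hc a b)⁻¹ * hS hc l ∈ M :=
        hconj _ (inv_mem (uS_mem hc _ _))
      have h3 := mul_mem (mul_mem h1 hgM) h2
      have e : (uS hc x y)⁻¹ * (uS hc x y * wS hc * (uS hc a b * hS hc l)) *
          ((hS hc l)⁻¹ * (uS hc a b)⁻¹ * hS hc l) = wS hc * hS hc l := by group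
      rwa [e] at h3
    have hW : WW hc ≤ M := by
      intro z hz
      obtain ⟨u, hu, rfl⟩ := (mem_WW hc).1 hz
      have h1 := hconj u hu
      have h2 := mul_mem (mul_mem hwh h1) (inv_mem hwh)
      have e : wS hc * hS hc l * ((hS hc l)⁻¹ * u * hS hc l) * (wS hc * hS hc l)⁻¹ =
          wS hc * u * wS hc := by
        rw [_root_.mul_inv_rev, wS_inv]
        group
      rwa [e] at h2
    have htop := eq_top_of_Usub_le hc (sup_normal hc) (le_sup_left : Usub hc ≤ Usub hc ⊔ WW hc)
    apply hM.1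
    rw [eq_top_iff, ← htop]
    exact sup_le hU hW

end

theorem result {F : Type*} [Field F] [Fintype F] {m : ℕ} (hm : 1 ≤ m) (hF : Fintype.card F = 2 ^ (2 * m + 1)) (P : Sylow 2 ↥(Cfsg.Sz F m)) :
    IsCoatom (Subgroup.normalizer ((P : Subgroup ↥(Cfsg.Sz F m)) : Set ↥(Cfsg.Sz F m))) ∧
    ∀ M : Subgroup ↥(Cfsg.Sz F m), IsCoatom M → (P : Subgroup ↥(Cfsg.Sz F m)) ≤ M → M = Subgroup.normalizer ((P : Subgroup ↥(Cfsg.Sz F m)) : Set ↥(Cfsg.Sz F m)) := by

  haveI := Cfsg.Agent.Lib.Suzuki.Elements.charP_two_of_card hF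
  have hc : Ctx F m := ctx_of_card hm hF
  obtain ⟨c, hc'⟩ := MulAction.exists_smul_eq (Sz F m) (UU hc) P
  let f : Sz F m ≃* Sz F m := MulAut.conj c
  have hPU : (P : Subgroup (Sz F m)) = (Usub hc).map f.toMonoidHom := by
    rw [← hc', ← coe_UU hc]
    rfl
  have hN : Subgroup.normalizer ((P : Subgroup (Sz F m)) : Set (Sz F m)) = (BB F m).map f.toMonoidHom := by
    rw [hPU, ← normalizer_eq_BB hc]
    exact (Subgroup.map_equiv_normalizer_eq _ f).symm
  constructor
  · rw [hN]
    exact ((MulEquiv.mapSubgroup f).isCoatom_iff (BB F m)).2 (isCoatom_BB hc)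
  · intro M hM hPM
    have hM' : IsCoatom (M.map f.symm.toMonoidHom) :=
      ((MulEquiv.mapSubgroup f.symm).isCoatom_iff M).2 hM
    have hUM : Usub hc ≤ M.map f.symm.toMonoidHom := by
      intro u hu
      refine ⟨f u, hPM ?_, by simp⟩
      rw [hPU]
      exact ⟨u, hu, rfl⟩
    have h1 := unique_coatom hc hM' hUM
    rw [hN, ← h1]
    ext x
    simp only [Subgroup.mem_map, MulEquiv.toMonoidHom_eq_coe, MonoidHom.coe_coe]
    constructor
    · intro hx
      exact ⟨f.symm x, ⟨x, hx, rfl⟩, by simp⟩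
    · rintro ⟨_, ⟨y, hy, rfl⟩, rfl⟩
      simpa using hy

end Cfsg.Agent.S2247
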