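import Cfsg.Statements.S2249
import Cfsg.Agent.Lib.SpWreath.GLBase
import Cfsg.Agent.Lib.SpWreath.GLVal
import Cfsg.Agent.Lib.SpWreath.GenTower

set_option autoImplicit false
open Cfsg

namespace Cfsg.Agent.S2249

open Module Cfsg.Agent.Lib.SpWreath.NRank Cfsg.Agent.Lib.SpWreath.GenTower Cfsg.Agent.Lib.SpWreath.GLVal Cfsg.Agent.Lib.SpWreath.GLBase Cfsg.Agent.Lib.SpWreath.Rep Cfsg.Agent.S4015 in
/-- the closure of the rank predicate -/
theorem closed_rank {F : Type*} [Field F] : Closed (F := F) (fun (D : Type _) [Group D] (V : Type _) [AddCommGroup V] [Module F V] (_ : D →* Module.End F V) (k : ℕ) => HasE D k ∧ NRk D k) := by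
  refine ⟨⟨⟨⊥, inferInstance, ⟨⟨⟨fun a b => Subsingleton.elim _ _⟩⟩, fun a _ => Subsingleton.elim _ _⟩, by simp⟩, ?_⟩, ?_, ?_⟩
  · intro E _ _
    simp
  · intro D _ _ V _ _ _ _ f k hk h
    refine ⟨?_, h.2.wreath hk⟩
    have := h.1.wreath (Q := C2)
    rwa [card_C2, mul_comm] at this
  · intro D₁ D₂ _ _ _ _ V₁ V₂ _ _ _ _ _ _ f₁ f₂ k l hk h₁ h₂
    exact ⟨h₁.1.prod h₂.1, h₁.2.prod h₂.2⟩

open Cfsg.Agent.Lib.SpWreath.NRank Cfsg.Agent.Lib.SpWreath.GenTower in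
/-- conclusion -/
theorem conclude {G D : Type*} [Group G] [Finite G] [Group D] (g : D →* G) (hg : Function.Injective g)
    (hc : Nat.card D = 2 ^ (Nat.card G).factorization 2) (P : Sylow 2 G) {k : ℕ} (h1 : HasE D k) (h2 : NRk D k) :
    (∃ E : Subgroup ↥(P : Subgroup G), E.Normal ∧ Cfsg.IsElementaryAbelian 2 E ∧ 2 ^ k ≤ Nat.card ↥E) ∧
      ∀ E : Subgroup ↥(P : Subgroup G), E.Normal → Cfsg.IsElementaryAbelian 2 E → Nat.card ↥E ≤ 2 ^ k := by
  obtain ⟨e⟩ := sylow_equiv g hg hc P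
  obtain ⟨E, a, b, c⟩ := h1.of_equiv e
  exact ⟨⟨E, a, b, c.ge⟩, h2.of_equiv e⟩

/-- The normal 2-rank of the general linear group over a finite field of odd order q: for n ≥ 1 and S a Sylow 2-subgroup of GL_n(F), the largest rank of an elementary abelian subgroup of S that is normal in S equals n when q ≡ 1 (mod 4) and ⌊(n + 1)/2⌋ when q ≡ 3 (mod 4). -/
theorem result {F : Type*} [Field F] [Fintype F] {q : ℕ} (hF : Fintype.card F = q) (hodd : Odd q) (n : ℕ) (hn : 1 ≤ n) (S : Sylow 2 (Matrix.GeneralLinearGroup (Fin n) F)) :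
    (q % 4 = 1 → ((∃ E : Subgroup ↥(S : Subgroup (Matrix.GeneralLinearGroup (Fin n) F)), E.Normal ∧ Cfsg.IsElementaryAbelian 2 E ∧ 2 ^ (n) ≤ Nat.card ↥E) ∧
      ∀ E : Subgroup ↥(S : Subgroup (Matrix.GeneralLinearGroup (Fin n) F)), E.Normal → Cfsg.IsElementaryAbelian 2 E → Nat.card ↥E ≤ 2 ^ (n))) ∧
    (q % 4 = 3 → ((∃ E : Subgroup ↥(S : Subgroup (Matrix.GeneralLinearGroup (Fin n) F)), E.Normal ∧ Cfsg.IsElementaryAbelian 2 E ∧ 2 ^ ((n + 1) / 2) ≤ Nat.card ↥E) ∧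
      ∀ E : Subgroup ↥(S : Subgroup (Matrix.GeneralLinearGroup (Fin n) F)), E.Normal → Cfsg.IsElementaryAbelian 2 E → Nat.card ↥E ≤ 2 ^ ((n + 1) / 2))) := by
  classical
  subst hF
  haveI : Fact (Nat.Prime 2) := ⟨Nat.prime_two⟩
  have hq1 : 1 < Fintype.card F := Fintype.one_lt_card
  have hcard : ∀ n, (Nat.card (Matrix.GeneralLinearGroup (Fin n) F)).factorization 2 =
      padicValNat 2 (Cfsg.Agent.Lib.SpWreath.GLVal.glp (Fintype.card F) n) := by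
    intro n
    rw [Nat.factorization_def _ Nat.prime_two, Matrix.card_GL_field]
    rfl
  constructor
  · intro h1
    have hs : 1 ≤ padicValNat 2 (Fintype.card F - 1) := by
      apply one_le_padicValNat_of_dvd (by omega)
      omega
    obtain ⟨D₀, _, _, f₀, hf₀, hc₀, hE₀, hR₀⟩ := Cfsg.Agent.Lib.SpWreath.GLBase.exists_cyc_base F _ hs pow_padicValNat_dvd
    obtain ⟨D, _, _, V, _, _, _, f, hf, hV, hc, hE, hR⟩ := Cfsg.Agent.Lib.SpWreath.GenTower.exists_all closed_rank D₀ F f₀ hf₀ _ 1 hc₀ (by simp) le_rfl ⟨hE₀, hR₀⟩ n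
    obtain ⟨g, hg⟩ := Cfsg.Agent.S4015.toGL n (by rw [hV, one_mul]) f hf
    exact conclude g hg (by
      rw [hc, hcard, Cfsg.Agent.Lib.SpWreath.GLVal.val_glp_one _ h1 hq1]) S hE hR
  · intro h3
    obtain ⟨t, w, hw, htw⟩ := Nat.exists_eq_two_pow_mul_odd (n := Fintype.card F + 1) (by omega)
    have ht : padicValNat 2 (Fintype.card F + 1) = t := by
      rw [htw, padicValNat.mul (by positivity) hw.pos.ne', padicValNat.prime_pow,
        padicValNat.eq_zero_of_not_dvd (fun h => (Nat.not_even_iff_odd.2 hw) (even_iff_two_dvd.2 h))]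
      rfl
    obtain ⟨D₀, V₀, _, _, _, _, _, f₀, hf₀, hV₀, hc₀, -, hE₀, hR₀⟩ := Cfsg.Agent.Lib.SpWreath.GLBase.exists_sd_base F h3 t w hw htw
    obtain ⟨m, rfl | rfl⟩ : ∃ m, n = 2 * m ∨ n = 2 * m + 1 := ⟨n / 2, by omega⟩
    · obtain ⟨D, _, _, V, _, _, _, f, hf, hV, hc, hE, hR⟩ := Cfsg.Agent.Lib.SpWreath.GenTower.exists_all closed_rank D₀ V₀ f₀ hf₀ _ 2 hc₀ hV₀ (by norm_num) ⟨hE₀, hR₀⟩ m
      obtain ⟨g, hg⟩ := Cfsg.Agent.S4015.toGL (2 * m) hV.le f hf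
      have e : (2 * m + 1) / 2 = m := by omega
      rw [e]
      exact conclude g hg (by
        rw [hc, hcard, (Cfsg.Agent.Lib.SpWreath.GLVal.val_glp_three _ h3 hq1 m).1, ht]) S hE hR
    · obtain ⟨D, _, _, V, _, _, _, f, hf, hV, hc, hE, hR⟩ := Cfsg.Agent.Lib.SpWreath.GenTower.exists_all closed_rank D₀ V₀ f₀ hf₀ _ 2 hc₀ hV₀ (by norm_num) ⟨hE₀, hR₀⟩ m
      have h2 : 2 ^ 1 ∣ Fintype.card F - 1 := by
        rw [pow_one]
        omega
      obtain ⟨D₁, _, _, f₁, hf₁, hc₁, hE₁, hR₁⟩ := Cfsg.Agent.Lib.SpWreath.GLBase.exists_cyc_base F 1 le_rfl h2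
      obtain ⟨g, hg⟩ := Cfsg.Agent.S4015.toGL (V := V × F) (2 * m + 1) (by
        rw [Module.finrank_prod, hV]
        simp) (Cfsg.Agent.Lib.SpWreath.Rep.prodRep f f₁) (Cfsg.Agent.Lib.SpWreath.GenTower.prodRep_injective hf hf₁)
      have e : (2 * m + 1 + 1) / 2 = m + 1 := by omega
      rw [e]
      exact conclude g hg (by
        rw [Nat.card_prod, hc, hc₁, hcard, (Cfsg.Agent.Lib.SpWreath.GLVal.val_glp_three _ h3 hq1 m).2, ht, ← pow_add]) S (hE.prod hE₁) (hR.prod hR₁)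

end Cfsg.Agent.S2249
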