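import Cfsg.Statements.S2250
import Cfsg.Agent.Lib.SpWreath.Tower
import Cfsg.Agent.Lib.SpWreath.Rank

set_option autoImplicit false
open Cfsg

namespace Cfsg.Agent.S2250

/-- The normal 2-rank of the symplectic group over a finite field of odd order: for n ≥ 1 and S a Sylow 2-subgroup of Sp_{2n}(F), the largest rank of an elementary abelian subgroup of S that is normal in S equals n. -/
theorem result {F : Type*} [Field F] [Fintype F] (hF : Odd (Fintype.card F)) (n : ℕ) (hn : 1 ≤ n) (S : Sylow 2 ↥(Matrix.symplecticGroup (Fin n) F)) :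
    ((∃ E : Subgroup ↥(S : Subgroup ↥(Matrix.symplecticGroup (Fin n) F)), E.Normal ∧ Cfsg.IsElementaryAbelian 2 E ∧ 2 ^ (n) ≤ Nat.card ↥E) ∧
      ∀ E : Subgroup ↥(S : Subgroup ↥(Matrix.symplecticGroup (Fin n) F)), E.Normal → Cfsg.IsElementaryAbelian 2 E → Nat.card ↥E ≤ 2 ^ (n)) := by
  classical
  refine ⟨?_, ?_⟩
  · obtain ⟨E, h1, h2, h3⟩ := (Cfsg.Agent.Lib.SpWreath.Tower.good_sylow F hF n S).ex
    exact ⟨E, h1, h2, h3.ge⟩
  · intro E _ hE
    obtain ⟨hc, hp⟩ := hE
    have hchar : ringChar F ≠ 2 := by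
      intro h
      have := FiniteField.even_card_iff_char_two.1 h
      exact (Nat.not_even_iff_odd.2 hF) (Nat.even_iff.2 this)
    have h2 : (2 : F) ≠ 0 := Ring.two_ne_zero hchar
    let τ : ↥E → Module.End F (Fin n ⊕ Fin n → F) := fun x =>
      Matrix.toLin' (((x : ↥(S : Subgroup ↥(Matrix.symplecticGroup (Fin n) F))) : ↥(Matrix.symplecticGroup (Fin n) F)) : Matrix (Fin n ⊕ Fin n) (Fin n ⊕ Fin n) F)
    have hτ : Function.Injective τ := by
      intro a b hab
      exact Subtype.ext (Subtype.ext (Subtype.ext (Matrix.toLin'.injective hab)))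
    have hτmul : ∀ a b : ↥E, τ a * τ b = τ (a * b) := by
      intro a b
      simp only [τ]
      have e : ∀ A B : Matrix (Fin n ⊕ Fin n) (Fin n ⊕ Fin n) F, Matrix.toLin' A * Matrix.toLin' B = Matrix.toLin' (A * B) := by
        intro A B
        rw [Matrix.toLin'_mul]
        rfl
      exact e _ _
    have hle := Cfsg.Agent.Lib.SpWreath.Rank.card_le h2 n (Fin n ⊕ Fin n → F)
      (Cfsg.Agent.Lib.Classical.SympForm.sympBilin n F) Cfsg.Agent.Lib.Classical.SympForm.sympBilin_isAlt
      Cfsg.Agent.Lib.Classical.SympForm.sympBilin_nondegenerate (by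
        rw [Module.finrank_fintype_fun_eq_card]
        simp [two_mul]) (Set.range τ) (by
        rintro _ ⟨a, rfl⟩
        rw [hτmul]
        have : a * a = 1 := by
          apply Subtype.ext
          have := hp a a.2
          rw [pow_two] at this
          exact this
        rw [this]
        simp [τ]
        rfl) (by
        rintro _ ⟨a, rfl⟩ x y
        have hmem := (Cfsg.Agent.Lib.Classical.SympForm.mem_symplecticGroup_iff _).1 ((a : ↥(S : Subgroup ↥(Matrix.symplecticGroup (Fin n) F))) : ↥(Matrix.symplecticGroup (Fin n) F)).2 x y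
        simpa [τ] using hmem) (by
        rintro _ ⟨a, rfl⟩ _ ⟨b, rfl⟩
        rw [hτmul, hτmul]
        congr 1
        have := hc.is_comm.comm a b
        exact this)
    rw [← Nat.card_range_of_injective hτ]
    exact hle

end Cfsg.Agent.S2250
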