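import Cfsg.Statements.S2271
import Cfsg.Agent.Lib.PermFix.Five

set_option autoImplicit false
open Cfsg

namespace Cfsg.Agent.S2271

open Equiv Equiv.Perm Finset
open Cfsg.Agent.Lib.PermFix.Five

section avg
variable {α : Type*} [Fintype α] [DecidableEq α]

/-- The number of even permutations mapping `x, y` to `u, v`. -/
def kap (x y u v : α) : ℕ :=
  (univ.filter (fun h : alternatingGroup α => (h : Perm α) x = u ∧ (h : Perm α) y = v)).card

lemma two_trans (hn : 4 ≤ Fintype.card α) {x y u v : α} (hxy : x ≠ y) (huv : u ≠ v) :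
    ∃ g : alternatingGroup α, (g : Perm α) x = u ∧ (g : Perm α) y = v := by
  have h1 := alternatingGroup.isMultiplyPretransitive α
  have h2 : MulAction.IsMultiplyPretransitive (alternatingGroup α) α 2 :=
    MulAction.isMultiplyPretransitive_of_le (n := Nat.card α - 2)
      (by rw [Nat.card_eq_fintype_card]; omega) (by omega)
  rw [MulAction.is_two_pretransitive_iff] at h2
  exact h2 hxy huv

lemma kap_eq (hn : 4 ≤ Fintype.card α) {x y u v x' y' u' v' : α} (hxy : x ≠ y) (huv : u ≠ v)
    (hxy' : x' ≠ y') (huv' : u' ≠ v') : kap x y u v = kap x' y' u' v' := by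
  obtain ⟨s, hs1, hs2⟩ := two_trans hn hxy' hxy
  obtain ⟨t, ht1, ht2⟩ := two_trans hn huv huv'
  unfold kap
  refine Finset.card_bij' (fun h _ => t * h * s) (fun h _ => t⁻¹ * h * s⁻¹) ?_ ?_ ?_ ?_
  · intro h hh
    obtain ⟨-, h1, h2⟩ := mem_filter.1 hh
    refine mem_filter.2 ⟨mem_univ _, ?_, ?_⟩
    · change (t : Perm α) ((h : Perm α) ((s : Perm α) x')) = u'
      rw [hs1, h1, ht1]
    · change (t : Perm α) ((h : Perm α) ((s : Perm α) y')) = v'
      rw [hs2, h2, ht2]
  · intro h hh
    obtain ⟨-, h1, h2⟩ := mem_filter.1 hh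
    have hs1' : ((s⁻¹ : alternatingGroup α) : Perm α) x = x' := by
      change (s : Perm α)⁻¹ x = x'
      rw [Perm.inv_eq_iff_eq, hs1]
    have hs2' : ((s⁻¹ : alternatingGroup α) : Perm α) y = y' := by
      change (s : Perm α)⁻¹ y = y'
      rw [Perm.inv_eq_iff_eq, hs2]
    refine mem_filter.2 ⟨mem_univ _, ?_, ?_⟩
    · change ((t⁻¹ : alternatingGroup α) : Perm α) ((h : Perm α) (((s⁻¹ : alternatingGroup α) : Perm α) x)) = u
      rw [hs1', h1]
      change (t : Perm α)⁻¹ u' = u
      rw [Perm.inv_eq_iff_eq, ht1]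
    · change ((t⁻¹ : alternatingGroup α) : Perm α) ((h : Perm α) (((s⁻¹ : alternatingGroup α) : Perm α) y)) = v
      rw [hs2', h2]
      change (t : Perm α)⁻¹ v' = v
      rw [Perm.inv_eq_iff_eq, ht2]
  · intro h _
    group
  · intro h _
    group

/-- The order of the alternating group via `kap`. -/
lemma card_eq_kap (hn : 4 ≤ Fintype.card α) {x y u v : α} (hxy : x ≠ y) (huv : u ≠ v) :
    Fintype.card (alternatingGroup α) =
      (Fintype.card α * Fintype.card α - Fintype.card α) * kap x y u v := by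
  have h1 : (univ : Finset (alternatingGroup α)).card =
      ∑ q ∈ (univ : Finset α).offDiag, (univ.filter (fun h : alternatingGroup α =>
        ((h : Perm α) x, (h : Perm α) y) = q)).card := by
    apply Finset.card_eq_sum_card_fiberwise
    intro h _
    simp only [coe_offDiag, Set.mem_offDiag, mem_coe, mem_univ, true_and]
    intro h2
    exact hxy (h.1.injective h2)
  have h2 : ∀ q ∈ (univ : Finset α).offDiag, (univ.filter (fun h : alternatingGroup α =>
        ((h : Perm α) x, (h : Perm α) y) = q)).card = kap x y u v := by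
    rintro ⟨u', v'⟩ hq
    have hq' : u' ≠ v' := by
      simpa using hq
    rw [kap_eq hn hxy huv hxy hq']
    unfold kap
    congr 1
    ext h
    simp
  rw [Finset.sum_congr rfl h2, Finset.sum_const, Finset.offDiag_card, smul_eq_mul,
    Finset.card_univ] at h1
  exact h1

/-- The number of `h` with `b (h x) = h y`. -/
lemma count_N (hn : 4 ≤ Fintype.card α) (b : Perm α) {x y u v : α} (hxy : x ≠ y) (huv : u ≠ v) :
    (univ.filter (fun h : alternatingGroup α => b ((h : Perm α) x) = (h : Perm α) y)).card =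
      (univ.filter (fun z => b z ≠ z)).card * kap x y u v := by
  set S := univ.filter (fun h : alternatingGroup α => b ((h : Perm α) x) = (h : Perm α) y) with hS
  have h1 : S.card = ∑ z ∈ univ.filter (fun z => b z ≠ z),
      (S.filter (fun h : alternatingGroup α => (h : Perm α) x = z)).card := by
    apply Finset.card_eq_sum_card_fiberwise
    intro h hh
    have hh' := (mem_filter.1 hh).2
    refine mem_filter.2 ⟨mem_univ _, ?_⟩
    rw [hh']
    intro h2
    exact hxy (h.1.injective h2.symm)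
  have h2 : ∀ z ∈ univ.filter (fun z => b z ≠ z),
      (S.filter (fun h : alternatingGroup α => (h : Perm α) x = z)).card = kap x y u v := by
    intro z hz
    have hz' := (mem_filter.1 hz).2
    rw [kap_eq hn hxy huv hxy (Ne.symm hz')]
    unfold kap
    congr 1
    ext h
    simp only [hS, mem_filter, mem_univ, true_and]
    constructor
    · rintro ⟨h3, h4⟩
      refine ⟨h4, ?_⟩
      rw [← h3, h4]
    · rintro ⟨h3, h4⟩
      refine ⟨?_, h3⟩
      rw [h3, h4]
  rw [h1, Finset.sum_congr rfl h2, Finset.sum_const, smul_eq_mul]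

/-- The sum over the alternating group. -/
lemma sum_fx (hn : 4 ≤ Fintype.card α) (a b : Perm α) (ha : ∀ x, a x ≠ x) {u v : α} (huv : u ≠ v)
    {x₀ y₀ : α} (hxy₀ : x₀ ≠ y₀) :
    ∑ g : alternatingGroup α, fx (a * ((g : Perm α) * b * (g : Perm α)⁻¹)) =
      Fintype.card α * ((univ.filter (fun z => b z ≠ z)).card * kap x₀ y₀ u v) := by
  have h1 : ∀ g : alternatingGroup α, fx (a * ((g : Perm α) * b * (g : Perm α)⁻¹)) =
      ∑ x : α, if a (((g : Perm α) * b * (g : Perm α)⁻¹) x) = x then 1 else 0 := by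
    intro g
    unfold fx
    rw [Finset.card_filter]
    rfl
  simp_rw [h1]
  rw [Finset.sum_comm]
  have h2 : ∀ x : α, (∑ g : alternatingGroup α,
      if a (((g : Perm α) * b * (g : Perm α)⁻¹) x) = x then 1 else 0) =
      (univ.filter (fun z => b z ≠ z)).card * kap x₀ y₀ u v := by
    intro x
    have hxne : x ≠ a⁻¹ x := by
      intro h
      apply ha x
      conv_lhs => rw [h]
      simp
    rw [← Finset.card_filter, kap_eq hn hxy₀ huv hxne huv, ← count_N hn b hxne huv]
    refine Finset.card_bij' (fun g _ => g⁻¹) (fun g _ => g⁻¹) ?_ ?_ ?_ ?_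
    · intro g hg
      rw [mem_filter] at hg ⊢
      refine ⟨mem_univ _, ?_⟩
      have hg' := hg.2
      change b ((g : Perm α)⁻¹ x) = (g : Perm α)⁻¹ (a⁻¹ x)
      rw [Perm.eq_inv_iff_eq]
      rw [Perm.eq_inv_iff_eq]
      exact hg'
    · intro g hg
      rw [mem_filter] at hg ⊢
      refine ⟨mem_univ _, ?_⟩
      have hg' := hg.2
      change a ((g : Perm α)⁻¹ (b ((g : Perm α) x))) = x
      rw [hg']
      simp
    · intro g _
      simp
    · intro g _
      simp
  simp_rw [h2]
  simp

/-- Constancy forces the number of moved points. -/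
lemma moved_of_const (hn : 4 ≤ Fintype.card α) (a b : Perm α) (ha : ∀ x, a x ≠ x) (k : ℕ)
    (hk : ∀ g : alternatingGroup α, fx (a * ((g : Perm α) * b * (g : Perm α)⁻¹)) = k) :
    (univ.filter (fun z => b z ≠ z)).card = (Fintype.card α - 1) * k := by
  obtain ⟨x₀, y₀, hxy⟩ : ∃ x₀ y₀ : α, x₀ ≠ y₀ := by
    have : Nontrivial α := Fintype.one_lt_card_iff_nontrivial.1 (by omega)
    exact exists_pair_ne α
  have h1 := sum_fx hn a b ha hxy hxy
  simp_rw [hk] at h1
  rw [Finset.sum_const, smul_eq_mul, Finset.card_univ, card_eq_kap hn hxy hxy] at h1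
  have hpos : 0 < Fintype.card (alternatingGroup α) := Fintype.card_pos
  rw [card_eq_kap hn hxy hxy] at hpos
  have hkap : 0 < kap x₀ y₀ x₀ y₀ := Nat.pos_of_mul_pos_left hpos
  set n := Fintype.card α with hn'
  set κ := kap x₀ y₀ x₀ y₀ with hκ
  set m := (univ.filter (fun z => b z ≠ z)).card with hm
  have hnn : n * n - n = n * (n - 1) := (Nat.mul_sub_one n n).symm
  rw [hnn] at h1
  have e : (n * κ) * ((n - 1) * k) = (n * κ) * m := by
    calc (n * κ) * ((n - 1) * k) = n * (n - 1) * κ * k := by ring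
      _ = n * (m * κ) := h1
      _ = (n * κ) * m := by ring
  exact (Nat.eq_of_mul_eq_mul_left (Nat.mul_pos (by omega) hkap) e).symm

/-- Two disjoint arrows. -/
lemma exists_arrows (p : Perm α) (h : 4 ≤ (univ.filter (fun z => p z ≠ z)).card) :
    ∃ u w : α, u ≠ p u ∧ u ≠ w ∧ u ≠ p w ∧ p u ≠ w ∧ p u ≠ p w ∧ w ≠ p w := by
  have hne : (univ.filter (fun z => p z ≠ z)).Nonempty := by
    rw [← Finset.card_pos]; omega
  obtain ⟨u, hu⟩ := hne
  have hu' : p u ≠ u := (mem_filter.1 hu).2
  have hcard : ({u, p u, p⁻¹ u} : Finset α).card ≤ 3 := Finset.card_le_three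
  have : ∃ w ∈ univ.filter (fun z => p z ≠ z), w ∉ ({u, p u, p⁻¹ u} : Finset α) := by
    by_contra hcon
    push Not at hcon
    have := Finset.card_le_card (show univ.filter (fun z => p z ≠ z) ⊆ ({u, p u, p⁻¹ u} : Finset α) from hcon)
    omega
  obtain ⟨w, hw, hw2⟩ := this
  have hw' : p w ≠ w := (mem_filter.1 hw).2
  simp only [mem_insert, mem_singleton, not_or] at hw2
  obtain ⟨h1, h2, h3⟩ := hw2
  refine ⟨u, w, hu'.symm, Ne.symm h1, ?_, Ne.symm h2, ?_, hw'.symm⟩
  · intro h4
    apply h3
    rw [h4]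
    simp
  · intro h4
    exact h1 (p.injective h4).symm

/-- Four-fold transitivity. -/
lemma four_trans (hn : 6 ≤ Fintype.card α) {x₁ x₂ x₃ x₄ y₁ y₂ y₃ y₄ : α}
    (hx : x₁ ≠ x₂ ∧ x₁ ≠ x₃ ∧ x₁ ≠ x₄ ∧ x₂ ≠ x₃ ∧ x₂ ≠ x₄ ∧ x₃ ≠ x₄)
    (hy : y₁ ≠ y₂ ∧ y₁ ≠ y₃ ∧ y₁ ≠ y₄ ∧ y₂ ≠ y₃ ∧ y₂ ≠ y₄ ∧ y₃ ≠ y₄) :
    ∃ g : alternatingGroup α, (g : Perm α) x₁ = y₁ ∧ (g : Perm α) x₂ = y₂ ∧
      (g : Perm α) x₃ = y₃ ∧ (g : Perm α) x₄ = y₄ := by
  have h1 := alternatingGroup.isMultiplyPretransitive α
  have h2 : MulAction.IsMultiplyPretransitive (alternatingGroup α) α 4 :=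
    MulAction.isMultiplyPretransitive_of_le (n := Nat.card α - 2)
      (by rw [Nat.card_eq_fintype_card]; omega) (by omega)
  obtain ⟨a1, a2, a3, a4, a5, a6⟩ := hx
  obtain ⟨b1, b2, b3, b4, b5, b6⟩ := hy
  let X : Fin 4 ↪ α := ⟨![x₁, x₂, x₃, x₄], by
    intro i j hij
    fin_cases i <;> fin_cases j <;> first | rfl | (exfalso; simp_all)⟩
  let Y : Fin 4 ↪ α := ⟨![y₁, y₂, y₃, y₄], by
    intro i j hij
    fin_cases i <;> fin_cases j <;> first | rfl | (exfalso; simp_all)⟩
  obtain ⟨g, hg⟩ := h2.exists_smul_eq X Y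
  have e : ∀ i, (g : Perm α) (X i) = Y i := fun i => congrArg (fun f : Fin 4 ↪ α => f i) hg
  exact ⟨g, e 0, e 1, e 2, e 3⟩

/-- The case of a fixed point free permutation. -/
theorem NC_of_derangement (hn : 6 ≤ Fintype.card α) {a b : Perm α} (ha : ∀ x, a x ≠ x) (hb : b ≠ 1) :
    NC a b := by
  by_contra hcon
  have hconst : ∀ g : alternatingGroup α, fx (a * ((g : Perm α) * b * (g : Perm α)⁻¹)) =
      fx (a * ((1 : Perm α) * b * (1 : Perm α)⁻¹)) := by
    intro g
    by_contra h
    exact hcon ⟨g, 1, g.2, map_one _, h⟩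
  have hm := moved_of_const (by omega) a b ha _ hconst
  set k := fx (a * ((1 : Perm α) * b * (1 : Perm α)⁻¹)) with hk
  set n := Fintype.card α with hn'
  -- the number of moved points is at least two
  have hm2 : (univ.filter (fun z => b z ≠ z)).Nonempty := by
    by_contra h
    rw [Finset.not_nonempty_iff_eq_empty, Finset.filter_eq_empty_iff] at h
    apply hb
    ext x
    simpa using h (mem_univ x)
  have hm3 : (univ.filter (fun z => b z ≠ z)).card ≤ n := Finset.card_le_univ _
  have hk1 : k = 1 := by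
    have h0 : k ≠ 0 := by
      intro h
      rw [h, mul_zero] at hm
      rw [Finset.card_eq_zero] at hm
      rw [hm] at hm2
      simp at hm2
    have h2 : ¬ 2 ≤ k := by
      intro h
      have : (n - 1) * 2 ≤ (n - 1) * k := Nat.mul_le_mul_left _ h
      rw [← hm] at this
      omega
    omega
  have hmn : (univ.filter (fun z => b z ≠ z)).card = n - 1 := by
    rw [hm, hk1, mul_one]
  -- arrows
  obtain ⟨u, w, h1, h2, h3, h4, h5, h6⟩ := exists_arrows b (by omega)
  have hainv : (univ.filter (fun z => a⁻¹ z ≠ z)) = univ := by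
    ext x
    simp only [mem_filter, mem_univ, true_and, iff_true]
    intro h
    apply ha x
    conv_lhs => rw [← h]
    simp
  obtain ⟨x, y, h1', h2', h3', h4', h5', h6'⟩ := exists_arrows a⁻¹ (by
    rw [hainv, Finset.card_univ]
    omega)
  obtain ⟨g, e1, e2, e3, e4⟩ := four_trans hn ⟨h1, h2, h3, h4, h5, h6⟩ ⟨h1', h2', h3', h4', h5', h6'⟩
  have hfix : ({x, y} : Finset α) ⊆ univ.filter
      (fun z => (a * ((g : Perm α) * b * (g : Perm α)⁻¹)) z = z) := by
    intro z hz
    refine mem_filter.2 ⟨mem_univ _, ?_⟩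
    simp only [mem_insert, mem_singleton] at hz
    rcases hz with rfl | rfl
    · have : (g : Perm α)⁻¹ z = u := by
        rw [Perm.inv_eq_iff_eq, e1]
      simp only [Perm.mul_apply]
      rw [this, e2]
      simp
    · have : (g : Perm α)⁻¹ z = w := by
        rw [Perm.inv_eq_iff_eq, e3]
      simp only [Perm.mul_apply]
      rw [this, e4]
      simp
  have hcard := Finset.card_le_card hfix
  have hxy : x ≠ y := h2'
  rw [Finset.card_pair hxy] at hcard
  have := hconst g
  unfold fx at this
  rw [this, hk1] at hcard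
  omega

/-- The reduction to a smaller set. -/
lemma fx_sub (p : α) {P : Perm α} (hP : P p = p) (P' : Perm {x // x ≠ p})
    (h : ∀ x : {x // x ≠ p}, ((P' x : {x // x ≠ p}) : α) = P x) : fx P = fx P' + 1 := by
  unfold fx
  have h1 : (univ.filter (fun x => P x = x)) =
      insert p ((univ.filter (fun x : {x // x ≠ p} => P' x = x)).map (Function.Embedding.subtype _)) := by
    ext x
    simp only [mem_filter, mem_univ, true_and, mem_insert, mem_map, Function.Embedding.coe_subtype]
    constructor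
    · intro hx
      by_cases hxp : x = p
      · exact Or.inl hxp
      · right
        refine ⟨⟨x, hxp⟩, ?_, rfl⟩
        apply Subtype.ext
        rw [h]
        exact hx
    · rintro (rfl | ⟨y, hy, rfl⟩)
      · exact hP
      · rw [← h, hy]
  rw [h1, Finset.card_insert_of_notMem, Finset.card_map]
  simp only [mem_map, Function.Embedding.coe_subtype, not_exists, not_and]
  intro x _ hx
  exact x.2 hx

lemma res_ne {p : α} {f : Perm α} (hf : f p = p) (x : α) : f x ≠ p ↔ x ≠ p := by
  rw [ne_eq, ne_eq, not_iff_not]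
  constructor
  · intro h
    apply f.injective
    rw [h, hf]
  · rintro rfl
    exact hf

lemma NC_of_fixed (p : α) {a b : Perm α} (ha : a p = p) (hb : b p = p)
    (h : NC (a.subtypePerm (p := fun x => x ≠ p) (res_ne ha))
      (b.subtypePerm (p := fun x => x ≠ p) (res_ne hb))) : NC a b := by
  obtain ⟨g₁, g₂, h1, h2, h3⟩ := h
  refine ⟨ofSubtype g₁, ofSubtype g₂, by rw [sign_ofSubtype, h1], by rw [sign_ofSubtype, h2], ?_⟩
  have key : ∀ g : Perm {x // x ≠ p}, fx (a * (ofSubtype g * b * (ofSubtype g)⁻¹)) =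
      fx (a.subtypePerm (p := fun x => x ≠ p) (res_ne ha) *
        (g * b.subtypePerm (p := fun x => x ≠ p) (res_ne hb) * g⁻¹)) + 1 := by
    intro g
    have hpp : (ofSubtype g) p = p := ofSubtype_apply_of_not_mem g (by simp)
    have hpinv : (ofSubtype g)⁻¹ p = p := by
      rw [Perm.inv_eq_iff_eq, hpp]
    apply fx_sub p
    · simp only [Perm.mul_apply]
      rw [hpinv, hb, hpp, ha]
    · intro x
      rw [← map_inv]
      simp only [Perm.mul_apply]
      have e1 : (ofSubtype g⁻¹) (x : α) = ((g⁻¹ x : {x // x ≠ p}) : α) := ofSubtype_apply_coe _ _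
      have e2 : b ((g⁻¹ x : {x // x ≠ p}) : α) =
          ((b.subtypePerm (p := fun x => x ≠ p) (res_ne hb) (g⁻¹ x) : {x // x ≠ p}) : α) := rfl
      have e3 : (ofSubtype g) ((b.subtypePerm (p := fun x => x ≠ p) (res_ne hb) (g⁻¹ x) : {x // x ≠ p}) : α) =
          ((g (b.subtypePerm (p := fun x => x ≠ p) (res_ne hb) (g⁻¹ x)) : {x // x ≠ p}) : α) :=
        ofSubtype_apply_coe _ _
      rw [e1, e2, e3]
      rfl
  rw [key, key]
  omega

end avg

/-- The main induction. -/
theorem main (n : ℕ) (hn : 5 ≤ n) : ∀ (α : Type) [Fintype α] [DecidableEq α],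
    Fintype.card α = n → ∀ a b : Perm α, a ≠ 1 → b ≠ 1 → NC a b := by
  induction n, hn using Nat.le_induction with
  | base =>
    intro α _ _ hc a b ha hb
    let e : α ≃ Fin 5 := Fintype.equivFinOfCardEq hc
    apply NC_congr e
    apply NC_five
    · intro h
      apply ha
      ext x
      have h2 := congrArg (fun f : Perm (Fin 5) => f (e x)) h
      simpa [Equiv.permCongr_apply] using h2
    · intro h
      apply hb
      ext x
      have h2 := congrArg (fun f : Perm (Fin 5) => f (e x)) h
      simpa [Equiv.permCongr_apply] using h2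
  | succ n hn ih =>
    intro α _ _ hc a b ha hb
    by_cases h1 : ∃ p, a p = p
    · by_cases h2 : ∃ r, b r = r
      · obtain ⟨p, hp⟩ := h1
        obtain ⟨r, hr⟩ := h2
        -- conjugate so that `r` becomes `p`
        have hcard : 3 ≤ Nat.card α := by
          rw [Nat.card_eq_fintype_card]; omega
        have htr := alternatingGroup.isPretransitive_of_three_le_card (α := α) hcard
        obtain ⟨s, hs⟩ := MulAction.exists_smul_eq (alternatingGroup α) r p
        have hs' : (s : Perm α) r = p := hs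
        apply NC_of_conj_right (s := (s : Perm α)) s.2
        have hbp : ((s : Perm α) * b * (s : Perm α)⁻¹) p = p := by
          simp only [Perm.mul_apply]
          have : (s : Perm α)⁻¹ p = r := by
            rw [Perm.inv_eq_iff_eq, hs']
          rw [this, hr, hs']
        apply NC_of_fixed p hp hbp
        apply ih {x // x ≠ p}
        · rw [Fintype.card_subtype_compl, hc]
          simp
        · intro h
          apply ha
          ext x
          by_cases hx : x = p
          · rw [hx, hp]; rfl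
          · have := congrArg (fun f : Perm {x // x ≠ p} => ((f ⟨x, hx⟩ : {x // x ≠ p}) : α)) h
            simpa using this
        · intro h
          apply hb
          have h3 : (s : Perm α) * b * (s : Perm α)⁻¹ = 1 := by
            ext x
            by_cases hx : x = p
            · rw [hx, hbp]; rfl
            · have := congrArg (fun f : Perm {x // x ≠ p} => ((f ⟨x, hx⟩ : {x // x ≠ p}) : α)) h
              simpa using this
          have h4 : b = (s : Perm α)⁻¹ * ((s : Perm α) * b * (s : Perm α)⁻¹) * (s : Perm α) := by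
            group
          rw [h4, h3]
          group
      · push Not at h2
        exact NC_symm (NC_of_derangement (by omega) h2 ha)
    · push Not at h1
      exact NC_of_derangement (by omega) h1 hb

theorem result (n : ℕ) (hn : 5 ≤ n) (a b : Equiv.Perm (Fin n)) (ha : a ≠ 1) (hb : b ≠ 1) :
    ∃ g₁ h₁ g₂ h₂ : Equiv.Perm (Fin n), g₁ ∈ alternatingGroup (Fin n) ∧ h₁ ∈ alternatingGroup (Fin n) ∧ g₂ ∈ alternatingGroup (Fin n) ∧ h₂ ∈ alternatingGroup (Fin n) ∧
      Nat.card (Function.fixedPoints ⇑(g₁ * a * g₁⁻¹ * (h₁ * b * h₁⁻¹))) ≠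
        Nat.card (Function.fixedPoints ⇑(g₂ * a * g₂⁻¹ * (h₂ * b * h₂⁻¹))) := by

  obtain ⟨g₁, g₂, h1, h2, h3⟩ := main n hn (Fin n) (by simp) a b ha hb
  refine ⟨1, g₁, 1, g₂, one_mem _, Equiv.Perm.mem_alternatingGroup.2 h1, one_mem _,
    Equiv.Perm.mem_alternatingGroup.2 h2, ?_⟩
  rw [card_fixed, card_fixed]
  simpa using h3

end Cfsg.Agent.S2271
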