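import Cfsg.Statements.S2276
import Cfsg.Agent.Lib.AltPElt.Main

set_option autoImplicit false
open Cfsg

namespace Cfsg.Agent.S2276

/-- Let n ≥ 5, p ≥ 3 a prime, and u, w non-identity elements of p-power order in the alternating group A_n. Then there is g ∈ A_n such that u·(g w g⁻¹) does not have p-power order and ⟨u, g w g⁻¹⟩ is not solvable. -/
theorem result (n : ℕ) (hn : 5 ≤ n) (p : ℕ) (hp : p.Prime) (hp3 : 3 ≤ p) (u w : alternatingGroup (Fin n)) (hu : u ≠ 1) (hw : w ≠ 1)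
    (hu' : ∃ k : ℕ, orderOf u = p ^ k) (hw' : ∃ k : ℕ, orderOf w = p ^ k) :
    ∃ g : alternatingGroup (Fin n), (¬ ∃ k : ℕ, orderOf (u * (g * w * g⁻¹)) = p ^ k) ∧
      ¬ Group.IsSolvable ↥(Subgroup.closure ({u, g * w * g⁻¹} : Set (alternatingGroup (Fin n)))) := by
  have hn' : 5 ≤ Fintype.card (Fin n) := by simpa using hn
  have hu1 : (u : Equiv.Perm (Fin n)) ≠ 1 := fun h => hu (Subtype.ext h)
  have hw1 : (w : Equiv.Perm (Fin n)) ≠ 1 := fun h => hw (Subtype.ext h)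
  have hu2 : ∃ k, orderOf (u : Equiv.Perm (Fin n)) = p ^ k := by
    obtain ⟨k, hk⟩ := hu'
    exact ⟨k, by rw [Subgroup.orderOf_coe, hk]⟩
  have hw2 : ∃ k, orderOf (w : Equiv.Perm (Fin n)) = p ^ k := by
    obtain ⟨k, hk⟩ := hw'
    exact ⟨k, by rw [Subgroup.orderOf_coe, hk]⟩
  obtain ⟨g, hg, hb⟩ := Cfsg.Agent.Lib.AltPElt.Main.final_perm hp hp3 (u : Equiv.Perm (Fin n)) w hu1 hw1 hn' hu2 hw2
  have hgA : g ∈ alternatingGroup (Fin n) := Equiv.Perm.mem_alternatingGroup.2 hg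
  refine ⟨⟨g, hgA⟩, ?_, ?_⟩
  · rintro ⟨k, hk⟩
    apply hb.2
    refine ⟨k, ?_⟩
    rw [← hk, ← Subgroup.orderOf_coe]
    rfl
  · intro hs
    apply hb.1
    let G' : alternatingGroup (Fin n) := ⟨g, hgA⟩ * w * ⟨g, hgA⟩⁻¹
    have e : Subgroup.closure ({(u : Equiv.Perm (Fin n)), g * w * g⁻¹} : Set (Equiv.Perm (Fin n)))
        = (Subgroup.closure ({u, G'} : Set (alternatingGroup (Fin n)))).map (alternatingGroup (Fin n)).subtype := by
      rw [MonoidHom.map_closure, Set.image_pair]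
      rfl
    rw [e]
    exact Group.isSolvable_of_surjective (f := (alternatingGroup (Fin n)).subtype.subgroupMap _)
      ((alternatingGroup (Fin n)).subtype.subgroupMap_surjective _)

end Cfsg.Agent.S2276
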