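import Cfsg.Statements.S2277
import Cfsg.Agent.Lib.PCompl.Main

set_option autoImplicit false
open Cfsg

namespace Cfsg.Agent.S2277

open Cfsg.Agent.Lib.PCompl.Main

lemma conj_into_sylow {G : Type*} [Group G] [Finite G] {p : ℕ} [Fact p.Prime] (P : Sylow p G)
    (R' : Subgroup G) (hinv : ∀ g ∈ (P : Subgroup G), ∀ r ∈ R', g * r * g⁻¹ ∈ R')
    (H : Subgroup G) (hH : IsPGroup p H)
    (hT : H ≤ { carrier := {t | ∃ r ∈ R', ∃ g ∈ (P : Subgroup G), r * g = t}
                mul_mem' := by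
                  rintro _ _ ⟨r, hr, g, hg, rfl⟩ ⟨r', hr', g', hg', rfl⟩
                  refine ⟨r * (g * r' * g⁻¹), R'.mul_mem hr (hinv g hg r' hr'), g * g',
                    Subgroup.mul_mem _ hg hg', ?_⟩
                  group
                one_mem' := ⟨1, R'.one_mem, 1, Subgroup.one_mem _, by simp⟩
                inv_mem' := by
                  rintro _ ⟨r, hr, g, hg, rfl⟩
                  refine ⟨g⁻¹ * r⁻¹ * g⁻¹⁻¹, hinv _ (Subgroup.inv_mem _ hg) _ (R'.inv_mem hr), g⁻¹,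
                    Subgroup.inv_mem _ hg, ?_⟩
                  group }) :
    ∃ y ∈ R', ∀ h ∈ H, y⁻¹ * h * y ∈ (P : Subgroup G) := by
  set T : Subgroup G := { carrier := {t | ∃ r ∈ R', ∃ g ∈ (P : Subgroup G), r * g = t}
                          mul_mem' := _
                          one_mem' := _
                          inv_mem' := _ } with hTdef
  have hPT : (P : Subgroup G) ≤ T := fun g hg => ⟨1, R'.one_mem, g, hg, by simp⟩
  have hpg : IsPGroup p (H.subgroupOf T) := hH.comap_of_injective T.subtype T.subtype_injective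
  obtain ⟨Q, hQ⟩ := hpg.exists_le_sylow
  obtain ⟨τ, hτ⟩ := MulAction.exists_smul_eq T (P.subtype hPT) Q
  obtain ⟨r, hr, g, hg, hrg⟩ := τ.2
  refine ⟨r, hr, ?_⟩
  intro h hh
  have h1 : (⟨h, hT hh⟩ : T) ∈ (Q : Subgroup T) := hQ (by
    rw [Subgroup.mem_subgroupOf]
    exact hh)
  rw [← hτ, Sylow.smul_def, Sylow.pointwise_smul_def, Subgroup.mem_pointwise_smul_iff_inv_smul_mem] at h1
  have h2 : ((MulAut.conj τ)⁻¹ • (⟨h, hT hh⟩ : T)) ∈ ((P.subtype hPT : Sylow p T) : Subgroup T) := h1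
  rw [Sylow.coe_subtype, Subgroup.mem_subgroupOf] at h2
  have h3 : ((τ : G)⁻¹ * h * (τ : G)) ∈ (P : Subgroup G) := by
    simpa [MulAut.smul_def] using h2
  rw [← hrg] at h3
  have h4 : r⁻¹ * h * r = g * ((r * g)⁻¹ * h * (r * g)) * g⁻¹ := by group
  rw [h4]
  exact Subgroup.mul_mem _ (Subgroup.mul_mem _ hg h3) (Subgroup.inv_mem _ hg)


theorem result {G : Type*} [Group G] [Finite G] (p : ℕ) [Fact p.Prime] (hp3 : 3 ≤ p) (P : Sylow p G)
    (N : Subgroup G) [N.Normal] (hN : (Nat.card N).Coprime p) (hNP : N ⊔ (P : Subgroup G) = ⊤)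
    (C D : Set G) (hC : Subgroup.closure C = (P : Subgroup G)) (hD : Subgroup.closure D = (P : Subgroup G))
    (h : ∀ x ∈ N, ∀ c ∈ C, ∀ d ∈ D, IsPGroup p ↥(Subgroup.closure ({x * c * x⁻¹, d} : Set G))) :
    ⁅(P : Subgroup G), N⁆ = ⊥ := by

  have hNorm : ∀ n ∈ N, ∀ g : G, g * n * g⁻¹ ∈ N := by
    intro n hn g
    have hN' : N.Normal := inferInstance
    exact hN'.conj_mem n hn g
  classical
  -- trivial intersection
  have hdisj : ∀ k : G, k ∈ N → k ∈ (P : Subgroup G) → k = 1 := by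
    intro k hkN hkP
    obtain ⟨e, he⟩ := P.isPGroup' ⟨k, hkP⟩
    have h1 : k ^ (p ^ e) = 1 := by simpa using congrArg Subtype.val he
    have h2 : orderOf k ∣ p ^ e := orderOf_dvd_of_pow_eq_one h1
    have h3 : orderOf k ∣ Nat.card N := by
      have := orderOf_dvd_natCard (⟨k, hkN⟩ : N)
      rwa [Subgroup.orderOf_mk] at this
    have h4 := Nat.eq_one_of_dvd_coprimes (Nat.Coprime.pow_right e hN) h3 h2
    exact orderOf_eq_one_iff.1 h4
  let Q := ↥(P : Subgroup G)
  letI act : MulDistribMulAction Q N :=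
    MulDistribMulAction.compHom N ((MulAut.conjNormal (H := N)).comp (P : Subgroup G).subtype)
  have hact : ∀ (g : Q) (n : N), ((g • n : N) : G) = (g : G) * n * (g : G)⁻¹ := by
    intro g n
    exact MulAut.conjNormal_apply _ _
  have hCle : C ⊆ (P : Subgroup G) := by
    rw [← hC]; exact Subgroup.subset_closure
  have hDle : D ⊆ (P : Subgroup G) := by
    rw [← hD]; exact Subgroup.subset_closure
  have hclo : ∀ S : Set G, Subgroup.closure S = (P : Subgroup G) →
      Subgroup.closure ((↑) ⁻¹' S : Set Q) = ⊤ := by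
    intro S hS
    apply Subgroup.map_injective (P : Subgroup G).subtype_injective
    rw [MonoidHom.map_closure, ← MonoidHom.range_eq_map, Subgroup.range_subtype]
    have hS2 : S ⊆ (P : Subgroup G) := by rw [← hS]; exact Subgroup.subset_closure
    have : (P : Subgroup G).subtype '' ((↑) ⁻¹' S : Set Q) = S := by
      ext z
      constructor
      · rintro ⟨w, hw, rfl⟩
        exact hw
      · intro hz
        exact ⟨⟨z, hS2 hz⟩, hz, rfl⟩
    rw [this, hS]
  have hHer : Her ((↑) ⁻¹' C : Set Q) ((↑) ⁻¹' D : Set Q) N := by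
    intro R hR x hx c hc d hd
    let R' : Subgroup G := R.map N.subtype
    have hinv : ∀ g ∈ (P : Subgroup G), ∀ r ∈ R', g * r * g⁻¹ ∈ R' := by
      rintro g hg _ ⟨r, hr, rfl⟩
      exact ⟨(⟨g, hg⟩ : Q) • r, hR _ r hr, hact _ r⟩
    have hxR' : (x : G) ∈ R' := ⟨x, hx, rfl⟩
    obtain ⟨y, hy, hy2⟩ := conj_into_sylow P R' hinv (Subgroup.closure ({(x : G) * (c : G) * (x : G)⁻¹, (d : G)} : Set G))
      (h x x.2 c hc d hd) (by
        rw [Subgroup.closure_le]
        rintro z (rfl | hz)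
        · refine ⟨(x : G) * ((c : G) * (x : G)⁻¹ * (c : G)⁻¹), R'.mul_mem hxR' (hinv c c.2 _ (R'.inv_mem hxR')), c, c.2, ?_⟩
          group
        · rw [Set.mem_singleton_iff] at hz
          subst hz
          exact ⟨1, R'.one_mem, d, d.2, by simp⟩)
    obtain ⟨ŷ, hŷ, rfl⟩ := hy
    refine ⟨ŷ, hŷ, ?_, ?_⟩
    · apply Subtype.ext
      rw [hact]
      have h1 := hy2 (d : G) (Subgroup.subset_closure (by simp))
      have hk : (ŷ : G)⁻¹ * d * ŷ * (d : G)⁻¹ = 1 := by
        apply hdisj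
        · have : (ŷ : G)⁻¹ * ((d : G) * ŷ * (d : G)⁻¹) ∈ N :=
            N.mul_mem (N.inv_mem ŷ.2) (by simpa using hNorm (ŷ : G) ŷ.2 (d : G))
          simpa [mul_assoc] using this
        · exact (P : Subgroup G).mul_mem h1 ((P : Subgroup G).inv_mem d.2)
      have h2 : (ŷ : G)⁻¹ * (d * ŷ * (d : G)⁻¹) = 1 := by
        rw [← hk]; group
      have h3 := inv_mul_eq_one.1 h2
      exact h3.symm
    · apply Subtype.ext
      rw [hact]
      have h1 := hy2 ((x : G) * c * (x : G)⁻¹) (Subgroup.subset_closure (by simp))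
      set u : N := ŷ⁻¹ * x with hu
      have hu' : (u : G) = (ŷ : G)⁻¹ * x := rfl
      have h2 : (u : G) * c * (u : G)⁻¹ ∈ (P : Subgroup G) := by
        have : (u : G) * c * (u : G)⁻¹ = (ŷ : G)⁻¹ * ((x : G) * c * (x : G)⁻¹) * ŷ := by
          rw [hu']; group
        rw [this]
        exact h1
      have hk : (u : G) * c * (u : G)⁻¹ * (c : G)⁻¹ = 1 := by
        apply hdisj
        · have : (u : G) * ((c : G) * (u : G)⁻¹ * (c : G)⁻¹) ∈ N :=
            N.mul_mem u.2 (by simpa using hNorm (u : G)⁻¹ (N.inv_mem u.2) (c : G))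
          simpa [mul_assoc] using this
        · exact (P : Subgroup G).mul_mem h2 ((P : Subgroup G).inv_mem c.2)
      have h3 : (u : G) * c * (u : G)⁻¹ = c := mul_inv_eq_one.1 hk
      have h4 : (u : G) * c = c * u := mul_inv_eq_iff_eq_mul.1 h3
      change (c : G) * (u : G) * (c : G)⁻¹ = u
      rw [← h4]
      simp
  have hmain := main hp3 P.isPGroup' _ _ (hclo C hC) (hclo D hD) (Nat.card N) N rfl hN hHer
  rw [Subgroup.commutator_eq_bot_iff_le_centralizer]
  intro g hg
  rw [Subgroup.mem_centralizer_iff]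
  intro n hn
  have h1 := hmain ⟨g, hg⟩ ⟨n, hn⟩
  have h2 := congrArg Subtype.val h1
  rw [hact] at h2
  have h3 : g * n * g⁻¹ = n := h2
  exact (mul_inv_eq_iff_eq_mul.1 h3).symm

end Cfsg.Agent.S2277
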