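import Cfsg.Statements.S2468
import Cfsg.Agent.Lib.SLn.PrimeGraph

set_option autoImplicit false
open Cfsg

namespace Cfsg.Agent.S2468

/-- Adjacency of two odd primes in the prime graph of PSL(n,q): let F be a finite field of characteristic p with q elements, n ≥ 2 with PSL(n,F) simple, and let r ≠ s be odd primes different from p dividing the order of PSL(n,F). Let k and l be the multiplicative orders of q modulo r and modulo s, and suppose 2 ≤ k ≤ l. Then PSL(n,F) has NO element of order r·s if and only if k + l > n and k does not divide l. -/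
theorem result {F : Type*} [Field F] [Fintype F] (p : ℕ) [Fact p.Prime] [CharP F p] (n : ℕ) (hn : 2 ≤ n) (hsmall : n = 2 → 4 ≤ Fintype.card F)
    (r s : ℕ) (hr : r.Prime) (hs : s.Prime) (hr2 : r ≠ 2) (hs2 : s ≠ 2) (hrp : r ≠ p) (hsp : s ≠ p) (hrs : r ≠ s)
    (hrG : r ∣ Nat.card (Matrix.ProjectiveSpecialLinearGroup (Fin n) F)) (hsG : s ∣ Nat.card (Matrix.ProjectiveSpecialLinearGroup (Fin n) F))
    (k l : ℕ) (hk : k = orderOf ((Fintype.card F : ℕ) : ZMod r)) (hl : l = orderOf ((Fintype.card F : ℕ) : ZMod s))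
    (h2k : 2 ≤ k) (hkl : k ≤ l) :
    (r * s ∉ Set.range (orderOf : Matrix.ProjectiveSpecialLinearGroup (Fin n) F → ℕ)) ↔ (n < k + l ∧ ¬ k ∣ l) := by
  classical
  have hfact_r : Fact r.Prime := ⟨hr⟩
  have hfact_s : Fact s.Prime := ⟨hs⟩
  have hp : p.Prime := Fact.out
  have hn0 : n ≠ 0 := by omega
  have hqpos : 0 < Fintype.card F := Fintype.card_pos
  have hl2 : 2 ≤ l := h2k.trans hkl
  have hrq : Nat.Coprime r (Fintype.card F - 1) :=
    Lib.SLn.PrimeGraph.coprime_of_ord_ne_one (by omega)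
  have hsq : Nat.Coprime s (Fintype.card F - 1) :=
    Lib.SLn.PrimeGraph.coprime_of_ord_ne_one (by omega)
  have hrF : (r : F) ≠ 0 := by
    intro h
    exact hrp ((Nat.prime_dvd_prime_iff_eq hp hr).mp ((CharP.cast_eq_zero_iff F p r).mp h)).symm
  have hsF : (s : F) ≠ 0 := by
    intro h
    exact hsp ((Nat.prime_dvd_prime_iff_eq hp hs).mp ((CharP.cast_eq_zero_iff F p s).mp h)).symm
  have hrs' : Nat.Coprime r s := (Nat.coprime_primes hr hs).mpr hrs
  constructor
  · intro hno
    by_contra hcon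
    have hcase : k + l ≤ n ∨ k ∣ l := by
      by_contra h
      push Not at h
      exact hcon ⟨h.1, h.2⟩
    have : NeZero k := ⟨by omega⟩
    have : NeZero l := ⟨by omega⟩
    have hrk := Lib.SLn.PrimeGraph.dvd_pow_sub_one hqpos hk
    have hsl := Lib.SLn.PrimeGraph.dvd_pow_sub_one hqpos hl
    rcases hcase with h1 | h1
    · obtain ⟨g, hg⟩ := Lib.SLn.PrimeGraph.psl_two_tori (F := F) p h1 hr hs hrs hrk hsl hrq hsq
      exact hno ⟨g, hg⟩
    · -- `l ≤ n`
      have hln : l ≤ n := by
        obtain ⟨g, hg⟩ := exists_prime_orderOf_dvd_card' s hsG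
        obtain ⟨T, -, ⟨c, hc, hT⟩, hmin⟩ := Lib.SLn.PrimeGraph.exists_lift hn0 g
        rw [hg] at hT
        have h2 := Lib.SLn.PrimeGraph.ord_le_finrank (T := T) (r := s) hsF hc hT
          (fun c' hc' => by
            have h3 := hmin 1 c' (by rw [pow_one, hc'])
            rw [hg] at h3
            exact hs.one_lt.ne' (Nat.dvd_one.mp h3)) hsq
        rw [Module.finrank_fin_fun, ← hl] at h2
        exact h2
      have hrl : r ∣ Fintype.card F ^ l - 1 := by
        obtain ⟨t, rfl⟩ := h1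
        refine hrk.trans ?_
        rw [pow_mul]
        simpa using Nat.sub_dvd_pow_sub_pow (Fintype.card F ^ k) 1 t
      have hrsd : r * s ∣ Fintype.card F ^ l - 1 := hrs'.mul_dvd_of_dvd_of_dvd hrl hsl
      obtain ⟨g, hg⟩ := Lib.SLn.PrimeGraph.psl_one_torus (F := F) p hln
        (Nat.mul_ne_zero hr.ne_zero hs.ne_zero) hrsd (Nat.Coprime.mul_left hrq hsq)
      exact hno ⟨g, hg⟩
  · rintro ⟨hlt, hnd⟩ ⟨g, hg⟩
    obtain ⟨T, -, ⟨c, hc, hT⟩, hmin⟩ := Lib.SLn.PrimeGraph.exists_lift hn0 g
    rw [hg] at hT hmin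
    have h1 : ∀ c' : F, T ^ s ≠ algebraMap F _ c' := by
      intro c' hc'
      have h3 := hmin s c' hc'
      have h4 : r ∣ 1 := by
        have : r * s ∣ 1 * s := by simpa using h3
        exact Nat.dvd_of_mul_dvd_mul_right hs.pos this
      exact hr.one_lt.ne' (Nat.dvd_one.mp h4)
    have h2 : ∀ c' : F, T ^ r ≠ algebraMap F _ c' := by
      intro c' hc'
      have h3 := hmin r c' hc'
      have h4 : s ∣ 1 := by
        have : r * s ∣ r * 1 := by simpa using h3
        exact Nat.dvd_of_mul_dvd_mul_left hr.pos this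
      exact hs.one_lt.ne' (Nat.dvd_one.mp h4)
    rcases Lib.SLn.PrimeGraph.odd_odd_bound T hrF hsF hc hT h1 h2 hrq hsq with h3 | ⟨W, hW, h3, h4⟩
    · rw [Module.finrank_fin_fun, ← hk, ← hl] at h3
      omega
    · rw [← hk] at h3
      rw [← hl] at h4
      have h5 := Lib.SLn.PrimeGraph.finrank_pos_of_ne_bot hW
      have h6 : Module.finrank F W ≤ n := by
        have := Submodule.finrank_le W
        rwa [Module.finrank_fin_fun] at this
      obtain ⟨t, ht⟩ := h4
      have ht0 : t ≠ 0 := by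
        rintro rfl
        omega
      by_cases ht1 : t = 1
      · subst ht1
        rw [mul_one] at ht
        rw [ht] at h3
        exact hnd h3
      · have : 2 ≤ t := by omega
        have : l * 2 ≤ l * t := Nat.mul_le_mul_left l this
        omega

end Cfsg.Agent.S2468
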