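import Cfsg.Statements.S2469
import Cfsg.Agent.Lib.SpSpec.Graph

set_option autoImplicit false
open Cfsg

namespace Cfsg.Agent.S2469

open Polynomial Module
open Lib.SpSpec.Graph Lib.SpSpec.FormAlg Lib.SLn.PrimeGraph Lib.SpSpec.Recip

section aux

variable {F : Type*} [Field F] [Fintype F]

/-- the geometric sums of two different primes are coprime -/
lemma isCoprime_geom {r s : ℕ} (hr : r.Prime) (hs : s.Prime) (hrs : r ≠ s) (hrF : (r : F) ≠ 0) :
    IsCoprime (∑ i ∈ Finset.range r, (Polynomial.X : F[X]) ^ i)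
      (∑ i ∈ Finset.range s, (Polynomial.X : F[X]) ^ i) := by
  have h0 : (∑ i ∈ Finset.range r, (Polynomial.X : F[X]) ^ i) ≠ 0 := by
    intro h
    have h1 := mul_geom_sum (Polynomial.X : F[X]) r
    rw [h, mul_zero] at h1
    have h2 := X_pow_sub_C_ne_zero hr.pos (1 : F)
    rw [C_1] at h2
    exact h2 h1.symm
  apply isCoprime_of_irreducible_dvd (fun h => h0 h.1)
  intro z hz h1 h2
  haveI : Fact (Irreducible z) := ⟨hz⟩
  set w := AdjoinRoot.root z with hw
  have e1 : ∑ i ∈ Finset.range r, w ^ i = 0 := by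
    have := AdjoinRoot.mk_eq_zero.mpr h1
    rw [map_sum] at this
    simpa [map_pow, hw] using this
  have e2 : ∑ i ∈ Finset.range s, w ^ i = 0 := by
    have := AdjoinRoot.mk_eq_zero.mpr h2
    rw [map_sum] at this
    simpa [map_pow, hw] using this
  have e3 : w ^ r = 1 := by
    have := mul_geom_sum w r
    rw [e1, mul_zero] at this
    exact sub_eq_zero.mp this.symm
  have e4 : w ^ s = 1 := by
    have := mul_geom_sum w s
    rw [e2, mul_zero] at this
    exact sub_eq_zero.mp this.symm
  have e5 : w ^ Nat.gcd r s = 1 := pow_gcd_eq_one.mpr ⟨e3, e4⟩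
  rw [((Nat.coprime_primes hr hs).mpr hrs).gcd_eq_one, pow_one] at e5
  rw [e5] at e1
  simp only [one_pow, Finset.sum_const, Finset.card_range, nsmul_eq_mul, mul_one] at e1
  apply hrF
  apply (algebraMap F (AdjoinRoot z)).injective
  rw [map_natCast, e1, map_zero]

/-- a root of unity gives a divisor of the geometric sum -/
lemma dvd_geom {π : F[X]} (hπ : Irreducible π) {r : ℕ}
    (h1 : haveI : Fact (Irreducible π) := ⟨hπ⟩
      (AdjoinRoot.root π) ^ r = 1)
    (h2 : haveI : Fact (Irreducible π) := ⟨hπ⟩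
      AdjoinRoot.root π ≠ 1) :
    π ∣ ∑ i ∈ Finset.range r, (Polynomial.X : F[X]) ^ i := by
  haveI : Fact (Irreducible π) := ⟨hπ⟩
  rw [← AdjoinRoot.mk_eq_zero, map_sum]
  simp only [map_pow, AdjoinRoot.mk_X]
  have h3 := mul_geom_sum (AdjoinRoot.root π) r
  rw [h1, sub_self] at h3
  exact (mul_eq_zero.mp h3).resolve_left (sub_ne_zero.mpr h2)

end aux

/-- Adjacency of two odd primes in the prime graph of PSp(2n,q): let F be a finite field of characteristic p with q elements, n ≥ 2 with PSp(2n,F) simple, and let r ≠ s be odd primes different from p dividing the order of PSp(2n,F). Let k, l be the multiplicative orders of q modulo r and s, put η(m) = m for odd m and η(m) = m/2 for even m, and suppose η(k) ≤ η(l). Then PSp(2n,F) has NO element of order r·s if and only if η(k) + η(l) > n and l/k is not an odd integer. -/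
theorem result {F : Type*} [Field F] [Fintype F] (p : ℕ) [Fact p.Prime] [CharP F p] (n : ℕ) (hn : 2 ≤ n) (hsmall : n = 2 → 3 ≤ Fintype.card F)
    (r s : ℕ) (hr : r.Prime) (hs : s.Prime) (hr2 : r ≠ 2) (hs2 : s ≠ 2) (hrp : r ≠ p) (hsp : s ≠ p) (hrs : r ≠ s)
    (hrG : r ∣ Nat.card (Cfsg.PSp n F)) (hsG : s ∣ Nat.card (Cfsg.PSp n F))
    (k l ηk ηl : ℕ) (hk : k = orderOf ((Fintype.card F : ℕ) : ZMod r)) (hl : l = orderOf ((Fintype.card F : ℕ) : ZMod s))
    (hηk : (Odd k ∧ ηk = k) ∨ (Even k ∧ 2 * ηk = k)) (hηl : (Odd l ∧ ηl = l) ∨ (Even l ∧ 2 * ηl = l)) (hkl : ηk ≤ ηl) :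
    (r * s ∉ Set.range (orderOf : Cfsg.PSp n F → ℕ)) ↔ (n < ηk + ηl ∧ ¬ ∃ t : ℕ, Odd t ∧ l = k * t) := by
  classical
  have hfr : Fact r.Prime := ⟨hr⟩
  have hfs : Fact s.Prime := ⟨hs⟩
  have hpp : p.Prime := Fact.out
  have hk0 : 0 < k := by
    rw [hk]
    exact Lib.SLn.PrimeGraph.ord_pos (F := F) p hrp
  have hl0 : 0 < l := by
    rw [hl]
    exact Lib.SLn.PrimeGraph.ord_pos (F := F) p hsp
  have hcast : ∀ {u : ℕ}, u.Prime → u ≠ p → (u : F) ≠ 0 := by
    intro u hu hup
    rw [Ne, CharP.cast_eq_zero_iff F p]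
    intro h
    exact hup ((Nat.prime_dvd_prime_iff_eq hpp hu).mp h).symm
  have hrF := hcast hr hrp
  have hsF := hcast hs hsp
  have hrodd : Odd r := hr.odd_of_ne_two hr2
  have hsodd : Odd s := hs.odd_of_ne_two hs2
  have hrsodd : Odd (r * s) := hrodd.mul hsodd
  have hcop : Nat.Coprime r s := (Nat.coprime_primes hr hs).mpr hrs
  have hηk0 : 0 < ηk := eta_pos hk0 hηk
  have hηl0 : 0 < ηl := eta_pos hl0 hηl
  have hn1 : 1 ≤ n := by omega
  have hcard : 0 < Fintype.card F := Fintype.card_pos
  -- the bound for `s`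
  have hηln : ηl ≤ n := by
    obtain ⟨x, hx⟩ := exists_prime_orderOf_dvd_card' s hsG
    obtain ⟨X, hXx, hXo⟩ := exists_lift hn1 (Or.inl (by rw [hx]; exact hsodd))
    rw [hx] at hXo
    have hA : (X.1 : Matrix (Fin n ⊕ Fin n) (Fin n ⊕ Fin n) F) ^ (1 * s) = 1 := by
      rw [one_mul]
      exact congrArg Subtype.val hXo
    have hA1 : (X.1 : Matrix (Fin n ⊕ Fin n) (Fin n ⊕ Fin n) F) ^ 1 ≠ 1 := by
      intro h
      have h1 : X = 1 := Subtype.ext (by simpa using h)
      rw [h1] at hXx
      have : (QuotientGroup.mk (1 : Matrix.symplecticGroup (Fin n) F) : Cfsg.PSp n F) = 1 := rfl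
      rw [this] at hXx
      rw [← hXx, orderOf_one] at hx
      exact hs.one_lt.ne hx
    obtain ⟨π, hm, hπ, hπχ, hπH⟩ := exists_factor _ hA hA1
    have hv := order_root hπ hs hsF hπH
    obtain ⟨G, hGm, hGχ, hGd, -⟩ := exists_G p X hπ hm hπχ hs2 hl hηl hv
    have h1 := natDegree_le_of_dvd hGχ (Matrix.charpoly_monic _).ne_zero
    rw [natDegree_charpoly] at h1
    omega
  constructor
  · intro hno
    refine ⟨?_, ?_⟩
    · -- two tori
      by_contra hle
      push Not at hle
      apply hno
      refine torus_prime (F := F) p hr hrp hk hηk ?_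
      intro S₁ _ _ _ σ₁ τ₁ hf₁ hd₁ s₁ hs₁ ho₁
      refine torus_prime (F := F) p hs hsp hl hηl ?_
      intro S₂ _ _ _ σ₂ τ₂ hf₂ hd₂ s₂ hs₂ ho₂
      have hdim : finrank F (S₁ × S₂) = 2 * (ηk + ηl) := by
        rw [Module.finrank_prod, hd₁, hd₂]
        ring
      obtain ⟨g, hg⟩ := exists_psp_rest (hf₁.prod hf₂) hn1 hle hdim ((s₁, s₂) : S₁ × S₂) (by
        apply Prod.ext
        · exact hs₁
        · exact hs₂) (r * s) (by
        apply Prod.ext
        · change s₁ ^ (r * s) = 1
          rw [pow_mul, ← ho₁, pow_orderOf_eq_one, one_pow]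
        · change s₂ ^ (r * s) = 1
          rw [mul_comm, pow_mul, ← ho₂, pow_orderOf_eq_one, one_pow]) (by
        intro m hm
        have h1 : s₁ ^ m = 1 ∨ s₁ ^ m = -1 := by
          rcases hm with hm | hm
          · exact Or.inl (congrArg Prod.fst hm)
          · exact Or.inr (congrArg Prod.fst hm)
        have h2 : s₂ ^ m = 1 ∨ s₂ ^ m = -1 := by
          rcases hm with hm | hm
          · exact Or.inl (congrArg Prod.snd hm)
          · exact Or.inr (congrArg Prod.snd hm)
        exact hcop.mul_dvd_of_dvd_of_dvd (dvd_of_pow_eq_pm hrodd ho₁ h1) (dvd_of_pow_eq_pm hsodd ho₂ h2))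
      exact ⟨g, hg⟩
    · -- one torus
      rintro ⟨t, ht, hlt⟩
      apply hno
      have hdiv : (∃ g : Cfsg.PSp n F, orderOf g = r * s) := by
        rcases hηl with ⟨hlodd, hηl'⟩ | ⟨hlev, hηl'⟩
        · -- the split case
          have hkl' : k ∣ l := ⟨t, hlt⟩
          have h1 : r ∣ Fintype.card F ^ l - 1 := by
            have h2 : r ∣ Fintype.card F ^ k - 1 := Lib.SLn.PrimeGraph.dvd_pow_sub_one hcard hk
            refine h2.trans ?_
            rw [hlt, pow_mul]
            have := Nat.sub_dvd_pow_sub_pow (Fintype.card F ^ k) 1 t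
            simpa using this
          have h2 : s ∣ Fintype.card F ^ l - 1 := Lib.SLn.PrimeGraph.dvd_pow_sub_one hcard hl
          have h3 := hcop.mul_dvd_of_dvd_of_dvd h1 h2
          refine torus_minus (F := F) p (by omega : l ≠ 0) h3 ?_
          intro S _ _ _ σ τ hf hd s₀ hs₀ ho
          exact exists_psp_rest hf hn1 (by omega : l ≤ n) hd s₀ hs₀ (r * s) (by
            rw [← ho]
            exact pow_orderOf_eq_one s₀) (fun m hm => dvd_of_pow_eq_pm hrsodd ho hm)
        · -- the nonsplit case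
          have hkev : Even k := by
            by_contra h
            rw [Nat.not_even_iff_odd] at h
            rw [hlt] at hlev
            exact (Nat.not_even_iff_odd.mpr (h.mul ht)) hlev
          have hηk' : 2 * ηk = k := by
            rcases hηk with ⟨h, -⟩ | ⟨-, h⟩
            · exact absurd hkev (Nat.not_even_iff_odd.mpr h)
            · exact h
          have hηlt : ηl = ηk * t := by
            have : 2 * ηl = 2 * (ηk * t) := by
              rw [hηl', hlt, ← hηk', mul_assoc]
            omega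
          have h1 : r ∣ Fintype.card F ^ ηl + 1 := by
            have h2 : r ∣ Fintype.card F ^ ηk + 1 := dvd_add_one_of_even hcard hk hk0 hηk'
            refine h2.trans ?_
            rw [hηlt, pow_mul]
            have := ht.nat_add_dvd_pow_add_pow (Fintype.card F ^ ηk) 1
            simpa using this
          have h2 : s ∣ Fintype.card F ^ ηl + 1 := dvd_add_one_of_even hcard hl hl0 hηl'
          have h3 := hcop.mul_dvd_of_dvd_of_dvd h1 h2
          refine torus_plus (F := F) p hηl0.ne' h3 ?_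
          intro S _ _ _ σ τ hf hd s₀ hs₀ ho
          exact exists_psp_rest hf hn1 hηln hd s₀ hs₀ (r * s) (by
            rw [← ho]
            exact pow_orderOf_eq_one s₀) (fun m hm => dvd_of_pow_eq_pm hrsodd ho hm)
      obtain ⟨g, hg⟩ := hdiv
      exact ⟨g, hg⟩
  · rintro ⟨hlt, hnot⟩ ⟨x, hx⟩
    obtain ⟨X, hXx, hXo⟩ := exists_lift hn1 (Or.inl (by rw [hx]; exact hrsodd))
    rw [hx] at hXo
    set A : Matrix (Fin n ⊕ Fin n) (Fin n ⊕ Fin n) F := X.1 with hAdef
    have hA : A ^ (r * s) = 1 := congrArg Subtype.val hXo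
    have hne : ∀ j, ¬ r * s ∣ j → A ^ j ≠ 1 := by
      intro j hj h1
      apply hj
      rw [← hx, ← hXx]
      apply orderOf_dvd_of_pow_eq_one
      rw [← QuotientGroup.mk_pow]
      have h2 : X ^ j = 1 := Subtype.ext h1
      rw [h2]
      rfl
    have hAs : A ^ s ≠ 1 := by
      apply hne
      intro h
      have h1 := Nat.le_of_dvd hs.pos h
      have h2 := hr.two_le
      have h3 := hs.pos
      nlinarith
    have hAr : A ^ r ≠ 1 := by
      apply hne
      intro h
      have h1 := Nat.le_of_dvd hr.pos h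
      have h2 := hs.two_le
      have h3 := hr.pos
      nlinarith
    -- a root of order `r * s` is impossible
    have hroot : ∀ π : F[X], π.Monic → ∀ hπ : Irreducible π, π ∣ A.charpoly →
        (haveI : Fact (Irreducible π) := ⟨hπ⟩; orderOf ((AdjoinRoot.root π) ^ s) = r) →
        (haveI : Fact (Irreducible π) := ⟨hπ⟩; orderOf ((AdjoinRoot.root π) ^ r) = s) → False := by
      intro π hm hπ hπχ hv₁ hv₂
      have h0 := coeff_ne_of_dvd X hπχ
      have hkd := ord_dvd_natDegree hπ hk hv₁
      have hld := ord_dvd_natDegree hπ hl hv₂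
      have hdpos := hπ.natDegree_pos
      have hχd : A.charpoly.natDegree = 2 * n := natDegree_charpoly X
      have hχ0 : A.charpoly ≠ 0 := (Matrix.charpoly_monic A).ne_zero
      by_cases hself : pstar π = π
      · obtain ⟨t, ht, hdvd⟩ := self_natDegree p hπ hm h0 hself hr2 hv₁
        obtain ⟨t', ht', hdvd'⟩ := self_natDegree p hπ hm h0 hself hs2 hv₂
        have htt : t' = t := by omega
        rw [htt] at hdvd'
        obtain ⟨-, c, hc, htc⟩ := of_dvd_add_one hcard hr2 hk hηk hdvd
        obtain ⟨hlev, c', hc', htc'⟩ := of_dvd_add_one hcard hs2 hl hηl hdvd'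
        have hle : 2 * t ≤ 2 * n := by
          rw [← ht, ← hχd]
          exact natDegree_le_of_dvd hπχ hχ0
        have hc1 : c' = 1 := by
          by_contra hne'
          obtain ⟨b, hb⟩ := hc'
          have hb1 : 1 ≤ b := by
            rcases Nat.eq_zero_or_pos b with h | h
            · rw [h] at hb
              omega
            · exact h
          have h3 : ηl * 2 ≤ ηl * c' := Nat.mul_le_mul_left _ (by omega)
          omega
        rw [hc1, mul_one] at htc'
        apply hnot
        refine ⟨c, hc, ?_⟩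
        have hηk' : 2 * ηk = k := by
          obtain ⟨hkev, -⟩ := of_dvd_add_one hcard hr2 hk hηk hdvd
          rcases hηk with ⟨h, -⟩ | ⟨-, h⟩
          · exact absurd hkev (Nat.not_even_iff_odd.mpr h)
          · exact h
        have hηl' : 2 * ηl = l := by
          rcases hηl with ⟨h, -⟩ | ⟨-, h⟩
          · exact absurd hlev (Nat.not_even_iff_odd.mpr h)
          · exact h
        rw [← hηl', ← hηk', ← htc', htc, mul_assoc]
      · have hπ' := pstar_irreducible hπ h0
        have hm' := pstar_monic h0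
        have hd' := pstar_natDegree h0
        have hnassoc : ¬ Associated π (pstar π) := fun h =>
          hself (eq_of_monic_of_associated hm hm' h).symm
        have hcop' : IsCoprime π (pstar π) := by
          rw [hπ.coprime_iff_not_dvd]
          intro h
          exact hnassoc ((hπ.dvd_irreducible_iff_associated hπ').mp h)
        have h1 := hcop'.mul_dvd hπχ (pstar_dvd_charpoly X hπχ)
        have h2 := natDegree_le_of_dvd h1 hχ0
        rw [hm.natDegree_mul hm', hd', hχd] at h2
        have hdn : π.natDegree ≤ n := by omega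
        obtain ⟨c, hc⟩ := hld
        rcases hηl with ⟨hlodd, hηl'⟩ | ⟨hlev, hηl'⟩
        · have hc1 : c = 1 := by
            have hc0 : c ≠ 0 := by
              rintro rfl
              omega
            by_contra hne'
            have h3 : l * 2 ≤ l * c := Nat.mul_le_mul_left _ (by omega)
            omega
          rw [hc1, mul_one] at hc
          rw [hc] at hkd
          obtain ⟨t, ht⟩ := hkd
          apply hnot
          refine ⟨t, ?_, ht⟩
          by_contra h3
          rw [Nat.not_odd_iff_even] at h3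
          rw [ht] at hlodd
          exact (Nat.not_even_iff_odd.mpr hlodd) (h3.mul_left k)
        · have hc0 : c ≠ 0 := by
            rintro rfl
            omega
          have h3 : l * 1 ≤ l * c := Nat.mul_le_mul_left _ (by omega)
          omega
    obtain ⟨π₁, hm₁, hπ₁, hπ₁χ, hπ₁H⟩ := exists_factor A (a := s) (b := r) (by rw [mul_comm]; exact hA) hAs
    obtain ⟨π₂, hm₂, hπ₂, hπ₂χ, hπ₂H⟩ := exists_factor A (a := r) (b := s) hA hAr
    haveI : Fact (Irreducible π₁) := ⟨hπ₁⟩
    haveI : Fact (Irreducible π₂) := ⟨hπ₂⟩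
    have hv₁ := order_root hπ₁ hr hrF hπ₁H
    have hv₂ := order_root hπ₂ hs hsF hπ₂H
    by_cases h1 : (AdjoinRoot.root π₁) ^ r = 1
    · by_cases h2 : (AdjoinRoot.root π₂) ^ s = 1
      · -- two different factors
        have hne₁ : AdjoinRoot.root π₁ ≠ 1 := by
          intro h
          rw [h, one_pow, orderOf_one] at hv₁
          exact hr.one_lt.ne hv₁
        have hne₂ : AdjoinRoot.root π₂ ≠ 1 := by
          intro h
          rw [h, one_pow, orderOf_one] at hv₂
          exact hs.one_lt.ne hv₂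
        have hD₁ := dvd_geom hπ₁ h1 hne₁
        have hD₂ := dvd_geom hπ₂ h2 hne₂
        obtain ⟨G₁, hG₁m, hG₁χ, hG₁d, hG₁D⟩ := exists_G p X hπ₁ hm₁ hπ₁χ hr2 hk hηk hv₁
        obtain ⟨G₂, hG₂m, hG₂χ, hG₂d, hG₂D⟩ := exists_G p X hπ₂ hm₂ hπ₂χ hs2 hl hηl hv₂
        have hG₁D' := hG₁D _ (reverse_geom r hr.pos) hD₁
        have hG₂D' := hG₂D _ (reverse_geom s hs.pos) hD₂
        have hcopG : IsCoprime G₁ G₂ :=
          IsCoprime.of_isCoprime_of_dvd_left (IsCoprime.of_isCoprime_of_dvd_right
            (isCoprime_geom hr hs hrs hrF) hG₂D') hG₁D'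
        have h3 := hcopG.mul_dvd hG₁χ hG₂χ
        have h4 := natDegree_le_of_dvd h3 (Matrix.charpoly_monic _).ne_zero
        rw [hG₁m.natDegree_mul hG₂m, natDegree_charpoly] at h4
        omega
      · refine hroot π₂ hm₂ hπ₂ hπ₂χ ?_ hv₂
        apply orderOf_eq_prime _ h2
        rw [← pow_mul, mul_comm, pow_mul, ← hv₂, pow_orderOf_eq_one]
    · refine hroot π₁ hm₁ hπ₁ hπ₁χ hv₁ ?_
      apply orderOf_eq_prime _ h1
      rw [← pow_mul, mul_comm, pow_mul, ← hv₁, pow_orderOf_eq_one]

end Cfsg.Agent.S2469
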