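import Cfsg.Statements.S2470
import Cfsg.Agent.Lib.SLn.PrimeGraph

set_option autoImplicit false
open Cfsg

namespace Cfsg.Agent.S2470

/-- Adjacency of an odd prime and the characteristic in the prime graph of PSL(n,q): let F be a finite field of characteristic p with q elements, n ≥ 2 with PSL(n,F) simple, and let r ≠ p be an odd prime dividing the order of PSL(n,F), with k the multiplicative order of q modulo r. Then PSL(n,F) has NO element of order r·p if and only if either k > n − 2, or n = 3, r = 3 and 3 divides q − 1 exactly once. -/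
theorem result {F : Type*} [Field F] [Fintype F] (p : ℕ) [Fact p.Prime] [CharP F p] (n : ℕ) (hn : 2 ≤ n) (hsmall : n = 2 → 4 ≤ Fintype.card F)
    (r : ℕ) (hr : r.Prime) (hr2 : r ≠ 2) (hrp : r ≠ p) (hrG : r ∣ Nat.card (Matrix.ProjectiveSpecialLinearGroup (Fin n) F))
    (k : ℕ) (hk : k = orderOf ((Fintype.card F : ℕ) : ZMod r)) :
    (r * p ∉ Set.range (orderOf : Matrix.ProjectiveSpecialLinearGroup (Fin n) F → ℕ)) ↔
      (n - 2 < k ∨ (n = 3 ∧ r = 3 ∧ 3 ∣ Fintype.card F - 1 ∧ ¬ 9 ∣ Fintype.card F - 1)) := by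
  classical
  have hfact_r : Fact r.Prime := ⟨hr⟩
  have hp : p.Prime := Fact.out
  have hn0 : n ≠ 0 := by omega
  have hqpos : 0 < Fintype.card F := Fintype.card_pos
  have hrF : (r : F) ≠ 0 := by
    intro h
    exact hrp ((Nat.prime_dvd_prime_iff_eq hp hr).mp ((CharP.cast_eq_zero_iff F p r).mp h)).symm
  have hk0 : 0 < k := by
    rw [hk]
    exact Lib.SLn.PrimeGraph.ord_pos (F := F) p hrp
  constructor
  · intro hno
    by_contra hcon
    push Not at hcon
    obtain ⟨h1, h2⟩ := hcon
    have hkn : k + 2 ≤ n := by omega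
    apply hno
    by_cases hk1 : k = 1
    · -- `r` divides `q - 1`
      have hrq : r ∣ Fintype.card F - 1 :=
        Lib.SLn.PrimeGraph.dvd_of_ord_eq_one (hk ▸ hk1)
      by_cases hn4 : 4 ≤ n
      · obtain ⟨g, hg⟩ := Lib.SLn.PrimeGraph.psl_char_split (F := F) p hn4 hr hrp hrq
        exact ⟨g, hg⟩
      · have hn3 : n = 3 := by omega
        subst hn3
        obtain ⟨μ, h0, hμ⟩ : ∃ μ : F, μ ≠ 0 ∧ orderOf (μ ^ 3) = r := by
          by_cases hr3 : r = 3
          · subst hr3
            have h9 : 9 ∣ Fintype.card F - 1 := h2 rfl rfl hrq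
            obtain ⟨μ, h0, hμ⟩ := Lib.SLn.PrimeGraph.exists_order (K := F) (d := 9)
              (by rwa [Nat.card_eq_fintype_card])
            refine ⟨μ, h0, ?_⟩
            rw [orderOf_pow' μ (by norm_num), hμ]
            norm_num
          · obtain ⟨μ, h0, hμ⟩ := Lib.SLn.PrimeGraph.exists_order (K := F) (d := r)
              (by rwa [Nat.card_eq_fintype_card])
            refine ⟨μ, h0, ?_⟩
            rw [orderOf_pow' μ (by norm_num), hμ]
            have : Nat.gcd r 3 = 1 := (Nat.coprime_primes hr Nat.prime_three).mpr hr3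
            rw [this]
            simp
        obtain ⟨g, hg⟩ := Lib.SLn.PrimeGraph.psl_char_three (F := F) p hr hrp h0 hμ
        exact ⟨g, hg⟩
    · have : NeZero k := ⟨by omega⟩
      have hrk := Lib.SLn.PrimeGraph.dvd_pow_sub_one hqpos hk
      have hrq : Nat.Coprime r (Fintype.card F - 1) :=
        Lib.SLn.PrimeGraph.coprime_of_ord_ne_one (hk ▸ hk1)
      obtain ⟨g, hg⟩ := Lib.SLn.PrimeGraph.psl_char_torus (F := F) p hkn hr hrp hrk hrq
      exact ⟨g, hg⟩
  · rintro hcase ⟨g, hg⟩
    obtain ⟨T, hdet, ⟨c, hc, hT⟩, hmin⟩ := Lib.SLn.PrimeGraph.exists_lift hn0 g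
    rw [hg] at hT hmin
    have h1 : ∀ c' : F, T ^ p ≠ algebraMap F _ c' := by
      intro c' hc'
      have h3 := hmin p c' hc'
      have h4 : r ∣ 1 := by
        have : r * p ∣ 1 * p := by simpa using h3
        exact Nat.dvd_of_mul_dvd_mul_right hp.pos this
      exact hr.one_lt.ne' (Nat.dvd_one.mp h4)
    have h2 : ∀ c' : F, T ^ r ≠ algebraMap F _ c' := by
      intro c' hc'
      have h3 := hmin r c' hc'
      have h4 : p ∣ 1 := by
        have : r * p ∣ r * 1 := by simpa using h3
        exact Nat.dvd_of_mul_dvd_mul_left hr.pos this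
      exact hp.one_lt.ne' (Nat.dvd_one.mp h4)
    by_cases hk1 : k = 1
    · have hsmall3 : n ≤ 3 := by
        rcases hcase with h | ⟨h, -⟩ <;> omega
      obtain ⟨h3, h4⟩ := Lib.SLn.PrimeGraph.char_bound_small p hrF hc hT h1 h2
        (by rwa [Module.finrank_fin_fun])
      rw [Module.finrank_fin_fun] at h3
      rcases hcase with h | ⟨-, hr3, -, h9⟩
      · omega
      · exact h9 (h4 hr3 hdet)
    · have hrq : Nat.Coprime r (Fintype.card F - 1) :=
        Lib.SLn.PrimeGraph.coprime_of_ord_ne_one (hk ▸ hk1)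
      have h3 := Lib.SLn.PrimeGraph.char_bound p hrF hc hT h1 h2 hrq
      rw [Module.finrank_fin_fun, ← hk] at h3
      rcases hcase with h | ⟨-, hr3, h3q, -⟩
      · omega
      · subst hr3
        exact absurd h3q (Nat.Prime.coprime_iff_not_dvd hr |>.mp hrq)

end Cfsg.Agent.S2470
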