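import Cfsg.Statements.S2490
import Cfsg.Agent.S0144
import Cfsg.Agent.Lib.SmallSimple.Sign
import Cfsg.Agent.Lib.Small.Low1

set_option autoImplicit false
open Cfsg

namespace Cfsg.Agent.S2490

open Cfsg.Agent.Lib.Small.Sieve
open scoped commutatorElement

section Basic

variable {G : Type*} [Group G]

/-- Adjacency in the prime graph. -/
def Adj (G : Type*) [Group G] (p q : ℕ) : Prop := ∃ g : G, orderOf g = p * q

theorem Adj.symm {p q : ℕ} (h : Adj G p q) : Adj G q p := by
  obtain ⟨g, hg⟩ := h
  exact ⟨g, by rw [hg, mul_comm]⟩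

theorem adj_of_commute {a b : G} {p q : ℕ} (h : a * b = b * a) (ha : orderOf a = p)
    (hb : orderOf b = q) (hpq : p.Coprime q) : Adj G p q := by
  refine ⟨a * b, ?_⟩
  have hc : Commute a b := h
  rw [hc.orderOf_mul_eq_mul_orderOf_of_coprime (by rwa [ha, hb]), ha, hb]

/-- A non-trivial element of `r`-power order has a power of order `r`. -/
theorem exists_pow_orderOf {r k : ℕ} (hr : r.Prime) {a : G} (ha : a ≠ 1) (hk : a ^ r ^ k = 1) :
    ∃ n : ℕ, orderOf (a ^ n) = r := by
  have h1 : orderOf a ∣ r ^ k := orderOf_dvd_of_pow_eq_one hk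
  obtain ⟨j, -, hj⟩ := (Nat.dvd_prime_pow hr).1 h1
  have hj0 : j ≠ 0 := by
    rintro rfl
    rw [pow_zero, orderOf_eq_one_iff] at hj
    exact ha hj
  have hrd : r ∣ orderOf a := by
    rw [hj]
    exact dvd_pow_self r hj0
  have ho : orderOf a ≠ 0 := by
    rw [hj]
    exact pow_ne_zero _ hr.ne_zero
  exact ⟨orderOf a / r, orderOf_pow_orderOf_div ho hrd⟩

/-- Commuting non-trivial elements of coprime prime power orders give adjacency. -/
theorem adj_of_commute_pow {r s k l : ℕ} (hr : r.Prime) (hs : s.Prime) (hrs : r ≠ s) {a b : G}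
    (h : a * b = b * a) (ha : a ≠ 1) (hb : b ≠ 1) (hak : a ^ r ^ k = 1) (hbl : b ^ s ^ l = 1) :
    Adj G r s := by
  obtain ⟨m, hm⟩ := exists_pow_orderOf hr ha hak
  obtain ⟨n, hn⟩ := exists_pow_orderOf hs hb hbl
  have hc : Commute a b := h
  exact adj_of_commute (hc.pow_pow m n) hm hn ((Nat.coprime_primes hr hs).2 hrs)

/-- A free action of a subgroup by conjugation on the non-trivial elements of a normalized
subgroup. -/
theorem card_dvd_sub_one [Finite G] (V M : Subgroup G)
    (hnorm : ∀ v ∈ V, ∀ a ∈ M, v * a * v⁻¹ ∈ M)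
    (hfree : ∀ v ∈ V, v ≠ 1 → ∀ a ∈ M, a ≠ 1 → v * a * v⁻¹ ≠ a) :
    Nat.card V ∣ Nat.card M - 1 := by
  classical
  let _ : MulAction V {x : M // x ≠ 1} :=
    { smul := fun g x => ⟨⟨(g : G) * x.1.1 * (g : G)⁻¹, hnorm g g.2 x.1.1 x.1.2⟩, by
        intro h
        have h' : (g : G) * x.1.1 * (g : G)⁻¹ = 1 := congrArg Subtype.val h
        apply x.2
        apply Subtype.ext
        have : x.1.1 = 1 := by
          have h2 : (g : G) * x.1.1 = g := by
            calc (g : G) * x.1.1 = (g : G) * x.1.1 * (g : G)⁻¹ * g := by group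
              _ = g := by rw [h', one_mul]
          exact mul_eq_left.mp h2
        exact this⟩
      one_smul := fun x => by
        apply Subtype.ext
        apply Subtype.ext
        change ((1 : V) : G) * x.1.1 * ((1 : V) : G)⁻¹ = x.1.1
        simp
      mul_smul := fun a b x => by
        apply Subtype.ext
        apply Subtype.ext
        change ((a * b : V) : G) * x.1.1 * ((a * b : V) : G)⁻¹ =
          (a : G) * ((b : G) * x.1.1 * (b : G)⁻¹) * (a : G)⁻¹
        simp only [Subgroup.coe_mul]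
        group }
  have hst : ∀ b : {x : M // x ≠ 1}, MulAction.stabilizer V b = ⊥ := by
    intro b
    rw [eq_bot_iff]
    intro v hv
    rw [Subgroup.mem_bot]
    by_contra hv1
    have h1 : v • b = b := hv
    have h2 : (v : G) * b.1.1 * (v : G)⁻¹ = b.1.1 :=
      congrArg (fun z : {x : M // x ≠ 1} => z.1.1) h1
    exact hfree v v.2 (fun h => hv1 (Subtype.ext h)) b.1.1 b.1.2
      (fun h => b.2 (Subtype.ext h)) h2
  have e := MulAction.selfEquivOrbitsQuotientProd hst
  have hc : Nat.card {x : M // x ≠ 1} = Nat.card M - 1 := by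
    haveI := Fintype.ofFinite M
    rw [Nat.card_eq_fintype_card, Fintype.card_subtype_compl, ← Nat.card_eq_fintype_card]
    simp
  rw [← hc, Nat.card_congr e, Nat.card_prod]
  exact Dvd.intro_left _ rfl

/-- Burnside's transfer theorem for a perfect group. -/
theorem perfect_burnside {K : Type*} [Group K] [Finite K] (hK : commutator K = ⊤) {p : ℕ}
    [Fact p.Prime] (S : Sylow p K)
    (h : Subgroup.normalizer ((S : Subgroup K) : Set K) ≤ Subgroup.centralizer (S : Set K)) :
    (S : Subgroup K) = ⊥ := by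
  have hc : Subgroup.IsComplement' (MonoidHom.transferSylow S h).ker (S : Subgroup K) :=
    MonoidHom.ker_transferSylow_isComplement' S h
  have htop : (MonoidHom.transferSylow S h).ker = ⊤ := by
    rw [eq_top_iff, ← hK, commutator_def, Subgroup.commutator_le]
    intro a _ b _
    rw [MonoidHom.mem_ker]
    simp only [commutatorElement_def, map_mul, map_inv]
    have hS : ∀ x y : (S : Subgroup K), x * y = y * x := by
      intro x y
      exact Subtype.ext (h (Subgroup.le_normalizer y.2) x x.2)
    rw [hS (MonoidHom.transferSylow S h a) (MonoidHom.transferSylow S h b)]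
    group
  rw [htop] at hc
  have := hc.disjoint
  rw [disjoint_iff] at this
  simpa using this

/-- Frattini's argument in terms of orders. -/
theorem card_eq_mul_inf [Finite G] {p : ℕ} [Fact p.Prime] (P : Sylow p G) (N : Subgroup G)
    [N.Normal] (hPN : (P : Subgroup G) ≤ N) :
    Nat.card N = Nat.card (Sylow p G) *
      Nat.card ((Subgroup.normalizer ((P : Subgroup G) : Set G) ⊓ N : Subgroup G)) := by
  have htop := Sylow.normalizer_sup_eq_top' P hPN
  have h1 : N.relIndex (Subgroup.normalizer ((P : Subgroup G) : Set G)) = N.index := by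
    have := Subgroup.relIndex_sup_right (Subgroup.normalizer ((P : Subgroup G) : Set G)) N
    rw [← this]
    have h2 : Subgroup.normalizer ((P : Subgroup G) : Set G) ⊔ N = ⊤ := htop
    rw [h2, Subgroup.relIndex_top_right]
  have h2 : Nat.card N * N.index = Nat.card G := Subgroup.card_mul_index N
  have h3 := card_normalizer_mul P
  have h4 := Subgroup.card_mul_index (N.subgroupOf (Subgroup.normalizer ((P : Subgroup G) : Set G)))
  have h5 : Nat.card (N.subgroupOf (Subgroup.normalizer ((P : Subgroup G) : Set G))) =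
      Nat.card ((Subgroup.normalizer ((P : Subgroup G) : Set G) ⊓ N : Subgroup G)) := by
    rw [← Subgroup.inf_subgroupOf_left]
    exact Nat.card_congr (Subgroup.subgroupOfEquivOfLe inf_le_left).toEquiv
  rw [h5] at h4
  have hpos : 0 < N.index := Nat.pos_of_ne_zero Subgroup.index_ne_zero_of_finite
  have h6 : Nat.card N * N.index = (Nat.card (Sylow p G) *
      Nat.card ((Subgroup.normalizer ((P : Subgroup G) : Set G) ⊓ N : Subgroup G))) * N.index := by
    rw [h2, ← h3, ← h4]
    change _ * (N.relIndex _) * _ = _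
    rw [h1]
    ring
  exact Nat.eq_of_mul_eq_mul_right hpos h6

/-- **Lemma B**: a prime `s` dividing `|G₀|` but not `|C|`, `C` normal, and a prime `r` dividing
`|C|`: if `s` does not divide `|R| - 1` for the Sylow subgroups `R` of `C` then `r`, `s` are
adjacent. -/
theorem adj_of_normal {G₀ : Type*} [Group G₀] [Finite G₀] (C : Subgroup G₀) [C.Normal] {r s : ℕ}
    [Fact r.Prime] [Fact s.Prime] (hs : s ∣ Nat.card G₀) (hsC : ¬ s ∣ Nat.card C)
    (hr : r ∣ Nat.card C) (R₀ : Sylow r C) (hR : ¬ s ∣ Nat.card R₀ - 1) : Adj G₀ r s := by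
  classical
  have hrp : r.Prime := Fact.out
  have hsp : s.Prime := Fact.out
  have hrs : r ≠ s := by
    rintro rfl
    exact hsC hr
  set R : Subgroup G₀ := (R₀ : Subgroup C).map C.subtype with hRdef
  have hcardR : Nat.card R = Nat.card R₀ := by
    exact (Nat.card_congr (Subgroup.equivMapOfInjective _ _ C.subtype_injective).toEquiv).symm
  have htop : Subgroup.normalizer (R : Set G₀) ⊔ C = ⊤ := Sylow.normalizer_sup_eq_top R₀
  have h1 : C.relIndex (Subgroup.normalizer (R : Set G₀)) = C.index := by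
    have := Subgroup.relIndex_sup_right (Subgroup.normalizer (R : Set G₀)) C
    rw [← this, htop, Subgroup.relIndex_top_right]
  have h2 : Nat.card C * C.index = Nat.card G₀ := Subgroup.card_mul_index C
  have h3 : s ∣ C.index := by
    rw [← h2] at hs
    exact (hsp.dvd_mul.1 hs).resolve_left hsC
  have h4 : s ∣ Nat.card (Subgroup.normalizer (R : Set G₀)) := by
    rw [← h1] at h3
    have h5 := Subgroup.card_mul_index (C.subgroupOf (Subgroup.normalizer (R : Set G₀)))
    rw [← h5]
    exact Dvd.dvd.mul_left h3 _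
  obtain ⟨x, hx⟩ := exists_prime_orderOf_dvd_card' (G := Subgroup.normalizer (R : Set G₀)) s h4
  have hxG : orderOf (x : G₀) = s := by rw [Subgroup.orderOf_coe, hx]
  have hfree : ¬ ∀ v ∈ Subgroup.zpowers (x : G₀), v ≠ 1 → ∀ a ∈ R, a ≠ 1 → v * a * v⁻¹ ≠ a := by
    intro hf
    apply hR
    have := card_dvd_sub_one (Subgroup.zpowers (x : G₀)) R (by
      intro v hv a ha
      have hn : v ∈ Subgroup.normalizer (R : Set G₀) :=
        (Subgroup.zpowers_le (H := Subgroup.normalizer (R : Set G₀))).2 x.2 hv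
      exact (Subgroup.mem_normalizer_iff.1 hn a).1 ha) hf
    rwa [Nat.card_zpowers, hxG, hcardR] at this
  push Not at hfree
  obtain ⟨v, hv, hv1, a, ha, ha1, hcomm⟩ := hfree
  have hcomm' : a * v = v * a := by
    have : v * a = a * v := by
      calc v * a = (v * a * v⁻¹) * v := by group
        _ = a * v := by rw [hcomm]
    exact this.symm
  have hvp : v ^ s ^ 1 = 1 := by
    obtain ⟨n, rfl⟩ := Subgroup.mem_zpowers_iff.1 hv
    rw [pow_one, ← zpow_natCast, zpow_comm, zpow_natCast]
    have : (x : G₀) ^ s = 1 := by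
      rw [← hxG]
      exact pow_orderOf_eq_one _
    rw [this, one_zpow]
  have hap : ∃ k, a ^ r ^ k = 1 := by
    have hpg : IsPGroup r R := by
      have := R₀.isPGroup'
      exact this.map C.subtype
    obtain ⟨k, hk⟩ := hpg ⟨a, ha⟩
    exact ⟨k, congrArg Subtype.val hk⟩
  obtain ⟨k, hk⟩ := hap
  exact adj_of_commute_pow hrp hsp hrs hcomm' ha1 hv1 hk hvp

/-- A homomorphism from `G` to an abelian group is trivial on a perfect normal subgroup. -/
theorem hom_eq_one_of_perfect {A : Type*} [Group A] (hA : ∀ x y : A, x * y = y * x) (f : G →* A)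
    {N : Subgroup G} (hN : ⁅N, N⁆ = N) {g : G} (hg : g ∈ N) : f g = 1 := by
  have : N ≤ f.ker := by
    rw [← hN, Subgroup.commutator_le]
    intro a _ b _
    rw [MonoidHom.mem_ker]
    simp only [commutatorElement_def, map_mul, map_inv]
    rw [hA (f a) (f b)]
    group
  exact this hg

/-- The commutator subgroup of a perfect subgroup. -/
theorem commutator_eq_top {N : Subgroup G} (hN : ⁅N, N⁆ = N) : commutator N = ⊤ := by
  apply Subgroup.map_injective N.subtype_injective
  rw [Subgroup.map_subtype_commutator, hN, ← MonoidHom.range_eq_map, Subgroup.range_subtype]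

/-- The sign of an involution of a finite set, when it is even. -/
theorem four_dvd_of_sign_one {Ω : Type*} [Fintype Ω] [DecidableEq Ω] [MulAction G Ω] (t : G)
    (ht : t ^ 2 = 1) (hs : Equiv.Perm.sign (MulAction.toPermHom G Ω t) = 1) :
    4 ∣ Nat.card Ω - Nat.card (MulAction.fixedBy Ω t) := by
  let σ : Equiv.Perm Ω := MulAction.toPermHom G Ω t
  have hσ : σ ^ 2 = 1 := by
    change (MulAction.toPermHom G Ω t) ^ 2 = 1
    rw [← map_pow, ht, map_one]
  have hsign := Cfsg.Agent.Lib.SmallSimple.Sign.sign_of_sq_eq_one σ hσ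
  have hs1 : Equiv.Perm.sign σ = 1 := hs
  rw [hs1] at hsign
  have hsupp : σ.support.card = Nat.card Ω - Nat.card (MulAction.fixedBy Ω t) := by
    have h1 : Nat.card (MulAction.fixedBy Ω t) =
        (Finset.univ.filter (fun x : Ω => t • x = x)).card := by
      rw [Nat.card_eq_fintype_card, Fintype.card_subtype]
      rfl
    have h2 : σ.support = Finset.univ.filter (fun x : Ω => ¬ t • x = x) := by
      ext x
      simp [Equiv.Perm.mem_support, σ]
    rw [h1, h2, Finset.filter_not, Finset.card_sdiff_of_subset (Finset.filter_subset _ _),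
      Finset.card_univ, Nat.card_eq_fintype_card]
  have htwo : 2 ∣ σ.support.card := by
    have : σ.support.card = (σ.cycleType).sum := (Equiv.Perm.sum_cycleType σ).symm
    rw [this]
    apply Multiset.dvd_sum
    intro n hn
    have h1 : n ∣ orderOf σ := Equiv.Perm.dvd_of_mem_cycleType hn
    have h3 : orderOf σ ∣ 2 := orderOf_dvd_of_pow_eq_one hσ
    have h4 := Equiv.Perm.two_le_of_mem_cycleType hn
    have h5 : n ∣ 2 := h1.trans h3
    rw [le_antisymm (Nat.le_of_dvd (by norm_num) h5) h4]
  have heven : Even (σ.support.card / 2) := by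
    by_contra hodd
    rw [Nat.not_even_iff_odd] at hodd
    rw [hodd.neg_one_pow] at hsign
    exact absurd hsign (by decide)
  rw [← hsupp]
  obtain ⟨k, hk⟩ := heven
  obtain ⟨m, hm⟩ := htwo
  rw [hm, Nat.mul_div_cancel_left _ (by norm_num)] at hk
  exact ⟨k, by omega⟩

/-- An element of order dividing four, whose square has a unique fixed point among `45` points
(the element thus having eleven four-cycles), is odd. -/
theorem sign_eq_neg_one {Ω : Type*} [Fintype Ω] [DecidableEq Ω] (σ : Equiv.Perm Ω)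
    (hcard : Fintype.card Ω = 45) (hσ : σ ^ 4 = 1) (ω : Ω) (hω : σ ω = ω)
    (h2 : ∀ x, (σ ^ 2) x = x → x = ω) : Equiv.Perm.sign σ = -1 := by
  have h4 : ∀ n ∈ σ.cycleType, n = 4 := by
    intro n hn
    have h1 : n ∣ orderOf σ := Equiv.Perm.dvd_of_mem_cycleType hn
    have h3 : orderOf σ ∣ 4 := orderOf_dvd_of_pow_eq_one hσ
    have h5 := Equiv.Perm.two_le_of_mem_cycleType hn
    have h6 : n ∣ 4 := h1.trans h3
    have h7 : n ≤ 4 := Nat.le_of_dvd (by norm_num) h6
    have hcases : n = 2 ∨ n = 3 ∨ n = 4 := by omega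
    rcases hcases with rfl | rfl | rfl
    · exfalso
      obtain ⟨c, τ, hc1, hc2, hc3, hc4⟩ := Equiv.Perm.mem_cycleType_iff.1 hn
      have hc5 : c ^ 2 = 1 := by
        have := hc3.orderOf
        rw [hc4] at this
        rw [← this]
        exact pow_orderOf_eq_one c
      have hne : c ≠ 1 := hc3.ne_one
      obtain ⟨x, hx⟩ : ∃ x, c x ≠ x := by
        by_contra hall
        push Not at hall
        exact hne (Equiv.ext hall)
      have hτ : τ x = x := (hc2 x).resolve_left hx
      have hcomm : Commute c τ := hc2.commute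
      have hs2 : σ ^ 2 = c ^ 2 * τ ^ 2 := by
        rw [hc1]
        exact hcomm.mul_pow 2
      have hfix : (σ ^ 2) x = x := by
        rw [hs2, hc5, one_mul, pow_two, Equiv.Perm.mul_apply, hτ, hτ]
      have hxω := h2 x hfix
      have : σ x = c x := by
        rw [hc1, Equiv.Perm.mul_apply, hτ]
      rw [hxω] at this hx
      rw [hω] at this
      exact hx this.symm
    · exfalso
      omega
    · rfl
  have hrep := Multiset.eq_replicate.mpr ⟨rfl, h4⟩
  have hsupp : σ.support = Finset.univ.erase ω := by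
    ext x
    simp only [Equiv.Perm.mem_support, Finset.mem_erase, Finset.mem_univ, and_true]
    constructor
    · intro h hx
      rw [hx] at h
      exact h hω
    · intro hx h
      apply hx
      apply h2
      rw [pow_two, Equiv.Perm.mul_apply, h, h]
  have hs44 : σ.support.card = 44 := by
    rw [hsupp, Finset.card_erase_of_mem (Finset.mem_univ _), Finset.card_univ, hcard]
  have hsum : σ.cycleType.sum = 44 := by
    rw [Equiv.Perm.sum_cycleType, hs44]
  have hcardc : Multiset.card σ.cycleType = 11 := by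
    rw [hrep] at hsum
    simp only [Multiset.sum_replicate, smul_eq_mul] at hsum
    rw [hrep]
    simp only [Multiset.card_replicate]
    omega
  rw [Equiv.Perm.sign_of_cycleType, hsum, hcardc]
  decide

/-- The image of a characteristic subgroup of a normal subgroup is normal. -/
theorem normal_map_of_char {N : Subgroup G} [N.Normal] (H : Subgroup N) [hc : H.Characteristic] :
    (H.map N.subtype).Normal := by
  constructor
  rintro _ ⟨a, ha, rfl⟩ g
  refine ⟨MulAut.conjNormal g a, ?_, ?_⟩
  · exact (Subgroup.characteristic_iff_map_le.1 hc (MulAut.conjNormal g)) ⟨a, ha, rfl⟩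
  · simp [MulAut.conjNormal_apply]

/-- Iterated conjugation on powers. -/
theorem conj_iter {b x : G} {k : ℕ} (h : b * x * b⁻¹ = x ^ k) (m : ℕ) :
    b ^ m * x * (b ^ m)⁻¹ = x ^ (k ^ m) := by
  induction m with
  | zero => simp
  | succ m ih =>
    have h1 : b ^ (m + 1) * x * (b ^ (m + 1))⁻¹ = b ^ m * (b * x * b⁻¹) * (b ^ m)⁻¹ := by
      rw [pow_succ]
      group
    rw [h1, h, pow_succ k, pow_mul, ← ih]
    have h2 : ∀ n : ℕ, (b ^ m * x * (b ^ m)⁻¹) ^ n = b ^ m * x ^ n * (b ^ m)⁻¹ := by
      intro n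
      exact conj_pow
    rw [h2]

/-- If `b` normalizes the cyclic group generated by `x`, then `b` acts as a power, and this power
has `k ^ m ≡ 1` when `b ^ m = 1`. -/
theorem exists_conj_pow {b x : G} [Finite G] (hb : b ∈ Subgroup.normalizer ((Subgroup.zpowers x : Subgroup G) : Set G))
    {m : ℕ} (hm : b ^ m = 1) : ∃ k : ℕ, b * x * b⁻¹ = x ^ k ∧ k ^ m ≡ 1 [MOD orderOf x] := by
  have h1 : b * x * b⁻¹ ∈ Subgroup.zpowers x :=
    (Subgroup.mem_normalizer_iff.1 hb x).1 (Subgroup.mem_zpowers x)
  obtain ⟨k, hk⟩ := (mem_powers_iff_mem_zpowers.mpr h1 : b * x * b⁻¹ ∈ Submonoid.powers x)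
  refine ⟨k, hk.symm, ?_⟩
  have h2 := conj_iter hk.symm m
  rw [hm] at h2
  simp only [one_mul, inv_one, mul_one] at h2
  have h3 : x ^ (k ^ m) = x ^ 1 := by rw [← h2, pow_one]
  exact (pow_eq_pow_iff_modEq).1 h3

/-- A `2`-element normalizing a group of order `11` acts as `± 1`. -/
theorem conj_eq_or_inv {x p : G} [Finite G] (hp : orderOf p = 11)
    (hx : x ∈ Subgroup.normalizer ((Subgroup.zpowers p : Subgroup G) : Set G)) (h16 : x ^ 16 = 1) :
    x * p * x⁻¹ = p ∨ x * p * x⁻¹ = p⁻¹ := by
  obtain ⟨k, hk, hk2⟩ := exists_conj_pow hx h16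
  rw [hp] at hk2
  have hmod : k % 11 < 11 := Nat.mod_lt _ (by norm_num)
  have hk3 : (k % 11) ^ 16 % 11 = 1 := by
    have : k ^ 16 % 11 = 1 % 11 := hk2
    rw [Nat.pow_mod] at this
    simpa using this
  have hk4 : k % 11 = 1 ∨ k % 11 = 10 := by
    generalize k % 11 = r at hmod hk3
    interval_cases r <;> simp_all
  have hk5 : p ^ k = p ^ (k % 11) := by
    rw [← hp, pow_mod_orderOf]
  rcases hk4 with h | h
  · left
    rw [hk, hk5, h, pow_one]
  · right
    rw [hk, hk5, h]
    have h11 : p ^ 11 = 1 := by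
      rw [← hp]
      exact pow_orderOf_eq_one p
    have : p ^ 10 * p = 1 := by
      rw [← pow_succ]
      exact h11
    exact eq_inv_of_mul_eq_one_left this

/-- An element of order prime to `4` normalizing a group of order `5` centralizes it. -/
theorem commute_of_five {x b : G} [Finite G] (hx : orderOf x = 5)
    (hb : b ∈ Subgroup.normalizer ((Subgroup.zpowers x : Subgroup G) : Set G)) {m : ℕ}
    (hm : b ^ m = 1) (hm' : m = 3 ∨ m = 11) : b * x = x * b := by
  obtain ⟨k, hk, hk2⟩ := exists_conj_pow hb hm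
  rw [hx] at hk2
  have hmod : k % 5 < 5 := Nat.mod_lt _ (by norm_num)
  have hk3 : (k % 5) ^ m % 5 = 1 := by
    have : k ^ m % 5 = 1 % 5 := hk2
    rw [Nat.pow_mod] at this
    simpa using this
  have hk4 : k % 5 = 1 := by
    generalize k % 5 = r at hmod hk3
    rcases hm' with rfl | rfl <;> interval_cases r <;> simp_all
  have hk5 : x ^ k = x := by
    have : x ^ k = x ^ (k % 5) := by
      rw [← hx, pow_mod_orderOf]
    rw [this, hk4, pow_one]
  rw [hk5] at hk
  calc b * x = (b * x * b⁻¹) * b := by group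
    _ = x * b := by rw [hk]

/-- Commutators act trivially on a normal cyclic subgroup, in the form used. -/
theorem commutator_commute {g h p : G} [Finite G]
    (hg : g ∈ Subgroup.normalizer ((Subgroup.zpowers p : Subgroup G) : Set G))
    (hh : h ∈ Subgroup.normalizer ((Subgroup.zpowers p : Subgroup G) : Set G)) :
    (g * h * g⁻¹ * h⁻¹) * ((h * g) * p * (h * g)⁻¹) = ((h * g) * p * (h * g)⁻¹) * (g * h * g⁻¹ * h⁻¹) := by
  have hgn : g ^ (Nat.card G) = 1 := pow_card_eq_one'
  have hhn : h ^ (Nat.card G) = 1 := pow_card_eq_one'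
  obtain ⟨i, hi, -⟩ := exists_conj_pow hg hgn
  obtain ⟨j, hj, -⟩ := exists_conj_pow hh hhn
  have hcj : ∀ (a : G) (n : ℕ), a * p ^ n * a⁻¹ = (a * p * a⁻¹) ^ n := fun a n => (conj_pow).symm
  have h1 : (g * h) * p * (g * h)⁻¹ = p ^ (j * i) := by
    calc (g * h) * p * (g * h)⁻¹ = g * (h * p * h⁻¹) * g⁻¹ := by group
      _ = g * p ^ j * g⁻¹ := by rw [hj]
      _ = (g * p * g⁻¹) ^ j := hcj g j
      _ = p ^ (j * i) := by rw [hi, ← pow_mul, mul_comm]
  have h2 : (h * g) * p * (h * g)⁻¹ = p ^ (j * i) := by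
    calc (h * g) * p * (h * g)⁻¹ = h * (g * p * g⁻¹) * h⁻¹ := by group
      _ = h * p ^ i * h⁻¹ := by rw [hi]
      _ = (h * p * h⁻¹) ^ i := hcj h i
      _ = p ^ (j * i) := by rw [hj, ← pow_mul]
  have h3 : (g * h * g⁻¹ * h⁻¹) * ((h * g) * p * (h * g)⁻¹) * (g * h * g⁻¹ * h⁻¹)⁻¹ =
      (g * h) * p * (g * h)⁻¹ := by group
  rw [h1, ← h2] at h3
  calc (g * h * g⁻¹ * h⁻¹) * ((h * g) * p * (h * g)⁻¹) =
      ((g * h * g⁻¹ * h⁻¹) * ((h * g) * p * (h * g)⁻¹) * (g * h * g⁻¹ * h⁻¹)⁻¹) * (g * h * g⁻¹ * h⁻¹) := by group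
    _ = _ := by rw [h3]

/-- Commuting with a generator gives normalizing. -/
theorem mem_normalizer_of_commute {t p : G} (h : t * p = p * t) :
    t ∈ Subgroup.normalizer ((Subgroup.zpowers p : Subgroup G) : Set G) := by
  have hc : Commute t p := h
  rw [Subgroup.mem_normalizer_iff]
  intro a
  constructor
  · intro ha
    obtain ⟨n, rfl⟩ := Subgroup.mem_zpowers_iff.1 ha
    have : t * p ^ n * t⁻¹ = p ^ n := by
      rw [(hc.zpow_right n).eq]
      group
    rw [this]
    exact ha
  · intro ha
    obtain ⟨n, hn⟩ := Subgroup.mem_zpowers_iff.1 ha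
    have : a = p ^ n := by
      have h2 : t⁻¹ * (p ^ n) * t = p ^ n := by
        have hc' : Commute t⁻¹ (p ^ n) := (hc.zpow_right n).inv_left
        rw [hc'.eq]
        group
      rw [← h2, hn]
      group
    rw [this]
    exact Subgroup.zpow_mem_zpowers p n

end Basic

section Main

variable {G : Type*} [Group G] [Finite G]

instance fact_prime_5 : Fact (Nat.Prime 5) := ⟨by norm_num⟩
instance fact_prime_11 : Fact (Nat.Prime 11) := ⟨by norm_num⟩

/-- Orders of Sylow subgroups. -/
theorem card_syl2 (hord : Nat.card G = 7920) (V : Sylow 2 G) : Nat.card V = 16 :=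
  card_sylow_eq (k := 4) (m := 495) (by rw [hord]; norm_num) (by norm_num) V
theorem card_syl3 (hord : Nat.card G = 7920) (V : Sylow 3 G) : Nat.card V = 9 :=
  card_sylow_eq (k := 2) (m := 880) (by rw [hord]; norm_num) (by norm_num) V
theorem card_syl5 (hord : Nat.card G = 7920) (V : Sylow 5 G) : Nat.card V = 5 :=
  card_sylow_eq (k := 1) (m := 1584) (by rw [hord]; norm_num) (by norm_num) V
theorem card_syl11 (hord : Nat.card G = 7920) (V : Sylow 11 G) : Nat.card V = 11 :=
  card_sylow_eq (k := 1) (m := 720) (by rw [hord]; norm_num) (by norm_num) V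

/-- The prime divisors of `7920`. -/
def P4 (p : ℕ) : Prop := p = 2 ∨ p = 3 ∨ p = 5 ∨ p = 11

theorem P4.prime {p : ℕ} (h : P4 p) : p.Prime := by
  rcases h with rfl | rfl | rfl | rfl <;> norm_num

/-- A generator of a Sylow `11`-subgroup. -/
theorem exists_gen (hord : Nat.card G = 7920) (P : Sylow 11 G) :
    ∃ p : G, p ∈ (P : Subgroup G) ∧ orderOf p = 11 ∧ (P : Subgroup G) = Subgroup.zpowers p := by
  have hc := card_syl11 hord P
  obtain ⟨x, hx⟩ := exists_prime_orderOf_dvd_card' (G := (P : Subgroup G)) 11 (by rw [hc])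
  have hxG : orderOf (x : G) = 11 := by rw [Subgroup.orderOf_coe, hx]
  refine ⟨x, x.2, hxG, ?_⟩
  apply Cfsg.Agent.Lib.SmallSimple.Count.sylow_eq_zpowers_of_card P hc x.2
  intro h
  rw [h, orderOf_one] at hxG
  omega

/-- The order of a normal `r`-subgroup and Sylow numerics: only `5` can act freely. -/
theorem normal_pgroup_numerics (hord : Nat.card G = 7920) {r : ℕ} (hr : P4 r)
    (R : Subgroup G) (hR : IsPGroup r R) (hne : R ≠ ⊥) :
    Nat.card R = 2 ∨ Nat.card R = 4 ∨ Nat.card R = 8 ∨ Nat.card R = 16 ∨ Nat.card R = 3 ∨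
      Nat.card R = 9 ∨ Nat.card R = 5 ∨ Nat.card R = 11 := by
  haveI : Fact r.Prime := ⟨hr.prime⟩
  obtain ⟨k, hk⟩ := IsPGroup.iff_card.1 hR
  have hd : r ^ k ∣ 7920 := by
    rw [← hk, ← hord]
    exact Subgroup.card_subgroup_dvd_card R
  have hk0 : k ≠ 0 := by
    rintro rfl
    rw [pow_zero] at hk
    exact hne ((Subgroup.card_eq_one).1 hk)
  rcases hr with rfl | rfl | rfl | rfl
  · have hk4 : k ≤ 4 := by
      by_contra hcon
      have : 2 ^ 5 ∣ 2 ^ k := pow_dvd_pow 2 (by omega)
      have := this.trans hd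
      norm_num at this
    rw [hk]
    interval_cases k <;> simp_all
  · have hk4 : k ≤ 2 := by
      by_contra hcon
      have : 3 ^ 3 ∣ 3 ^ k := pow_dvd_pow 3 (by omega)
      have := this.trans hd
      norm_num at this
    rw [hk]
    interval_cases k <;> simp_all
  · have hk4 : k ≤ 1 := by
      by_contra hcon
      have : 5 ^ 2 ∣ 5 ^ k := pow_dvd_pow 5 (by omega)
      have := this.trans hd
      norm_num at this
    rw [hk]
    interval_cases k <;> simp_all
  · have hk4 : k ≤ 1 := by
      by_contra hcon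
      have : 11 ^ 2 ∣ 11 ^ k := pow_dvd_pow 11 (by omega)
      have := this.trans hd
      norm_num at this
    rw [hk]
    interval_cases k <;> simp_all

/-- The normalizer of a Sylow `5`-subgroup, if `5` is isolated, contains an involution. -/
theorem exists_involution (hord : Nat.card G = 7920) (h3 : ¬ Adj G 3 5) (h11 : ¬ Adj G 11 5)
    (Q : Sylow 5 G) : 2 ∣ Nat.card (Subgroup.normalizer ((Q : Subgroup G) : Set G)) := by
  have hc := card_syl5 hord Q
  obtain ⟨x₀, hx₀⟩ := exists_prime_orderOf_dvd_card' (G := (Q : Subgroup G)) 5 (by rw [hc])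
  have hx : orderOf (x₀ : G) = 5 := by rw [Subgroup.orderOf_coe, hx₀]
  have hx1 : (x₀ : G) ≠ 1 := by
    intro h
    rw [h, orderOf_one] at hx
    omega
  have hQ := Cfsg.Agent.Lib.SmallSimple.Count.sylow_eq_zpowers_of_card Q hc x₀.2 hx1
  set M := Subgroup.normalizer ((Q : Subgroup G) : Set G) with hM
  have hno3 : ¬ 3 ∣ Nat.card M := by
    intro hd
    obtain ⟨b, hb⟩ := exists_prime_orderOf_dvd_card' (G := M) 3 hd
    have hbG : orderOf (b : G) = 3 := by rw [Subgroup.orderOf_coe, hb]
    have hb3 : (b : G) ^ 3 = 1 := by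
      rw [← hbG]
      exact pow_orderOf_eq_one _
    have hbm : (b : G) ∈ Subgroup.normalizer ((Subgroup.zpowers (x₀ : G) : Subgroup G) : Set G) := by
      rw [← hQ]
      exact b.2
    exact h3 (adj_of_commute (commute_of_five hx hbm hb3 (Or.inl rfl)) hbG hx (by norm_num))
  have hno11 : ¬ 11 ∣ Nat.card M := by
    intro hd
    obtain ⟨b, hb⟩ := exists_prime_orderOf_dvd_card' (G := M) 11 hd
    have hbG : orderOf (b : G) = 11 := by rw [Subgroup.orderOf_coe, hb]
    have hb3 : (b : G) ^ 11 = 1 := by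
      rw [← hbG]
      exact pow_orderOf_eq_one _
    have hbm : (b : G) ∈ Subgroup.normalizer ((Subgroup.zpowers (x₀ : G) : Subgroup G) : Set G) := by
      rw [← hQ]
      exact b.2
    exact h11 (adj_of_commute (commute_of_five hx hbm hb3 (Or.inr rfl)) hbG hx (by norm_num))
  have hmul := card_normalizer_mul Q
  have hmod : Nat.card (Sylow 5 G) ≡ 1 [MOD 5] := card_sylow_modEq_one 5 G
  by_contra h2
  have hM5 : Nat.card M ∣ 5 := by
    have hdM : Nat.card M ∣ 7920 := by
      rw [← hord]
      exact Subgroup.card_subgroup_dvd_card M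
    have e1 : Nat.Coprime (Nat.card M) 2 :=
      ((Nat.Prime.coprime_iff_not_dvd Nat.prime_two).2 h2).symm
    have e2 : Nat.Coprime (Nat.card M) 3 :=
      ((Nat.Prime.coprime_iff_not_dvd Nat.prime_three).2 hno3).symm
    have e3 : Nat.Coprime (Nat.card M) 11 :=
      ((Nat.Prime.coprime_iff_not_dvd (by norm_num)).2 hno11).symm
    have e4 : Nat.Coprime (Nat.card M) (2 ^ 4 * 3 ^ 2 * 11) :=
      Nat.Coprime.mul_right (Nat.Coprime.mul_right (e1.pow_right 4) (e2.pow_right 2)) e3
    apply e4.dvd_of_dvd_mul_right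
    have : (2 ^ 4 * 3 ^ 2 * 11 * 5 : ℕ) = 7920 := by norm_num
    rw [show (5 * (2 ^ 4 * 3 ^ 2 * 11) : ℕ) = 7920 by norm_num]
    exact hdM
  have hM5' : Nat.card M = 5 := by
    have hQM : Nat.card (Q : Subgroup G) ∣ Nat.card M :=
      Subgroup.card_dvd_of_le Subgroup.le_normalizer
    rw [hc] at hQM
    exact Nat.dvd_antisymm hM5 hQM
  rw [hM5'] at hmul
  rw [hord] at hmul
  have : Nat.card (Sylow 5 G) = 1584 := by omega
  rw [this] at hmod
  exact absurd hmod (by decide)

/-- There is no non-trivial normal subgroup of prime power order. -/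
theorem no_normal_pgroup (hord : Nat.card G = 7920) (A : Set ℕ)
    (hadj : ∀ p q, P4 p → P4 q → Adj G p q → (p ∈ A ↔ q ∈ A))
    (ha : ∃ a, P4 a ∧ a ∈ A) (hb : ∃ b, P4 b ∧ b ∉ A) {r : ℕ} (hr : P4 r) (R : Subgroup G)
    [R.Normal] (hR : IsPGroup r R) (hne : R ≠ ⊥) : False := by
  classical
  haveI hrf : Fact r.Prime := ⟨hr.prime⟩
  have hcardR := normal_pgroup_numerics hord hr R hR hne
  have hRpow : ∀ a ∈ R, ∃ k, a ^ r ^ k = 1 := by
    intro a ha
    obtain ⟨k, hk⟩ := hR ⟨a, ha⟩
    exact ⟨k, congrArg Subtype.val hk⟩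
  -- the free action
  have hfree : ∀ s, P4 s → ¬ (s ∈ A ↔ r ∈ A) → ∀ V : Sylow s G, Nat.card V ∣ Nat.card R - 1 := by
    intro s hs hopp V
    haveI hsf : Fact s.Prime := ⟨hs.prime⟩
    have hsr : r ≠ s := by
      rintro rfl
      exact hopp Iff.rfl
    apply card_dvd_sub_one (V : Subgroup G) R
    · intro v _ a ha
      exact Subgroup.Normal.conj_mem inferInstance a ha v
    · intro v hv hv1 a ha ha1 hcomm
      have hcomm' : a * v = v * a := by
        have : v * a = a * v := by
          calc v * a = (v * a * v⁻¹) * v := by group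
            _ = a * v := by rw [hcomm]
        exact this.symm
      obtain ⟨k, hk⟩ := hRpow a ha
      obtain ⟨l, hl⟩ := V.isPGroup' ⟨v, hv⟩
      have hl' : v ^ s ^ l = 1 := congrArg Subtype.val hl
      have := adj_of_commute_pow hr.prime hs.prime hsr hcomm' ha1 hv1 hk hl'
      exact hopp (hadj r s hr hs this).symm
  -- an opposite prime must be `5`
  have hopp5 : ∀ s, P4 s → ¬ (s ∈ A ↔ r ∈ A) → s = 5 ∧ (Nat.card R = 16 ∨ Nat.card R = 11) := by
    intro s hs hopp
    rcases hs with rfl | rfl | rfl | rfl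
    · exfalso
      obtain ⟨V⟩ : Nonempty (Sylow 2 G) := inferInstance
      have h := hfree 2 (Or.inl rfl) hopp V
      rw [card_syl2 hord V] at h
      rcases hcardR with h' | h' | h' | h' | h' | h' | h' | h' <;> rw [h'] at h <;> norm_num at h
    · exfalso
      obtain ⟨V⟩ : Nonempty (Sylow 3 G) := inferInstance
      have h := hfree 3 (Or.inr (Or.inl rfl)) hopp V
      rw [card_syl3 hord V] at h
      rcases hcardR with h' | h' | h' | h' | h' | h' | h' | h' <;> rw [h'] at h <;> norm_num at h
    · refine ⟨rfl, ?_⟩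
      obtain ⟨V⟩ : Nonempty (Sylow 5 G) := inferInstance
      have h := hfree 5 (Or.inr (Or.inr (Or.inl rfl))) hopp V
      rw [card_syl5 hord V] at h
      rcases hcardR with h' | h' | h' | h' | h' | h' | h' | h'
      all_goals first
        | exact Or.inl h'
        | exact Or.inr h'
        | (exfalso; rw [h'] at h; revert h; norm_num)
    · exfalso
      obtain ⟨V⟩ : Nonempty (Sylow 11 G) := inferInstance
      have h := hfree 11 (Or.inr (Or.inr (Or.inr rfl))) hopp V
      rw [card_syl11 hord V] at h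
      rcases hcardR with h' | h' | h' | h' | h' | h' | h' | h' <;> rw [h'] at h <;> norm_num at h
  -- there is an opposite prime
  obtain ⟨s, hs, hsopp⟩ : ∃ s, P4 s ∧ ¬ (s ∈ A ↔ r ∈ A) := by
    obtain ⟨a, ha1, ha2⟩ := ha
    obtain ⟨b, hb1, hb2⟩ := hb
    by_cases hrA : r ∈ A
    · exact ⟨b, hb1, by simp [hrA, hb2]⟩
    · exact ⟨a, ha1, by simp [hrA, ha2]⟩
  obtain ⟨rfl, hcR⟩ := hopp5 s hs hsopp
  -- hence `5` is isolated
  have hiso : ∀ q, P4 q → q ≠ 5 → ¬ Adj G q 5 := by
    intro q hq hq5 hA
    have h1 := hadj q 5 hq (Or.inr (Or.inr (Or.inl rfl))) hA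
    by_cases hqr : q ∈ A ↔ r ∈ A
    · exact hsopp (h1.symm.trans hqr)
    · exact hq5 (hopp5 q hq hqr).1
  have h2' := hiso 2 (Or.inl rfl) (by norm_num)
  have h3' := hiso 3 (Or.inr (Or.inl rfl)) (by norm_num)
  have h11' := hiso 11 (Or.inr (Or.inr (Or.inr rfl))) (by norm_num)
  obtain ⟨Q⟩ : Nonempty (Sylow 5 G) := inferInstance
  have hinv := exists_involution hord h3' h11' Q
  obtain ⟨t, ht⟩ := exists_prime_orderOf_dvd_card'
    (G := Subgroup.normalizer ((Q : Subgroup G) : Set G)) 2 hinv
  have htG : orderOf (t : G) = 2 := by rw [Subgroup.orderOf_coe, ht]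
  have hc := card_syl5 hord Q
  obtain ⟨x₀, hx₀⟩ := exists_prime_orderOf_dvd_card' (G := (Q : Subgroup G)) 5 (by rw [hc])
  have hx : orderOf (x₀ : G) = 5 := by rw [Subgroup.orderOf_coe, hx₀]
  have hx1 : (x₀ : G) ≠ 1 := by
    intro h
    rw [h, orderOf_one] at hx
    omega
  -- the commutator
  set x : G := x₀.1 with hxdef
  set u : G := t.1 with hudef
  have hutx : u * x * u⁻¹ ∈ (Q : Subgroup G) :=
    (Subgroup.mem_normalizer_iff.1 t.2 x).1 x₀.2
  set c : G := u * x * u⁻¹ * x⁻¹ with hc_def
  have hcQ : c ∈ (Q : Subgroup G) := Subgroup.mul_mem _ hutx (Subgroup.inv_mem _ x₀.2)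
  have hc1 : c ≠ 1 := by
    intro h
    have h1 : u * x * u⁻¹ = x := by
      have := mul_inv_eq_one.1 h
      exact this
    have h2 : u * x = x * u := by
      calc u * x = (u * x * u⁻¹) * u := by group
        _ = x * u := by rw [h1]
    exact h2' (adj_of_commute h2 htG hx (by norm_num))
  have hc5 : c ^ 5 = 1 := by
    have h5 : c ^ Nat.card (Q : Subgroup G) = 1 := by
      have := pow_card_eq_one' (G := (Q : Subgroup G)) (x := ⟨c, hcQ⟩)
      exact congrArg Subtype.val this
    rwa [hc] at h5
  rcases hcR with hc16 | hc11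
  · -- `R` is a normal Sylow `2`-subgroup
    have hr2 : r = 2 := by
      have hd : r ∣ Nat.card R := by
        obtain ⟨k, hk⟩ := IsPGroup.iff_card.1 hR
        rw [hk] at hc16 ⊢
        refine dvd_pow_self r ?_
        rintro rfl
        simp at hc16
      rw [hc16] at hd
      have : r ∣ 2 ^ 4 := by norm_num; exact hd
      exact (Nat.prime_dvd_prime_iff_eq hr.prime Nat.prime_two).1 (hr.prime.dvd_of_dvd_pow this)
    have hidx : R.index = 495 := by
      have := Subgroup.card_mul_index R
      rw [hord, hc16] at this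
      omega
    have hu2 : u ^ 2 = 1 := by
      rw [← htG]
      exact pow_orderOf_eq_one _
    have huR : u ∈ R := by
      have h1 : u ^ R.index ∈ R := Subgroup.pow_index_mem R u
      have h2 : u ^ 495 = u := by
        calc u ^ 495 = (u ^ 2) ^ 247 * u := by rw [← pow_mul, ← pow_succ]
          _ = u := by rw [hu2]; simp
      rwa [hidx, h2] at h1
    have hcR : c ∈ R := by
      have e : c = u * (x * u⁻¹ * x⁻¹) := by rw [hc_def]; group
      rw [e]
      exact R.mul_mem huR (Subgroup.Normal.conj_mem inferInstance _ (R.inv_mem huR) x)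
    have h16 : c ^ 16 = 1 := by
      have h5 : c ^ Nat.card R = 1 := by
        have := pow_card_eq_one' (G := R) (x := ⟨c, hcR⟩)
        exact congrArg Subtype.val this
      rwa [hc16] at h5
    apply hc1
    have hd : orderOf c ∣ Nat.gcd 16 5 :=
      Nat.dvd_gcd (orderOf_dvd_of_pow_eq_one h16) (orderOf_dvd_of_pow_eq_one hc5)
    rw [show Nat.gcd 16 5 = 1 by norm_num, Nat.dvd_one, orderOf_eq_one_iff] at hd
    exact hd
  · -- `R` is a normal subgroup of order `11`
    obtain ⟨p₀, hp₀⟩ := exists_prime_orderOf_dvd_card' (G := R) 11 (by rw [hc11])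
    have hp : orderOf (p₀ : G) = 11 := by rw [Subgroup.orderOf_coe, hp₀]
    have hz : Subgroup.zpowers (p₀ : G) = R := by
      apply Subgroup.eq_of_le_of_card_ge ((Subgroup.zpowers_le).2 p₀.2)
      rw [hc11, Nat.card_zpowers, hp]
    have hall : ∀ g : G, g ∈ Subgroup.normalizer ((Subgroup.zpowers (p₀ : G) : Subgroup G) : Set G) := by
      intro g
      rw [hz, Subgroup.normalizer_eq_top]
      exact Subgroup.mem_top g
    have hcc := commutator_commute (hall u) (hall x)
    set p' : G := (x * u) * (p₀ : G) * (x * u)⁻¹ with hp'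
    have hp'1 : p' ≠ 1 := by
      intro h
      have h1 : (p₀ : G) = 1 := by
        have : (x * u)⁻¹ * p' * (x * u) = p₀ := by rw [hp']; group
        rw [← this, h]
        group
      rw [h1, orderOf_one] at hp
      omega
    have hp'11 : p' ^ 11 ^ 1 = 1 := by
      rw [pow_one, hp', conj_pow]
      have : (p₀ : G) ^ 11 = 1 := by
        rw [← hp]
        exact pow_orderOf_eq_one _
      rw [this]
      group
    exact h11' (adj_of_commute_pow (k := 1) (l := 1) (by norm_num) (by norm_num) (by norm_num)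
      hcc.symm hp'1 hc1 hp'11 (by rw [pow_one]; exact hc5))

/-- Burnside's transfer theorem for the Sylow `11`-subgroups of a perfect normal subgroup. -/
theorem burnside_eleven {N : Subgroup G} [N.Normal] (hperf : ⁅N, N⁆ = N) (P : Sylow 11 G)
    (hle : (P : Subgroup G) ≤ N) {p : G} (hpP : (P : Subgroup G) = Subgroup.zpowers p)
    (hp1 : p ≠ 1)
    (h : ∀ y ∈ Subgroup.normalizer ((P : Subgroup G) : Set G) ⊓ N, y * p = p * y) : False := by
  set S : Sylow 11 N := P.subtype hle with hS
  have hSc : (S : Subgroup N) = (P : Subgroup G).subgroupOf N := P.coe_subtype hle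
  have hmap : (S : Subgroup N).map N.subtype = (P : Subgroup G) := by
    rw [hSc, Subgroup.subgroupOf_map_subtype, inf_of_le_left hle]
  have hb := perfect_burnside (commutator_eq_top hperf) S (by
    intro z hz
    have hz1 : (z : G) ∈ Subgroup.normalizer (((S : Subgroup N).map N.subtype : Subgroup G) : Set G) :=
      Subgroup.le_normalizer_map N.subtype ⟨z, hz, rfl⟩
    rw [hmap] at hz1
    have hc := h z ⟨hz1, z.2⟩
    have hcomm : Commute (z : G) p := hc
    rw [Subgroup.mem_centralizer_iff]
    intro a ha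
    have ha' : (a : G) ∈ (P : Subgroup G) := by
      rw [← hmap]
      exact ⟨a, ha, rfl⟩
    rw [hpP] at ha'
    obtain ⟨n, hn⟩ := Subgroup.mem_zpowers_iff.1 ha'
    apply Subtype.ext
    change (a : G) * z = z * a
    rw [← hn]
    exact ((hcomm.zpow_right n).eq).symm)
  have hpP' : p ∈ (P : Subgroup G) := by
    rw [hpP]
    exact Subgroup.mem_zpowers p
  have : (P : Subgroup G) = ⊥ := by
    rw [← hmap, hb, Subgroup.map_bot]
  rw [this] at hpP'
  exact hp1 hpP'

/-- `n₁₁ = 144` is impossible for a proper perfect normal subgroup containing the Sylow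
`11`-subgroups. -/
theorem false_of_144 (hord : Nat.card G = 7920) (hn : Nat.card (Sylow 11 G) = 144)
    (N : Subgroup G) [N.Normal] (hperf : ⁅N, N⁆ = N) (hNtop : N ≠ ⊤)
    (hle : ∀ P : Sylow 11 G, (P : Subgroup G) ≤ N) : False := by
  obtain ⟨P⟩ : Nonempty (Sylow 11 G) := inferInstance
  obtain ⟨p, hpP, hp, hz⟩ := exists_gen hord P
  have hp1 : p ≠ 1 := by
    intro h
    rw [h, orderOf_one] at hp
    omega
  have hH55 : Nat.card (Subgroup.normalizer ((P : Subgroup G) : Set G)) = 55 := by
    have := card_normalizer_mul P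
    rw [hn, hord] at this
    omega
  set H := Subgroup.normalizer ((P : Subgroup G) : Set G) with hH
  have hN := card_eq_mul_inf P N (hle P)
  rw [hn] at hN
  set D : Subgroup G := H ⊓ N with hD
  have hDH : Nat.card D ∣ 55 := by
    rw [← hH55]
    exact Subgroup.card_dvd_of_le inf_le_left
  have hPD : (P : Subgroup G) ≤ D := le_inf Subgroup.le_normalizer (hle P)
  have h11D : 11 ∣ Nat.card D := by
    rw [← card_syl11 hord P]
    exact Subgroup.card_dvd_of_le hPD
  have hDcases : Nat.card D = 11 ∨ Nat.card D = 55 := by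
    obtain ⟨d, hd⟩ := h11D
    have hd' : d ∣ 5 := by
      rw [hd] at hDH
      have h' : 11 * d ∣ 11 * 5 := by simpa using hDH
      exact Nat.dvd_of_mul_dvd_mul_left (by norm_num : 0 < 11) h'
    rcases (Nat.dvd_prime (by norm_num)).1 hd' with rfl | rfl
    · left; omega
    · right; omega
  rcases hDcases with h11 | h55
  · have hDP : (P : Subgroup G) = D :=
      Subgroup.eq_of_le_of_card_ge hPD (by rw [h11, card_syl11 hord P])
    apply burnside_eleven hperf P (hle P) hz hp1
    intro y hy
    have hy' : y ∈ (P : Subgroup G) := by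
      rw [hDP]
      exact hy
    rw [hz] at hy'
    obtain ⟨n, rfl⟩ := Subgroup.mem_zpowers_iff.1 hy'
    exact ((Commute.refl p).zpow_left n).eq
  · apply hNtop
    apply Subgroup.eq_top_of_card_eq
    rw [hN, h55, hord]

/-- `n₁₁ = 12` gives a connected prime graph. -/
theorem connected_of_12 (hord : Nat.card G = 7920) (hn : Nat.card (Sylow 11 G) = 12) :
    Adj G 2 11 ∧ Adj G 3 11 ∧ (Adj G 5 11 ∨ Adj G 3 5) := by
  classical
  obtain ⟨P⟩ : Nonempty (Sylow 11 G) := inferInstance
  obtain ⟨p, hpP, hp, hz⟩ := exists_gen hord P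
  have hH660 : Nat.card (Subgroup.normalizer ((P : Subgroup G) : Set G)) = 660 := by
    have := card_normalizer_mul P
    rw [hn, hord] at this
    omega
  set φ := Subgroup.normalizerMonoidHom (P : Subgroup G) with hφ
  set C : Subgroup (Subgroup.normalizer ((P : Subgroup G) : Set G)) := φ.ker with hC
  have hCcomm : ∀ a : C, ((a : Subgroup.normalizer ((P : Subgroup G) : Set G)) : G) * p =
      p * ((a : Subgroup.normalizer ((P : Subgroup G) : Set G)) : G) := by
    intro a
    have h1 : (a : Subgroup.normalizer ((P : Subgroup G) : Set G)) ∈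
        (Subgroup.centralizer ((P : Subgroup G) : Set G)).subgroupOf
          (Subgroup.normalizer ((P : Subgroup G) : Set G)) := by
      rw [← Subgroup.normalizerMonoidHom_ker]
      exact a.2
    rw [Subgroup.mem_subgroupOf, Subgroup.mem_centralizer_iff] at h1
    exact (h1 p hpP).symm
  have hcyc : IsCyclic (P : Subgroup G) := isCyclic_of_prime_card (card_syl11 hord P)
  have hrange : Nat.card φ.range ∣ 10 := by
    have h1 : Nat.card φ.range ∣ Nat.card (MulAut (P : Subgroup G)) :=
      Subgroup.card_subgroup_dvd_card _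
    rw [IsCyclic.card_mulAut, card_syl11 hord P, Nat.totient_prime (by norm_num)] at h1
    exact h1
  have hCmul : Nat.card C * Nat.card φ.range = 660 := by
    have h1 := Subgroup.card_mul_index C
    rw [hC, Subgroup.index_ker, hH660] at h1
    exact h1
  have h66 : 66 ∣ Nat.card C := by
    have : (66 * 10 : ℕ) = 660 := by norm_num
    have hr := Nat.le_of_dvd (by norm_num) hrange
    obtain ⟨d, hd⟩ := hrange
    have h2 : Nat.card C * Nat.card φ.range * d = 660 * d := by rw [hCmul]
    rw [mul_assoc, ← hd] at h2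
    have h3 : Nat.card C = 66 * d := by omega
    rw [h3]
    exact dvd_mul_right _ _
  have h2C : 2 ∣ Nat.card C := (by norm_num : 2 ∣ 66).trans h66
  have h3C : 3 ∣ Nat.card C := (by norm_num : 3 ∣ 66).trans h66
  obtain ⟨a₂, ha₂⟩ := exists_prime_orderOf_dvd_card' (G := C) 2 h2C
  obtain ⟨a₃, ha₃⟩ := exists_prime_orderOf_dvd_card' (G := C) 3 h3C
  have coe_order : ∀ a : C, orderOf ((a : Subgroup.normalizer ((P : Subgroup G) : Set G)) : G) =
      orderOf a := by
    intro a
    rw [Subgroup.orderOf_coe, Subgroup.orderOf_coe]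
  refine ⟨adj_of_commute (hCcomm a₂) ((coe_order a₂).trans ha₂) hp (by norm_num),
    adj_of_commute (hCcomm a₃) ((coe_order a₃).trans ha₃) hp (by norm_num), ?_⟩
  by_cases h5C : 5 ∣ Nat.card C
  · left
    obtain ⟨a₅, ha₅⟩ := exists_prime_orderOf_dvd_card' (G := C) 5 h5C
    exact adj_of_commute (hCcomm a₅) ((coe_order a₅).trans ha₅) hp (by norm_num)
  · right
    obtain ⟨R₀⟩ : Nonempty (Sylow 3 C) := inferInstance
    have hadj : Adj (Subgroup.normalizer ((P : Subgroup G) : Set G)) 3 5 := by
      apply adj_of_normal C (by rw [hH660]; norm_num) h5C h3C R₀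
      -- `|R₀| = 3`
      obtain ⟨k, hk⟩ := IsPGroup.iff_card.1 R₀.isPGroup'
      have hd : 3 ^ k ∣ 660 := by
        rw [← hk, ← hH660]
        refine (Subgroup.card_subgroup_dvd_card (R₀ : Subgroup C)).trans ?_
        exact Subgroup.card_subgroup_dvd_card C
      have hk0 : k ≠ 0 := by
        rintro rfl
        have hb := R₀.ne_bot_of_dvd_card h3C
        rw [pow_zero] at hk
        exact hb ((Subgroup.card_eq_one).1 hk)
      have hk1 : k = 1 := by
        by_contra hne
        have : 3 ^ 2 ∣ 3 ^ k := pow_dvd_pow 3 (by omega)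
        have := this.trans hd
        norm_num at this
      rw [hk, hk1]
      norm_num
    obtain ⟨g, hg⟩ := hadj
    exact ⟨g, by rw [← hg, Subgroup.orderOf_coe]⟩

/-- If `11` does not divide the order of a perfect normal subgroup, we get a contradiction. -/
theorem adj_of_not_dvd (hord : Nat.card G = 7920) (N : Subgroup G) [N.Normal]
    (h11 : ¬ 11 ∣ Nat.card N) {r : ℕ} (hr : r = 2 ∨ r = 3 ∨ r = 5) (hd : r ∣ Nat.card N) :
    Adj G r 11 := by
  have hrp : r.Prime := by
    rcases hr with rfl | rfl | rfl <;> norm_num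
  haveI : Fact r.Prime := ⟨hrp⟩
  obtain ⟨R₀⟩ : Nonempty (Sylow r N) := inferInstance
  apply adj_of_normal N (by rw [hord]; norm_num) h11 hd R₀
  obtain ⟨k, hk⟩ := IsPGroup.iff_card.1 R₀.isPGroup'
  have hdv : r ^ k ∣ 7920 := by
    rw [← hk, ← hord]
    refine (Subgroup.card_subgroup_dvd_card (R₀ : Subgroup N)).trans ?_
    exact Subgroup.card_subgroup_dvd_card N
  rw [hk]
  rcases hr with rfl | rfl | rfl
  · have hk4 : k ≤ 4 := by
      by_contra hcon
      have : 2 ^ 5 ∣ 2 ^ k := pow_dvd_pow 2 (by omega)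
      have := this.trans hdv
      norm_num at this
    have hk0 : k ≠ 0 := by
      rintro rfl
      have hb := R₀.ne_bot_of_dvd_card hd
      rw [pow_zero] at hk
      exact hb ((Subgroup.card_eq_one).1 hk)
    have hk1 : 1 ≤ k := Nat.pos_of_ne_zero hk0
    interval_cases k <;> norm_num
  · have hk4 : k ≤ 2 := by
      by_contra hcon
      have : 3 ^ 3 ∣ 3 ^ k := pow_dvd_pow 3 (by omega)
      have := this.trans hdv
      norm_num at this
    have hk0 : k ≠ 0 := by
      rintro rfl
      have hb := R₀.ne_bot_of_dvd_card hd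
      rw [pow_zero] at hk
      exact hb ((Subgroup.card_eq_one).1 hk)
    have hk1 : 1 ≤ k := Nat.pos_of_ne_zero hk0
    interval_cases k <;> norm_num
  · have hk4 : k ≤ 1 := by
      by_contra hcon
      have : 5 ^ 2 ∣ 5 ^ k := pow_dvd_pow 5 (by omega)
      have := this.trans hdv
      norm_num at this
    have hk0 : k ≠ 0 := by
      rintro rfl
      have hb := R₀.ne_bot_of_dvd_card hd
      rw [pow_zero] at hk
      exact hb ((Subgroup.card_eq_one).1 hk)
    have hk1 : 1 ≤ k := Nat.pos_of_ne_zero hk0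
    interval_cases k <;> norm_num

/-- Orders with two primes give solvability, which contradicts perfectness. -/
theorem false_of_two_primes {N : Subgroup G} (hperf : ⁅N, N⁆ = N) (hne : N ≠ ⊥) {p q A B : ℕ}
    (hp : p.Prime) (hq : q.Prime) (hd : Nat.card N ∣ p ^ A * q ^ B) : False := by
  obtain ⟨d₁, d₂, h1, h2, h3⟩ := (Nat.dvd_mul).1 hd
  obtain ⟨a, -, rfl⟩ := (Nat.dvd_prime_pow hp).1 h1
  obtain ⟨b, -, rfl⟩ := (Nat.dvd_prime_pow hq).1 h2
  have hsol := Cfsg.Agent.S0144.result (G := N) p q a b hp hq h3.symm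
  haveI hnt : Nontrivial N := (Subgroup.nontrivial_iff_ne_bot N).2 hne
  have hlt := Group.IsSolvable.commutator_lt_top_of_nontrivial N
  rw [commutator_eq_top hperf] at hlt
  exact lt_irrefl _ hlt

/-- An involution in a perfect normal subgroup, centralizing a Sylow `11`-subgroup, when
`n₁₁ = 45`, fixes only this Sylow subgroup. -/
theorem fix_unique [Fintype (Sylow 11 G)] [DecidableEq (Sylow 11 G)]
    (hord : Nat.card G = 7920) (hn : Nat.card (Sylow 11 G) = 45)
    (N : Subgroup G)
    (hsign : ∀ g ∈ N, Equiv.Perm.sign (MulAction.toPermHom G (Sylow 11 G) g) = 1)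
    (hker : ∀ t ∈ N, (∀ Q : Sylow 11 G, t • Q = Q) → t = 1)
    (P : Sylow 11 G) {p t : G} (hp : orderOf p = 11) (hz : (P : Subgroup G) = Subgroup.zpowers p)
    (htN : t ∈ N) (ht2 : t ^ 2 = 1) (ht1 : t ≠ 1) (htp : t * p = p * t) :
    ∀ Q : Sylow 11 G, t • Q = Q → Q = P := by
  have hc := card_syl11 hord P
  have hpP : p ∈ (P : Subgroup G) := by
    rw [hz]
    exact Subgroup.mem_zpowers p
  have hp1 : p ≠ 1 := by
    intro h
    rw [h, orderOf_one] at hp
    omega
  have htP : t • P = P := by
    rw [Sylow.smul_eq_iff_mem_normalizer]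
    change t ∈ Subgroup.normalizer ((P : Subgroup G) : Set G)
    rw [hz]
    exact mem_normalizer_of_commute htp
  have hpfix : ∀ Q : Sylow 11 G, p • Q = Q → Q = P := by
    intro Q hQ
    by_contra hne
    exact hp1 (Cfsg.Agent.Lib.SmallSimple.Sign.eq_one_of_smul_eq P Q hc hne hpP hQ)
  have hpPfix : p • P = P := by
    rw [Sylow.smul_eq_iff_mem_normalizer]
    exact Subgroup.le_normalizer hpP
  have hd4 := four_dvd_of_sign_one (Ω := Sylow 11 G) t ht2 (hsign t htN)
  have hmod := Cfsg.Agent.Lib.Small.Low1.card_fix_modEq (G := G) (Ω := Sylow 11 G) hp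
    (fun Q => t • Q = Q) (by
      intro Q hQ
      change t • (p • Q) = p • Q
      rw [← mul_smul, htp, mul_smul, hQ])
  have hone : Nat.card {Q : Sylow 11 G // t • Q = Q ∧ p • Q = Q} = 1 := by
    rw [Nat.card_eq_one_iff_unique]
    refine ⟨⟨?_⟩, ⟨⟨P, htP, hpPfix⟩⟩⟩
    rintro ⟨Q, -, hQ⟩ ⟨Q', -, hQ'⟩
    apply Subtype.ext
    exact (hpfix Q hQ).trans (hpfix Q' hQ').symm
  rw [hone] at hmod
  set f := Nat.card {Q : Sylow 11 G // t • Q = Q} with hf
  have hf' : Nat.card (MulAction.fixedBy (Sylow 11 G) t) = f := rfl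
  rw [hf', hn] at hd4
  have hfle : f ≤ 45 := by
    rw [hf, ← hn]
    exact Finite.card_subtype_le _
  have hfpos : 0 < f := by
    rw [hf]
    exact Nat.card_pos_iff.2 ⟨⟨⟨P, htP⟩⟩, inferInstance⟩
  have hmod' : f % 11 = 1 % 11 := hmod
  have hcases : f = 1 ∨ f = 45 := by omega
  rcases hcases with h1 | h45
  · intro Q hQ
    have hss := (Nat.card_eq_one_iff_unique.1 h1).1
    have := hss.elim (⟨Q, hQ⟩ : {Q : Sylow 11 G // t • Q = Q}) ⟨P, htP⟩
    exact congrArg Subtype.val this
  · exfalso
    apply ht1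
    apply hker t htN
    intro Q
    by_contra hQ
    have hlt := Fintype.card_subtype_lt (p := fun Q : Sylow 11 G => t • Q = Q) (x := Q) hQ
    rw [← Nat.card_eq_fintype_card, ← Nat.card_eq_fintype_card, ← hf, hn] at hlt
    omega

/-- No element of order four with square centralizing a Sylow `11`-subgroup. -/
theorem no_four [Fintype (Sylow 11 G)] [DecidableEq (Sylow 11 G)]
    (hord : Nat.card G = 7920) (hn : Nat.card (Sylow 11 G) = 45)
    (N : Subgroup G)
    (hsign : ∀ g ∈ N, Equiv.Perm.sign (MulAction.toPermHom G (Sylow 11 G) g) = 1)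
    (hker : ∀ t ∈ N, (∀ Q : Sylow 11 G, t • Q = Q) → t = 1)
    (P : Sylow 11 G) {p y : G} (hp : orderOf p = 11) (hz : (P : Subgroup G) = Subgroup.zpowers p)
    (hyN : y ∈ N) (hy4 : y ^ 4 = 1) (hy2 : y ^ 2 ≠ 1) (hyp : y ^ 2 * p = p * y ^ 2) : False := by
  have ht2 : (y ^ 2) ^ 2 = 1 := by rw [← pow_mul]; exact hy4
  have hfix := fix_unique hord hn N hsign hker P hp hz (N.pow_mem hyN 2) ht2 hy2 hyp
  have htP : y ^ 2 • P = P := by
    rw [Sylow.smul_eq_iff_mem_normalizer]
    change y ^ 2 ∈ Subgroup.normalizer ((P : Subgroup G) : Set G)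
    rw [hz]
    exact mem_normalizer_of_commute hyp
  have hyP : y • P = P := by
    apply hfix
    rw [← mul_smul, ← pow_succ, pow_succ', mul_smul, htP]
  have hs := hsign y hyN
  have hneg := sign_eq_neg_one (MulAction.toPermHom G (Sylow 11 G) y)
    (by rw [← Nat.card_eq_fintype_card, hn])
    (by rw [← map_pow, hy4, map_one]) P hyP (by
      intro Q hQ
      apply hfix
      rw [← map_pow] at hQ
      exact hQ)
  rw [hs] at hneg
  exact absurd hneg (by decide)

/-- `n₁₁ = 45` is impossible for a perfect minimal normal subgroup containing the Sylow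
`11`-subgroups. -/
theorem false_of_45 (hord : Nat.card G = 7920) (hn : Nat.card (Sylow 11 G) = 45)
    (N : Subgroup G) [N.Normal] (hperf : ⁅N, N⁆ = N)
    (hmin : ∀ M : Subgroup G, M.Normal → M ≤ N → M = ⊥ ∨ M = N)
    (hle : ∀ P : Sylow 11 G, (P : Subgroup G) ≤ N) : False := by
  classical
  haveI := Fintype.ofFinite (Sylow 11 G)
  have hsign : ∀ g ∈ N, Equiv.Perm.sign (MulAction.toPermHom G (Sylow 11 G) g) = 1 := by
    intro g hg
    exact hom_eq_one_of_perfect (A := ℤˣ) mul_comm
      ((Equiv.Perm.sign).comp (MulAction.toPermHom G (Sylow 11 G))) hperf hg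
  have hker : ∀ t ∈ N, (∀ Q : Sylow 11 G, t • Q = Q) → t = 1 := by
    set M : Subgroup G := (MulAction.toPermHom G (Sylow 11 G)).ker ⊓ N with hM
    have hmemM : ∀ g ∈ N, (∀ Q : Sylow 11 G, g • Q = Q) → g ∈ M := by
      intro g hg hfix
      exact Subgroup.mem_inf.2 ⟨MonoidHom.mem_ker.2 (Equiv.ext hfix), hg⟩
    have hMn : M.Normal := inferInstance
    rcases hmin M hMn inf_le_right with hb | ht
    · intro t ht hfix
      have := hmemM t ht hfix
      rw [hb] at this
      exact this
    · exfalso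
      have hall : ∀ g ∈ N, ∀ Q : Sylow 11 G, g • Q = Q := by
        intro g hg Q
        rw [← ht] at hg
        have h1 := MonoidHom.mem_ker.1 (Subgroup.mem_inf.1 hg).1
        exact congrArg (fun σ : Equiv.Perm (Sylow 11 G) => σ Q) h1
      obtain ⟨P⟩ : Nonempty (Sylow 11 G) := inferInstance
      obtain ⟨p, hpP, hp, hz⟩ := exists_gen hord P
      have hp1 : p ≠ 1 := by
        intro h
        rw [h, orderOf_one] at hp
        omega
      have hone : ∀ Q : Sylow 11 G, Q = P := by
        intro Q
        by_contra hne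
        exact hp1 (Cfsg.Agent.Lib.SmallSimple.Sign.eq_one_of_smul_eq P Q (card_syl11 hord P) hne hpP
          (hall p (hle P hpP) Q))
      have hs : Nat.card (Sylow 11 G) = 1 := by
        rw [Nat.card_eq_one_iff_unique]
        exact ⟨⟨fun a b => (hone a).trans (hone b).symm⟩, ⟨P⟩⟩
      omega
  -- a Sylow `2`-subgroup of `N` and a Sylow `11`-subgroup it normalizes
  obtain ⟨T'⟩ : Nonempty (Sylow 2 N) := inferInstance
  set T : Subgroup G := (T' : Subgroup N).map N.subtype with hT
  have hTN : T ≤ N := by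
    rintro _ ⟨a, -, rfl⟩
    exact a.2
  have hTpg : IsPGroup 2 T := T'.isPGroup'.map _
  obtain ⟨P, hPfix⟩ := hTpg.nonempty_fixed_point_of_prime_not_dvd_card (Sylow 11 G)
    (by rw [hn]; norm_num)
  have hTP : ∀ x ∈ T, x • P = P := by
    intro x hx
    exact hPfix ⟨x, hx⟩
  obtain ⟨p, hpP, hp, hz⟩ := exists_gen hord P
  have hp1 : p ≠ 1 := by
    intro h
    rw [h, orderOf_one] at hp
    omega
  have hH176 : Nat.card (Subgroup.normalizer ((P : Subgroup G) : Set G)) = 176 := by
    have := card_normalizer_mul P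
    rw [hn, hord] at this
    omega
  have hTH : T ≤ Subgroup.normalizer ((P : Subgroup G) : Set G) := fun x hx =>
    Sylow.smul_eq_iff_mem_normalizer.1 (hTP x hx)
  have hNcard := card_eq_mul_inf P N (hle P)
  rw [hn] at hNcard
  set H := Subgroup.normalizer ((P : Subgroup G) : Set G) with hH
  set D : Subgroup G := H ⊓ N with hD
  have hDH : Nat.card D ∣ 176 := by
    rw [← hH176]
    exact Subgroup.card_dvd_of_le inf_le_left
  have hPD : (P : Subgroup G) ≤ D := le_inf Subgroup.le_normalizer (hle P)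
  have hTD : T ≤ D := le_inf hTH hTN
  have h11D : 11 ∣ Nat.card D := by
    rw [← card_syl11 hord P]
    exact Subgroup.card_dvd_of_le hPD
  -- the order of `D`
  obtain ⟨a, ha⟩ : ∃ a, Nat.card D = 11 * 2 ^ a := by
    obtain ⟨d, hd⟩ := h11D
    have hd' : d ∣ 2 ^ 4 := by
      rw [hd] at hDH
      have h' : 11 * d ∣ 11 * 2 ^ 4 := by simpa using hDH
      exact Nat.dvd_of_mul_dvd_mul_left (by norm_num : 0 < 11) h'
    obtain ⟨a, -, rfl⟩ := (Nat.dvd_prime_pow Nat.prime_two).1 hd'
    exact ⟨a, hd⟩
  have hTcard' : Nat.card (T' : Subgroup N) = 2 ^ a :=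
    card_sylow_eq (k := a) (m := 495) (by rw [hNcard, ha]; ring) (by norm_num) T'
  have hTcard : Nat.card T = 2 ^ a := by
    rw [← hTcard']
    exact (Nat.card_congr (Subgroup.equivMapOfInjective _ _ N.subtype_injective).toEquiv).symm
  -- `T` does not centralize `P`
  have hF1 : (∀ x ∈ T, x * p = p * x) → False := by
    intro hcomm
    apply burnside_eleven hperf P (hle P) hz hp1
    set C : Subgroup G := Subgroup.centralizer ({p} : Set G) with hC
    have hmemC : ∀ x, x ∈ C ↔ x * p = p * x := by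
      intro x
      rw [hC, Subgroup.mem_centralizer_singleton_iff]
    have hPC : (P : Subgroup G) ≤ D ⊓ C := by
      refine le_inf hPD ?_
      intro y hy
      rw [hmemC]
      rw [hz] at hy
      obtain ⟨n, rfl⟩ := Subgroup.mem_zpowers_iff.1 hy
      exact ((Commute.refl p).zpow_left n).eq
    have hTC : T ≤ D ⊓ C := by
      refine le_inf hTD ?_
      intro y hy
      rw [hmemC]
      exact hcomm y hy
    have h1 : 11 ∣ Nat.card (D ⊓ C : Subgroup G) := by
      rw [← card_syl11 hord P]
      exact Subgroup.card_dvd_of_le hPC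
    have h2 : 2 ^ a ∣ Nat.card (D ⊓ C : Subgroup G) := by
      rw [← hTcard]
      exact Subgroup.card_dvd_of_le hTC
    have h3 : 11 * 2 ^ a ∣ Nat.card (D ⊓ C : Subgroup G) :=
      Nat.Coprime.mul_dvd_of_dvd_of_dvd ((Nat.Coprime.pow_right a (by norm_num))) h1 h2
    have h4 : Nat.card (D ⊓ C : Subgroup G) ∣ 11 * 2 ^ a := by
      rw [← ha]
      exact Subgroup.card_dvd_of_le inf_le_left
    have h5 : D ⊓ C = D := Subgroup.eq_of_le_of_card_ge inf_le_left (by
      rw [ha, Nat.dvd_antisymm h3 h4])
    intro y hy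
    have : y ∈ D ⊓ C := by
      rw [h5]
      exact hy
    exact (hmemC y).1 this.2
  -- elements of `T`
  have hT16 : ∀ x ∈ T, x ^ 16 = 1 := by
    intro x hx
    have h1 : Nat.card T ∣ 16 := by
      have h2 : Nat.card T ∣ Nat.card D := Subgroup.card_dvd_of_le hTD
      rw [hTcard] at h2 ⊢
      have h3 : 2 ^ a ∣ 176 := h2.trans hDH
      have h4 : Nat.Coprime (2 ^ a) 11 := Nat.Coprime.pow_left a (by norm_num)
      exact h4.dvd_of_dvd_mul_right (by simpa using h3)
    have h2 : x ^ Nat.card T = 1 := by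
      have := pow_card_eq_one' (G := T) (x := ⟨x, hx⟩)
      exact congrArg Subtype.val this
    obtain ⟨c, hc⟩ := h1
    rw [hc, pow_mul, h2, one_pow]
  have hTpm : ∀ x ∈ T, x * p * x⁻¹ = p ∨ x * p * x⁻¹ = p⁻¹ := by
    intro x hx
    apply conj_eq_or_inv hp _ (hT16 x hx)
    rw [← hz]
    exact hTH hx
  have hTsq : ∀ x ∈ T, x ^ 2 * p = p * x ^ 2 := by
    intro x hx
    rcases hTpm x hx with h | h
    · have h1 : x * p = p * x := by
        calc x * p = (x * p * x⁻¹) * x := by group
          _ = p * x := by rw [h]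
      have hc : Commute x p := h1
      exact (hc.pow_left 2).eq
    · have h1 : x * p = p⁻¹ * x := by
        calc x * p = (x * p * x⁻¹) * x := by group
          _ = p⁻¹ * x := by rw [h]
      have h2 : x * p⁻¹ = p * x := by
        have h3 : x * p⁻¹ * x⁻¹ = p := by
          have h4 : x * p⁻¹ * x⁻¹ = (x * p * x⁻¹)⁻¹ := by group
          rw [h4, h, inv_inv]
        calc x * p⁻¹ = (x * p⁻¹ * x⁻¹) * x := by group
          _ = p * x := by rw [h3]
      calc x ^ 2 * p = x * (x * p) := by rw [pow_two, mul_assoc]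
        _ = x * (p⁻¹ * x) := by rw [h1]
        _ = (x * p⁻¹) * x := by rw [mul_assoc]
        _ = (p * x) * x := by rw [h2]
        _ = p * x ^ 2 := by rw [pow_two, mul_assoc]
  have hexp : ∀ x ∈ T, x ^ 2 = 1 := by
    intro x hx
    by_contra hx2
    have h1 : orderOf x ∣ 2 ^ 4 := orderOf_dvd_of_pow_eq_one (hT16 x hx)
    obtain ⟨j, hj4, hj⟩ := (Nat.dvd_prime_pow Nat.prime_two).1 h1
    have hj2 : 2 ≤ j := by
      by_contra hlt
      apply hx2
      have : orderOf x ∣ 2 := by
        rw [hj]
        exact pow_dvd_pow 2 (by omega : j ≤ 1)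
      exact orderOf_dvd_iff_pow_eq_one.1 this
    obtain ⟨i, rfl⟩ : ∃ i, j = i + 2 := ⟨j - 2, by omega⟩
    set y := x ^ 2 ^ i with hy
    have hyT : y ∈ T := T.pow_mem hx _
    have hy4 : y ^ 4 = 1 := by
      rw [hy, ← pow_mul, show 2 ^ i * 4 = 2 ^ (i + 2) by ring, ← hj]
      exact pow_orderOf_eq_one x
    have hy2 : y ^ 2 ≠ 1 := by
      rw [hy, ← pow_mul]
      apply pow_ne_one_of_lt_orderOf
      · positivity
      · rw [hj, show 2 ^ i * 2 = 2 ^ (i + 1) by ring]
        exact Nat.pow_lt_pow_right (by norm_num) (by omega)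
    have hyp : y ^ 2 * p = p * y ^ 2 := by
      have hc : Commute (x ^ 2) p := hTsq x hx
      have : y ^ 2 = (x ^ 2) ^ 2 ^ i := by
        rw [hy, ← pow_mul, ← pow_mul, mul_comm]
      rw [this]
      exact (hc.pow_left _).eq
    exact no_four hord hn N hsign hker P hp hz (hTN hyT) hy4 hy2 hyp
  have hTcomm : ∀ x ∈ T, ∀ w ∈ T, x * w = w * x := by
    intro x hx w hw
    have h1 : (x * w) ^ 2 = 1 := hexp _ (T.mul_mem hx hw)
    have h2 : x ^ 2 = 1 := hexp x hx
    have h3 : w ^ 2 = 1 := hexp w hw
    have hxi : x⁻¹ = x := by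
      rw [inv_eq_iff_mul_eq_one, ← pow_two]
      exact h2
    have hwi : w⁻¹ = w := by
      rw [inv_eq_iff_mul_eq_one, ← pow_two]
      exact h3
    have h4 : (x * w)⁻¹ = x * w := by
      rw [inv_eq_iff_mul_eq_one, ← pow_two]
      exact h1
    rw [mul_inv_rev, hxi, hwi] at h4
    exact h4.symm
  -- the normalizer of `T` in `N`
  have hnorm : Subgroup.normalizer ((T' : Subgroup N) : Set N) ≤ Subgroup.centralizer ((T' : Sylow 2 N) : Set N) := by
    intro z hz'
    have hzT : (z : G) ∈ Subgroup.normalizer (T : Set G) :=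
      Subgroup.le_normalizer_map N.subtype ⟨z, hz', rfl⟩
    set y : G := z.1 with hy
    have hconj : ∀ x ∈ T, y * x * y⁻¹ ∈ T := fun x hx => (Subgroup.mem_normalizer_iff.1 hzT x).1 hx
    have hgoal : ∀ x ∈ T, x * y = y * x := by
      by_cases hcase : ∃ t ∈ T, t ≠ 1 ∧ t * p = p * t
      · obtain ⟨t, htT, ht1, htp⟩ := hcase
        have hfix := fix_unique hord hn N hsign hker P hp hz (hTN htT) (hexp t htT) ht1 htp
        have hyH : y ∈ H := by
          have h1 : (y * t * y⁻¹) • P = P := hTP _ (hconj t htT)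
          have h2 : t • (y⁻¹ • P) = y⁻¹ • P := by
            have h3 : y • t • y⁻¹ • P = P := by
              rw [← mul_smul, ← mul_smul]
              exact h1
            calc t • (y⁻¹ • P) = y⁻¹ • (y • t • y⁻¹ • P) := by simp
              _ = y⁻¹ • P := by rw [h3]
          have h4 := hfix _ h2
          have h5 : y • P = P := by
            conv_lhs => rw [← h4]
            simp
          exact Sylow.smul_eq_iff_mem_normalizer.1 h5
        set W : Subgroup G := D ⊓ Subgroup.normalizer (T : Set G) with hW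
        have hyW : y ∈ W := ⟨⟨hyH, z.2⟩, hzT⟩
        have hTW : T ≤ W := le_inf hTD Subgroup.le_normalizer
        by_cases h11W : 11 ∣ Nat.card W
        · exfalso
          obtain ⟨w₀, hw₀⟩ := exists_prime_orderOf_dvd_card' (G := W) 11 h11W
          have hw : orderOf (w₀ : G) = 11 := by rw [Subgroup.orderOf_coe, hw₀]
          have hw1 : (w₀ : G) ≠ 1 := by
            intro h
            rw [h, orderOf_one] at hw
            omega
          have hwH : (w₀ : G) ∈ H := w₀.2.1.1
          have hwP : (w₀ : G) ∈ (P : Subgroup G) := by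
            by_contra hnot
            have hpg : IsPGroup 11 (Subgroup.zpowers (w₀ : G)) := by
              apply IsPGroup.of_card (n := 1)
              rw [Nat.card_zpowers, hw, pow_one]
            have h1 : Subgroup.zpowers (w₀ : G) ⊓ Subgroup.normalizer ((P : Subgroup G) : Set G) =
                Subgroup.zpowers (w₀ : G) ⊓ (P : Subgroup G) := hpg.inf_normalizer_sylow P
            have h2 : (w₀ : G) ∈ Subgroup.zpowers (w₀ : G) ⊓ Subgroup.normalizer ((P : Subgroup G) : Set G) :=
              ⟨Subgroup.mem_zpowers _, hwH⟩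
            rw [h1] at h2
            exact hnot h2.2
          have hzw := Cfsg.Agent.Lib.SmallSimple.Count.sylow_eq_zpowers_of_card P
            (card_syl11 hord P) hwP hw1
          have hpn : p ∈ Subgroup.normalizer (T : Set G) := by
            have h1 : Subgroup.zpowers (w₀ : G) ≤ Subgroup.normalizer (T : Set G) :=
              (Subgroup.zpowers_le).2 w₀.2.2
            exact h1 (hzw ▸ hpP)
          apply hF1
          intro x hx
          have hcT : p * x * p⁻¹ * x⁻¹ ∈ T :=
            T.mul_mem ((Subgroup.mem_normalizer_iff.1 hpn x).1 hx) (T.inv_mem hx)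
          have hcP : p * x * p⁻¹ * x⁻¹ ∈ (P : Subgroup G) := by
            have h1 : x * p⁻¹ * x⁻¹ ∈ (P : Subgroup G) :=
              (Subgroup.mem_normalizer_iff.1 (hTH hx) p⁻¹).1 (Subgroup.inv_mem _ hpP)
            have e : p * x * p⁻¹ * x⁻¹ = p * (x * p⁻¹ * x⁻¹) := by group
            rw [e]
            exact Subgroup.mul_mem _ hpP h1
          set c := p * x * p⁻¹ * x⁻¹ with hcdef
          have hc1 : c ^ 16 = 1 := hT16 c hcT
          have hc2 : c ^ 11 = 1 := by
            have h5 : c ^ Nat.card (P : Subgroup G) = 1 := by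
              have := pow_card_eq_one' (G := (P : Subgroup G)) (x := ⟨c, hcP⟩)
              exact congrArg Subtype.val this
            rwa [card_syl11 hord P] at h5
          have hd : orderOf c ∣ Nat.gcd 16 11 :=
            Nat.dvd_gcd (orderOf_dvd_of_pow_eq_one hc1) (orderOf_dvd_of_pow_eq_one hc2)
          rw [show Nat.gcd 16 11 = 1 by norm_num, Nat.dvd_one, orderOf_eq_one_iff] at hd
          have h6 : p * x * p⁻¹ = x := mul_inv_eq_one.1 hd
          calc x * p = (p * x * p⁻¹) * p := by rw [h6]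
            _ = p * x := by group
        · have hWd : Nat.card W ∣ 11 * 2 ^ a := by
            rw [← ha]
            exact Subgroup.card_dvd_of_le inf_le_left
          have h1 : Nat.Coprime (Nat.card W) 11 :=
            ((Nat.Prime.coprime_iff_not_dvd (by norm_num)).2 h11W).symm
          have h2 : Nat.card W ∣ 2 ^ a := h1.dvd_of_dvd_mul_left hWd
          have h3 : T = W := Subgroup.eq_of_le_of_card_ge hTW (by
            rw [hTcard]
            exact Nat.le_of_dvd (by positivity) h2)
          have hyT : y ∈ T := by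
            rw [h3]
            exact hyW
          intro x hx
          exact hTcomm x hx y hyT
      · push Not at hcase
        intro x hx
        by_cases hx1 : x = 1
        · rw [hx1]
          simp
        have hx' := hconj x hx
        have hx'1 : y * x * y⁻¹ ≠ 1 := by
          intro h
          apply hx1
          have : y⁻¹ * (y * x * y⁻¹) * y = x := by group
          rw [← this, h]
          group
        have hinv : ∀ w ∈ T, w ≠ 1 → w * p * w⁻¹ = p⁻¹ := by
          intro w hw hw1
          rcases hTpm w hw with h | h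
          · exfalso
            apply hcase w hw hw1
            calc w * p = (w * p * w⁻¹) * w := by group
              _ = p * w := by rw [h]
          · exact h
        have h1 := hinv x hx hx1
        have h2 := hinv _ hx' hx'1
        set x' := y * x * y⁻¹ with hx'def
        have h3 : (x * x') * p = p * (x * x') := by
          have h4 : x' * p = p⁻¹ * x' := by
            calc x' * p = (x' * p * x'⁻¹) * x' := by group
              _ = p⁻¹ * x' := by rw [h2]
          have h5 : x * p⁻¹ = p * x := by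
            have h3 : x * p⁻¹ * x⁻¹ = p := by
              have h4 : x * p⁻¹ * x⁻¹ = (x * p * x⁻¹)⁻¹ := by group
              rw [h4, h1, inv_inv]
            calc x * p⁻¹ = (x * p⁻¹ * x⁻¹) * x := by group
              _ = p * x := by rw [h3]
          calc (x * x') * p = x * (x' * p) := by rw [mul_assoc]
            _ = x * (p⁻¹ * x') := by rw [h4]
            _ = (x * p⁻¹) * x' := by rw [mul_assoc]
            _ = (p * x) * x' := by rw [h5]
            _ = p * (x * x') := by rw [mul_assoc]
        have h6 : x * x' = 1 := by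
          by_contra hne
          exact hcase _ (T.mul_mem hx hx') hne h3
        have h7 : x' = x := by
          have hx2 : x * x = 1 := by
            rw [← pow_two]
            exact hexp x hx
          have : x * x' = x * x := by rw [h6, hx2]
          exact mul_left_cancel this
        calc x * y = x' * y := by rw [h7]
          _ = y * x := by rw [hx'def]; group
    rw [Subgroup.mem_centralizer_iff]
    intro a ha
    apply Subtype.ext
    exact hgoal a ⟨a, ha, rfl⟩
  have hb := perfect_burnside (commutator_eq_top hperf) T' hnorm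
  apply hF1
  intro x hx
  obtain ⟨a', ha', rfl⟩ := hx
  have ha'' : a' ∈ (T' : Subgroup N) := ha'
  rw [hb, Subgroup.mem_bot] at ha''
  rw [ha'']
  simp

/-- A subgroup of order eleven... every Sylow `11`-subgroup lies in a normal subgroup of order
divisible by `11`. -/
theorem sylow_le_normal (hord : Nat.card G = 7920) (N : Subgroup G) [N.Normal]
    (h11 : 11 ∣ Nat.card N) (P : Sylow 11 G) : (P : Subgroup G) ≤ N := by
  obtain ⟨a₀, ha₀⟩ := exists_prime_orderOf_dvd_card' (G := N) 11 h11
  have ha : orderOf (a₀ : G) = 11 := by rw [Subgroup.orderOf_coe, ha₀]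
  have hpg : IsPGroup 11 (Subgroup.zpowers (a₀ : G)) := by
    apply IsPGroup.of_card (n := 1)
    rw [Nat.card_zpowers, ha, pow_one]
  obtain ⟨P₀, hP₀⟩ := hpg.exists_le_sylow
  have hP₀N : (P₀ : Subgroup G) ≤ N := by
    have h1 : (P₀ : Subgroup G) = Subgroup.zpowers (a₀ : G) := by
      symm
      apply Subgroup.eq_of_le_of_card_ge hP₀
      rw [card_syl11 hord P₀, Nat.card_zpowers, ha]
    rw [h1, Subgroup.zpowers_le]
    exact a₀.2
  obtain ⟨g, rfl⟩ := MulAction.exists_smul_eq G P₀ P
  intro x hx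
  rw [Sylow.coe_subgroup_smul] at hx
  obtain ⟨y, hy, rfl⟩ := Subgroup.mem_smul_pointwise_iff_exists _ _ _ |>.1 hx
  exact Subgroup.Normal.conj_mem inferInstance y (hP₀N hy) g

/-- The main theorem. -/
theorem main_thm (hord : Nat.card G = 7920) (A : Set ℕ) (ha : ∃ a, P4 a ∧ a ∈ A)
    (hb : ∃ b, P4 b ∧ b ∉ A) (hadj : ∀ p q, P4 p → P4 q → Adj G p q → (p ∈ A ↔ q ∈ A))
    (N : Subgroup G) [N.Normal] (hne : N ≠ ⊥) (htop : N ≠ ⊤)
    (hmin : ∀ M : Subgroup G, M.Normal → M ≤ N → M = ⊥ ∨ M = N) : False := by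
  classical
  have h2 : P4 2 := Or.inl rfl
  have h3 : P4 3 := Or.inr (Or.inl rfl)
  have h5 : P4 5 := Or.inr (Or.inr (Or.inl rfl))
  have h11 : P4 11 := Or.inr (Or.inr (Or.inr rfl))
  -- all primes in one part is absurd
  have hall : (2 ∈ A ↔ 11 ∈ A) → (3 ∈ A ↔ 11 ∈ A) → (5 ∈ A ↔ 11 ∈ A) → False := by
    intro e2 e3 e5
    obtain ⟨a, ha1, ha2⟩ := ha
    obtain ⟨b, hb1, hb2⟩ := hb
    have hA : a ∈ A ↔ 11 ∈ A := by
      rcases ha1 with rfl | rfl | rfl | rfl <;> first | exact e2 | exact e3 | exact e5 | exact Iff.rfl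
    have hB : b ∈ A ↔ 11 ∈ A := by
      rcases hb1 with rfl | rfl | rfl | rfl <;> first | exact e2 | exact e3 | exact e5 | exact Iff.rfl
    exact hb2 (hB.2 (hA.1 ha2))
  -- the commutator subgroup of `N`
  rcases hmin ⁅N, N⁆ inferInstance (Subgroup.commutator_le_left N N) with hc | hperf
  · -- `N` is abelian: a Sylow subgroup is normal in `G`
    haveI hnt : Nontrivial N := (Subgroup.nontrivial_iff_ne_bot N).2 hne
    have hgt : Nat.card N ≠ 1 := Finite.one_lt_card.ne'
    obtain ⟨r, hr, hrd⟩ := Nat.exists_prime_and_dvd hgt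
    have hrd' : r ∣ 7920 := by
      rw [← hord]
      exact hrd.trans (Subgroup.card_subgroup_dvd_card N)
    have hrP : P4 r := by
      have e : (7920 : ℕ) = 2 ^ 4 * 3 ^ 2 * 5 * 11 := by norm_num
      rw [e] at hrd'
      rcases (hr.dvd_mul).1 hrd' with h | h
      · rcases (hr.dvd_mul).1 h with h | h
        · rcases (hr.dvd_mul).1 h with h | h
          · exact Or.inl ((Nat.prime_dvd_prime_iff_eq hr Nat.prime_two).1 (hr.dvd_of_dvd_pow h))
          · exact Or.inr (Or.inl ((Nat.prime_dvd_prime_iff_eq hr Nat.prime_three).1 (hr.dvd_of_dvd_pow h)))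
        · exact Or.inr (Or.inr (Or.inl ((Nat.prime_dvd_prime_iff_eq hr (by norm_num)).1 h)))
      · exact Or.inr (Or.inr (Or.inr ((Nat.prime_dvd_prime_iff_eq hr (by norm_num)).1 h)))
    haveI : Fact r.Prime := ⟨hr⟩
    obtain ⟨S⟩ : Nonempty (Sylow r N) := inferInstance
    have hcomm : ∀ x y : N, x * y = y * x := by
      intro x y
      apply Subtype.ext
      have h1 : ⁅(x : G), (y : G)⁆ ∈ ⁅N, N⁆ := Subgroup.commutator_mem_commutator x.2 y.2
      rw [hc, Subgroup.mem_bot] at h1
      exact commutatorElement_eq_one_iff_mul_comm.1 h1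
    have hSn : (S : Subgroup N).Normal := by
      constructor
      intro a ha' g
      have : g * a * g⁻¹ = a := by
        rw [hcomm g a]
        group
      rw [this]
      exact ha'
    haveI hSc : (S : Subgroup N).Characteristic := Sylow.characteristic_of_normal S hSn
    haveI hRn := normal_map_of_char (S : Subgroup N)
    apply no_normal_pgroup hord A hadj ha hb hrP ((S : Subgroup N).map N.subtype)
      (S.isPGroup'.map _)
    intro hbot
    have hb' := S.ne_bot_of_dvd_card hrd
    apply hb'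
    exact (Subgroup.map_eq_bot_iff_of_injective _ N.subtype_injective).1 hbot
  · by_cases h11N : 11 ∣ Nat.card N
    · have hle := sylow_le_normal hord N h11N
      have hmod : Nat.card (Sylow 11 G) ≡ 1 [MOD 11] := card_sylow_modEq_one 11 G
      obtain ⟨P⟩ : Nonempty (Sylow 11 G) := inferInstance
      have hdv : Nat.card (Sylow 11 G) ∣ 720 := by
        have := Sylow.card_dvd_index P
        rwa [index_sylow_eq (k := 1) (m := 720) (by rw [hord]; norm_num) (by norm_num) P] at this
      have hcases : ∀ n : Fin 721, (n : ℕ) ∣ 720 → (n : ℕ) % 11 = 1 →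
          (n : ℕ) = 1 ∨ (n : ℕ) = 12 ∨ (n : ℕ) = 45 ∨ (n : ℕ) = 144 := by decide +kernel
      have hle720 : Nat.card (Sylow 11 G) ≤ 720 := Nat.le_of_dvd (by norm_num) hdv
      have hmod' : Nat.card (Sylow 11 G) % 11 = 1 := hmod
      rcases hcases ⟨Nat.card (Sylow 11 G), by omega⟩ hdv hmod' with h1 | h12 | h45 | h144
      · -- `P` is normal
        haveI : Subsingleton (Sylow 11 G) := by
          have h1' : Nat.card (Sylow 11 G) = 1 := h1
          exact (Nat.card_eq_one_iff_unique.1 h1').1
        haveI : (P : Subgroup G).Normal := Sylow.normal_of_subsingleton P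
        apply no_normal_pgroup hord A hadj ha hb h11 (P : Subgroup G) P.isPGroup'
        apply P.ne_bot_of_dvd_card
        rw [hord]
        norm_num
      · obtain ⟨c2, c3, c5⟩ := connected_of_12 hord h12
        have e2 := hadj 2 11 h2 h11 c2
        have e3 := hadj 3 11 h3 h11 c3
        rcases c5 with c5 | c5
        · exact hall e2 e3 (hadj 5 11 h5 h11 c5)
        · exact hall e2 e3 ((hadj 3 5 h3 h5 c5).symm.trans e3)
      · exact false_of_45 hord h45 N hperf hmin hle
      · exact false_of_144 hord h144 N hperf htop hle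
    · -- `11` does not divide `|N|`
      have hdvN : Nat.card N ∣ 2 ^ 4 * 3 ^ 2 * 5 := by
        have h1 : Nat.card N ∣ 7920 := by
          rw [← hord]
          exact Subgroup.card_subgroup_dvd_card N
        have h2' : Nat.Coprime (Nat.card N) 11 :=
          ((Nat.Prime.coprime_iff_not_dvd (by norm_num)).2 h11N).symm
        apply h2'.dvd_of_dvd_mul_right
        norm_num
        exact h1
      by_cases h2N : 2 ∣ Nat.card N
      · by_cases h3N : 3 ∣ Nat.card N
        · by_cases h5N : 5 ∣ Nat.card N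
          · exact hall (hadj 2 11 h2 h11 (adj_of_not_dvd hord N h11N (Or.inl rfl) h2N))
              (hadj 3 11 h3 h11 (adj_of_not_dvd hord N h11N (Or.inr (Or.inl rfl)) h3N))
              (hadj 5 11 h5 h11 (adj_of_not_dvd hord N h11N (Or.inr (Or.inr rfl)) h5N))
          · have h2' : Nat.Coprime (Nat.card N) 5 :=
              ((Nat.Prime.coprime_iff_not_dvd (by norm_num)).2 h5N).symm
            exact false_of_two_primes hperf hne (p := 2) (q := 3) (A := 4) (B := 2) (by norm_num)
              (by norm_num) (h2'.dvd_of_dvd_mul_right hdvN)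
        · have h2' : Nat.Coprime (Nat.card N) 3 :=
            ((Nat.Prime.coprime_iff_not_dvd (by norm_num)).2 h3N).symm
          have h4' : Nat.card N ∣ 2 ^ 4 * 5 ^ 1 := by
            apply (h2'.pow_right 2).dvd_of_dvd_mul_right
            rw [show (2 ^ 4 * 5 ^ 1 * 3 ^ 2 : ℕ) = 2 ^ 4 * 3 ^ 2 * 5 by norm_num]
            exact hdvN
          exact false_of_two_primes hperf hne (by norm_num) (by norm_num) h4'
      · have h2' : Nat.Coprime (Nat.card N) 2 :=
          ((Nat.Prime.coprime_iff_not_dvd (by norm_num)).2 h2N).symm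
        have h4' : Nat.card N ∣ 3 ^ 2 * 5 ^ 1 := by
          apply (h2'.pow_right 4).dvd_of_dvd_mul_right
          rw [show (3 ^ 2 * 5 ^ 1 * 2 ^ 4 : ℕ) = 2 ^ 4 * 3 ^ 2 * 5 by norm_num]
          exact hdvN
        exact false_of_two_primes hperf hne (by norm_num) (by norm_num) h4'

end Main


/-- Let G be a finite group of order 7920 = 2⁴·3²·5·11 (the order of the smallest Mathieu group) and suppose its prime graph (vertices the prime divisors of the order, distinct p, q joined when there is an element of order pq) is disconnected: the prime divisors split into two non-empty parts with no element of order pq for p in one part and q in the other. Then G is simple. -/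
theorem result {G : Type*} [Group G] [Finite G] (hord : Nat.card G = 7920)
    (hdisc : (∃ A : Set ℕ, (∃ a ∈ A, a.Prime ∧ a ∣ Nat.card G) ∧ (∃ b ∉ A, b.Prime ∧ b ∣ Nat.card G) ∧
      ∀ a ∈ A, ∀ b ∉ A, a.Prime → b.Prime → a ∣ Nat.card G → b ∣ Nat.card G → ¬ ∃ g : G, orderOf g = a * b)) :
    IsSimpleGroup G := by
  classical
  obtain ⟨A, ⟨a, haA, hap, had⟩, ⟨b, hbA, hbp, hbd⟩, hsep⟩ := hdisc
  have hP4 : ∀ r : ℕ, r.Prime → r ∣ Nat.card G → P4 r := by
    intro r hr hrd'
    rw [hord] at hrd'
    have e : (7920 : ℕ) = 2 ^ 4 * 3 ^ 2 * 5 * 11 := by norm_num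
    rw [e] at hrd'
    rcases (hr.dvd_mul).1 hrd' with h | h
    · rcases (hr.dvd_mul).1 h with h | h
      · rcases (hr.dvd_mul).1 h with h | h
        · exact Or.inl ((Nat.prime_dvd_prime_iff_eq hr Nat.prime_two).1 (hr.dvd_of_dvd_pow h))
        · exact Or.inr (Or.inl ((Nat.prime_dvd_prime_iff_eq hr Nat.prime_three).1 (hr.dvd_of_dvd_pow h)))
      · exact Or.inr (Or.inr (Or.inl ((Nat.prime_dvd_prime_iff_eq hr (by norm_num)).1 h)))
    · exact Or.inr (Or.inr (Or.inr ((Nat.prime_dvd_prime_iff_eq hr (by norm_num)).1 h)))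
  have hdvd : ∀ r : ℕ, P4 r → r ∣ Nat.card G := by
    intro r hr
    rw [hord]
    rcases hr with rfl | rfl | rfl | rfl <;> norm_num
  have hadj : ∀ p q, P4 p → P4 q → Adj G p q → (p ∈ A ↔ q ∈ A) := by
    intro p q hp hq h
    constructor
    · intro hpA
      by_contra hqA
      exact hsep p hpA q hqA hp.prime hq.prime (hdvd p hp) (hdvd q hq) h
    · intro hqA
      by_contra hpA
      exact hsep q hqA p hpA hq.prime hp.prime (hdvd q hq) (hdvd p hp) h.symm
  haveI hnt : Nontrivial G := by
    apply Finite.one_lt_card_iff_nontrivial.1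
    rw [hord]
    norm_num
  refine ⟨fun H hH => ?_⟩
  by_contra hcon
  push Not at hcon
  obtain ⟨hH1, hH2⟩ := hcon
  obtain ⟨N, hNH, hNmin⟩ := Finite.exists_le_minimal (p := fun M : Subgroup G => M.Normal ∧ M ≠ ⊥)
    (a := H) ⟨hH, hH1⟩
  haveI hNn : N.Normal := hNmin.prop.1
  refine main_thm hord A ⟨a, hP4 a hap had, haA⟩ ⟨b, hP4 b hbp hbd, hbA⟩ hadj N hNmin.prop.2 ?_ ?_
  · intro htop
    apply hH2
    rw [eq_top_iff, ← htop]
    exact hNH
  · intro M hM hMN
    by_cases hM1 : M = ⊥
    · exact Or.inl hM1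
    · right
      exact le_antisymm hMN (hNmin.le_of_le ⟨hM, hM1⟩ hMN)

end Cfsg.Agent.S2490
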