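import Cfsg.Statements.S2519
import Cfsg.Agent.Lib.G2Oct.Exist2
import Cfsg.Agent.S2371

set_option autoImplicit false
open Cfsg

namespace Cfsg.Agent.S2519

open Cfsg.Lie Cfsg.Agent.Lib.G2Oct.Aut8 Cfsg.Agent.Lib.G2Oct.Count Cfsg.Agent.Lib.G2Oct.Cls Cfsg.Agent.Lib.G2Oct.Exist Cfsg.Agent.Lib.G2Oct.ExistSmall

/-- The list is an antichain under divisibility. -/
lemma antichain (p v : ℕ) (hp : p.Prime) (hp2 : p ≠ 2) (hpv : p ∣ v + 1) (hv : 4 ≤ v) (x y : ℕ)
    (hx : x = p * (v + 2) ∨ x = p * v ∨ x = v * (v + 2) ∨ x = v ^ 2 + 3 * v + 3 ∨ x = v ^ 2 + v + 1 ∨ x = p ^ 2)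
    (hy : y = p * (v + 2) ∨ y = p * v ∨ y = v * (v + 2) ∨ y = v ^ 2 + 3 * v + 3 ∨ y = v ^ 2 + v + 1 ∨ y = p ^ 2)
    (hxy : x ∣ y) : x = y := by
  have hp0 : 0 < p := hp.pos
  have hple : p ≤ v + 1 := Nat.le_of_dvd (by omega) hpv
  have nd1 : ¬ p ∣ v := by
    intro h
    have := (Nat.dvd_add_right h).1 hpv
    exact hp.one_lt.ne' (Nat.dvd_one.1 this)
  have nd2 : ¬ p ∣ v + 2 := by
    intro h
    have h1 : p ∣ (v + 1) + 1 := h
    have := (Nat.dvd_add_right hpv).1 h1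
    exact hp.one_lt.ne' (Nat.dvd_one.1 this)
  have ndC : ¬ p ∣ v * (v + 2) := fun h => (hp.dvd_mul.1 h).elim nd1 nd2
  have ndD : ¬ p ∣ v ^ 2 + 3 * v + 3 := by
    intro h
    have e : v ^ 2 + 3 * v + 3 = (v + 1) * (v + 2) + 1 := by ring
    rw [e] at h
    have := (Nat.dvd_add_right (hpv.mul_right (v + 2))).1 h
    exact hp.one_lt.ne' (Nat.dvd_one.1 this)
  have ndE : ¬ p ∣ v ^ 2 + v + 1 := by
    intro h
    have e : v ^ 2 + v + 1 = (v + 1) * v + 1 := by ring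
    rw [e] at h
    have := (Nat.dvd_add_right (hpv.mul_right v)).1 h
    exact hp.one_lt.ne' (Nat.dvd_one.1 this)
  have cC : Nat.Coprime (v * (v + 2)) p := ((Nat.Prime.coprime_iff_not_dvd hp).2 ndC).symm
  have cD : Nat.Coprime (v ^ 2 + 3 * v + 3) p := ((Nat.Prime.coprime_iff_not_dvd hp).2 ndD).symm
  have cE : Nat.Coprime (v ^ 2 + v + 1) p := ((Nat.Prime.coprime_iff_not_dvd hp).2 ndE).symm
  have hv_p : ¬ v ∣ p := by
    intro h
    rcases (Nat.dvd_prime hp).1 h with h1 | h1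
    · omega
    · rw [← h1] at hpv nd1
      exact nd1 dvd_rfl
  have hpl : ∀ {a b : ℕ}, p * a ∣ p * b → a ∣ b := fun h => Nat.dvd_of_mul_dvd_mul_left hp0 h
  rcases hx with rfl | rfl | rfl | rfl | rfl | rfl <;> rcases hy with rfl | rfl | rfl | rfl | rfl | rfl
  · rfl
  · exfalso
    have := Nat.le_of_dvd (by omega) (hpl hxy)
    omega
  · exfalso
    have h1 : p * (v + 2) ∣ v * (v + 2) := hxy
    exact nd1 (Nat.dvd_of_mul_dvd_mul_right (by omega) h1)
  · exact absurd ((dvd_mul_right p _).trans hxy) ndD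
  · exact absurd ((dvd_mul_right p _).trans hxy) ndE
  · exfalso
    have h1 : p * (v + 2) ∣ p * p := by rwa [pow_two] at hxy
    have := Nat.le_of_dvd hp0 (hpl h1)
    omega
  · exfalso
    have h1 := hpl hxy
    have h2 : v ∣ 2 := (Nat.dvd_add_right (dvd_refl v)).1 h1
    have := Nat.le_of_dvd (by norm_num) h2
    omega
  · rfl
  · exfalso
    have h1 : v * p ∣ v * (v + 2) := by rwa [mul_comm p v] at hxy
    exact nd2 (Nat.dvd_of_mul_dvd_mul_left (by omega) h1)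
  · exact absurd ((dvd_mul_right p _).trans hxy) ndD
  · exact absurd ((dvd_mul_right p _).trans hxy) ndE
  · exfalso
    have h1 : p * v ∣ p * p := by rwa [pow_two] at hxy
    exact hv_p (hpl h1)
  · exfalso
    have h1 : v * (v + 2) ∣ p * (v + 2) := hxy
    exact hv_p (Nat.dvd_of_mul_dvd_mul_right (by omega) h1)
  · exfalso
    have h1 : (v + 2) * v ∣ p * v := by rwa [mul_comm v (v + 2)] at hxy
    have h2 := Nat.dvd_of_mul_dvd_mul_right (by omega) h1
    have := Nat.le_of_dvd hp0 h2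
    omega
  · rfl
  · exfalso
    have e : v ^ 2 + 3 * v + 3 = v * (v + 2) + (v + 3) := by ring
    rw [e] at hxy
    have h1 := (Nat.dvd_add_right (dvd_refl _)).1 hxy
    have := Nat.le_of_dvd (by omega) h1
    nlinarith
  · exfalso
    have := Nat.le_of_dvd (by positivity) hxy
    nlinarith
  · exfalso
    have h3 := (Nat.Coprime.pow_right 2 cC).eq_one_of_dvd hxy
    nlinarith
  · exfalso
    have h2 := cD.dvd_of_dvd_mul_left hxy
    have := Nat.le_of_dvd (by omega) h2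
    nlinarith
  · exfalso
    have h2 := cD.dvd_of_dvd_mul_left hxy
    have := Nat.le_of_dvd (by omega) h2
    nlinarith
  · exfalso
    have := Nat.le_of_dvd (by positivity) hxy
    nlinarith
  · rfl
  · exfalso
    have := Nat.le_of_dvd (by positivity) hxy
    nlinarith
  · exfalso
    have h3 := (Nat.Coprime.pow_right 2 cD).eq_one_of_dvd hxy
    nlinarith
  · exfalso
    have h2 := cE.dvd_of_dvd_mul_left hxy
    have := Nat.le_of_dvd (by omega) h2
    nlinarith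
  · exfalso
    have h2 := cE.dvd_of_dvd_mul_left hxy
    have := Nat.le_of_dvd (by omega) h2
    nlinarith
  · exfalso
    obtain ⟨w, rfl⟩ : ∃ w, v = w + 1 := ⟨v - 1, by omega⟩
    have e : (w + 1) * (w + 1 + 2) = ((w + 1) ^ 2 + (w + 1) + 1) + w := by ring
    rw [e] at hxy
    have h1 := (Nat.dvd_add_right (dvd_refl _)).1 hxy
    have := Nat.le_of_dvd (by omega) h1
    nlinarith
  · exfalso
    have e : v ^ 2 + 3 * v + 3 = (v ^ 2 + v + 1) + 2 * (v + 1) := by ring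
    rw [e] at hxy
    have h1 := (Nat.dvd_add_right (dvd_refl _)).1 hxy
    have c : Nat.Coprime (v ^ 2 + v + 1) (v + 1) := by
      have e2 : v ^ 2 + v + 1 = 1 + v * (v + 1) := by ring
      rw [e2]
      simp
    have h2 := c.dvd_of_dvd_mul_right h1
    have := Nat.le_of_dvd (by norm_num) h2
    nlinarith
  · rfl
  · exfalso
    have h3 := (Nat.Coprime.pow_right 2 cE).eq_one_of_dvd hxy
    nlinarith
  · exfalso
    have h1 : p * p ∣ p * (v + 2) := by rwa [pow_two] at hxy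
    exact nd2 (hpl h1)
  · exfalso
    have h1 : p * p ∣ p * v := by rwa [pow_two] at hxy
    exact nd1 (hpl h1)
  · exact absurd ((dvd_pow_self p two_ne_zero).trans hxy) ndC
  · exact absurd ((dvd_pow_self p two_ne_zero).trans hxy) ndD
  · exact absurd ((dvd_pow_self p two_ne_zero).trans hxy) ndE
  · rfl

/-- Let F be a finite field of odd order q = p^a ≥ 5. The element orders of the Chevalley group G₂(F) that are maximal under divisibility are exactly p(q + 1), p(q − 1), q² − 1, q² + q + 1, q² − q + 1, together with p² when p is 3 or 5. -/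
theorem result {F : Type*} [Field F] [Fintype F] (p a : ℕ) (hp : p.Prime) (hp2 : p ≠ 2) (ha : 1 ≤ a) (hF : Fintype.card F = p ^ a) (hq5 : 5 ≤ Fintype.card F) :
    {n : ℕ | n ∈ Set.range (orderOf : ↥(Cfsg.Lie.chevG2.group F) → ℕ) ∧ ∀ m ∈ Set.range (orderOf : ↥(Cfsg.Lie.chevG2.group F) → ℕ), n ∣ m → m = n} =
      ({p * (p ^ a + 1), p * (p ^ a - 1), p ^ (2 * a) - 1, p ^ (2 * a) + p ^ a + 1, p ^ (2 * a) - p ^ a + 1} : Set ℕ) ∪
        (if p = 3 ∨ p = 5 then ({p ^ 2} : Set ℕ) else ∅) := by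
  classical
  haveI : Fact p.Prime := ⟨hp⟩
  have hchar : CharP F p := by
    obtain ⟨r, hr⟩ := CharP.exists F
    have hrp : r.Prime := CharP.char_is_prime F r
    have h1 : ((Fintype.card F : ℕ) : F) = 0 := Nat.cast_card_eq_zero F
    rw [CharP.cast_eq_zero_iff F r, hF] at h1
    have h2 := (Nat.prime_dvd_prime_iff_eq hrp hp).1 (hrp.dvd_of_dvd_pow h1)
    rwa [h2] at hr
  rw [hF] at hq5
  set q := p ^ a with hq
  obtain ⟨v, hv⟩ : ∃ v, q = v + 1 := ⟨q - 1, by omega⟩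
  have hv4 : 4 ≤ v := by omega
  have e2a : p ^ (2 * a) = q ^ 2 := by rw [mul_comm, pow_mul]
  have hpv : p ∣ v + 1 := by
    rw [← hv, hq]
    exact dvd_pow_self p (by omega)
  have ea : p * (q + 1) = p * (v + 2) := by rw [hv]
  have eb : p * (q - 1) = p * v := by rw [hv]; simp
  have ec : q ^ 2 - 1 = v * (v + 2) := by
    rw [hv]
    have : (v + 1) ^ 2 = v * (v + 2) + 1 := by ring
    omega
  have ed : q ^ 2 + q + 1 = v ^ 2 + 3 * v + 3 := by
    rw [hv]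
    ring
  have ee : q ^ 2 - q + 1 = v ^ 2 + v + 1 := by
    rw [hv]
    have : (v + 1) ^ 2 = v ^ 2 + v + (v + 1) := by ring
    omega
  have hmemS : ∀ n, n ∈ ({p * (q + 1), p * (q - 1), p ^ (2 * a) - 1, p ^ (2 * a) + q + 1, p ^ (2 * a) - q + 1} : Set ℕ) ∪
      (if p = 3 ∨ p = 5 then ({p ^ 2} : Set ℕ) else ∅) ↔
      (n = p * (v + 2) ∨ n = p * v ∨ n = v * (v + 2) ∨ n = v ^ 2 + 3 * v + 3 ∨ n = v ^ 2 + v + 1 ∨ ((p = 3 ∨ p = 5) ∧ n = p ^ 2)) := by
    intro n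
    rw [e2a, ea, eb, ec, ed, ee]
    by_cases h35 : p = 3 ∨ p = 5
    · simp only [h35, or_true, if_true, Set.mem_union, Set.mem_insert_iff, Set.mem_singleton_iff, true_and]
      tauto
    · simp [h35]
  have hchev : ∀ N : ℕ, (∃ g : Aut8 F, orderOf g = N) → N ∈ Set.range (orderOf : ↥(Cfsg.Lie.chevG2.group F) → ℕ) := by
    rintro N ⟨g, rfl⟩
    obtain ⟨x, hx⟩ := exists_chev g
    exact ⟨x, hx⟩
  have hF' : Fintype.card F = p ^ a := hF
  have hexist : ∀ N, (N = p * (v + 2) ∨ N = p * v ∨ N = v * (v + 2) ∨ N = v ^ 2 + 3 * v + 3 ∨ N = v ^ 2 + v + 1 ∨ ((p = 3 ∨ p = 5) ∧ N = p ^ 2)) →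
      N ∈ Set.range (orderOf : ↥(Cfsg.Lie.chevG2.group F) → ℕ) := by
    intro N hN
    rcases hN with rfl | rfl | rfl | rfl | rfl | ⟨h35, rfl⟩
    · rw [← ea]
      exact hchev _ (Cfsg.Agent.Lib.G2Oct.Exist2.exists_plus hF' ha)
    · rw [← eb]
      exact hchev _ (exists_minus hF' ha)
    · rw [← ec]
      exact hchev _ (Cfsg.Agent.Lib.G2Oct.Exist2.exists_sq hF' ha)
    · rw [← ed]
      obtain ⟨H, h1, h2, -⟩ := Cfsg.Agent.S2371.result (F := F) q hF' (by omega)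
      obtain ⟨g, hg⟩ := IsCyclic.exists_ofOrder_eq_natCard (α := H)
      refine ⟨(g : Cfsg.Lie.chevG2.group F), ?_⟩
      rw [Subgroup.orderOf_coe, hg, h2]
    · rw [← ee]
      exact hchev _ (Cfsg.Agent.Lib.G2Oct.Exist2.exists_qm hF' ha)
    · rcases h35 with rfl | rfl
      · haveI : CharP F 3 := hchar
        exact hchev _ exists_9
      · haveI : CharP F 5 := hchar
        exact hchev _ exists_25
  have hq3 : ∃ c : F, c ≠ 0 ∧ c ≠ 1 := by
    have h1 : ({0, 1} : Finset F).card < (Finset.univ : Finset F).card := by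
      rw [Finset.card_univ, hF']
      calc ({0, 1} : Finset F).card ≤ 2 := Finset.card_le_two
        _ < p ^ a := by omega
    obtain ⟨c, -, hc⟩ := Finset.exists_mem_notMem_of_card_lt_card h1
    simp only [Finset.mem_insert, Finset.mem_singleton, not_or] at hc
    exact ⟨c, hc.1, hc.2⟩
  have hbound : ∀ x : ↥(Cfsg.Lie.chevG2.group F), ∃ N, (N = p * (v + 2) ∨ N = p * v ∨ N = v * (v + 2) ∨ N = v ^ 2 + 3 * v + 3 ∨ N = v ^ 2 + v + 1 ∨ ((p = 3 ∨ p = 5) ∧ N = p ^ 2)) ∧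
      orderOf x ∣ N := by
    intro x
    have hdvd : ∀ N, (rhoE x) ^ N = 1 → orderOf x ∣ N := by
      intro N hN
      rw [← MulEquiv.orderOf_eq rhoE x]
      exact orderOf_dvd_of_pow_eq_one hN
    rcases bound_odd hF' hp2 (det_aut hq3) (rhoE x) with h | h | h | h | h | ⟨h35, h⟩
    · rw [← hq, ed] at h
      exact ⟨_, Or.inr (Or.inr (Or.inr (Or.inl rfl))), hdvd _ h⟩
    · rw [← hq, ee] at h
      exact ⟨_, Or.inr (Or.inr (Or.inr (Or.inr (Or.inl rfl)))), hdvd _ h⟩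
    · rw [← hq, ec] at h
      exact ⟨_, Or.inr (Or.inr (Or.inl rfl)), hdvd _ h⟩
    · rw [← hq, eb] at h
      exact ⟨_, Or.inr (Or.inl rfl), hdvd _ h⟩
    · rw [← hq, ea] at h
      exact ⟨_, Or.inl rfl, hdvd _ h⟩
    · exact ⟨_, Or.inr (Or.inr (Or.inr (Or.inr (Or.inr ⟨h35, rfl⟩)))), hdvd _ h⟩
  have hanti : ∀ x y : ℕ, (x = p * (v + 2) ∨ x = p * v ∨ x = v * (v + 2) ∨ x = v ^ 2 + 3 * v + 3 ∨ x = v ^ 2 + v + 1 ∨ ((p = 3 ∨ p = 5) ∧ x = p ^ 2)) →
      (y = p * (v + 2) ∨ y = p * v ∨ y = v * (v + 2) ∨ y = v ^ 2 + 3 * v + 3 ∨ y = v ^ 2 + v + 1 ∨ ((p = 3 ∨ p = 5) ∧ y = p ^ 2)) → x ∣ y → x = y := by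
    intro x y hx hy hxy
    refine antichain p v hp hp2 hpv hv4 x y ?_ ?_ hxy
    · rcases hx with h | h | h | h | h | ⟨_, h⟩ <;> simp [h]
    · rcases hy with h | h | h | h | h | ⟨_, h⟩ <;> simp [h]
  ext n
  rw [hmemS]
  simp only [Set.mem_ofPred_eq]
  constructor
  · rintro ⟨⟨x, rfl⟩, hmax⟩
    obtain ⟨N, hN, hd⟩ := hbound x
    have := hmax N (hexist N hN) hd
    rw [← this]
    exact hN
  · intro hn
    refine ⟨hexist n hn, ?_⟩
    rintro _ ⟨y, rfl⟩ hdvd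
    obtain ⟨N, hN, hd⟩ := hbound y
    have h1 := hanti n N hn hN (hdvd.trans hd)
    rw [← h1] at hd
    exact Nat.dvd_antisymm hd hdvd

end Cfsg.Agent.S2519
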