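import Cfsg.Statements.S2520
import Cfsg.Agent.Lib.G2Oct.Exist2
import Cfsg.Agent.S2371

set_option autoImplicit false
open Cfsg

namespace Cfsg.Agent.S2520

open Cfsg.Lie Cfsg.Agent.Lib.G2Oct.Aut8 Cfsg.Agent.Lib.G2Oct.Count Cfsg.Agent.Lib.G2Oct.Cls Cfsg.Agent.Lib.G2Oct.Exist Cfsg.Agent.Lib.G2Oct.ExistSmall

/-- Let F be a finite field with q = 2^a ≥ 4 elements and G₂(F) the Chevalley group of type G₂ over it. Every element order of G₂(F) maximal under divisibility lies in the set {8, 12, 2(q + 1), 2(q − 1), q² − 1, q² + q + 1, q² − q + 1}, and every member of that set is an element order of G₂(F). -/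
theorem result {F : Type*} [Field F] [Fintype F] (a : ℕ) (ha : 2 ≤ a) (hF : Fintype.card F = 2 ^ a) :
    {n : ℕ | n ∈ Set.range (orderOf : ↥(Cfsg.Lie.chevG2.group F) → ℕ) ∧ ∀ m ∈ Set.range (orderOf : ↥(Cfsg.Lie.chevG2.group F) → ℕ), n ∣ m → m = n} ⊆ ({8, 12, 2 * (2 ^ a + 1), 2 * (2 ^ a - 1), 2 ^ (2 * a) - 1, 2 ^ (2 * a) + 2 ^ a + 1, 2 ^ (2 * a) - 2 ^ a + 1} : Set ℕ) ∧
    ({8, 12, 2 * (2 ^ a + 1), 2 * (2 ^ a - 1), 2 ^ (2 * a) - 1, 2 ^ (2 * a) + 2 ^ a + 1, 2 ^ (2 * a) - 2 ^ a + 1} : Set ℕ) ⊆ Set.range (orderOf : ↥(Cfsg.Lie.chevG2.group F) → ℕ) := by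
  classical
  have h2pos : 1 ≤ 2 ^ a := Nat.one_le_pow _ _ (by norm_num)
  have hq4 : 4 ≤ 2 ^ a := by
    calc 4 = 2 ^ 2 := by norm_num
      _ ≤ 2 ^ a := Nat.pow_le_pow_right (by norm_num) ha
  have hchar : CharP F 2 := by
    obtain ⟨p, hp⟩ := CharP.exists F
    have hpp : p.Prime := CharP.char_is_prime F p
    have h1 : ((Fintype.card F : ℕ) : F) = 0 := Nat.cast_card_eq_zero F
    rw [CharP.cast_eq_zero_iff F p, hF] at h1
    have h2 := (Nat.prime_dvd_prime_iff_eq hpp Nat.prime_two).1 (hpp.dvd_of_dvd_pow h1)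
    rwa [h2] at hp
  haveI : Fact (Nat.Prime 2) := ⟨Nat.prime_two⟩
  have e2a : 2 ^ (2 * a) = (2 ^ a) ^ 2 := by rw [mul_comm, pow_mul]
  have hchev : ∀ N : ℕ, (∃ g : Aut8 F, orderOf g = N) → N ∈ Set.range (orderOf : ↥(Cfsg.Lie.chevG2.group F) → ℕ) := by
    rintro N ⟨g, rfl⟩
    obtain ⟨x, hx⟩ := exists_chev g
    exact ⟨x, hx⟩
  have hexist : ({8, 12, 2 * (2 ^ a + 1), 2 * (2 ^ a - 1), 2 ^ (2 * a) - 1, 2 ^ (2 * a) + 2 ^ a + 1, 2 ^ (2 * a) - 2 ^ a + 1} : Set ℕ) ⊆ Set.range (orderOf : ↥(Cfsg.Lie.chevG2.group F) → ℕ) := by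
    intro N hN
    simp only [Set.mem_insert_iff, Set.mem_singleton_iff] at hN
    rcases hN with rfl | rfl | rfl | rfl | rfl | rfl | rfl
    · exact hchev _ exists_8
    · exact hchev _ exists_12
    · exact hchev _ (Cfsg.Agent.Lib.G2Oct.Exist2.exists_plus hF (by omega))
    · exact hchev _ (exists_minus hF (by omega))
    · rw [e2a]
      exact hchev _ (Cfsg.Agent.Lib.G2Oct.Exist2.exists_sq hF (by omega))
    · rw [e2a]
      obtain ⟨H, h1, h2, -⟩ := Cfsg.Agent.S2371.result (F := F) (2 ^ a) hF (by omega)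
      obtain ⟨g, hg⟩ := IsCyclic.exists_ofOrder_eq_natCard (α := H)
      refine ⟨(g : Cfsg.Lie.chevG2.group F), ?_⟩
      rw [Subgroup.orderOf_coe, hg, h2]
    · rw [e2a]
      exact hchev _ (Cfsg.Agent.Lib.G2Oct.Exist2.exists_qm hF (by omega))
  refine ⟨?_, hexist⟩
  rintro n ⟨⟨x, rfl⟩, hmax⟩
  have hb := bound_even (p := 2) hF rfl (rhoE x)
  have hdvd : ∀ N, (rhoE x) ^ N = 1 → orderOf x ∣ N := by
    intro N hN
    rw [← MulEquiv.orderOf_eq rhoE x]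
    exact orderOf_dvd_of_pow_eq_one hN
  have hmem : ∀ N, N ∈ ({8, 12, 2 * (2 ^ a + 1), 2 * (2 ^ a - 1), 2 ^ (2 * a) - 1, 2 ^ (2 * a) + 2 ^ a + 1, 2 ^ (2 * a) - 2 ^ a + 1} : Set ℕ) →
      (rhoE x) ^ N = 1 → orderOf x ∈ ({8, 12, 2 * (2 ^ a + 1), 2 * (2 ^ a - 1), 2 ^ (2 * a) - 1, 2 ^ (2 * a) + 2 ^ a + 1, 2 ^ (2 * a) - 2 ^ a + 1} : Set ℕ) := by
    intro N hN h1
    have := hmax N (hexist hN) (hdvd N h1)
    rw [← this]
    exact hN
  rcases hb with h | h | h | h | h | h | h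
  · exact hmem _ (by simp [e2a]) h
  · exact hmem _ (by simp [e2a]) h
  · exact hmem _ (by simp [e2a]) h
  · exact hmem _ (by simp) h
  · exact hmem _ (by simp) h
  · exact hmem _ (by simp) h
  · exact hmem _ (by simp) h

end Cfsg.Agent.S2520
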