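import Cfsg.Statements.S2649
import Cfsg.Agent.Lib.ExtCert.M23.F7
import Cfsg.Agent.Lib.ExtCert.M23.Wrap

set_option autoImplicit false
open Cfsg

namespace Cfsg.Agent.S2649

open Cfsg.Agent.Lib.ExtCert.Basic Cfsg.Agent.Lib.ExtCert.Solve Cfsg.Agent.Lib.ExtCert.Final
open Cfsg.Agent.Lib.ExtCert.Main Cfsg.Agent.Lib.ExtCert.M23.Wrap
open Cfsg.Agent.Lib.ExtCert.M23.D7 Cfsg.Agent.Lib.ExtCert.M23.R7 Cfsg.Agent.Lib.ExtCert.M23.F7
open Cfsg.Agent.Lib.Golay.Core Cfsg.Agent.Lib.Golay.Perm Cfsg.Agent.Lib.Golay.OutGroups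

theorem dotW_unit (q : ℕ) (hq : q < 24) (u : W) : dotW (wordOf (2 ^ q)) u = u (pt q) := by
  unfold dotW
  rw [Finset.sum_eq_single (pt q)]
  · simp [wordOf, idx_pt hq, Nat.testBit_two_pow]
  · intro p _ hp
    have h1 : idx p ≠ q := by
      intro h
      apply hp
      rw [← h, pt_idx]
    have h2 : q ≠ idx p := fun h => h1 h.symm
    simp [wordOf, Nat.testBit_two_pow, h2]
  · intro h
    exact absurd (Finset.mem_univ _) h

theorem mem_of_isCode {d : ℕ} (h : isCode d = true) : wordOf d ∈ golayCode := by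
  obtain ⟨m, hm, rfl⟩ := isCode_iff.mp h
  exact mem_golayCode_iff.mpr ⟨m, hm, rfl⟩

theorem DB_mem_code : ∀ d ∈ DB, d = 2 ^ 23 ∨ isCode d = true := by decide +kernel

theorem DG_mem : ∀ q, q < 24 → 2 ^ q ∈ DG := by decide +kernel

theorem nm_code : ∀ i, i < nT → ∀ t, t < 2 → isCode (nm i t) = true ∧ Nat.testBit (nm i t) 23 = false := by decide +kernel

theorem Pg_aut : checkAut Pg = true := by decide +kernel

theorem Pg_23 : img Pg 23 = 23 := by decide +kernel

theorem gc0_aut : checkAut (gcT 0) = true := by decide +kernel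

theorem gc1_aut : checkAut (gcT 1) = true := by decide +kernel

theorem gc0_23 : img (gcT 0) 23 = 23 := by decide +kernel

theorem gc1_23 : img (gcT 1) 23 = 23 := by decide +kernel

/-- Extensions of the Mathieu group M₂₃ by its code module split. Let E be a finite group with a normal subgroup N, an isomorphism φ from E/N onto M₂₃ = `Spor.M23` (the stabiliser of the extra point `none` in M₂₄ acting on the 24 points `GolayPt`), and an injective additive homomorphism ψ from N onto the set of words of the binary Golay code `golayCode` that vanish at `none` (an 11-dimensional space over the field with two elements), such that conjugation by g ∈ E on N corresponds under ψ to the coordinate permutation w ↦ w ∘ σ⁻¹, σ the permutation φ(gN). Then N has a complement in E: some subgroup H meets N trivially and generates E together with N. (Equivalently, the second cohomology group of M₂₃ with coefficients in this module vanishes.) -/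
theorem result
    {E : Type*} [Group E] [Finite E] (N : Subgroup E) [hN : N.Normal]
    (φ : E ⧸ N ≃* ↥Cfsg.Spor.M23)
    (ψ : Additive ↥N →+ (Cfsg.GolayPt → ZMod 2)) (hinj : Function.Injective ψ)
    (hrange : ∀ w : Cfsg.GolayPt → ZMod 2, w ∈ Set.range ψ ↔ (w ∈ Cfsg.golayCode ∧ w none = 0))
    (hψ : ∀ (g : E) (n : ↥N),
      ψ (Additive.ofMul ⟨g * n * g⁻¹, hN.conj_mem n n.2 g⟩)
        = ψ (Additive.ofMul n) ∘ ⇑(((φ (QuotientGroup.mk g) : ↥Cfsg.Spor.M23) : Equiv.Perm Cfsg.GolayPt)⁻¹)) :
    ∃ H : Subgroup E, H ⊓ N = ⊥ ∧ H ⊔ N = ⊤ := by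
  classical
  -- the maps to the Mathieu group
  let f : E →* ↥Spor.M23 := φ.toMonoidHom.comp (QuotientGroup.mk' N)
  have hf : Function.Surjective f := φ.surjective.comp (QuotientGroup.mk'_surjective N)
  have hker : f.ker = N := by
    ext a
    simp only [MonoidHom.mem_ker, f, MonoidHom.comp_apply, MulEquiv.coe_toMonoidHom]
    rw [EmbeddingLike.map_eq_one_iff (f := φ)]
    exact QuotientGroup.eq_one_iff a
  let σ : E →* Equiv.Perm GolayPt := Spor.M23.subtype.comp f
  have hσ1 : ∀ a, σ a = 1 ↔ a ∈ N := by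
    intro a
    rw [← hker, MonoidHom.mem_ker]
    constructor
    · intro h
      exact Subtype.ext h
    · intro h
      show ((f a : ↥Spor.M23) : Equiv.Perm GolayPt) = 1
      rw [h]
      rfl
  -- the relation
  let Rp : E → W → Prop := fun a u => ∃ h : a ∈ N, ψ (Additive.ofMul ⟨a, h⟩) = u
  have hinj' : ∀ {a b : N}, ψ (Additive.ofMul a) = ψ (Additive.ofMul b) → a = b := fun h =>
    Additive.ofMul.injective (hinj h)
  have h0 : ψ (Additive.ofMul (1 : N)) = 0 := by
    rw [ofMul_one, map_zero]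
  have h2N : ∀ a ∈ N, a * a = 1 := by
    intro a ha
    have h3 : ψ (Additive.ofMul (⟨a, ha⟩ * ⟨a, ha⟩ : N)) = 0 := by
      rw [ofMul_mul, map_add, W_add_self]
    rw [← h0] at h3
    have h4 := hinj' h3
    exact congrArg Subtype.val h4
  have MD : ExtMod σ ⊥ Rp :=
    { mul := by
        rintro a b u v ⟨h1, rfl⟩ ⟨h2, rfl⟩
        refine ⟨N.mul_mem h1 h2, ?_⟩
        have : (⟨a * b, N.mul_mem h1 h2⟩ : N) = ⟨a, h1⟩ * ⟨b, h2⟩ := rfl
        rw [this, ofMul_mul, map_add]
      conj := by
        rintro a u b ⟨h1, rfl⟩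
        exact ⟨hN.conj_mem a h1 b, hψ b ⟨a, h1⟩⟩
      ex := by
        intro a ha
        exact ⟨_, (hσ1 a).mp ha, rfl⟩
      ker := by
        rintro a u ⟨h1, -⟩
        exact (hσ1 a).mpr h1
      diff := by
        rintro a u v ⟨h1, rfl⟩ ⟨h2, rfl⟩
        rw [W_add_self]
        exact zero_mem _
      shift := by
        rintro a u v ⟨h1, rfl⟩ hv
        have hv0 : v = 0 := by simpa using hv
        rw [hv0, add_zero]
        exact ⟨h1, rfl⟩
      triv := by
        rintro a u ⟨h1, rfl⟩ hu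
        have h3 : ψ (Additive.ofMul (⟨a, h1⟩ : N)) = ψ (Additive.ofMul (1 : N)) := by
          rw [h0]
          simpa using hu
        exact congrArg Subtype.val (hinj' h3)
      one := ⟨N.one_mem, h0⟩
      comm := by
        rintro a b u v ⟨h1, -⟩ ⟨h2, -⟩
        have h3 := h2N _ (N.mul_mem h1 h2)
        have h4 := h2N _ h1
        have h5 := h2N _ h2
        calc a * b = a * b * (a * b * (b * a)) := by
              have : a * b * (b * a) = 1 := by
                rw [mul_assoc, ← mul_assoc b, h5, one_mul, h4]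
              rw [this, mul_one]
          _ = (a * b * (a * b)) * (b * a) := by group
          _ = b * a := by rw [h3, one_mul] }
  -- the members of the module are words of the code
  have hcode : ∀ {a u}, Rp a u → u ∈ golayCode ∧ u none = 0 := by
    rintro a u ⟨h1, rfl⟩
    exact (hrange _).mp ⟨_, rfl⟩
  have hwordreal : ∀ m, isCode m = true → Nat.testBit m 23 = false → ∃ ν, Rp ν (wordOf m) := by
    intro m hm hm2
    have h3 : wordOf m ∈ Set.range ψ := by
      rw [hrange]
      refine ⟨?_, ?_⟩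
      · exact mem_of_isCode hm
      · have : (none : GolayPt) = pt 23 := rfl
        have e : idx (none : GolayPt) = 23 := rfl
        simp [wordOf, e, hm2]
    obtain ⟨x, hx⟩ := h3
    refine ⟨(x.toMul : N).1, (x.toMul : N).2, ?_⟩
    rw [← hx]
    rfl
  have hDB : ∀ {a u}, Rp a u → ∀ d ∈ DB, dotW (wordOf d) u = 0 := by
    intro a u hu d hd
    obtain ⟨h3, h4⟩ := hcode hu
    rcases DB_mem_code d hd with h5 | h5
    · rw [h5, dotW_unit 23 (by norm_num)]
      exact h4
    · exact Cfsg.Agent.Lib.Golay.Basic.dot_eq_zero (mem_of_isCode h5) h3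
  have hDK : ∀ d ∈ DG, ∀ k ∈ (⊥ : AddSubgroup W), dotW (wordOf d) k = 0 := by
    intro d _ k hk
    have : k = 0 := by simpa using hk
    rw [this]
    simp [dotW]
  have hDG : ∀ u, (∀ d ∈ DG, dotW (wordOf d) u = 0) → u ∈ (⊥ : AddSubgroup W) := by
    intro u hu
    have : u = 0 := by
      funext p
      have h3 := hu _ (DG_mem _ (idx_lt p))
      rw [dotW_unit _ (idx_lt p), pt_idx] at h3
      exact h3
    rw [this]
    exact zero_mem _
  have hreal : ∀ i t, i < nT → t < 2 → ∃ ν, Rp ν (wordOf (nm i t)) := by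
    intro i t hi ht
    obtain ⟨h3, h4⟩ := nm_code i hi t ht
    exact hwordreal _ h3 h4
  have hfus : ∀ c ∈ fusL, (∃ y, σ y = g c.Pg) ∧ ∀ k ∈ (⊥ : AddSubgroup W), dotW (wordOf c.d1) k = 0 := by
    intro c hc
    have hc' : c.Pg = Pg := by
      simp only [fusL, List.mem_singleton] at hc
      rw [hc]
    constructor
    · obtain ⟨y, hy⟩ := hf ⟨g c.Pg, by rw [hc']; exact g_mem_M23 Pg_aut Pg_23⟩
      exact ⟨y, by show ((f y : ↥Spor.M23) : Equiv.Perm GolayPt) = _; rw [hy]⟩
    · intro k hk
      have : k = 0 := by simpa using hk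
      rw [this]
      simp [dotW]
  -- the lifts of the generators
  have h2f : ∀ a, f a = 1 → a * a = 1 := by
    intro a ha
    apply h2N
    rw [← hker]
    exact ha
  have ho0 := gen_pow Cfsg.Agent.Lib.ExtCert.M23.C7.cert (j := 0) (by decide) (by decide : (0 : ℕ) < 2) rel0_eq
  have ho1 := gen_pow Cfsg.Agent.Lib.ExtCert.M23.C7.cert (j := 1) (by decide) (by decide : (1 : ℕ) < 2) rel1_eq
  obtain ⟨y0, hy01, hy02⟩ := exists_lifts f hf h2f gc0_aut gc0_23 ho0 (by decide)
  obtain ⟨y1, hy11, hy12⟩ := exists_lifts f hf h2f gc1_aut gc1_23 ho1 (by decide)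
  let gen : ℕ → E := fun t => if t = 0 then y0 else y1
  have hgen : ∀ t, t < 2 → σ (gen t) = g (gcT t) := by
    intro t ht
    have ht' : t = 0 ∨ t = 1 := by omega
    rcases ht' with rfl | rfl
    · exact hy01
    · exact hy11
  have hg0 : gen 0 ^ 7 = 1 := hy02
  have hg1 : gen 1 ^ 3 = 1 := hy12
  obtain ⟨rep, hrep⟩ := exists_rep Cfsg.Agent.Lib.ExtCert.M23.C7.cert MD fcert.pS_lt gen hgen
  obtain ⟨A, hA1, hA2⟩ := main Cfsg.Agent.Lib.ExtCert.M23.C7.cert fcert MD hDK hDG hDB hreal hfus gen hgen hg0 hg1 rep hrep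
    (fun f hf => by simp at hf)
  exact complement_of_odd N f hf hker h2N A (m := 3795) hA1 (fun a ha h3 => hA2 a ha (by
    show ((f a : ↥Spor.M23) : Equiv.Perm GolayPt) = 1
    rw [h3]
    rfl)) (by decide) (by decide) (by decide)

end Cfsg.Agent.S2649
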