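import Cfsg.Statements.S2651
import Cfsg.Agent.Lib.ExtCert.M23.Baer

set_option autoImplicit false
open Cfsg

namespace Cfsg.Agent.S2651

open Cfsg.Agent.Lib.ExtCert.Basic Cfsg.Agent.Lib.ExtCert.M23.Cocode Cfsg.Agent.Lib.ExtCert.M23.Baer

/-- The data of the statement give the data of the sum. -/
theorem toData {E : Type*} [Group E] (N : Subgroup E) [hN : N.Normal]
    (φ : E ⧸ N ≃* ↥Cfsg.Spor.M23) (θ : (Cfsg.GolayPt → ZMod 2) →+ Additive ↥N)
    (hsurj : Function.Surjective θ)
    (hker : ∀ w : Cfsg.GolayPt → ZMod 2, θ w = 0 ↔ (w ∈ Cfsg.golayCode ∨ w + Pi.single none 1 ∈ Cfsg.golayCode))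
    (hθ : ∀ (g : E) (w : Cfsg.GolayPt → ZMod 2),
      ((θ (w ∘ ⇑(((φ (QuotientGroup.mk g) : ↥Cfsg.Spor.M23) : Equiv.Perm Cfsg.GolayPt)⁻¹))).toMul : E)
        = g * ((θ w).toMul : E) * g⁻¹) :
    (φ.toMonoidHom.comp (QuotientGroup.mk' N)).ker = N ∧
    CoData (φ.toMonoidHom.comp (QuotientGroup.mk' N)) (fun u => ((θ u).toMul : E)) := by
  have hk : (φ.toMonoidHom.comp (QuotientGroup.mk' N)).ker = N := by
    ext a
    simp only [MonoidHom.mem_ker, MonoidHom.comp_apply, MulEquiv.coe_toMonoidHom]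
    rw [EmbeddingLike.map_eq_one_iff (f := φ)]
    exact QuotientGroup.eq_one_iff a
  refine ⟨hk, ?_⟩
  constructor
  · exact φ.surjective.comp (QuotientGroup.mk'_surjective N)
  · intro u v
    rw [map_add]
    rfl
  · intro a
    have h1 : (φ.toMonoidHom.comp (QuotientGroup.mk' N)) a = 1 ↔ a ∈ N := by
      constructor
      · intro h
        have h3 : a ∈ (φ.toMonoidHom.comp (QuotientGroup.mk' N)).ker := h
        rwa [hk] at h3
      · intro h
        have h3 : a ∈ (φ.toMonoidHom.comp (QuotientGroup.mk' N)).ker := by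
          rw [hk]
          exact h
        exact h3
    rw [h1]
    constructor
    · intro ha
      obtain ⟨u, hu⟩ := hsurj (Additive.ofMul ⟨a, ha⟩)
      refine ⟨u, ?_⟩
      rw [hu]
      rfl
    · rintro ⟨u, rfl⟩
      exact ((θ u).toMul : ↥N).2
  · intro u b
    exact hθ b u
  · intro u
    rw [mem_KK]
    show _ ↔ (u ∈ Cfsg.golayCode ∨ u + Pi.single none 1 ∈ Cfsg.golayCode)
    rw [← hker]
    constructor
    · intro h
      have h2 : (θ u).toMul = 1 := Subtype.ext h
      exact congrArg Additive.ofMul h2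
    · intro h
      have h2 : (θ u).toMul = 1 := congrArg Additive.toMul h
      rw [h2]
      rfl

/-- The non-split extension of the Mathieu group M₂₃ by its cocode module is unique. Suppose E and E' are finite groups, each with a normal subgroup (N, N'), an isomorphism of the quotient onto M₂₃ = `Spor.M23`, and a surjective additive homomorphism from the binary words on the 24 points `GolayPt` onto the normal subgroup with kernel the Golay code `golayCode` together with its translate by the unit vector at the extra point `none`, intertwining the coordinate permutation w ↦ w ∘ σ⁻¹ (σ the image of gN) with conjugation by g; and suppose that in each group the normal subgroup has no complement. Then E and E' are isomorphic. -/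
theorem result
    {E : Type*} [Group E] [Finite E] (N : Subgroup E) [hN : N.Normal]
    (φ : E ⧸ N ≃* ↥Cfsg.Spor.M23) (θ : (Cfsg.GolayPt → ZMod 2) →+ Additive ↥N)
    (hsurj : Function.Surjective θ)
    (hker : ∀ w : Cfsg.GolayPt → ZMod 2, θ w = 0 ↔ (w ∈ Cfsg.golayCode ∨ w + Pi.single none 1 ∈ Cfsg.golayCode))
    (hθ : ∀ (g : E) (w : Cfsg.GolayPt → ZMod 2),
      ((θ (w ∘ ⇑(((φ (QuotientGroup.mk g) : ↥Cfsg.Spor.M23) : Equiv.Perm Cfsg.GolayPt)⁻¹))).toMul : E)
        = g * ((θ w).toMul : E) * g⁻¹)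
    (hns : ∀ H : Subgroup E, H ⊓ N = ⊥ → H ⊔ N ≠ ⊤)
    {E' : Type*} [Group E'] [Finite E'] (N' : Subgroup E') [hN' : N'.Normal]
    (φ' : E' ⧸ N' ≃* ↥Cfsg.Spor.M23) (θ' : (Cfsg.GolayPt → ZMod 2) →+ Additive ↥N')
    (hsurj' : Function.Surjective θ')
    (hker' : ∀ w : Cfsg.GolayPt → ZMod 2, θ' w = 0 ↔ (w ∈ Cfsg.golayCode ∨ w + Pi.single none 1 ∈ Cfsg.golayCode))
    (hθ' : ∀ (g : E') (w : Cfsg.GolayPt → ZMod 2),
      ((θ' (w ∘ ⇑(((φ' (QuotientGroup.mk g) : ↥Cfsg.Spor.M23) : Equiv.Perm Cfsg.GolayPt)⁻¹))).toMul : E')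
        = g * ((θ' w).toMul : E') * g⁻¹)
    (hns' : ∀ H : Subgroup E', H ⊓ N' = ⊥ → H ⊔ N' ≠ ⊤) :
    Nonempty (E ≃* E') := by
  obtain ⟨hk, D⟩ := toData N φ θ hsurj hker hθ
  obtain ⟨hk', D'⟩ := toData N' φ' θ' hsurj' hker' hθ'
  exact iso_of_nonsplit D D' (by rw [hk]; exact hns) (by rw [hk']; exact hns')

end Cfsg.Agent.S2651
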