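-- Statement S2652.
import Cfsg.Statements.S2652
import Cfsg.Agent.Lib.TC.D.Fi23Chain.Main
import Cfsg.Agent.Lib.PermComp.OutP.Pres
import Cfsg.Agent.Lib.PermComp.OutP.Fi23S.Thm

set_option autoImplicit false
set_option maxRecDepth 100000
set_option maxHeartbeats 0
open Cfsg

namespace Cfsg.Agent.S2652

open Cfsg.Agent.Lib.PermComp Cfsg.Agent.Lib.PermComp.OutP
open Cfsg.Agent.Lib.PermComp.Kron (rangeAll)

private noncomputable abbrev pt := Cfsg.Agent.Lib.TC.D.Fi23a.Tab.pt

private theorem ck (H : Subgroup (Equiv.Perm (Fin 31671)))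
    (hH : ∀ c < 10, ∃ e ∈ H, ∀ (p : Nat) (hp : p < 31671), pt.T c p = (e ⟨p, hp⟩ : Fin 31671))
    (j : Nat) (hj : j < 10)
    (h : rangeAll (fun q => Nat.beq (OutP.Fi23.F (65 + j) q) (pt.T j q)) 0 31671 = true) :
    Has (n := 31671) OutP.Fi23.F H (65 + j) := by
  obtain ⟨e, he, hg⟩ := hH j hj
  refine ⟨e, he, fun p hp => ?_⟩
  have h1 := Nat.eq_of_beq_eq_true (Kron.rangeAll_spec h p (Nat.zero_le _) (by omega))
  rw [h1]
  exact hg p hp

/-- Let T be a Sylow 2-subgroup of the Fischer group Fi₂₃ (the finitely presented group `Spor.Fi23`; T has order 2¹⁸). Then every elementary abelian subgroup of Fi₂₃ contained in T and normal in T has order at most 2¹¹, and there is exactly one such subgroup of order 2¹¹. -/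
theorem result
    (T : Sylow 2 Cfsg.Spor.Fi23) :
    (∀ A : Subgroup Cfsg.Spor.Fi23, A ≤ T → (A.subgroupOf T).Normal → Cfsg.IsElementaryAbelian 2 A →
        Nat.card A ≤ 2 ^ 11) ∧
    ∃! A : Subgroup Cfsg.Spor.Fi23, A ≤ T ∧ (A.subgroupOf T).Normal ∧ Cfsg.IsElementaryAbelian 2 A ∧
        Nat.card A = 2 ^ 11 := by
  obtain ⟨hs, hc⟩ := Cfsg.Agent.Lib.TC.D.Fi23Chain.Main.simple_card
  obtain ⟨H, ⟨e⟩, hH, hgen⟩ := exists_model Cfsg.Agent.Lib.TC.D.Fi23a.Ok.ok hs hc (c0 := 0) (i0 := 8) (by decide +kernel) (by decide +kernel) (by decide +kernel)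
  have hX : ∀ g, 65 ≤ g → g < 75 → Has (n := 31671) OutP.Fi23.F H g := by
    intro g h1 h2
    have hg : g = 65 ∨ g = 66 ∨ g = 67 ∨ g = 68 ∨ g = 69 ∨ g = 70 ∨ g = 71 ∨ g = 72 ∨ g = 73 ∨ g = 74 := by omega
    rcases hg with rfl | rfl | rfl | rfl | rfl | rfl | rfl | rfl | rfl | rfl
    · exact ck H hgen 0 (by decide) (by decide +kernel)
    · exact ck H hgen 1 (by decide) (by decide +kernel)
    · exact ck H hgen 2 (by decide) (by decide +kernel)
    · exact ck H hgen 3 (by decide) (by decide +kernel)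
    · exact ck H hgen 4 (by decide) (by decide +kernel)
    · exact ck H hgen 5 (by decide) (by decide +kernel)
    · exact ck H hgen 6 (by decide) (by decide +kernel)
    · exact ck H hgen 7 (by decide) (by decide +kernel)
    · exact ck H hgen 8 (by decide) (by decide +kernel)
    · exact ck H hgen 9 (by decide) (by decide +kernel)
  obtain ⟨T0, Q, hTH, hQT, hEn, hEA, hTc, hQc, hmax⟩ := OutP.Fi23S.main hH hX
  have hcG : Nat.card Cfsg.Spor.Fi23 = 2 ^ 18 * 15600091832325 := by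
    rw [Nat.card_congr e.toEquiv, hH]
    norm_num
  have hfin : Finite Cfsg.Spor.Fi23 := Nat.finite_of_card_ne_zero (by rw [hcG]; norm_num)
  let ι : Cfsg.Spor.Fi23 →* Equiv.Perm (Fin 31671) := H.subtype.comp e.toMonoidHom
  have hι : Function.Injective ι := H.subtype_injective.comp e.injective
  have hr : T0 ≤ ι.range := by
    intro x hx
    refine ⟨e.symm ⟨x, hTH hx⟩, ?_⟩
    have h := e.apply_symm_apply (⟨x, hTH hx⟩ : H)
    exact congrArg Subtype.val h
  exact ea_transfer ι hι T0 Q hr hQT hEn hEA hTc hcG (by norm_num) hQc hmax T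

end Cfsg.Agent.S2652
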