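import Cfsg.Statements.S2770
import Cfsg.Agent.Lib.PLocal.PushRankOne

set_option autoImplicit false
open Cfsg

namespace Cfsg.Agent.S2770

/-- Let G be a finite group and p a prime with C_G(O_p(G)) ≤ O_p(G), S a Sylow p-subgroup lying in exactly one maximal subgroup of G, and G/K ≅ PSL₂(p^n) for some normal K and n ≥ 1. If Z(S) is not elementary abelian, then either ℧¹(Z(S)) (the subgroup generated by the p-th powers of the elements of Z(S)) is normal in G or C_S(Z(J(S))) is normal in G, J(S) being generated by the abelian subgroups of S of largest order. -/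
theorem result {G : Type*} [Group G] [Finite G] {p : ℕ} [Fact p.Prime] (S : Sylow p G) (hE₁ : Subgroup.centralizer (Cfsg.pCore p G : Set G) ≤ Cfsg.pCore p G) (hE₂ : ∃! M : Subgroup G, IsCoatom M ∧ (S : Subgroup G) ≤ M) (K : Subgroup G) [K.Normal] (F : Type) [Field F] [Fintype F] (n : ℕ) (hn : 1 ≤ n) (hF : Fintype.card F = p ^ n) (hE₃ : Nonempty (G ⧸ K ≃* Matrix.ProjectiveSpecialLinearGroup (Fin 2) F)) (h : ¬ Cfsg.IsElementaryAbelian p ((S : Subgroup G) ⊓ Subgroup.centralizer ((S : Subgroup G) : Set G))) : (Cfsg.powerClosure p 1 ((S : Subgroup G) ⊓ Subgroup.centralizer ((S : Subgroup G) : Set G))).Normal ∨ (((S : Subgroup G) ⊓ Subgroup.centralizer (Cfsg.centerThompsonAOf (S : Subgroup G) : Set G))).Normal := by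
  classical
  haveI : CharP F p := Cfsg.Agent.Lib.PLocal.BorelTwo.charP_of_card F n hF
  obtain ⟨Ψ, hΨ, hker, hS⟩ := Cfsg.Agent.Lib.PLocal.BorelTwo.exists_psi S K F hE₃
  have D := Cfsg.Agent.Lib.PLocal.BorelTwo.data_of_psl S K hE₂ F Ψ hΨ hker hS
  rw [Cfsg.Agent.Lib.PLocal.Thompson.centerThompsonAOf_eq]
  by_contra hcon
  push Not at hcon
  obtain ⟨h1, h2⟩ := hcon
  have hex : ∃ y₀ ∈ (S : Subgroup G) ⊓ Subgroup.centralizer ((S : Subgroup G) : Set G),
      ∃ g : G, g * y₀ ^ p ≠ y₀ ^ p * g := by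
    by_contra hall
    push Not at hall
    apply h1
    have hle : Cfsg.powerClosure p 1 ((S : Subgroup G) ⊓
        Subgroup.centralizer ((S : Subgroup G) : Set G)) ≤ Subgroup.center G := by
      refine (Subgroup.closure_le _).2 ?_
      rintro _ ⟨x, hx, rfl⟩
      rw [pow_one]
      exact Subgroup.mem_center_iff.2 (hall x hx)
    constructor
    intro n hn g
    have h3 := Subgroup.mem_center_iff.1 (hle hn) g
    rw [h3, mul_assoc, mul_inv_cancel, mul_one]
    exact hn
  obtain ⟨y₀, hy₀, hx⟩ := hex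
  have hy₀c : ∀ s ∈ (S : Subgroup G), s * y₀ = y₀ * s :=
    fun s hs => (Subgroup.mem_centralizer_iff.1 hy₀.2 s hs)
  have hJ := Cfsg.Agent.Lib.PLocal.PushRankOne.jOf_le_of_pow D hE₁ hy₀c hx
  exact h2 (Cfsg.Agent.Lib.PLocal.PushRankOne.normal_of_jOf_le D hJ (pow_mem hy₀.1 p)
    (fun s hs => (show Commute s y₀ from hy₀c s hs).pow_right p) hx)

end Cfsg.Agent.S2770
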