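import Cfsg.Statements.S5225
import Cfsg.Agent.Lib.Fusion.YoshidaCore
import Cfsg.Agent.Lib.Fusion.KSystem
import Cfsg.Agent.Lib.Fusion.TateHyp

set_option autoImplicit false
open Cfsg

namespace Cfsg.Agent.S5225

/-- Yoshida's Theorem for fusion systems. Let F be a saturated fusion system over a finite p-group S and N the normalizer fusion system of S in F. If the focal subgroups of F and N differ (N does not control transfer in F), then S has a quotient isomorphic to the wreath product C_p ≀ C_p (realised as a Sylow p-subgroup of the symmetric group of degree p²). -/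
theorem result {Ω : Type*} [Group Ω] {S : Subgroup Ω} [Finite S] (p : ℕ) [Fact p.Prime] (hS : IsPGroup p S) (F : Cfsg.FusionSystem S) (hF : F.IsSaturated p) (N : Cfsg.FusionSystem (Cfsg.FusionSystem.normalizerIn S S)) (hN : F.IsNormalizerSystem S N) (hne : N.focalSubgroup ≠ F.focalSubgroup) : ∃ (W : Sylow p (Equiv.Perm (Fin (p ^ 2)))) (f : ↥S →* ↥(W : Subgroup (Equiv.Perm (Fin (p ^ 2))))), Function.Surjective f := by
  open Cfsg.FusionSystem Cfsg.Agent.Lib.Fusion.Basic Cfsg.Agent.Lib.Fusion.Saturation Cfsg.Agent.Lib.Fusion.Saturation2 Cfsg.Agent.Lib.Fusion.YoshidaCore Cfsg.Agent.Lib.Fusion.TateHyp Cfsg.Agent.Lib.Fusion.KSystem in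
classical
  by_contra hno
  have hself : normalizerIn S S = S := le_antisymm inf_le_left (le_normalizerIn le_rfl)
  have trans : ∀ {T : Subgroup Ω} (_ : T = S) (N : FusionSystem T), ∃ H : FusionSystem S, (∀ P, H.Hom P = N.Hom P) ∧
      (N.IsSaturated p → H.IsSaturated p) ∧ H.focalSubgroup = N.focalSubgroup := by
    rintro T rfl N
    exact ⟨N, fun _ => rfl, fun h => h, rfl⟩
  obtain ⟨H, h1, h2, h3⟩ := trans hself N
  have hNsat := isSaturated_normalizerSystem hS F hF (isFullyNormalized_top F hS) N hN
  have hHF : H.IsSubsystemOf F := by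
    intro P φ hφ
    rw [h1, hN P] at hφ
    exact hφ.1
  have hSH : ∀ φ ∈ F.Hom S, φ ∈ H.Hom S := by
    intro φ hφ
    rw [h1, hN S]
    have hr : φ.range = S := Subgroup.eq_of_le_of_card_ge (range_le F hφ) (by rw [card_range F hφ])
    have hle : S ≤ normalizerIn S S := le_normalizerIn le_rfl
    have hsup : S ⊔ S ≤ S := by simp
    refine ⟨hφ, hle, fun x => hle (val_mem F hφ x), φ.comp (Subgroup.inclusion hsup), restrict_mem F hsup hφ,
      fun x => rfl, ?_⟩
    ext y
    constructor
    · rintro ⟨x, -, rfl⟩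
      exact val_mem F hφ _
    · intro hy
      obtain ⟨x, rfl⟩ := hr.ge hy
      exact ⟨Subgroup.inclusion le_sup_left x, x.2, rfl⟩
  have hfoc := focal_le_of_no_wreath hS hF (h2 hNsat) hHF hSH hno
  apply hne
  rw [← h3]
  exact le_antisymm (focal_mono F hHF) hfoc

end Cfsg.Agent.S5225
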