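import Cfsg.Statements.S2807
import Cfsg.Agent.S5225
import Cfsg.Agent.Lib.Fusion.NormSystem
import Cfsg.Agent.Lib.Fusion.GroupSystem
import Cfsg.Agent.Lib.Transfer.Frobenius

set_option autoImplicit false
open Cfsg

namespace Cfsg.Agent.S2807

open scoped commutatorElement


/-- Let S be a Sylow p-subgroup of the finite group G. If S ∩ G' ≠ S ∩ (N_G(S))' (derived subgroups), then the wreath product Z_p ≀ Z_p — realised as a Sylow p-subgroup of the symmetric group of degree p² — is a homomorphic image of S. -/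
theorem result {G : Type*} [Group G] [Finite G] {p : ℕ} [Fact p.Prime] (S : Sylow p G) (h : (S : Subgroup G) ⊓ commutator G ≠ (S : Subgroup G) ⊓ ⁅Subgroup.normalizer ((S : Subgroup G) : Set G), Subgroup.normalizer ((S : Subgroup G) : Set G)⁆) : ∃ (P : Sylow p (Equiv.Perm (Fin (p ^ 2)))) (f : ↥(S : Subgroup G) →* ↥(P : Subgroup (Equiv.Perm (Fin (p ^ 2))))), Function.Surjective f := by
  classical
  haveI : Fact p.Prime := inferInstance
  have hS : IsPGroup p (S : Subgroup G) := S.isPGroup'
  have hF : (Cfsg.groupFusionSystem (S : Subgroup G)).IsSaturated p :=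
    Cfsg.Agent.Lib.Fusion.GroupSystem.isSaturated S
  obtain ⟨N, hN⟩ := Cfsg.Agent.Lib.Fusion.NormSystem.exists_normalizerSystem
    (Cfsg.groupFusionSystem (S : Subgroup G)) (le_refl (S : Subgroup G))
  refine Cfsg.Agent.S5225.result p hS _ hF N hN ?_
  intro heq
  apply h
  set NG : Subgroup G := Subgroup.normalizer (((S : Subgroup G)) : Set G) with hNG
  apply le_antisymm
  · -- `S ⊓ G' ≤ S ⊓ N'`
    have h1 : commutator G ⊓ (S : Subgroup G) = (S : Subgroup G).focalSubgroup :=
      Subgroup.commutator_inf_eq_focalSubgroup S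
    have h2 : (S : Subgroup G).focalSubgroup ≤ (Cfsg.groupFusionSystem (S : Subgroup G)).focalSubgroup := by
      apply Cfsg.Agent.Lib.Transfer.Frobenius.focalSubgroup_le_of_commutator_mem
      intro x hx u hc
      -- `⁅x, u⁆ = w⁻¹ · u w u⁻¹` with `w = x⁻¹`
      have hw : u * x⁻¹ * u⁻¹ ∈ (S : Subgroup G) := by
        have : u * x⁻¹ * u⁻¹ = x⁻¹ * ⁅x, u⁆ := by
          rw [commutatorElement_def]; group
        rw [this]
        exact Subgroup.mul_mem _ (Subgroup.inv_mem _ hx) hc
      apply Subgroup.subset_closure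
      refine ⟨Subgroup.zpowers x⁻¹, Cfsg.conjHom (Subgroup.zpowers x⁻¹) u,
        ⟨x⁻¹, Subgroup.mem_zpowers _⟩, ?_, ?_⟩
      · refine ⟨?_, ?_, u, fun y => rfl⟩
        · exact (Subgroup.zpowers_le.2 (Subgroup.inv_mem _ hx))
        · rintro ⟨y, k, rfl⟩
          have : u * (x⁻¹ ^ k) * u⁻¹ = (u * x⁻¹ * u⁻¹) ^ k := by
            rw [conj_zpow]
          change u * (x⁻¹ ^ k) * u⁻¹ ∈ (S : Subgroup G)
          rw [this]
          exact Subgroup.zpow_mem _ hw k
      · change ⁅x, u⁆ = (x⁻¹)⁻¹ * (u * x⁻¹ * u⁻¹)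
        rw [commutatorElement_def]
        group
    have h3 : (Cfsg.groupFusionSystem (S : Subgroup G)).focalSubgroup ≤ ⁅NG, NG⁆ := by
      rw [← heq]
      unfold Cfsg.FusionSystem.focalSubgroup
      rw [Subgroup.closure_le]
      rintro y ⟨P, φ, x, hφ, rfl⟩
      rw [hN P] at hφ
      obtain ⟨h4, h5, h6, ψ, hψ, hψ1, hψ2⟩ := hφ
      obtain ⟨hPS, hψS, g, hg⟩ := Cfsg.Agent.Lib.Fusion.GroupSystem.mem_hom_iff.1 hψ
      have hPS' : P ≤ (S : Subgroup G) := le_sup_left.trans hPS
      have hgN : g ∈ NG := by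
        rw [hNG, Subgroup.mem_normalizer_iff]
        intro n
        have hmax : Nat.card (S : Subgroup G) = Nat.card (S : Subgroup G) := rfl
        -- `g S g⁻¹ = S`
        have hgS : ∀ n ∈ (S : Subgroup G), g * n * g⁻¹ ∈ (S : Subgroup G) := by
          intro n hn
          have h7 := hψS ⟨n, Subgroup.mem_sup_right hn⟩
          rw [hg] at h7
          exact h7
        constructor
        · exact hgS n
        · intro hn
          have h8 : (g * n * g⁻¹) ∈ (((S : Subgroup G).subgroupOf (P ⊔ (S : Subgroup G))).map ψ) := by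
            rw [hψ2]
            exact hn
          obtain ⟨m, hm, hm2⟩ := Subgroup.mem_map.1 h8
          rw [hg] at hm2
          have hm3 : (m : G) = n := by
            have : g * (m : G) * g⁻¹ = g * n * g⁻¹ := hm2
            exact mul_left_cancel (mul_right_cancel this)
          rw [← hm3]
          exact hm
      have hxN : (x : G) ∈ NG := Subgroup.le_normalizer (hPS' x.2)
      have h9 : φ x = g * (x : G) * g⁻¹ := by
        rw [← hψ1 x, hg]
        rfl
      rw [h9]
      have h10 : (x : G)⁻¹ * (g * (x : G) * g⁻¹) = ⁅(x : G)⁻¹, g⁆ := by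
        rw [commutatorElement_def]
        group
      rw [h10]
      exact Subgroup.commutator_mem_commutator (Subgroup.inv_mem _ hxN) hgN
    intro y hy
    refine ⟨hy.1, h3 (h2 ?_)⟩
    rw [← h1]
    exact ⟨hy.2, hy.1⟩
  · exact inf_le_inf_left _ (Subgroup.commutator_mono le_top le_top)

end Cfsg.Agent.S2807
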