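import Cfsg.Statements.S2809
import Cfsg.Agent.Lib.LocalEven.CharP

set_option autoImplicit false
open Cfsg

namespace Cfsg.Agent.S2809

/-- Let H be a finite group, p a prime, R a p-subgroup of H with C_H(R) ≤ R, and L a subgroup of N_H(R) acting nilpotently on R (some iterated commutator [R, L, …, L] is trivial). Then L is a p-group. -/
theorem result {H : Type*} [Group H] [Finite H] {p : ℕ} [Fact p.Prime] (R : Subgroup H) (hR : IsPGroup p ↥R) (hC : Subgroup.centralizer (R : Set H) ≤ R) (L : Subgroup H) (hL : L ≤ Subgroup.normalizer (R : Set H)) (hnil : ∃ n : ℕ, Cfsg.iterCommutator R L n = ⊥) : IsPGroup p ↥L := by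
  classical
  refine Cfsg.Agent.Lib.LocalEven.CharP.isPGroup_of_forall_coprime L ?_
  intro x hx hcop
  obtain ⟨n, hn⟩ := hnil
  have hle : ∀ i, Cfsg.iterCommutator R L i ≤ R := by
    intro i
    induction i with
    | zero => exact le_rfl
    | succ i ih =>
      show ⁅Cfsg.iterCommutator R L i, L⁆ ≤ R
      rw [Subgroup.commutator_le]
      intro a ha l hl
      have h1 := ih ha
      have h2 := (Subgroup.mem_normalizer_iff.1 (hL hl) a⁻¹).1 (R.inv_mem h1)
      have h3 := R.mul_mem h1 h2
      simpa [commutatorElement_def, mul_assoc] using h3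
  have hdown : ∀ i, i ≤ n → x ∈ Subgroup.centralizer ((Cfsg.iterCommutator R L (n - i) : Subgroup H) : Set H) := by
    intro i
    induction i with
    | zero =>
      intro _
      rw [Subgroup.mem_centralizer_iff]
      intro y hy
      simp only [Nat.sub_zero, hn] at hy
      have : y = 1 := by simpa using hy
      simp [this]
    | succ i ih =>
      intro hi
      have h0 := ih (by omega)
      have e : n - i = (n - (i + 1)) + 1 := by omega
      rw [e] at h0
      rw [Subgroup.mem_centralizer_iff]
      intro y hy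
      have hcm : x * y * x⁻¹ * y⁻¹ ∈ Cfsg.iterCommutator R L (n - (i + 1) + 1) := by
        show _ ∈ ⁅Cfsg.iterCommutator R L (n - (i + 1)), L⁆
        rw [Subgroup.commutator_comm]
        have := Subgroup.commutator_mem_commutator hx hy
        simpa [commutatorElement_def] using this
      have hcomm : Commute x (x * y * x⁻¹ * y⁻¹) := by
        have := (Subgroup.mem_centralizer_iff.1 h0) _ hcm
        exact this.symm
      have hcR : x * y * x⁻¹ * y⁻¹ ∈ R := hle _ hcm
      have hp : ∃ k, (x * y * x⁻¹ * y⁻¹) ^ (p ^ k) = 1 :=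
        Cfsg.Agent.Lib.LocalEven.CharP.pow_eq_one_of_isPGroup hR hcR
      have h1 := Cfsg.Agent.Lib.LocalEven.CharP.commutator_eq_one_of_commute (p := p) hcomm hp hcop
      have h2 : x * y * x⁻¹ = y := by
        rw [mul_inv_eq_one] at h1
        exact h1
      rw [mul_inv_eq_iff_eq_mul] at h2
      exact h2.symm
  have h0 := hdown n le_rfl
  simp only [Nat.sub_self] at h0
  have h1 : x ∈ R := hC h0
  exact Cfsg.Agent.Lib.LocalEven.CharP.eq_one_of_mem_of_isPGroup_of_coprime hR h1 hcop

end Cfsg.Agent.S2809
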