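import Cfsg.Statements.S2810
import Cfsg.Agent.Lib.LocalEven.CharP
import Cfsg.Agent.Lib.Core.Basic

set_option autoImplicit false
open Cfsg

namespace Cfsg.Agent.S2810

/-- Let H be a finite group of characteristic p and L a subgroup of H centralizing every factor of some H-invariant chain 1 = A₀ ≤ A₁ ≤ … ≤ Aₙ = O_p(H) of normal subgroups (that is, [A_{i+1}, L] ≤ Aᵢ for each i). Then L ≤ O_p(H). -/
theorem result {H : Type*} [Group H] [Finite H] {p : ℕ} [Fact p.Prime] (hchar : Subgroup.centralizer (Cfsg.pCore p H : Set H) ≤ Cfsg.pCore p H) (L : Subgroup H) (n : ℕ) (A : Fin (n + 1) → Subgroup H) (h0 : A 0 = ⊥) (hn : A (Fin.last n) = Cfsg.pCore p H) (hmono : Monotone A) (hnorm : ∀ i, (A i).Normal) (hcent : ∀ i : Fin n, ⁅A i.succ, L⁆ ≤ A i.castSucc) : L ≤ Cfsg.pCore p H := by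
  classical
  have hcomm : ∀ {B C : Subgroup H}, B.Normal → C.Normal → ⁅B, L⁆ ≤ C →
      ⁅B, Subgroup.normalClosure (L : Set H)⁆ ≤ C := by
    intro B C hB hC hBC
    let f := QuotientGroup.mk' C
    have : (B.map f).Normal := Subgroup.Normal.map hB f (QuotientGroup.mk'_surjective C)
    let D : Subgroup H := (Subgroup.centralizer ((B.map f : Subgroup _) : Set _)).comap f
    have : D.Normal := Subgroup.Normal.comap inferInstance f
    have hfe : ∀ a b : H, a * b * a⁻¹ * b⁻¹ ∈ C ↔ f a * f b = f b * f a := by
      intro a b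
      rw [← QuotientGroup.eq_one_iff]
      show f (a * b * a⁻¹ * b⁻¹) = 1 ↔ _
      simp only [map_mul, map_inv]
      rw [mul_inv_eq_one, mul_inv_eq_iff_eq_mul]
    have hLD : L ≤ D := by
      intro l hl
      rw [Subgroup.mem_comap, Subgroup.mem_centralizer_iff]
      rintro _ ⟨b, hb, rfl⟩
      have h1 := hBC (Subgroup.commutator_mem_commutator hb hl)
      exact (hfe b l).1 h1
    have hK : Subgroup.normalClosure (L : Set H) ≤ D := Subgroup.normalClosure_le_normal hLD
    rw [Subgroup.commutator_le]
    intro b hb k hk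
    have h1 := hK hk
    rw [Subgroup.mem_comap, Subgroup.mem_centralizer_iff] at h1
    have h2 := h1 (f b) ⟨b, hb, rfl⟩
    exact (hfe b k).2 h2
  have hKp : IsPGroup p (Subgroup.normalClosure (L : Set H)) := by
    refine Cfsg.Agent.Lib.LocalEven.CharP.isPGroup_of_forall_coprime _ ?_
    intro x hx hcop
    have hall : ∀ i : Fin (n + 1), x ∈ Subgroup.centralizer ((A i : Subgroup H) : Set H) := by
      intro i
      induction i using Fin.induction with
      | zero =>
        rw [h0, Subgroup.mem_centralizer_iff]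
        intro y hy
        have : y = 1 := by simpa using hy
        simp [this]
      | succ i ih =>
        rw [Subgroup.mem_centralizer_iff]
        intro y hy
        have h1 := hcomm (hnorm _) (hnorm _) (hcent i)
        have hcm : x * y * x⁻¹ * y⁻¹ ∈ A i.castSucc := by
          apply h1
          rw [Subgroup.commutator_comm]
          have := Subgroup.commutator_mem_commutator hx hy
          simpa [commutatorElement_def] using this
        have hcommute : Commute x (x * y * x⁻¹ * y⁻¹) :=
          ((Subgroup.mem_centralizer_iff.1 ih) _ hcm).symm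
        have hAp : A i.castSucc ≤ Cfsg.pCore p H := by
          rw [← hn]
          exact hmono (Fin.le_last _)
        have hcR : x * y * x⁻¹ * y⁻¹ ∈ Cfsg.pCore p H := hAp hcm
        have hp : ∃ k, (x * y * x⁻¹ * y⁻¹) ^ (p ^ k) = 1 :=
          Cfsg.Agent.Lib.LocalEven.CharP.pow_eq_one_of_isPGroup
            Cfsg.Agent.Lib.Core.Basic.pCore_isPGroup hcR
        have h2 := Cfsg.Agent.Lib.LocalEven.CharP.commutator_eq_one_of_commute (p := p) hcommute hp hcop
        have h3 : x * y * x⁻¹ = y := by
          rw [mul_inv_eq_one] at h2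
          exact h2
        rw [mul_inv_eq_iff_eq_mul] at h3
        exact h3.symm
    have h1 := hall (Fin.last n)
    rw [hn] at h1
    exact Cfsg.Agent.Lib.LocalEven.CharP.eq_one_of_mem_of_isPGroup_of_coprime
      Cfsg.Agent.Lib.Core.Basic.pCore_isPGroup (hchar h1) hcop
  exact (Subgroup.le_normalClosure).trans (Cfsg.Agent.Lib.Core.Basic.le_pCore inferInstance hKp)

end Cfsg.Agent.S2810
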