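import Cfsg.Statements.S2813
import Cfsg.Agent.Lib.LocalEven.CharP
import Cfsg.Agent.Lib.Core.Basic

set_option autoImplicit false
open Cfsg

namespace Cfsg.Agent.S2813

open scoped commutatorElement


/-- Let K be a subgroup of the finite group H with O_p(K) = 1 and Y a p-subgroup of N_H(K) with [K, Y, Y] = 1. Then [K, Y] = 1. -/
theorem result {H : Type*} [Group H] [Finite H] {p : ℕ} [Fact p.Prime] (K : Subgroup H) (hO : Cfsg.pCore p ↥K = ⊥) (Y : Subgroup H) (hY : IsPGroup p ↥Y) (hYK : Y ≤ Subgroup.normalizer (K : Set H)) (hq : ⁅⁅K, Y⁆, Y⁆ = ⊥) : ⁅K, Y⁆ = ⊥ := by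
  classical
  set D := ⁅K, Y⁆ with hD
  have hDK : D ≤ K := by
    rw [hD, Subgroup.commutator_le]
    intro k hk y hy
    have h1 := (Subgroup.mem_normalizer_iff.1 (hYK hy) k⁻¹).1 (K.inv_mem hk)
    have h2 := K.mul_mem hk h1
    simpa [commutatorElement_def, mul_assoc] using h2
  have hYD : D ≤ Subgroup.centralizer (Y : Set H) :=
    (Subgroup.commutator_eq_bot_iff_le_centralizer).1 hq
  have hKD : K ≤ Subgroup.normalizer (D : Set H) :=
    Cfsg.Agent.Lib.LocalEven.CharP.le_normalizer_commutator K Y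
  have hDeq : D = Subgroup.closure {g | ∃ g₁ ∈ K, ∃ g₂ ∈ Y, ⁅g₁, g₂⁆ = g} :=
    Subgroup.commutator_def K Y
  have hDc : D ≤ Subgroup.centralizer (D : Set H) := by
    conv_lhs => rw [hDeq]
    rw [Subgroup.closure_le]
    rintro _ ⟨k, hk, y, hy, rfl⟩
    rw [SetLike.mem_coe, Subgroup.mem_centralizer_iff]
    intro e he
    have he' : k⁻¹ * e * k ∈ D := by
      have := (Subgroup.mem_normalizer_iff.1 (hKD (K.inv_mem hk)) e).1 he
      simpa using this
    have h1 : y * e = e * y := (Subgroup.mem_centralizer_iff.1 (hYD he)) y hy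
    have h2 : y * (k⁻¹ * e * k) = (k⁻¹ * e * k) * y :=
      (Subgroup.mem_centralizer_iff.1 (hYD he')) y hy
    have h3 : y⁻¹ * e = e * y⁻¹ := Commute.inv_left (show Commute y e from h1)
    rw [commutatorElement_def]
    symm
    calc (k * y * k⁻¹ * y⁻¹) * e = k * y * k⁻¹ * (y⁻¹ * e) := by group
      _ = k * y * k⁻¹ * (e * y⁻¹) := by rw [h3]
      _ = k * (y * (k⁻¹ * e * k)) * k⁻¹ * y⁻¹ := by group
      _ = k * ((k⁻¹ * e * k) * y) * k⁻¹ * y⁻¹ := by rw [h2]
      _ = e * (k * y * k⁻¹ * y⁻¹) := by group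
  have hpel : ∀ x ∈ D, ∃ n, x ^ (p ^ n) = 1 := by
    intro x hx
    have hx' := hx
    rw [hDeq] at hx'
    induction hx' using Subgroup.closure_induction with
    | mem x hm =>
      obtain ⟨k, hk, y, hy, rfl⟩ := hm
      obtain ⟨a, ha⟩ := Cfsg.Agent.Lib.LocalEven.CharP.pow_eq_one_of_isPGroup hY hy
      refine ⟨a, ?_⟩
      have hc : Commute ⁅k, y⁆ y := ((Subgroup.mem_centralizer_iff.1 (hYD hx)) y hy).symm
      have h1 : (⁅k, y⁆ * y) ^ (p ^ a) = 1 := by
        have : ⁅k, y⁆ * y = k * y * k⁻¹ := by simp [commutatorElement_def]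
        rw [this, conj_pow, ha]
        simp
      rw [hc.mul_pow, ha, mul_one] at h1
      exact h1
    | one => exact ⟨0, by simp⟩
    | mul x y hx1 hy1 ihx ihy =>
      have hx2 : x ∈ D := hDeq ▸ hx1
      have hy2 : y ∈ D := hDeq ▸ hy1
      obtain ⟨a, ha⟩ := ihx hx2
      obtain ⟨b, hb⟩ := ihy hy2
      refine ⟨a + b, ?_⟩
      have hc : Commute x y := (Subgroup.mem_centralizer_iff.1 (hDc hy2)) x hx2
      rw [hc.mul_pow, pow_add, pow_mul, ha, one_pow, one_mul, mul_comm, pow_mul, hb, one_pow]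
    | inv x hx1 ih =>
      have hx2 : x ∈ D := hDeq ▸ hx1
      obtain ⟨a, ha⟩ := ih hx2
      exact ⟨a, by rw [inv_pow, ha, inv_one]⟩
  have hDn : (D.subgroupOf K).Normal := by
    constructor
    intro n hn g
    rw [Subgroup.mem_subgroupOf] at hn ⊢
    exact (Subgroup.mem_normalizer_iff.1 (hKD g.2) _).1 hn
  have hDp : IsPGroup p (D.subgroupOf K) := by
    rintro ⟨x, hx⟩
    obtain ⟨n, hn⟩ := hpel _ (Subgroup.mem_subgroupOf.1 hx)
    refine ⟨n, ?_⟩
    apply Subtype.ext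
    apply Subtype.ext
    simpa using hn
  have h5 := Cfsg.Agent.Lib.Core.Basic.le_pCore hDn hDp
  rw [hO] at h5
  rw [eq_bot_iff]
  intro x hx
  have h6 : (⟨x, hDK hx⟩ : K) ∈ D.subgroupOf K := hx
  have h7 := h5 h6
  simpa using h7

end Cfsg.Agent.S2813
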