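import Cfsg.Statements.S2814
import Cfsg.Agent.Lib.PReduced.SubnormalClosure

set_option autoImplicit false
open Cfsg

namespace Cfsg.Agent.S2814

/-- Let A be a subgroup of the finite group H and K the subnormal closure of A (intersection of the subnormal subgroups containing A). Then K is the normal closure of A inside K and N_H(A) ≤ N_H(K); K = A·O^p(K), O^p(K) being generated by the elements of K of order prime to p; and if A is a p-group, O^p(K) = [O^p(K), A]. -/
theorem result {H : Type*} [Group H] [Finite H] {p : ℕ} [Fact p.Prime] (A : Subgroup H) (K : Subgroup H) (hK : K = Cfsg.subnormalClosure A) : (Subgroup.normalClosure ((A.subgroupOf K : Subgroup ↥K) : Set ↥K)).map K.subtype = K ∧ Subgroup.normalizer (A : Set H) ≤ Subgroup.normalizer (K : Set H) ∧ A ⊔ (Cfsg.pResidual p ↥K).map K.subtype = K ∧ (IsPGroup p ↥A → ⁅(Cfsg.pResidual p ↥K).map K.subtype, A⁆ = (Cfsg.pResidual p ↥K).map K.subtype) := by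
  classical
  obtain ⟨hAK, hKs, hmin⟩ := Cfsg.Agent.Lib.PReduced.SubnormalClosure.mem_self_subnormalClosure A
  rw [← hK] at hAK hKs hmin
  -- subnormal subgroups of `K` containing `A` are everything
  have hsub : ∀ M : Subgroup ↥K, M.IsSubnormal → A.subgroupOf K ≤ M → M = ⊤ := by
    intro M hM hAM
    have h1 := hM.trans' hKs
    have h2 : A ≤ M.map K.subtype := by
      intro a ha
      exact ⟨⟨a, hAK ha⟩, hAM ha, rfl⟩
    have h3 := hmin _ h2 h1
    rw [eq_top_iff]
    intro x _
    obtain ⟨y, hy, hxy⟩ := h3 x.2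
    have : y = x := Subtype.ext hxy
    rwa [← this]
  have hmapK : (⊤ : Subgroup ↥K).map K.subtype = K := by
    rw [← MonoidHom.range_eq_map, Subgroup.range_subtype]
  set R' : Subgroup ↥K := Cfsg.pResidual p ↥K with hR'
  have hR'n : R'.Normal := Cfsg.Agent.Lib.Core.Residual.pResidual_normal
  refine ⟨?_, ?_, ?_, ?_⟩
  · rw [hsub _ (Subgroup.Normal.isSubnormal inferInstance) Subgroup.le_normalClosure, hmapK]
  · intro g hg
    have hmem : ∀ g ∈ Subgroup.normalizer (A : Set H), ∀ x ∈ K, g * x * g⁻¹ ∈ K := by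
      intro g hg x hx
      have hg' : A.map (MulAut.conj g⁻¹).toMonoidHom = A :=
        Cfsg.Agent.Lib.PReduced.RelNorm.mem_normalizer_iff_map.1 (Subgroup.inv_mem _ hg)
      have hs : (K.map (MulAut.conj g⁻¹).toMonoidHom).IsSubnormal :=
        hKs.map (MulAut.conj g⁻¹).surjective
      have hA' : A ≤ K.map (MulAut.conj g⁻¹).toMonoidHom := by
        conv_lhs => rw [← hg']
        exact Subgroup.map_mono hAK
      obtain ⟨y, hy, hxy⟩ := hmin _ hA' hs hx
      have : y = g * x * g⁻¹ := by
        rw [← hxy]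
        simp [mul_assoc]
      rwa [← this]
    refine Cfsg.Agent.Lib.PReduced.Basic.normalizer_of_conj_le (hmem g hg) ?_
    intro x hx
    have := hmem g⁻¹ (Subgroup.inv_mem _ hg) x hx
    simpa using this
  · have h1 : (A.subgroupOf K ⊔ R').IsSubnormal :=
      Cfsg.Agent.Lib.PReduced.SubnormalClosure.isSubnormal_of_pResidual_le (p := p) _ le_sup_right
    have h2 := hsub _ h1 le_sup_left
    have h3 := congrArg (Subgroup.map K.subtype) h2
    rw [Subgroup.map_sup, Subgroup.map_subgroupOf_eq_of_le hAK, hmapK] at h3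
    exact h3
  · intro hAp
    have hAp' : IsPGroup p (A.subgroupOf K) := hAp.of_equiv (Subgroup.subgroupOfEquivOfLe hAK).symm
    have h := Cfsg.Agent.Lib.PReduced.SubnormalClosure.commutator_pResidual_eq (A.subgroupOf K) hsub hAp'
    have h3 := congrArg (Subgroup.map K.subtype) h
    rw [Subgroup.map_commutator, Subgroup.map_subgroupOf_eq_of_le hAK] at h3
    exact h3

end Cfsg.Agent.S2814
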