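import Cfsg.Statements.S2815
import Cfsg.Agent.Lib.Components.CommAct
import Cfsg.Agent.Lib.Core.Residual

set_option autoImplicit false
open Cfsg

namespace Cfsg.Agent.S2815

/-- Let H be a finite group and p a prime dividing its order with O_p(H) = 1, and suppose K = O^p(H) (generated by the elements of order prime to p) is quasisimple. Then K = F*(H); for every nontrivial p-subgroup Y of H, K = [K, Y] and K lies in the subgroup generated by the K-conjugates of Y; every normal subgroup of H not containing K has order prime to p; and H is p-irreducible. -/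
theorem result {H : Type*} [Group H] [Finite H] {p : ℕ} [Fact p.Prime] (hp : p ∣ Nat.card H) (hO : Cfsg.pCore p H = ⊥) (hq : Cfsg.IsQuasisimple ↥(Cfsg.pResidual p H)) : Cfsg.pResidual p H = Cfsg.generalizedFittingSubgroup H ∧ (∀ Y : Subgroup H, IsPGroup p ↥Y → Y ≠ ⊥ → ⁅Cfsg.pResidual p H, Y⁆ = Cfsg.pResidual p H ∧ Cfsg.pResidual p H ≤ ⨆ k : ↥(Cfsg.pResidual p H), Y.map (MulAut.conj (k : H)).toMonoidHom) ∧ (∀ C : Subgroup H, C.Normal → ¬ Cfsg.pResidual p H ≤ C → (Nat.card ↥C).Coprime p) ∧ Cfsg.IsPIrreducible p H := by
  classical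
  open Subgroup Cfsg.Agent.Lib.Components.CommAct Cfsg.Agent.Lib.Components.Rel
    Cfsg.Agent.Lib.Components.Basic Cfsg.Agent.Lib.Components.Layer Cfsg.Agent.Lib.Coprime.Action
    Cfsg.Agent.Lib.Components.Bender Cfsg.Agent.Lib.Core.Residual Cfsg.Agent.Lib.Core.Basic in
  set K := Cfsg.pResidual p H with hKdef
  have hKn : K.Normal := inferInstance
  have hcomp : Cfsg.IsComponent K := ⟨hKn.isSubnormal, hq⟩
  have hKperf : ⁅K, K⁆ = K := commutator_self_of_quasisimple hq
  -- perfect subgroups lie in `K`
  have hperf : ∀ L : Subgroup H, ⁅L, L⁆ = L → L ≤ K := by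
    intro L hL
    have hquot : IsPGroup p (H ⧸ K) := pResidual_quotient_isPGroup
    set A := L.map (QuotientGroup.mk' K) with hA
    have hAp : IsPGroup p A := hquot.to_subgroup A
    have hAA : ⁅A, A⁆ = A := by
      rw [hA, ← Subgroup.map_commutator, hL]
    have hA' : A = ⊥ := Cfsg.Agent.Lib.Coprime.Ext.eq_bot_of_commutator_eq_self hAp hAp
      le_normalizer hAA
    have := (Subgroup.map_eq_bot_iff _).mp hA'
    rwa [QuotientGroup.ker_mk'] at this
  have hlayer : Cfsg.layer H ≤ K := by
    apply sSup_le
    intro L hL
    exact hperf L (commutator_self_of_quasisimple hL.2)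
  have hfit : Cfsg.fittingSubgroup H ≤ K := by
    intro x hx
    exact mem_pResidual_of_coprime (orderOf_coprime_of_mem_pPrimeCore (fitting_le_pPrimeCore hO hx))
  have hgF : K = Cfsg.generalizedFittingSubgroup H := by
    apply le_antisymm
    · exact (le_layer_of_isComponent hcomp).trans le_sup_left
    · exact sup_le hlayer hfit
  have hcen : ∀ y : H, y ∈ centralizer (K : Set H) → ∀ k : ℕ, y ^ p ^ k = 1 → y = 1 := by
    intro y hy k hk
    rw [hgF] at hy
    exact eq_one_of_centralizer hO hy hk
  refine ⟨hgF, ?_, ?_, ?_⟩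
  · intro Y hY hYne
    have hNY : Y ≤ normalizer (K : Set H) := by
      rw [normalizer_eq_top_iff.mpr hKn]; exact le_top
    have hDK : ⁅K, Y⁆ ≤ K := commutator_le_of_le_normalizer hNY
    have hKD : K ≤ normalizer ((⁅K, Y⁆ : Subgroup H) : Set H) :=
      Cfsg.Agent.Lib.Coprime.Action.le_normalizer_commutator_left K Y
    have hN : ((⁅K, Y⁆).subgroupOf K).Normal := normal_subgroupOf_of_le_normalizer hKD
    have h1 : ⁅K, Y⁆ = K := by
      rcases normal_eq_top_or_le_center hq ((⁅K, Y⁆).subgroupOf K) with h | h
      · exact le_antisymm hDK (subgroupOf_eq_top.mp h)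
      · exfalso
        have h2 : ⁅⁅K, Y⁆, K⁆ = ⊥ := by
          rw [eq_bot_iff, commutator_le]
          intro a ha b hb
          have h3 : (⟨a, hDK ha⟩ : K) ∈ center K := h (by rw [mem_subgroupOf]; exact ha)
          have h4 := mem_center_iff.mp h3 ⟨b, hb⟩
          have h5 : b * a = a * b := congrArg Subtype.val h4
          rw [mem_bot, commutatorElement_eq_one_iff_mul_comm]
          exact h5.symm
        have h3 := commutator_eq_bot_of_perfect hKperf h2
        apply hYne
        rw [eq_bot_iff]
        intro y hy
        have h4 : y ∈ centralizer (K : Set H) := by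
          rw [mem_centralizer_iff]
          intro k hk
          have := commutator_eq_bot_iff_le_centralizer.mp h3 hk
          exact (mem_centralizer_iff.mp this y hy).symm
        obtain ⟨k, hk⟩ := pow_eq_one_of_isPGroup hY hy
        rw [mem_bot]
        exact hcen y h4 k hk
    refine ⟨h1, ?_⟩
    conv_lhs => rw [← h1]
    rw [commutator_le]
    intro a ha y hy
    rw [commutatorElement_def]
    refine mul_mem ?_ (inv_mem ?_)
    · refine (le_iSup (fun k : K => Y.map (MulAut.conj (k : H)).toMonoidHom) ⟨a, ha⟩) ?_
      exact ⟨y, hy, by simp [MulAut.conj_apply]⟩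
    · refine (le_iSup (fun k : K => Y.map (MulAut.conj (k : H)).toMonoidHom) 1) ?_
      exact ⟨y, hy, by simp⟩
  · intro C hC hKC
    have h1 := (component_le_or_commutator_eq_bot hcomp hC.isSubnormal).resolve_left hKC
    have hnd : ¬ p ∣ Nat.card C := by
      intro hdvd
      obtain ⟨y, hy⟩ := exists_prime_orderOf_dvd_card' p hdvd
      have hy1 : (y : H) ^ p ^ 1 = 1 := by
        rw [pow_one, ← hy, ← Subgroup.orderOf_coe]
        exact pow_orderOf_eq_one _
      have hyC : (y : H) ∈ centralizer (K : Set H) := by
        rw [mem_centralizer_iff]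
        intro k hk
        have := commutator_eq_bot_iff_le_centralizer.mp h1 hk
        exact (mem_centralizer_iff.mp this y y.2).symm
      have h2 := hcen _ hyC 1 hy1
      have h3 : y = 1 := Subtype.ext h2
      rw [h3, orderOf_one] at hy
      exact (Fact.out : p.Prime).one_lt.ne hy
    exact ((Nat.Prime.coprime_iff_not_dvd Fact.out).2 hnd).symm
  · refine ⟨?_, ?_⟩
    · intro hcl
      obtain ⟨S⟩ : Nonempty (Sylow p H) := inferInstance
      have h1 : (S : Subgroup H) ≤ Cfsg.pCore p H := le_pCore (hcl S) S.isPGroup'
      rw [hO, le_bot_iff] at h1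
      apply S.not_dvd_index
      rw [h1, Subgroup.index_bot]
      exact hp
    · intro N hN hcl
      by_contra hKN
      apply hcl
      intro P
      -- `N` has order prime to `p`
      have h1 := (component_le_or_commutator_eq_bot hcomp hN.isSubnormal).resolve_left hKN
      have hnd : ¬ p ∣ Nat.card N := by
        intro hdvd
        obtain ⟨y, hy⟩ := exists_prime_orderOf_dvd_card' p hdvd
        have hy1 : (y : H) ^ p ^ 1 = 1 := by
          rw [pow_one, ← hy, ← Subgroup.orderOf_coe]
          exact pow_orderOf_eq_one _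
        have hyC : (y : H) ∈ centralizer (K : Set H) := by
          rw [mem_centralizer_iff]
          intro k hk
          have := commutator_eq_bot_iff_le_centralizer.mp h1 hk
          exact (mem_centralizer_iff.mp this y y.2).symm
        have h2 := hcen _ hyC 1 hy1
        have h3 : y = 1 := Subtype.ext h2
        rw [h3, orderOf_one] at hy
        exact (Fact.out : p.Prime).one_lt.ne hy
      have hP : (P : Subgroup N) = ⊥ := by
        obtain ⟨k, hk⟩ := IsPGroup.iff_card.mp P.isPGroup'
        have h2 : Nat.card (P : Subgroup N) ∣ Nat.card N := Subgroup.card_subgroup_dvd_card _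
        rw [hk] at h2
        have hk0 : k = 0 := by
          by_contra h0
          exact hnd ((dvd_pow_self p h0).trans h2)
        rw [hk0, pow_zero] at hk
        exact Subgroup.card_eq_one.mp hk
      rw [hP]
      infer_instance

end Cfsg.Agent.S2815
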