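import Cfsg.Statements.S2816
import Cfsg.Agent.Lib.Components.CommAct

set_option autoImplicit false
open Cfsg

namespace Cfsg.Agent.S2816

/-- Let H be a finite group and p a prime with O_p(H) = 1, and Y a p-subgroup of H. Then for every subnormal subgroup K of H containing Y, [F*(H), Y] = [F*(K), Y] = [F*(K), Y, Y]; and if Y₀ ≤ Y with [F*(H), Y, Y₀] = 1 then Y₀ = 1 (in particular [F*(H), Y] = 1 forces Y = 1). -/
theorem result {H : Type*} [Group H] [Finite H] {p : ℕ} [Fact p.Prime] (hO : Cfsg.pCore p H = ⊥) (Y : Subgroup H) (hY : IsPGroup p ↥Y) : (∀ K : Subgroup H, K.IsSubnormal → Y ≤ K → ⁅Cfsg.generalizedFittingSubgroup H, Y⁆ = ⁅(Cfsg.generalizedFittingSubgroup ↥K).map K.subtype, Y⁆ ∧ ⁅(Cfsg.generalizedFittingSubgroup ↥K).map K.subtype, Y⁆ = ⁅⁅(Cfsg.generalizedFittingSubgroup ↥K).map K.subtype, Y⁆, Y⁆) ∧ (∀ Y₀ : Subgroup H, Y₀ ≤ Y → ⁅⁅Cfsg.generalizedFittingSubgroup H, Y⁆, Y₀⁆ = ⊥ → Y₀ = ⊥) := by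
  open Subgroup Cfsg.Agent.Lib.Components.CommAct Cfsg.Agent.Lib.Components.Rel
    Cfsg.Agent.Lib.Components.Basic Cfsg.Agent.Lib.Components.Layer Cfsg.Agent.Lib.Coprime.Action
    Cfsg.Agent.Lib.Components.Bender in
  have hXn : (Cfsg.generalizedFittingSubgroup H).Normal := Cfsg.Agent.Lib.Components.Basic.generalizedFitting_normal
  obtain ⟨hsup, hDD⟩ := commutator_sup_of_subnormal hO hY hXn.isSubnormal le_rfl
    (by rw [normalizer_eq_top_iff.mpr hXn]; exact le_top)
  refine ⟨?_, ?_⟩
  · intro K hK hYK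
    have hFK : (Cfsg.generalizedFittingSubgroup ↥K).map K.subtype = Cfsg.generalizedFittingSubgroup H ⊓ K :=
      map_generalizedFitting_of_isSubnormal hK
    set L := (Cfsg.generalizedFittingSubgroup ↥K).map K.subtype with hL
    have hLsn : L.IsSubnormal := by
      have h1 : (L.subgroupOf K).Normal := by
        rw [hL, subgroupOf, comap_map_eq_self_of_injective K.subtype_injective]
        exact Cfsg.Agent.Lib.Components.Basic.generalizedFitting_normal
      exact IsSubnormal.step L K (map_subtype_le _) hK h1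
    have hLX : L ≤ Cfsg.generalizedFittingSubgroup H := by rw [hFK]; exact inf_le_left
    have hYL : Y ≤ normalizer (L : Set H) := hYK.trans (le_normalizer_FsIn K)
    obtain ⟨h1, h2⟩ := commutator_sup_of_subnormal hO hY hLsn hLX hYL
    refine ⟨?_, h2⟩
    apply le_antisymm _ (commutator_mono hLX le_rfl)
    have hDK : ⁅Cfsg.generalizedFittingSubgroup H, Y⁆ ≤ K := le_of_commutator_eq_self hDD hK hYK
    have hDX : ⁅Cfsg.generalizedFittingSubgroup H, Y⁆ ≤ Cfsg.generalizedFittingSubgroup H := by
      exact commutator_le_of_le_normalizer (by rw [normalizer_eq_top_iff.mpr hXn]; exact le_top)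
    have hDL : ⁅Cfsg.generalizedFittingSubgroup H, Y⁆ ≤ L := by
      rw [hFK]; exact le_inf hDX hDK
    rw [hDD]
    exact commutator_mono hDL le_rfl
  · intro Y₀ hY₀ hc
    rw [eq_bot_iff]
    intro y hy
    have h1 : Cfsg.generalizedFittingSubgroup H ≤ centralizer ({y} : Set H) := by
      rw [← hsup]
      apply sup_le
      · intro d hd
        have := commutator_eq_bot_iff_le_centralizer.mp hc hd
        rw [mem_centralizer_iff]
        intro g hg
        rw [Set.mem_singleton_iff.mp hg]
        exact (mem_centralizer_iff.mp this y hy)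
      · rintro c ⟨-, hc2⟩
        show c ∈ centralizer ({y} : Set H)
        rw [mem_centralizer_iff]
        intro g hg
        rw [Set.mem_singleton_iff.mp hg]
        exact (mem_centralizer_iff.mp hc2 y (hY₀ hy))
    have h2 : y ∈ centralizer (Cfsg.generalizedFittingSubgroup H : Set H) := by
      rw [mem_centralizer_iff]
      intro f hf
      exact (mem_centralizer_iff.mp (h1 hf) y rfl).symm
    obtain ⟨k, hk⟩ := pow_eq_one_of_isPGroup hY (hY₀ hy)
    rw [mem_bot]
    exact eq_one_of_centralizer hO h2 hk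

end Cfsg.Agent.S2816
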