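import Cfsg.Statements.S2817
import Cfsg.Agent.Lib.Components.CommAct2

set_option autoImplicit false
open Cfsg

namespace Cfsg.Agent.S2817

/-- Let H be a finite group and p a prime with O_p(H) = 1, Q a p-subgroup of H, L = [F*(H), Q], and F the largest normal subgroup of F*(H) centralized by Q (a normal subgroup of F*(H) centralized by Q and containing every such). Then F = C_{F*(H)}(LQ); L = [L, Q]; L ∩ F ≤ Φ(L); every p-subgroup B of N_H(Q) with [L, B] ≤ F satisfies [L, B] = 1; and C_H(FL) has order prime to p. -/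
theorem result {H : Type*} [Group H] [Finite H] {p : ℕ} [Fact p.Prime] (hO : Cfsg.pCore p H = ⊥) (Q : Subgroup H) (hQ : IsPGroup p ↥Q) (L : Subgroup H) (hL : L = ⁅Cfsg.generalizedFittingSubgroup H, Q⁆) (F : Subgroup H) (hF : F ≤ Cfsg.generalizedFittingSubgroup H ∧ Cfsg.generalizedFittingSubgroup H ≤ Subgroup.normalizer (F : Set H) ∧ Q ≤ Subgroup.centralizer (F : Set H) ∧ ∀ N : Subgroup H, N ≤ Cfsg.generalizedFittingSubgroup H → Cfsg.generalizedFittingSubgroup H ≤ Subgroup.normalizer (N : Set H) → Q ≤ Subgroup.centralizer (N : Set H) → N ≤ F) : F = Cfsg.generalizedFittingSubgroup H ⊓ Subgroup.centralizer ((L ⊔ Q : Subgroup H) : Set H) ∧ ⁅L, Q⁆ = L ∧ L ⊓ F ≤ (frattini ↥L).map L.subtype ∧ (∀ B : Subgroup H, IsPGroup p ↥B → B ≤ Subgroup.normalizer (Q : Set H) → ⁅L, B⁆ ≤ F → ⁅L, B⁆ = ⊥) ∧ (Nat.card ↥(Subgroup.centralizer ((F ⊔ L : Subgroup H) : Set H))).Coprime p := by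
  classical
  open Subgroup Cfsg.Agent.Lib.Components.CommAct Cfsg.Agent.Lib.Components.CommAct2
    Cfsg.Agent.Lib.Components.Rel Cfsg.Agent.Lib.Components.Basic Cfsg.Agent.Lib.Components.Layer
    Cfsg.Agent.Lib.Coprime.Action Cfsg.Agent.Lib.Components.Bender Cfsg.Agent.Lib.Core.Basic
    Cfsg.Agent.Lib.CharP.Basic Cfsg.Agent.Lib.Subnormal.Basic in
  obtain ⟨hFX, hXF, hQF, hFmax⟩ := hF
  have hXn : (Cfsg.generalizedFittingSubgroup H).Normal := Cfsg.Agent.Lib.Components.Basic.generalizedFitting_normal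
  set X := Cfsg.generalizedFittingSubgroup H with hX
  have hnormX : ∀ A : Subgroup H, A ≤ normalizer (X : Set H) := fun A => by
    rw [normalizer_eq_top_iff.mpr hXn]; exact le_top
  obtain ⟨hsup, hDD⟩ := commutator_sup_of_subnormal hO hQ hXn.isSubnormal le_rfl (hnormX Q)
  rw [← hL] at hsup hDD
  have hLX : L ≤ X := by
    rw [hL]; exact commutator_le_of_le_normalizer (hnormX Q)
  have hXL : X ≤ normalizer (L : Set H) := by
    rw [hL]; exact Cfsg.Agent.Lib.Coprime.Action.le_normalizer_commutator_left X Q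
  have hQL : Q ≤ normalizer (L : Set H) := by
    rw [hL]; exact Cfsg.Agent.Lib.Coprime.Action.le_normalizer_commutator_right X Q
  have hLsn : L.IsSubnormal := by
    refine IsSubnormal.trans hLX ?_ hXn.isSubnormal
    apply Subgroup.Normal.isSubnormal
    exact normal_subgroupOf_of_le_normalizer hXL
  have hLQ : ⁅L, Q⁆ = L := hDD.symm
  -- membership in the centralizer of a join
  have hCsup : ∀ (A B : Subgroup H) (x : H), x ∈ centralizer (A : Set H) → x ∈ centralizer (B : Set H) →
      x ∈ centralizer ((A ⊔ B : Subgroup H) : Set H) := by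
    intro A B x hA hB
    have h1 : A ⊔ B ≤ centralizer ({x} : Set H) := by
      apply sup_le
      · intro a ha
        rw [mem_centralizer_iff]
        intro g hg
        rw [Set.mem_singleton_iff.mp hg]
        exact (mem_centralizer_iff.mp hA a ha).symm
      · intro a ha
        rw [mem_centralizer_iff]
        intro g hg
        rw [Set.mem_singleton_iff.mp hg]
        exact (mem_centralizer_iff.mp hB a ha).symm
    rw [mem_centralizer_iff]
    intro h hh
    exact (mem_centralizer_iff.mp (h1 hh) x rfl).symm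
  have hCle : ∀ (A B : Subgroup H), A ≤ B → centralizer (B : Set H) ≤ centralizer (A : Set H) :=
    fun A B h => centralizer_le h
  -- `F` centralizes `L`
  have hFL : ⁅L, F⁆ = ⊥ := by
    have hQFc : ⁅Q, F⁆ = ⊥ := commutator_eq_bot_iff_le_centralizer.mpr hQF
    have h1 : ⁅⁅Q, F⁆, X⁆ = ⊥ := by rw [hQFc]; exact commutator_bot_left X
    have h2 : ⁅⁅F, X⁆, Q⁆ = ⊥ := by
      have h3 : ⁅F, X⁆ ≤ F := commutator_le_of_le_normalizer hXF
      have hFQc : ⁅F, Q⁆ = ⊥ := by rw [commutator_comm]; exact hQFc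
      rw [eq_bot_iff, ← hFQc]
      exact commutator_mono h3 le_rfl
    rw [hL]
    exact commutator_commutator_eq_bot_of_rotate h1 h2
  have hFC : F ≤ centralizer ((L ⊔ Q : Subgroup H) : Set H) := by
    intro f hf
    apply hCsup
    · have := commutator_eq_bot_iff_le_centralizer.mp ((commutator_comm L F).symm.trans hFL) hf
      exact this
    · rw [mem_centralizer_iff]
      intro q hq
      exact (mem_centralizer_iff.mp (hQF hq) f hf).symm
  -- `F = C_X(LQ)`
  have hFeq : F = X ⊓ centralizer ((L ⊔ Q : Subgroup H) : Set H) := by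
    apply le_antisymm (le_inf hFX hFC)
    apply hFmax _ inf_le_left
    · rw [Subgroup.le_normalizer_iff]
      intro x hxX a ha
      have hx' : x ∈ (X ⊓ centralizer (Q : Set H)) ⊔ L := by
        rw [sup_comm, hsup]; exact hxX
      obtain ⟨c, hc, l, hl, rfl⟩ := mem_sup_of_le_normalizer (inf_le_left.trans hXL) hx'
      have haL : a ∈ centralizer (L : Set H) := hCle L _ le_sup_left ha.2
      have haQ : a ∈ centralizer (Q : Set H) := hCle Q _ le_sup_right ha.2
      have hlcomm : l * a = a * l := mem_centralizer_iff.mp haL l hl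
      have e : c * l * a * (c * l)⁻¹ = c * a * c⁻¹ := by
        calc c * l * a * (c * l)⁻¹ = c * (l * a) * l⁻¹ * c⁻¹ := by group
          _ = c * (a * l) * l⁻¹ * c⁻¹ := by rw [hlcomm]
          _ = c * a * c⁻¹ := by group
      rw [e]
      refine ⟨hXn.conj_mem a ha.1 c |> (fun h => h), ?_⟩
      apply hCsup
      · exact conj_mem_of_le_normalizer
          (Cfsg.Agent.Lib.Coprime.Ext.le_normalizer_centralizer (inf_le_left.trans hXL)) hc haL
      · have hcQ : c ∈ centralizer (Q : Set H) := hc.2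
        exact mul_mem (mul_mem hcQ haQ) (inv_mem hcQ)
    · rintro q hq
      rw [mem_centralizer_iff]
      rintro a ⟨-, ha⟩
      have haQ : a ∈ centralizer (Q : Set H) := hCle Q _ le_sup_right ha
      exact (mem_centralizer_iff.mp haQ q hq).symm
  have hLF : FsIn L = L := FsIn_eq_self_of_subnormal hLsn hLX
  have hLO : OpIn p L = ⊥ := OpIn_eq_bot_of_isSubnormal hO hLsn
  -- `L ∩ F ≤ Φ(L)`
  have hPhi : L ⊓ F ≤ (frattini ↥L).map L.subtype := by
    rintro n ⟨hn1, hn2⟩
    refine ⟨⟨n, hn1⟩, ?_, rfl⟩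
    apply mem_frattini_of_fixed hQ hQL hLQ hLF hLO
    · rw [mem_centralizer_iff]
      intro q hq
      exact (mem_centralizer_iff.mp (hQF hq) n hn2).symm
    · rw [mem_center_iff]
      intro l
      apply Subtype.ext
      have := commutator_eq_bot_iff_le_centralizer.mp hFL l.2
      exact (mem_centralizer_iff.mp this n hn2).symm
  refine ⟨hFeq, hLQ, hPhi, ?_, ?_⟩
  · -- the `p`-subgroups `B`
    intro B hB hBQ hLB
    have hBL : B ≤ normalizer (L : Set H) := by
      rw [hL]
      exact le_normalizer_commutator_of_le (hnormX B) hBQ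
    have h1 := commutator_sup_centralizer hB hBL hLF hLO
    have hle : ⁅L, B⁆ ≤ L := commutator_le_of_le_normalizer hBL
    have h2 : (centralizer (B : Set H)).subgroupOf L ⊔ frattini ↥L = ⊤ := by
      rw [eq_top_iff]
      intro x _
      have hx : (x : H) ∈ (L ⊓ centralizer (B : Set H)) ⊔ ⁅L, B⁆ := by
        rw [sup_comm, h1]; exact x.2
      obtain ⟨c, hc, d, hd, hcd⟩ := mem_sup_of_le_normalizer
        (inf_le_left.trans (Cfsg.Agent.Lib.Coprime.Action.le_normalizer_commutator_left L B)) hx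
      have hd2 : d ∈ (frattini ↥L).map L.subtype := hPhi ⟨hle hd, hLB hd⟩
      obtain ⟨d', hd', hdd⟩ := hd2
      have : x = ⟨c, hc.1⟩ * d' := by
        apply Subtype.ext
        rw [← hcd, ← hdd]; rfl
      rw [this]
      refine mul_mem (mem_sup_left ?_) (mem_sup_right hd')
      rw [mem_subgroupOf]
      exact hc.2
    have h3 := frattini_nongenerating h2
    rw [eq_bot_iff, commutator_le]
    intro l hl b hb
    rw [mem_bot, commutatorElement_eq_one_iff_mul_comm]
    have h4 : (⟨l, hl⟩ : L) ∈ (centralizer (B : Set H)).subgroupOf L := by rw [h3]; exact mem_top _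
    rw [mem_subgroupOf] at h4
    exact (mem_centralizer_iff.mp h4 b hb).symm
  · -- `C_H(FL)` has order prime to `p`
    set W := F ⊔ L with hW
    rw [Nat.Coprime, Nat.gcd_comm, ← Nat.Coprime, Nat.Prime.coprime_iff_not_dvd Fact.out]
    intro hdvd
    obtain ⟨y, hy⟩ := exists_prime_orderOf_dvd_card' p hdvd
    have hyW := y.2
    have hy1 : (y : H) ^ p ^ 1 = 1 := by
      rw [pow_one, ← hy, ← Subgroup.orderOf_coe]
      exact pow_orderOf_eq_one _
    have hWX : W ≤ X := sup_le hFX hLX
    have hXW : X ≤ normalizer (W : Set H) := by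
      intro x hx
      exact mem_normalizer_sup (hXF hx) (hXL hx)
    have hQW : Q ≤ normalizer (W : Set H) := by
      intro q hq
      refine mem_normalizer_sup ?_ (hQL hq)
      exact centralizer_le_normalizer _ (hQF hq)
    -- `C_X(W) ≤ W`
    set D₀ : Subgroup H := X ⊓ centralizer (W : Set H) with hD₀
    have hXD₀ : X ≤ normalizer (D₀ : Set H) := by
      rw [Subgroup.le_normalizer_iff]
      intro x hx a ha
      exact ⟨hXn.conj_mem a ha.1 x,
        conj_mem_of_le_normalizer (Cfsg.Agent.Lib.Coprime.Ext.le_normalizer_centralizer hXW) hx ha.2⟩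
    have hQD₀ : Q ≤ normalizer (D₀ : Set H) := by
      rw [Subgroup.le_normalizer_iff]
      intro x hx a ha
      exact ⟨hXn.conj_mem a ha.1 x,
        conj_mem_of_le_normalizer (Cfsg.Agent.Lib.Coprime.Ext.le_normalizer_centralizer hQW) hx ha.2⟩
    have hD₀sn : D₀.IsSubnormal := by
      refine IsSubnormal.trans inf_le_left ?_ hXn.isSubnormal
      apply Subgroup.Normal.isSubnormal
      exact normal_subgroupOf_of_le_normalizer hXD₀
    obtain ⟨hD₀sup, -⟩ := commutator_sup_of_subnormal hO hQ hD₀sn inf_le_left hQD₀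
    have hD₀W : D₀ ≤ W := by
      rw [← hD₀sup]
      apply sup_le
      · have : ⁅D₀, Q⁆ ≤ L := by
          rw [hL]; exact commutator_mono inf_le_left le_rfl
        exact this.trans le_sup_right
      · have : D₀ ⊓ centralizer (Q : Set H) ≤ F := by
          rw [hFeq]
          rintro a ⟨⟨h1, h2⟩, h3⟩
          refine ⟨h1, hCsup _ _ _ ?_ h3⟩
          exact hCle L W le_sup_right h2
        exact this.trans le_sup_left
    -- `y` centralizes `X`
    set Y₁ : Subgroup H := zpowers (y : H) with hY₁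
    have hY₁p : IsPGroup p Y₁ := by
      rw [IsPGroup.iff_card, hY₁, Nat.card_zpowers, Subgroup.orderOf_coe, hy]
      exact ⟨1, (pow_one p).symm⟩
    have hY₁W : Y₁ ≤ centralizer (W : Set H) := by
      rw [hY₁, zpowers_le]
      exact hyW
    obtain ⟨-, hXY⟩ := commutator_sup_of_subnormal hO hY₁p hXn.isSubnormal le_rfl (hnormX Y₁)
    have h1 : ⁅X, Y₁⁆ ≤ D₀ := by
      refine le_inf (commutator_le_of_le_normalizer (hnormX Y₁)) ?_
      have hYWc : ⁅Y₁, W⁆ = ⊥ := commutator_eq_bot_iff_le_centralizer.mpr hY₁W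
      have h2 : ⁅⁅Y₁, W⁆, X⁆ = ⊥ := by rw [hYWc]; exact commutator_bot_left X
      have h3 : ⁅⁅W, X⁆, Y₁⁆ = ⊥ := by
        have h4 : ⁅W, X⁆ ≤ W := commutator_le_of_le_normalizer hXW
        have hWY : ⁅W, Y₁⁆ = ⊥ := by rw [commutator_comm]; exact hYWc
        rw [eq_bot_iff, ← hWY]
        exact commutator_mono h4 le_rfl
      have h5 : ⁅⁅X, Y₁⁆, W⁆ = ⊥ := commutator_commutator_eq_bot_of_rotate h2 h3
      exact commutator_eq_bot_iff_le_centralizer.mp h5
    have h2 : ⁅X, Y₁⁆ = ⊥ := by
      rw [hXY, eq_bot_iff]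
      have hYWc : ⁅Y₁, W⁆ = ⊥ := commutator_eq_bot_iff_le_centralizer.mpr hY₁W
      have hWY : ⁅W, Y₁⁆ = ⊥ := by rw [commutator_comm]; exact hYWc
      rw [← hWY]
      exact commutator_mono (h1.trans hD₀W) le_rfl
    have hyX : (y : H) ∈ centralizer (X : Set H) := by
      rw [mem_centralizer_iff]
      intro x hx
      have := commutator_eq_bot_iff_le_centralizer.mp h2 hx
      exact (mem_centralizer_iff.mp this y (mem_zpowers _)).symm
    have h3 := eq_one_of_centralizer hO hyX hy1
    have h4 : y = 1 := Subtype.ext h3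
    rw [h4, orderOf_one] at hy
    exact (Fact.out : p.Prime).one_lt.ne hy

end Cfsg.Agent.S2817
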