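import Cfsg.Statements.S2818
import Cfsg.Agent.Lib.PReduced.RelNorm
import Cfsg.Agent.Lib.PGroups.Basic

set_option autoImplicit false
open Cfsg

namespace Cfsg.Agent.S2818

open scoped commutatorElement


/-- Let P be a finite p-subgroup of a group G and H a subgroup of N_G(P) with [P, H] ≤ Ω₁(Z(P)) (the elements of order dividing p in the centre of P). Then H centralizes the Frattini subgroup of P. -/
theorem result {G : Type*} [Group G] [Finite G] {p : ℕ} [Fact p.Prime] (P : Subgroup G) (hP : IsPGroup p ↥P) (H : Subgroup G) (hH : H ≤ Subgroup.normalizer (P : Set G)) (h : ⁅P, H⁆ ≤ Cfsg.omegaOne p (P ⊓ Subgroup.centralizer (P : Set G))) : ⁅(frattini ↥P).map P.subtype, H⁆ = ⊥ := by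
  classical
  rw [Subgroup.commutator_eq_bot_iff_le_centralizer]
  have key : ∀ x ∈ P, ∀ g ∈ H, ∃ z, z ∈ P ∧ (∀ y ∈ P, z * y = y * z) ∧ z ^ p = 1 ∧ g * x * g⁻¹ = z * x := by
    intro x hx g hg
    have h1 : g * x * g⁻¹ * x⁻¹ ∈ ⁅P, H⁆ := by
      rw [Subgroup.commutator_comm]
      exact Subgroup.commutator_mem_commutator hg hx
    obtain ⟨⟨hz1, hz2⟩, hz3⟩ := Cfsg.Agent.Lib.PReduced.RelNorm.mem_omegaOne_center_iff.1 (h h1)
    refine ⟨_, hz1, fun y hy => ?_, hz3, by group⟩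
    exact ((Subgroup.mem_centralizer_iff.1 hz2) y hy).symm
  rw [Cfsg.Agent.Lib.PGroups.Basic.frattini_eq_sup hP, Subgroup.map_sup, sup_le_iff]
  constructor
  · rw [Subgroup.map_le_iff_le_comap, commutator_def, Subgroup.commutator_le]
    rintro a - b -
    rw [Subgroup.mem_comap, Subgroup.mem_centralizer_iff]
    intro g hg
    obtain ⟨z, hz, hzc, -, hza⟩ := key a a.2 g hg
    obtain ⟨w, hw, hwc, -, hwb⟩ := key b b.2 g hg
    have e1 : g * ((⁅a, b⁆ : P) : G) * g⁻¹ = ((⁅a, b⁆ : P) : G) := by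
      have e2 : ((⁅a, b⁆ : P) : G) = a * b * (a : G)⁻¹ * (b : G)⁻¹ := rfl
      rw [e2]
      have e3 : g * ((a : G) * b * (a : G)⁻¹ * (b : G)⁻¹) * g⁻¹ =
          (g * a * g⁻¹) * (g * b * g⁻¹) * (g * a * g⁻¹)⁻¹ * (g * b * g⁻¹)⁻¹ := by group
      rw [e3, hza, hwb]
      have c1 := hzc b b.2
      have c2 := hwc a a.2
      have c3 := hzc w hw
      have c4 := hzc a a.2
      have c5 := hwc b b.2
      have c6 : z * ((a : G) * (w * b) * (a : G)⁻¹) * z⁻¹ = (a : G) * (w * b) * (a : G)⁻¹ := by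
        have hm : (a : G) * (w * b) * (a : G)⁻¹ ∈ P :=
          P.mul_mem (P.mul_mem a.2 (P.mul_mem hw b.2)) (P.inv_mem a.2)
        rw [hzc _ hm]
        group
      have c7 : w * ((b : G) * (a : G)⁻¹ * (b : G)⁻¹) * w⁻¹ = (b : G) * (a : G)⁻¹ * (b : G)⁻¹ := by
        have hm : (b : G) * (a : G)⁻¹ * (b : G)⁻¹ ∈ P :=
          P.mul_mem (P.mul_mem b.2 (P.inv_mem a.2)) (P.inv_mem b.2)
        rw [hwc _ hm]
        group
      calc z * (a : G) * (w * b) * (z * a)⁻¹ * (w * b)⁻¹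
          = (z * ((a : G) * (w * b) * (a : G)⁻¹) * z⁻¹) * (w * b)⁻¹ := by group
        _ = (a : G) * (w * b) * (a : G)⁻¹ * (w * b)⁻¹ := by rw [c6]
        _ = (a : G) * (w * ((b : G) * (a : G)⁻¹ * (b : G)⁻¹) * w⁻¹) := by group
        _ = _ := by rw [c7]; group
    calc g * ((⁅a, b⁆ : P) : G) = (g * ((⁅a, b⁆ : P) : G) * g⁻¹) * g := by group
      _ = _ := by rw [e1]; rfl
  · rw [Subgroup.map_le_iff_le_comap, Subgroup.closure_le]
    rintro _ ⟨x, rfl⟩
    rw [SetLike.mem_coe, Subgroup.mem_comap, Subgroup.mem_centralizer_iff]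
    intro g hg
    obtain ⟨z, hz, hzc, hzp, hzx⟩ := key x x.2 g hg
    have e1 : g * ((x : G) ^ p) * g⁻¹ = (x : G) ^ p := by
      rw [← conj_pow, hzx, (show Commute z (x : G) from hzc x x.2).mul_pow, hzp, one_mul]
    have e2 : ((x ^ p : P) : G) = (x : G) ^ p := by simp
    rw [show P.subtype (x ^ p) = (x : G) ^ p from e2]
    calc g * ((x : G) ^ p) = (g * ((x : G) ^ p) * g⁻¹) * g := by group
      _ = _ := by rw [e1]

end Cfsg.Agent.S2818
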