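import Cfsg.Statements.S2819
import Cfsg.Agent.Lib.PReduced.RelNorm
import Cfsg.Agent.Lib.PGroups.Basic
import Cfsg.Agent.Lib.LocalEven.CharP

set_option autoImplicit false
open Cfsg

namespace Cfsg.Agent.S2819

open scoped commutatorElement


/-- Let P be a finite p-subgroup of a group G, H a subgroup of N_G(P), and Y a subgroup of H centralizing the derived subgroup P' such that [P, Y] is elementary abelian. Then O^p(⟨Y^H⟩), the subgroup of the normal closure of Y in H generated by its elements of order prime to p, centralizes the Frattini subgroup of P. -/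
theorem result {G : Type*} [Group G] [Finite G] {p : ℕ} [Fact p.Prime] (P : Subgroup G) (hP : IsPGroup p ↥P) (H : Subgroup G) (hH : H ≤ Subgroup.normalizer (P : Set G)) (Y : Subgroup G) (hYH : Y ≤ H) (hYc : Y ≤ Subgroup.centralizer ((⁅P, P⁆ : Subgroup G) : Set G)) (hel : Cfsg.IsElementaryAbelian p ⁅P, Y⁆) (NY : Subgroup G) (hNY : NY = (Subgroup.normalClosure ((Y.subgroupOf H : Subgroup ↥H) : Set ↥H)).map H.subtype) : (Cfsg.pResidual p ↥NY).map NY.subtype ≤ Subgroup.centralizer (((frattini ↥P).map P.subtype : Subgroup G) : Set G) := by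
  classical
  set Q : Subgroup G := ⁅P, P⁆ with hQ
  have hFdef : (frattini ↥P).map P.subtype =
      Q ⊔ Subgroup.closure {y : G | ∃ x ∈ P, y = x ^ p} := by
    rw [Cfsg.Agent.Lib.PGroups.Basic.frattini_eq_sup hP, Subgroup.map_sup,
      Subgroup.map_subtype_commutator, MonoidHom.map_closure]
    congr 2
    ext y
    constructor
    · rintro ⟨_, ⟨x, rfl⟩, rfl⟩
      exact ⟨x, x.2, by simp⟩
    · rintro ⟨x, hx, rfl⟩
      exact ⟨_, ⟨⟨x, hx⟩, rfl⟩, by simp⟩
  have hQP : Q ≤ P := by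
    rw [hQ, Subgroup.commutator_le]
    intro a ha b hb
    exact P.mul_mem (P.mul_mem (P.mul_mem ha hb) (P.inv_mem ha)) (P.inv_mem hb)
  have hHQ : H ≤ Subgroup.normalizer (Q : Set G) := fun g hg =>
    Cfsg.Agent.Lib.PReduced.RelNorm.mem_normalizer_commutator (hH hg) (hH hg)
  have hS1 : ∀ h ∈ H, ∀ s ∈ (Q : Set G), h * s * h⁻¹ ∈ (Q : Set G) := fun h hh s hs =>
    Cfsg.Agent.Lib.PReduced.RelNorm.conj_mem_of_normalizer (hHQ hh) hs
  have hS2 : ∀ h ∈ H, ∀ s ∈ {y : G | ∃ x ∈ P, y = x ^ p}, h * s * h⁻¹ ∈ {y : G | ∃ x ∈ P, y = x ^ p} := by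
    rintro h hh _ ⟨x, hx, rfl⟩
    exact ⟨h * x * h⁻¹, Cfsg.Agent.Lib.PReduced.RelNorm.conj_mem_of_normalizer (hH hh) hx,
      by rw [conj_pow]⟩
  have hbot : H ≤ Subgroup.normalizer ((⊥ : Subgroup G) : Set G) := by
    intro g _
    rw [Subgroup.mem_normalizer_iff]
    intro x
    simp
  -- `NY` centralizes `Q`
  have h1 := Cfsg.Agent.Lib.PReduced.RelNorm.normalClosure_trivial_mod H ⊥ (Q : Set G) hS1 hbot
    (Y := Y) (by
      intro y hy s hs
      have := (Subgroup.mem_centralizer_iff.1 (hYc hy)) s hs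
      simp only [Subgroup.mem_bot]
      rw [mul_inv_eq_one, mul_inv_eq_iff_eq_mul]
      exact this.symm)
  -- `NY` acts trivially on the `p`-th powers modulo `Q`
  have h2 := Cfsg.Agent.Lib.PReduced.RelNorm.normalClosure_trivial_mod H Q
    {y : G | ∃ x ∈ P, y = x ^ p} hS2 hHQ (Y := Y) (by
      rintro y hy _ ⟨x, hx, rfl⟩
      have hc1 : y * x * y⁻¹ * x⁻¹ ∈ ⁅P, Y⁆ := by
        rw [Subgroup.commutator_comm]
        exact Subgroup.commutator_mem_commutator hy hx
      have hc2 : (y * x * y⁻¹ * x⁻¹) ^ p = 1 := hel.2 _ hc1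
      have hc3 : y * x * y⁻¹ * x⁻¹ ∈ P :=
        P.mul_mem (Cfsg.Agent.Lib.PReduced.RelNorm.conj_mem_of_normalizer (hH (hYH hy)) hx)
          (P.inv_mem hx)
      have h3 := Cfsg.Agent.Lib.PReduced.RelNorm.mul_pow_div_mem_commutator hc3 hx p
      rw [hc2, one_mul] at h3
      have e : (y * x * y⁻¹ * x⁻¹) * x = y * x * y⁻¹ := by group
      rw [e, conj_pow] at h3
      exact h3)
  subst hNY
  rw [Cfsg.Agent.Lib.PReduced.Basic.map_pResidual_eq_closure, Subgroup.closure_le]
  rintro z ⟨hz, hcop⟩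
  rw [SetLike.mem_coe, Subgroup.mem_centralizer_iff, hFdef]
  have hle : Q ⊔ Subgroup.closure {y : G | ∃ x ∈ P, y = x ^ p} ≤
      Subgroup.centralizer ({z} : Set G) := by
    refine sup_le ?_ ?_
    · intro s hs
      rw [Subgroup.mem_centralizer_iff]
      intro w hw
      rw [Set.mem_singleton_iff] at hw
      rw [hw]
      have h3 := h1 z hz s hs
      simp only [Subgroup.mem_bot] at h3
      rw [mul_inv_eq_one, mul_inv_eq_iff_eq_mul] at h3
      exact h3
    · rw [Subgroup.closure_le]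
      intro s hs
      rw [SetLike.mem_coe, Subgroup.mem_centralizer_iff]
      intro w hw
      rw [Set.mem_singleton_iff] at hw
      rw [hw]
      have h3 := h2 z hz s hs
      have hcomm : Commute z (z * s * z⁻¹ * s⁻¹) := by
        have := h1 z hz _ h3
        simp only [Subgroup.mem_bot] at this
        rw [mul_inv_eq_one, mul_inv_eq_iff_eq_mul] at this
        exact this
      have hp : ∃ k, (z * s * z⁻¹ * s⁻¹) ^ (p ^ k) = 1 :=
        Cfsg.Agent.Lib.LocalEven.CharP.pow_eq_one_of_isPGroup hP (hQP h3)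
      have h4 := Cfsg.Agent.Lib.LocalEven.CharP.commutator_eq_one_of_commute (p := p) hcomm hp hcop
      rw [mul_inv_eq_one, mul_inv_eq_iff_eq_mul] at h4
      exact h4
  intro s hs
  have := (Subgroup.mem_centralizer_iff.1 (hle hs)) z rfl
  exact this.symm

end Cfsg.Agent.S2819
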