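import Cfsg.Statements.S2820
import Cfsg.Agent.Lib.LocalStruct.PReducedOf

set_option autoImplicit false
open Cfsg

namespace Cfsg.Agent.S2820

open Cfsg.Agent.Lib.LocalStruct.Basic Cfsg.Agent.Lib.LocalStruct.Comm Cfsg.Agent.Lib.PReduced.Basic Cfsg.Agent.Lib.Core.Basic Subgroup

/-- Let A and B be subnormal subgroups of the finite group H with A a p-group and B = O^p(B) (B generated by its elements of order prime to p). Then A normalizes B and B = O^p(AB), the subgroup of ⟨A, B⟩ generated by its elements of order prime to p. -/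
theorem result {H : Type*} [Group H] [Finite H] {p : ℕ} [Fact p.Prime] (A B : Subgroup H) (hA : A.IsSubnormal) (hB : B.IsSubnormal) (hAp : IsPGroup p ↥A) (hBres : (Cfsg.pResidual p ↥B).map B.subtype = B) : A ≤ Subgroup.normalizer (B : Set H) ∧ (Cfsg.pResidual p ↥(A ⊔ B)).map (A ⊔ B).subtype = B := by
  have hAY : A ≤ pCore p H := le_pCore_of_isSubnormal hA hAp
  have hYn : (pCore p H).Normal := pCore_normal p H
  have hYp : IsPGroup p (pCore p H) := pCore_isPGroup
  rw [map_pResidual_eq_closure] at hBres ⊢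
  have hkey : ∀ X : Subgroup H, X ≤ pCore p H ⊔ B → B ≤ X →
      closure {x : H | x ∈ X ∧ (orderOf x).Coprime p} = B := by
    intro X hX hBX
    apply le_antisymm
    · apply (Subgroup.closure_le _).mpr
      rintro x ⟨hx, hc⟩
      exact mem_of_mem_sup_of_coprime hYn hYp hB (hX hx) hc
    · conv_lhs => rw [← hBres]
      exact Subgroup.closure_mono fun x hx => ⟨hBX hx.1, hx.2⟩
  refine ⟨?_, hkey _ (sup_le_sup_right hAY B) le_sup_right⟩
  intro a ha
  have h1 := hkey _ le_rfl le_sup_right
  have haX : a ∈ pCore p H ⊔ B := Subgroup.mem_sup_left (hAY ha)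
  apply mem_normalizer_of_conj_mem
  intro b hb
  rw [← h1] at hb ⊢
  have h2 : closure {x : H | x ∈ pCore p H ⊔ B ∧ (orderOf x).Coprime p} ≤
      (closure {x : H | x ∈ pCore p H ⊔ B ∧ (orderOf x).Coprime p}).comap (MulAut.conj a).toMonoidHom := by
    apply (Subgroup.closure_le _).mpr
    rintro x ⟨hx, hc⟩
    apply Subgroup.subset_closure
    refine ⟨(pCore p H ⊔ B).mul_mem ((pCore p H ⊔ B).mul_mem haX hx) ((pCore p H ⊔ B).inv_mem haX), ?_⟩
    simp only [MulEquiv.coe_toMonoidHom, MulAut.conj_apply]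
    rwa [orderOf_conj]
  exact h2 hb

end Cfsg.Agent.S2820
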