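import Cfsg.Statements.S2823
import Cfsg.Agent.Lib.LocalStruct.Trace
import Cfsg.Agent.Lib.Amalgam.CharP

set_option autoImplicit false
open Cfsg

namespace Cfsg.Agent.S2823

open Cfsg.Agent.Lib.LocalStruct.Basic Cfsg.Agent.Lib.LocalStruct.Comm Cfsg.Agent.Lib.LocalStruct.PClosed Cfsg.Agent.Lib.LocalStruct.PCoreOf Cfsg.Agent.Lib.LocalStruct.PReducedOf Cfsg.Agent.Lib.LocalStruct.Trace Cfsg.Agent.Lib.Core.Basic Cfsg.Agent.Lib.Core.Residual Subgroup
open scoped commutatorElement

/-- Let H be a finite group, p a prime, T a Sylow p-subgroup and L a subgroup of characteristic p containing T; let Z_L be the subgroup generated by the Ω₁(Z(S)) over the Sylow p-subgroups S of L and O^p(L) the subgroup generated by the elements of L of order prime to p. Then Z_L = Ω₁(Z(L))·[Z_L, O^p(L)] and [Z_L, L] = [Z_L, O^p(L)]. -/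
theorem result {H : Type*} [Group H] [Finite H] {p : ℕ} [Fact p.Prime] (T : Sylow p H) (L : Subgroup H) (hTL : (T : Subgroup H) ≤ L) (hL : Subgroup.centralizer (Cfsg.pCore p ↥L : Set ↥L) ≤ Cfsg.pCore p ↥L) : Cfsg.sylowCenterClosure p L = (Cfsg.omegaOne p (L ⊓ Subgroup.centralizer ((L : Subgroup H) : Set H))) ⊔ ⁅Cfsg.sylowCenterClosure p L, (Cfsg.pResidual p ↥L).map L.subtype⁆ ∧ ⁅Cfsg.sylowCenterClosure p L, L⁆ = ⁅Cfsg.sylowCenterClosure p L, (Cfsg.pResidual p ↥L).map L.subtype⁆ := by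
  set V : Subgroup H := sylowCenterClosure p L with hVdef
  set R : Subgroup H := (pResidual p ↥L).map L.subtype with hR
  have hRL : R ≤ L := by
    rintro _ ⟨x, -, rfl⟩
    exact x.2
  have hLV : L ≤ normalizer (V : Set H) :=
    Cfsg.Agent.Lib.Amalgam.CharP.le_normalizer_sylowCenterClosure L
  have hVY : V ≤ largestPReducedOf p L := sylowCenterClosure_le hL
  have hVel : IsElementaryAbelian p V := by
    have he := isElementaryAbelian_largestPReducedOf (p := p) L
    refine ⟨⟨⟨?_⟩⟩, fun a ha => he.2 a (hVY ha)⟩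
    rintro ⟨a, ha⟩ ⟨b, hb⟩
    apply Subtype.ext
    show a * b = b * a
    exact congrArg Subtype.val (he.1.is_comm.comm ⟨a, hVY ha⟩ ⟨b, hVY hb⟩)
  have hLR : L ≤ normalizer (R : Set H) := by
    intro l hl
    apply mem_normalizer_of_conj_mem
    rintro _ ⟨x, hx, rfl⟩
    have hn : (pResidual p ↥L).Normal := inferInstance
    exact ⟨⟨l, hl⟩ * x * (⟨l, hl⟩ : ↥L)⁻¹, hn.conj_mem x hx _, by simp⟩
  set W : Subgroup H := ⁅V, R⁆ with hW
  set Z : Subgroup H := omegaOne p (L ⊓ centralizer ((L : Subgroup H) : Set H)) with hZ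
  have hmemZ : ∀ a, a ∈ Z ↔ a ∈ L ⊓ centralizer ((L : Subgroup H) : Set H) ∧ a ^ p = 1 :=
    fun a => Cfsg.Agent.Lib.PReduced.RelNorm.mem_omegaOne_center_iff
  have hLW : L ≤ normalizer (W : Set H) := fun l hl => mem_normalizer_commutator (hLV hl) (hLR hl)
  have hWV : W ≤ V := commutator_le_left_of_le_normalizer (hRL.trans hLV)
  -- `Z ≤ V`
  have hZV : Z ≤ V := by
    intro z hz
    obtain ⟨⟨hzL, hzC⟩, hzp⟩ := (hmemZ z).mp hz
    have h1 : zpowers z ≤ L := (Subgroup.zpowers_le).mpr hzL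
    have h2 : L ≤ normalizer ((zpowers z : Subgroup H) : Set H) := by
      intro l hl
      apply mem_normalizer_of_conj_mem
      rintro _ ⟨n, rfl⟩
      have : Commute l (z ^ n) := ((show Commute z l from
        (Subgroup.mem_centralizer_iff.mp hzC l hl).symm).zpow_left n).symm
      change l * z ^ n * l⁻¹ ∈ _
      rw [this.eq]
      simpa using Subgroup.zpow_mem_zpowers z n
    have h3 : IsPGroup p (zpowers z) := by
      rintro ⟨_, n, rfl⟩
      refine ⟨1, Subtype.ext ?_⟩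
      change (z ^ n) ^ p ^ 1 = 1
      rw [pow_one, ← zpow_natCast, zpow_comm, zpow_natCast, hzp, one_zpow]
    have h4 : z ∈ (T : Subgroup H) := pCoreOf_le_sylow T hTL (le_pCoreOf h1 h2 h3 (Subgroup.mem_zpowers z))
    refine omega_center_le_sylowCenterClosure T hTL (Subgroup.subset_closure ⟨⟨h4, ?_⟩, hzp⟩)
    exact Subgroup.centralizer_le hTL hzC
  have hVle : V ≤ Z ⊔ W := by
    apply iSup_le
    intro S
    apply (Subgroup.closure_le _).mpr
    rintro x ⟨⟨hxS, hxC⟩, hxp⟩
    set S' : Subgroup H := (S : Subgroup ↥L).map L.subtype with hS'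
    have hS'L : S' ≤ L := by
      rintro _ ⟨y, -, rfl⟩
      exact y.2
    have hxV : x ∈ V := by
      have h0 := le_iSup (fun S : Sylow p ↥L => omegaOne p (((S : Subgroup ↥L).map L.subtype) ⊓
        centralizer (((S : Subgroup ↥L).map L.subtype : Subgroup H) : Set H))) S
      exact h0 (Subgroup.subset_closure ⟨⟨hxS, hxC⟩, hxp⟩)
    have hsup : S' ⊔ R = L := by
      have h1 := sylow_sup_pResidual S
      have h2 := congrArg (Subgroup.map L.subtype) h1
      rw [Subgroup.map_sup, ← MonoidHom.range_eq_map, Subgroup.range_subtype] at h2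
      exact h2
    have h1 := trace_mem (X := S' ⊓ R) (T := S') hVel (hRL.trans hLV) (hS'L.trans hLV) (hS'L.trans hLR)
      (le_normalizer_inf (hS'L.trans hLR)) hxV
      (fun y hy => ((Subgroup.mem_centralizer_iff.mp hxC) y hy.1))
      (fun y hy => ((Subgroup.mem_centralizer_iff.mp hxC) y hy)) (by
        rw [Subgroup.inf_relIndex_right, hS', hR, Subgroup.relIndex_map_map_of_injective _ _ L.subtype_injective]
        apply not_dvd_relIndex_of_le_normalizer
        rw [Subgroup.normalizer_eq_top_iff.mpr inferInstance]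
        exact le_top)
    refine (sup_le ?_ le_sup_right : _ ≤ Z ⊔ W) h1
    rintro v ⟨⟨hvV, hvR⟩, hvS⟩
    refine le_sup_left (a := Z) ((hmemZ v).mpr ⟨⟨(hVY.trans (largestPReducedOf_le L)) hvV, ?_⟩, hVel.2 v hvV⟩)
    rw [← hsup]
    exact mem_centralizer_sup hvS hvR
  refine ⟨le_antisymm hVle (sup_le hZV hWV), le_antisymm ?_ (Subgroup.commutator_mono le_rfl hRL)⟩
  rw [Subgroup.commutator_le]
  intro v hv l hl
  have hZW : Z ≤ normalizer (W : Set H) := fun z hz => hLW ((hmemZ z).mp hz).1.1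
  obtain ⟨a, ha, b, hb, rfl⟩ := mem_sup_of_le_normalizer hZW (by rw [sup_comm]; exact hVle hv)
  have hbl : b * l = l * b := by
    exact ((Subgroup.mem_centralizer_iff.mp ((hmemZ b).mp hb).1.2) l hl).symm
  have e : ⁅a * b, l⁆ = a * (l * a⁻¹ * l⁻¹) := by
    rw [commutatorElement_def]
    calc a * b * l * (a * b)⁻¹ * l⁻¹ = a * (b * l) * b⁻¹ * a⁻¹ * l⁻¹ := by group
      _ = a * (l * b) * b⁻¹ * a⁻¹ * l⁻¹ := by rw [hbl]
      _ = _ := by group
  rw [e]
  exact W.mul_mem ha (conj_mem_of_mem_normalizer (hLW hl) (W.inv_mem ha))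

end Cfsg.Agent.S2823
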