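import Cfsg.Statements.S2825
import Cfsg.Agent.Lib.LocalStruct.PRedSub

set_option autoImplicit false
open Cfsg

namespace Cfsg.Agent.S2825

open Cfsg.Agent.Lib.LocalStruct.Basic Cfsg.Agent.Lib.LocalStruct.Comm Cfsg.Agent.Lib.LocalStruct.PClosed Cfsg.Agent.Lib.LocalStruct.PCoreOf Cfsg.Agent.Lib.LocalStruct.PReducedOf Cfsg.Agent.Lib.LocalStruct.PRedSub Cfsg.Agent.Lib.Core.Basic Cfsg.Agent.Lib.Core.Residual Subgroup
open scoped commutatorElement

/-- Let L be a subnormal subgroup of the finite group H, p a prime, Y_H and Y_L the largest p-reduced normal subgroups. Then Y_H ∩ L = Y_H ∩ Y_L and this subgroup is a p-reduced normal subgroup of L; C_L(Y_L) = C_L(Y_H) = C_L(Y_H ∩ L); and if O^p(H) ≤ L, then [Y_L, L] = 1 if and only if [Y_H, H] = 1. -/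
theorem result {H : Type*} [Group H] [Finite H] {p : ℕ} [Fact p.Prime] (L : Subgroup H) (hL : L.IsSubnormal) : Cfsg.largestPReduced p H ⊓ L = Cfsg.largestPReduced p H ⊓ (Cfsg.largestPReducedOf p L) ∧ Cfsg.IsPReducedNormal p ((Cfsg.largestPReduced p H ⊓ L).subgroupOf L) ∧ L ⊓ Subgroup.centralizer ((Cfsg.largestPReducedOf p L : Subgroup H) : Set H) = L ⊓ Subgroup.centralizer (Cfsg.largestPReduced p H : Set H) ∧ L ⊓ Subgroup.centralizer (Cfsg.largestPReduced p H : Set H) = L ⊓ Subgroup.centralizer ((Cfsg.largestPReduced p H ⊓ L : Subgroup H) : Set H) ∧ (Cfsg.pResidual p H ≤ L → (⁅(Cfsg.largestPReducedOf p L), L⁆ = ⊥ ↔ ⁅Cfsg.largestPReduced p H, (⊤ : Subgroup H)⁆ = ⊥)) := by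
  set Y : Subgroup H := largestPReduced p H with hY
  have hYr : IsPReducedNormal p Y := isPReducedNormal_largestPReduced
  have hYn : Y.Normal := hYr.1
  have hK1 := inf_centralizer_inf_le hYr hL
  have hYLL : Y ⊓ L ≤ L := inf_le_right
  have hred : IsPReducedNormal p ((Y ⊓ L).subgroupOf L) := by
    refine isPReducedNormal_subgroupOf_of hYLL ?_ ?_ ?_
    · intro l hl
      rw [mem_normalizer_iff_map, Subgroup.map_inf _ _ _ (MulAut.conj l).injective,
        mem_normalizer_iff_map.mp (Subgroup.le_normalizer hl)]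
      congr 1
      apply mem_normalizer_iff_map.mp
      rw [Subgroup.normalizer_eq_top_iff.mpr hYn]
      trivial
    · refine ⟨⟨⟨?_⟩⟩, fun a ha => hYr.2.1.2 a ha.1⟩
      rintro ⟨a, ha⟩ ⟨b, hb⟩
      apply Subtype.ext
      show a * b = b * a
      exact congrArg Subtype.val (hYr.2.1.1.is_comm.comm ⟨a, ha.1⟩ ⟨b, hb.1⟩)
    · intro D hDL hDn h
      have hDsub : D.IsSubnormal := Subgroup.IsSubnormal.step _ L hDL hL
        ((Subgroup.normal_subgroupOf_iff_le_normalizer hDL).mpr hDn)
      have h1 : D ≤ centralizer (Y : Set H) := by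
        refine Cfsg.Agent.Lib.PReduced.Basic.IsPReducedNormal_le_centralizer hYr D hDsub fun x hx => ?_
        obtain ⟨k, hk⟩ := h x hx
        exact ⟨k, hK1 ⟨L.pow_mem (hDL hx) _, hk⟩⟩
      exact h1.trans (Subgroup.centralizer_le inf_le_left)
  have hle : Y ⊓ L ≤ largestPReducedOf p L := le_largestPReducedOf hYLL hred
  have h4 : L ⊓ centralizer (Y : Set H) = L ⊓ centralizer ((Y ⊓ L : Subgroup H) : Set H) :=
    le_antisymm (inf_le_inf_left _ (Subgroup.centralizer_le inf_le_left)) (le_inf inf_le_left hK1)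
  have h3 : L ⊓ centralizer ((largestPReducedOf p L : Subgroup H) : Set H) = L ⊓ centralizer (Y : Set H) := by
    apply le_antisymm
    · rw [h4]
      exact inf_le_inf_left _ (Subgroup.centralizer_le hle)
    · exact le_inf inf_le_left (inf_centralizer_le_of_subnormal hL)
  refine ⟨?_, hred, h3, h4, fun hRL => ⟨fun hc => ?_, fun hc => ?_⟩⟩
  · exact le_antisymm (le_inf inf_le_left hle) (inf_le_inf_left _ (largestPReducedOf_le L))
  · -- `[Y_L, L] = 1`
    have h5 : L ≤ centralizer (Y : Set H) := by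
      have h6 : L ≤ L ⊓ centralizer ((largestPReducedOf p L : Subgroup H) : Set H) := by
        refine le_inf le_rfl ?_
        intro l hl
        rw [Subgroup.mem_centralizer_iff]
        intro y hy
        exact ((commutator_eq_bot_iff_forall.mp hc) y hy l hl)
      rw [h3] at h6
      exact h6.trans inf_le_right
    have hb := hYr.2.2
    obtain ⟨_, hbot⟩ := hb
    have h7 : (⊤ : Subgroup H) ≤ centralizer (Y : Set H) := by
      refine Cfsg.Agent.Lib.PReduced.Basic.le_of_pCore_quotient_eq_bot _ hbot _ Subgroup.IsSubnormal.top ?_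
      intro x _
      obtain ⟨a, b, hab, hcm, ⟨k, hk⟩, hbc, -, -⟩ := exists_pPart_pPrimePart p x (isOfFinOrder_of_finite x)
      refine ⟨k, ?_⟩
      have hbC : b ∈ centralizer (Y : Set H) := h5 (hRL (mem_pResidual_of_coprime hbc))
      rw [← hab, hcm.mul_pow, hk, one_mul]
      exact Subgroup.pow_mem _ hbC _
    rw [commutator_eq_bot_iff_le_centralizer']
    intro y hy
    rw [Subgroup.mem_centralizer_iff]
    intro x hx
    exact ((Subgroup.mem_centralizer_iff.mp (h7 hx)) y hy).symm
  · -- `[Y_H, H] = 1`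
    have h5 : L ≤ centralizer (Y : Set H) := by
      intro l hl
      rw [Subgroup.mem_centralizer_iff]
      intro y hy
      exact ((commutator_eq_bot_iff_forall.mp hc) y hy l (Subgroup.mem_top l))
    have h6 : L ≤ L ⊓ centralizer (Y : Set H) := le_inf le_rfl h5
    rw [← h3] at h6
    rw [commutator_eq_bot_iff_le_centralizer']
    intro y hy
    rw [Subgroup.mem_centralizer_iff]
    intro x hx
    exact ((Subgroup.mem_centralizer_iff.mp (h6 hx).2) y hy).symm

end Cfsg.Agent.S2825
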