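import Cfsg.Statements.S2826
import Cfsg.Agent.Lib.LocalStruct.Trace

set_option autoImplicit false
open Cfsg

namespace Cfsg.Agent.S2826

open Cfsg.Agent.Lib.LocalStruct.Basic Cfsg.Agent.Lib.LocalStruct.Comm Cfsg.Agent.Lib.LocalStruct.PClosed Cfsg.Agent.Lib.LocalStruct.PCoreOf Cfsg.Agent.Lib.LocalStruct.PReducedOf Cfsg.Agent.Lib.LocalStruct.Trace Cfsg.Agent.Lib.Core.Basic Cfsg.Agent.Lib.Core.Residual Subgroup
open scoped commutatorElement

/-- Let H be a finite group of characteristic p, T a Sylow p-subgroup, and V a normal elementary abelian p-subgroup of H containing Ω₁(Z(T)). Then C_H(Ω₁(Z(T))) = C_H([V, O^p(H)] ∩ Ω₁(Z(T))), O^p(H) being generated by the elements of order prime to p. -/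
theorem result {H : Type*} [Group H] [Finite H] {p : ℕ} [Fact p.Prime] (hH : Subgroup.centralizer (Cfsg.pCore p H : Set H) ≤ Cfsg.pCore p H) (T : Sylow p H) (V : Subgroup H) [V.Normal] (hV : Cfsg.IsElementaryAbelian p V) (hZV : (Cfsg.omegaOne p ((T : Subgroup H) ⊓ Subgroup.centralizer (((T : Subgroup H) : Subgroup H) : Set H))) ≤ V) : Subgroup.centralizer ((Cfsg.omegaOne p ((T : Subgroup H) ⊓ Subgroup.centralizer (((T : Subgroup H) : Subgroup H) : Set H))) : Set H) = Subgroup.centralizer (((⁅V, Cfsg.pResidual p H⁆ ⊓ (Cfsg.omegaOne p ((T : Subgroup H) ⊓ Subgroup.centralizer (((T : Subgroup H) : Subgroup H) : Set H)))) : Subgroup H) : Set H) := by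
  set A : Subgroup H := omegaOne p ((T : Subgroup H) ⊓ centralizer ((T : Subgroup H) : Set H)) with hA
  set R : Subgroup H := pResidual p H with hR
  have hRn : R.Normal := inferInstance
  set W : Subgroup H := ⁅V, R⁆ with hW
  have hWn : W.Normal := inferInstance
  have hVn : V.Normal := inferInstance
  have htop : ∀ X : Subgroup H, X.Normal → (⊤ : Subgroup H) ≤ normalizer (X : Set H) := by
    intro X hX
    rw [Subgroup.normalizer_eq_top_iff.mpr hX]
  have hmemA : ∀ a, a ∈ A ↔ a ∈ (T : Subgroup H) ⊓ centralizer ((T : Subgroup H) : Set H) ∧ a ^ p = 1 :=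
    fun a => Cfsg.Agent.Lib.PReduced.RelNorm.mem_omegaOne_center_iff
  have hVT : V ≤ (T : Subgroup H) :=
    (le_pCore hVn (Cfsg.Agent.Lib.PReduced.Basic.isPGroup_of_elementary hV)).trans (pCore_le_sylow T)
  apply le_antisymm
  · exact Subgroup.centralizer_le inf_le_right
  · intro x hx
    rw [Subgroup.mem_centralizer_iff] at hx ⊢
    intro a ha
    obtain ⟨⟨haT, haC⟩, hap⟩ := (hmemA a).mp ha
    have h1 := trace_mem (X := (T : Subgroup H) ⊓ R) (T := T) hV ((le_top).trans (htop V hVn))
      ((le_top).trans (htop V hVn)) ((le_top).trans (htop R hRn))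
      (le_normalizer_inf ((le_top).trans (htop R hRn))) (hZV ha)
      (fun y hy => (Subgroup.mem_centralizer_iff.mp haC y hy.1))
      (fun y hy => (Subgroup.mem_centralizer_iff.mp haC y hy)) (by
        rw [Subgroup.inf_relIndex_right]
        exact not_dvd_relIndex_of_le_normalizer T ((le_top).trans (htop R hRn)))
    obtain ⟨z, hz, w, hw, rfl⟩ := Subgroup.mem_sup_of_normal_right.mp h1
    have hzC : z ∈ centralizer ((⊤ : Subgroup H) : Set H) := by
      rw [← sylow_sup_pResidual T, sup_comm]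
      exact mem_centralizer_sup hz.1.2 hz.2
    have hzT : z ∈ (T : Subgroup H) := hVT hz.1.1
    have hzA : z ∈ A := (hmemA z).mpr ⟨⟨hzT, hz.2⟩, hV.2 z hz.1.1⟩
    have hwA : w ∈ A := by
      have := A.mul_mem (A.inv_mem hzA) ha
      simpa using this
    have h2 := hx w (Subgroup.mem_inf.mpr ⟨hw, hwA⟩)
    have h3 : x * z = z * x := (Subgroup.mem_centralizer_iff.mp hzC) x (Subgroup.mem_top x)
    calc z * w * x = z * (w * x) := by group
      _ = z * (x * w) := by rw [h2]
      _ = (z * x) * w := by group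
      _ = (x * z) * w := by rw [h3]
      _ = _ := by group

end Cfsg.Agent.S2826
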