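import Cfsg.Statements.S2827
import Cfsg.Agent.Lib.LocalStruct.PIrred

set_option autoImplicit false
open Cfsg

namespace Cfsg.Agent.S2827

open Cfsg.Agent.Lib.LocalStruct.Basic Cfsg.Agent.Lib.LocalStruct.Comm Cfsg.Agent.Lib.LocalStruct.PClosed Cfsg.Agent.Lib.LocalStruct.PIrred Cfsg.Agent.Lib.Core.Basic Cfsg.Agent.Lib.Core.Residual Subgroup
open scoped commutatorElement

/-- Let H be a finite p-irreducible group (not p-closed, and O^p(H) lies in every normal subgroup that is not p-closed) and T a Sylow p-subgroup. Then H is generated by the conjugates of T and H = H'·T; O^p(H) ≤ H'; and for every normal subgroup Y of T not contained in O_p(H), O^p(H) = [O^p(H), Y] and O^p(H) is contained in the normal closure of Y in H. -/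
theorem result {H : Type*} [Group H] [Finite H] {p : ℕ} [Fact p.Prime] (hH : Cfsg.IsPIrreducible p H) (T : Sylow p H) : Subgroup.normalClosure ((T : Subgroup H) : Set H) = ⊤ ∧ commutator H ⊔ (T : Subgroup H) = ⊤ ∧ Cfsg.pResidual p H ≤ commutator H ∧ ∀ Y : Subgroup H, Y ≤ (T : Subgroup H) → (T : Subgroup H) ≤ Subgroup.normalizer (Y : Set H) → ¬ Y ≤ Cfsg.pCore p H → ⁅Cfsg.pResidual p H, Y⁆ = Cfsg.pResidual p H ∧ Cfsg.pResidual p H ≤ Subgroup.normalClosure (Y : Set H) := by
  have hN1 : normalClosure ((T : Subgroup H) : Set H) = ⊤ :=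
    eq_top_of_sylow_le hH T Subgroup.subset_normalClosure
  have hnorm : (commutator H ⊔ (T : Subgroup H)).Normal := by
    constructor
    intro n hn g
    have hc : g * n * g⁻¹ * n⁻¹ ∈ commutator H := by
      have := Subgroup.commutator_mem_commutator (Subgroup.mem_top g) (Subgroup.mem_top n)
      rw [commutatorElement_def] at this
      exact this
    have e : g * n * g⁻¹ = (g * n * g⁻¹ * n⁻¹) * n := by group
    rw [e]
    exact (commutator H ⊔ (T : Subgroup H)).mul_mem (Subgroup.mem_sup_left hc) hn
  have hN2 : commutator H ⊔ (T : Subgroup H) = ⊤ :=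
    eq_top_of_sylow_le hH T le_sup_right
  refine ⟨hN1, hN2, ?_, ?_⟩
  · exact (isPGroup_quotient_iff _).mp (isPGroup_quotient_of_sup_eq_top _ T.isPGroup' hN2)
  · intro Y hYT hTY hYO
    have hYp : IsPGroup p Y := T.isPGroup'.to_le hYT
    -- normal closure of `Y`
    have hN3 : pResidual p H ≤ normalClosure (Y : Set H) := by
      apply hH.2 _ normalClosure_normal
      intro hc
      apply hYO
      have h1 : Y ≤ normalClosure (Y : Set H) := Subgroup.subset_normalClosure
      have h2 := fun y (hy : y ∈ Y) => mem_pCore_of_isPClosed normalClosure_normal hc (h1 hy)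
        (IsPElt.of_mem hYp hy)
      exact h2
    refine ⟨?_, hN3⟩
    set R : Subgroup H := pResidual p H with hR
    have hRn : R.Normal := inferInstance
    set K : Subgroup H := ⁅R, Y⁆ with hK
    have hKR : K ≤ R := by
      apply commutator_le_left_of_le_normalizer
      rw [Subgroup.normalizer_eq_top_iff.mpr hRn]
      exact le_top
    have hRK : R ≤ normalizer (K : Set H) := le_normalizer_commutator_left R Y
    have hTK : (T : Subgroup H) ≤ normalizer (K : Set H) := by
      intro t ht
      exact mem_normalizer_commutator (by rw [Subgroup.normalizer_eq_top_iff.mpr hRn]; trivial) (hTY ht)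
    have hKn : K.Normal := by
      rw [← Subgroup.normalizer_eq_top_iff, eq_top_iff, ← sylow_sup_pResidual T]
      exact sup_le hTK hRK
    apply le_antisymm hKR
    have hTX : (T : Subgroup H) ≤ normalizer ((K ⊔ Y : Subgroup H) : Set H) :=
      sup_le_normalizer hTK hTY
    have hRX : R ≤ normalizer ((K ⊔ Y : Subgroup H) : Set H) := by
      intro r hr
      apply mem_normalizer_of_conj_mem
      have h1 : K ⊔ Y ≤ (K ⊔ Y).comap (MulAut.conj r).toMonoidHom := by
        apply sup_le
        · intro k hk
          exact Subgroup.mem_sup_left (conj_mem_of_mem_normalizer (hRK hr) hk)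
        · intro y hy
          change r * y * r⁻¹ ∈ K ⊔ Y
          have e : r * y * r⁻¹ = ⁅r, y⁆ * y := by
            simp [commutatorElement_def]
          rw [e]
          exact (K ⊔ Y).mul_mem (Subgroup.mem_sup_left (Subgroup.commutator_mem_commutator hr hy))
            (Subgroup.mem_sup_right hy)
      exact fun x hx => h1 hx
    have hXn : (K ⊔ Y).Normal := by
      rw [← Subgroup.normalizer_eq_top_iff, eq_top_iff, ← sylow_sup_pResidual T]
      exact sup_le hTX hRX
    apply pResidual_le_of_le_sup hYp
    exact hN3.trans (Subgroup.normalClosure_le_normal (fun y hy => Subgroup.mem_sup_right hy))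

end Cfsg.Agent.S2827
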