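import Cfsg.Statements.S2828
import Cfsg.Agent.Lib.LocalStruct.PIrred

set_option autoImplicit false
open Cfsg

namespace Cfsg.Agent.S2828

open Cfsg.Agent.Lib.LocalStruct.Basic Cfsg.Agent.Lib.LocalStruct.Comm Cfsg.Agent.Lib.LocalStruct.PClosed Cfsg.Agent.Lib.LocalStruct.PIrred Cfsg.Agent.Lib.Core.Basic Cfsg.Agent.Lib.Core.Residual Subgroup

/-- Let H be a finite group, p a prime and D a normal p-subgroup of H. Then H is p-irreducible if and only if H/D is p-irreducible, and H is strongly p-irreducible if and only if H/D is strongly p-irreducible. -/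
theorem result {H : Type*} [Group H] [Finite H] {p : ℕ} [Fact p.Prime] (D : Subgroup H) [D.Normal] (hD : IsPGroup p ↥D) : (Cfsg.IsPIrreducible p H ↔ Cfsg.IsPIrreducible p (H ⧸ D)) ∧ (Cfsg.IsStronglyPIrreducible p H ↔ Cfsg.IsStronglyPIrreducible p (H ⧸ D)) := by
  have hs := QuotientGroup.mk'_surjective D
  have hres := map_pResidual_of_surjective (p := p) (QuotientGroup.mk' D) hs
  have hcq := isPClosed_quotient_iff D hD
  have hcomap : ∀ N : Subgroup (H ⧸ D), (N.comap (QuotientGroup.mk' D)).map (QuotientGroup.mk' D) = N :=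
    fun N => Subgroup.map_comap_eq_self_of_surjective hs N
  have hresle : ∀ N : Subgroup H, (pResidual p (H ⧸ D)) ≤ N.map (QuotientGroup.mk' D) →
      (N.Normal) → pResidual p H ≤ N := by
    intro N h hN
    have := hN
    apply pResidual_le_of_le_sup hD
    rw [← hres] at h
    intro x hx
    have h1 := h ⟨x, hx, rfl⟩
    obtain ⟨n, hn, e⟩ := h1
    have h2 : n⁻¹ * x ∈ D := by
      rw [← QuotientGroup.eq]
      exact e
    have e2 : x = n * (n⁻¹ * x) := by group
    rw [e2]
    exact (N ⊔ D).mul_mem (Subgroup.mem_sup_left hn) (Subgroup.mem_sup_right h2)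
  have hcommap : ∀ N : Subgroup H, (⁅N.map (QuotientGroup.mk' D), (⊤ : Subgroup (H ⧸ D))⁆ ≤ pCore p (H ⧸ D)) →
      ⁅N, (⊤ : Subgroup H)⁆ ≤ pCore p H := by
    intro N h
    refine le_trans ?_ (comap_pCore_le D hD)
    rw [← Subgroup.map_le_iff_le_comap, Subgroup.map_commutator]
    refine le_trans (Subgroup.commutator_mono le_rfl le_top) h
  refine ⟨⟨fun h => ⟨fun hc => h.1 (hcq.mp hc), fun N hN hc => ?_⟩, fun h => ⟨fun hc => h.1 (hcq.mpr hc), fun N hN hc => ?_⟩⟩,
    ⟨fun h => ⟨fun hc => h.1 (hcq.mp hc), fun N hN hc => ?_⟩, fun h => ⟨fun hc => h.1 (hcq.mpr hc), fun N hN hc => ?_⟩⟩⟩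
  · -- p-irreducible passes to the quotient
    have h1 : ¬ IsPClosed p (N.comap (QuotientGroup.mk' D)) := by
      intro hc2
      apply hc
      refine isPClosed_of_surjective (((QuotientGroup.mk' D).comp (N.comap (QuotientGroup.mk' D)).subtype).codRestrict N (fun x => x.2)) ?_ hc2
      rintro ⟨y, hy⟩
      obtain ⟨x, rfl⟩ := hs y
      exact ⟨⟨x, hy⟩, rfl⟩
    have h2 := h.2 _ (Subgroup.Normal.comap hN _) h1
    rw [← hres, Subgroup.map_le_iff_le_comap]
    exact h2
  · -- p-irreducible lifts
    have hNm : (N.map (QuotientGroup.mk' D)).Normal := Subgroup.Normal.map hN _ hs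
    refine hresle N (h.2 _ hNm ?_) hN
    intro hc2
    apply hc
    refine isPClosed_of_ker (((QuotientGroup.mk' D).comp N.subtype).codRestrict (N.map (QuotientGroup.mk' D)) (fun x => ⟨x, x.2, rfl⟩)) ?_ hc2
    have : IsPGroup p (D.subgroupOf N) := hD.comap_of_injective N.subtype N.subtype_injective
    refine this.to_le ?_
    intro x hx
    have h3 := congrArg Subtype.val (MonoidHom.mem_ker.mp hx)
    exact Subgroup.mem_subgroupOf.mpr ((QuotientGroup.eq_one_iff _).mp h3)
  · -- strongly p-irreducible passes to the quotient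
    have h1 : ¬ ⁅N.comap (QuotientGroup.mk' D), (⊤ : Subgroup H)⁆ ≤ pCore p H := by
      intro hc2
      apply hc
      have h3 := Subgroup.map_mono (f := QuotientGroup.mk' D) hc2
      rw [Subgroup.map_commutator, hcomap] at h3
      have h4 : (⊤ : Subgroup H).map (QuotientGroup.mk' D) = ⊤ := by
        rw [← MonoidHom.range_eq_map, MonoidHom.range_eq_top]
        exact hs
      rw [h4] at h3
      exact h3.trans (map_pCore_le_of_surjective _ hs)
    have h2 := h.2 _ (Subgroup.Normal.comap hN _) h1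
    rw [← hres, Subgroup.map_le_iff_le_comap]
    exact h2
  · -- strongly p-irreducible lifts
    have hNm : (N.map (QuotientGroup.mk' D)).Normal := Subgroup.Normal.map hN _ hs
    refine hresle N (h.2 _ hNm ?_) hN
    intro hc2
    exact hc (hcommap N hc2)

end Cfsg.Agent.S2828
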