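import Cfsg.Statements.S2829
import Cfsg.Agent.Lib.LocalStruct.PClosed

set_option autoImplicit false
open Cfsg
open scoped commutatorElement

namespace Cfsg.Agent.S2829

open Cfsg.Agent.Lib.LocalStruct

/-- Every strongly p-irreducible finite group is p-irreducible. -/
theorem result {H : Type*} [Group H] [Finite H] {p : ℕ} [Fact p.Prime] (hH : Cfsg.IsStronglyPIrreducible p H) : Cfsg.IsPIrreducible p H := by
  refine ⟨hH.1, fun N hN hnc => hH.2 N hN ?_⟩
  intro hc
  apply hnc
  have : N.Normal := hN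
  have hD : IsPGroup p ((pCore p H).subgroupOf N) :=
    Cfsg.Agent.Lib.Core.Basic.pCore_isPGroup.comap_of_injective _ N.subtype_injective
  refine (PClosed.isPClosed_quotient_iff ((pCore p H).subgroupOf N) hD).mp ?_
  refine PClosed.isPClosed_of_comm ?_
  intro a b
  induction a using QuotientGroup.induction_on with
  | H a =>
  induction b using QuotientGroup.induction_on with
  | H b =>
  rw [← QuotientGroup.mk_mul, ← QuotientGroup.mk_mul, QuotientGroup.eq, Subgroup.mem_subgroupOf]
  have h1 : ⁅(b : H)⁻¹, (a : H)⁻¹⁆ ∈ ⁅N, (⊤ : Subgroup H)⁆ :=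
    Subgroup.commutator_mem_commutator (N.inv_mem b.2) (Subgroup.mem_top _)
  have h2 := hc h1
  have h3 : ((((a * b)⁻¹ * (b * a) : N)) : H) = ⁅(b : H)⁻¹, (a : H)⁻¹⁆ := by
    simp [commutatorElement_def]
    group
  rw [h3]
  exact h2

end Cfsg.Agent.S2829
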