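import Cfsg.Statements.S2830
import Cfsg.Agent.Lib.LocalStruct.PIrred

set_option autoImplicit false
open Cfsg

namespace Cfsg.Agent.S2830

open Cfsg.Agent.Lib.LocalStruct.Basic Cfsg.Agent.Lib.LocalStruct.Comm Cfsg.Agent.Lib.LocalStruct.PClosed Cfsg.Agent.Lib.LocalStruct.PIrred Cfsg.Agent.Lib.Core.Basic Cfsg.Agent.Lib.Core.Residual Cfsg.Agent.Lib.PReduced.Basic Subgroup

/-- Let H act by conjugation on the elementary abelian p-subgroup V of a finite group G (H ≤ N(V)), with H p-irreducible and O^p(H) not centralizing V. Then C_H(V) is p-closed and C_T(V) ≤ O_p(H) for every p-subgroup T of H. If in addition O_p(H) centralizes V, then C_T(V) = T ∩ O_p(H) for every p-subgroup T of H, and V is p-reduced for H: O_p(H/C_H(V)) = 1. -/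
theorem result {G : Type*} [Group G] [Finite G] {p : ℕ} [Fact p.Prime] (V H : Subgroup G) (hV : Cfsg.IsElementaryAbelian p V) (hHV : H ≤ Subgroup.normalizer (V : Set G)) (hH : Cfsg.IsPIrreducible p ↥H) (hnc : ¬ (Cfsg.pResidual p ↥H).map H.subtype ≤ Subgroup.centralizer (V : Set G)) [hn : ((Subgroup.centralizer (V : Set G)).subgroupOf H).Normal] : Cfsg.IsPClosed p ↥(H ⊓ Subgroup.centralizer (V : Set G)) ∧ (∀ T : Subgroup G, T ≤ H → IsPGroup p ↥T → T ⊓ Subgroup.centralizer (V : Set G) ≤ Cfsg.pCoreOf p H) ∧ (Cfsg.pCoreOf p H ≤ Subgroup.centralizer (V : Set G) → (∀ T : Subgroup G, T ≤ H → IsPGroup p ↥T → T ⊓ Subgroup.centralizer (V : Set G) = T ⊓ Cfsg.pCoreOf p H) ∧ Cfsg.pCore p (↥H ⧸ (Subgroup.centralizer (V : Set G)).subgroupOf H) = ⊥) := by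
  set C : Subgroup G := centralizer (V : Set G) with hC
  set N : Subgroup ↥H := C.subgroupOf H with hN
  have hresN : ¬ pResidual p ↥H ≤ N := by
    intro h
    apply hnc
    rintro _ ⟨x, hx, rfl⟩
    exact Subgroup.mem_subgroupOf.mp (h hx)
  have hNc : IsPClosed p N := by
    by_contra hc
    exact hresN (hH.2 N hn hc)
  have h1 : IsPClosed p ↥(H ⊓ C) := by
    let f : ↥(H ⊓ C) →* N :=
      { toFun := fun x => ⟨⟨x, (Subgroup.mem_inf.mp x.2).1⟩, Subgroup.mem_subgroupOf.mpr (Subgroup.mem_inf.mp x.2).2⟩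
        map_one' := rfl
        map_mul' := fun _ _ => rfl }
    refine isPClosed_of_injective f ?_ hNc
    intro x y hxy
    apply Subtype.ext
    exact congrArg (fun z : N => ((z : ↥H) : G)) hxy
  have h2 : ∀ T : Subgroup G, T ≤ H → IsPGroup p ↥T → T ⊓ C ≤ pCoreOf p H := by
    rintro T hT hTp x ⟨hxT, hxC⟩
    have hx : (⟨x, hT hxT⟩ : ↥H) ∈ pCore p ↥H := by
      refine mem_pCore_of_isPClosed hn hNc (Subgroup.mem_subgroupOf.mpr hxC) ?_
      apply IsPElt.of_injective H.subtype H.subtype_injective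
      exact IsPElt.of_mem hTp hxT
    exact ⟨_, hx, rfl⟩
  refine ⟨h1, h2, fun hO => ⟨fun T hT hTp => ?_, ?_⟩⟩
  · apply le_antisymm
    · exact le_inf inf_le_left (h2 T hT hTp)
    · exact inf_le_inf_left _ hO
  · apply pCore_quotient_eq_bot_of_forall
    intro D hD hDp
    by_cases hDc : IsPClosed p D
    · intro x hx
      obtain ⟨a, b, hab, -, ha, hb, ha', hb'⟩ := exists_pPart_pPrimePart p x (isOfFinOrder_of_finite x)
      have hzD : zpowers x ≤ D := (Subgroup.zpowers_le).mpr hx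
      have h3 : a ∈ N := by
        have h4 := mem_pCore_of_isPClosed hD hDc (hzD ha') ha
        exact Subgroup.mem_subgroupOf.mpr (hO ⟨a, h4, rfl⟩)
      have h5 : b ∈ N := by
        obtain ⟨k, hk⟩ := hDp b (hzD hb')
        exact mem_of_pow_mem_of_coprime (n := p ^ k) (Nat.Coprime.pow_right k hb) hk
      rw [← hab]
      exact N.mul_mem h3 h5
    · exfalso
      apply hresN
      have h6 := hH.2 D hD hDc
      apply pResidual_le_of_forall
      intro x hc
      obtain ⟨k, hk⟩ := hDp x (h6 (mem_pResidual_of_coprime hc))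
      exact mem_of_pow_mem_of_coprime (n := p ^ k) (Nat.Coprime.pow_right k hc) hk

end Cfsg.Agent.S2830
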