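import Cfsg.Statements.S2831
import Cfsg.Agent.Lib.LocalStruct.Minimal

set_option autoImplicit false
open Cfsg

namespace Cfsg.Agent.S2831

open Cfsg.Agent.Lib.LocalStruct Subgroup

/-- Let H be a finite group with Sylow p-subgroup T such that H is T-minimal (H is generated by the conjugates of T and T lies in exactly one maximal subgroup of H). Then H is p-irreducible: H is not p-closed and O^p(H) lies in every normal subgroup of H that is not p-closed. -/
theorem result {H : Type*} [Group H] [Finite H] {p : ℕ} [Fact p.Prime] (T : Sylow p H) (hmin : Cfsg.IsMinimalOver (T : Subgroup H)) : Cfsg.IsPIrreducible p H := by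
  have hTnn : ¬ (T : Subgroup H).Normal := by
    intro hn
    have h1 : normalClosure ((T : Subgroup H) : Set H) ≤ T := normalClosure_le_normal le_rfl
    rw [hmin.1] at h1
    obtain ⟨M, ⟨hM, hTM⟩, -⟩ := hmin.2
    exact hM.1 (top_le_iff.mp (h1.trans hTM))
  refine ⟨fun hc => hTnn (hc T), fun N hN hnc => ?_⟩
  have hN' : N.Normal := hN
  obtain ⟨M, ⟨hM, hTM⟩, hMu⟩ := hmin.2
  by_cases htop : N ⊔ (T : Subgroup H) = ⊤
  · -- `H / N` is a `p`-group
    refine (Cfsg.Agent.Lib.Core.Residual.isPGroup_quotient_iff N).mp ?_
    exact PClosed.isPGroup_quotient_of_sup_eq_top N T.isPGroup' htop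
  · exfalso
    -- Frattini
    have hNM : N ≤ M := by
      have := Minimal.le_of_minimalOver hmin hM hTM (le_sup_right : (T : Subgroup H) ≤ N ⊔ T) htop
      exact le_sup_left.trans this
    have hFr := PClosed.frattini_inf T N
    have hNorm : (T : Subgroup H) ≤ normalizer (N : Set H) := by
      rw [Subgroup.normalizer_eq_top]; exact le_top
    have hTN : (T : Subgroup H) ≤ normalizer (((T : Subgroup H) ⊓ N : Subgroup H) : Set H) :=
      PClosed.le_normalizer_inf hNorm
    by_cases hn2 : normalizer (((T : Subgroup H) ⊓ N : Subgroup H) : Set H) = ⊤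
    · apply hnc
      exact PClosed.isPClosed_of_inf_normalized T hNorm (by rw [hn2]; exact le_top)
    · have h1 := Minimal.le_of_minimalOver hmin hM hTM hTN hn2
      exact hM.1 (top_le_iff.mp (hFr ▸ sup_le h1 hNM))

end Cfsg.Agent.S2831
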