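import Cfsg.Statements.S2832
import Cfsg.Agent.Lib.LocalStruct.Minimal

set_option autoImplicit false
open Cfsg

namespace Cfsg.Agent.S2832

open Cfsg.Agent.Lib.LocalStruct Subgroup

/-- Let H be a finite group with Sylow p-subgroup T such that H is T-minimal (generated by the conjugates of T, with T in exactly one maximal subgroup), and let N be a normal subgroup of H. Then either H/N is a p-group or H/N is minimal over the image of T in the same sense. -/
theorem result {H : Type*} [Group H] [Finite H] {p : ℕ} [Fact p.Prime] (T : Sylow p H) (hmin : Cfsg.IsMinimalOver (T : Subgroup H)) (N : Subgroup H) [N.Normal] : IsPGroup p (H ⧸ N) ∨ Cfsg.IsMinimalOver ((T : Subgroup H).map (QuotientGroup.mk' N)) := by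
  obtain ⟨M, ⟨hM, hTM⟩, hMu⟩ := hmin.2
  by_cases hNM : N ≤ M
  · right
    have hsurj := QuotientGroup.mk'_surjective N
    refine ⟨?_, M.map (QuotientGroup.mk' N), ⟨?_, Subgroup.map_mono hTM⟩, ?_⟩
    · have h1 : normalClosure (((T : Subgroup H).map (QuotientGroup.mk' N) : Subgroup (H ⧸ N)) : Set (H ⧸ N)) =
          (normalClosure ((T : Subgroup H) : Set H)).map (QuotientGroup.mk' N) := by
        apply le_antisymm
        · apply normalClosure_le_normal (N := ((normalClosure ((T : Subgroup H) : Set H)).map (QuotientGroup.mk' N)))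
          exact Subgroup.map_mono (Subgroup.subset_normalClosure)
        · rw [Subgroup.map_le_iff_le_comap]
          apply normalClosure_le_normal
          intro x hx
          exact Subgroup.subset_normalClosure ⟨x, hx, rfl⟩
      rw [h1, hmin.1]
      exact Subgroup.map_top_of_surjective _ hsurj
    · exact Minimal.isCoatom_map_mk N hM hNM
    · rintro M' ⟨hM', hTM'⟩
      have h1 := Minimal.isCoatom_comap_mk N hM'
      have h2 : (T : Subgroup H) ≤ M'.comap (QuotientGroup.mk' N) := by
        rwa [← Subgroup.map_le_iff_le_comap]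
      have h3 := hMu _ ⟨h1, h2⟩
      rw [← h3, Subgroup.map_comap_eq_self_of_surjective hsurj]
  · left
    have htop : N ⊔ (T : Subgroup H) = ⊤ := by
      by_contra hc
      exact hNM (le_sup_left.trans (Minimal.le_of_minimalOver ⟨hmin.1, M, ⟨hM, hTM⟩, hMu⟩ hM hTM (le_sup_right : (T : Subgroup H) ≤ N ⊔ T) hc))
    exact PClosed.isPGroup_quotient_of_sup_eq_top N T.isPGroup' htop

end Cfsg.Agent.S2832
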