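import Cfsg.Statements.S2833
import Cfsg.Agent.Lib.LocalStruct.Comm

set_option autoImplicit false
open Cfsg

namespace Cfsg.Agent.S2833

open Cfsg.Agent.Lib.LocalStruct Subgroup
open scoped commutatorElement

/-- Let V be a subgroup of a finite group G normalized by the subgroup L, let X ≤ L and g ∈ L with [V, X, X] = 1 and L generated by X and gXg⁻¹. Put W = [V, L]. Then W = [V, X]·[V, gXg⁻¹], C_W(X) = [V, X], and C_W(L) = [V, X] ∩ [V, gXg⁻¹]. -/
theorem result {G : Type*} [Group G] [Finite G] (V L : Subgroup G) (hLV : L ≤ Subgroup.normalizer (V : Set G)) (X : Subgroup G) (hX : X ≤ L) (g : G) (hg : g ∈ L) (hq : ⁅⁅V, X⁆, X⁆ = ⊥) (hgen : X ⊔ X.map (MulAut.conj g).toMonoidHom = L) (W : Subgroup G) (hW : W = ⁅V, L⁆) : ⁅V, X⁆ ⊔ ⁅V, X.map (MulAut.conj g).toMonoidHom⁆ = W ∧ W ⊓ Subgroup.centralizer (X : Set G) = ⁅V, X⁆ ∧ W ⊓ Subgroup.centralizer (L : Set G) = ⁅V, X⁆ ⊓ ⁅V, X.map (MulAut.conj g).toMonoidHom⁆ := by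
  subst hW
  set Xg : Subgroup G := X.map (MulAut.conj g).toMonoidHom with hXg
  set A : Subgroup G := ⁅V, X⁆ with hA
  set B : Subgroup G := ⁅V, Xg⁆ with hB
  have hgV : g ∈ normalizer (V : Set G) := hLV hg
  have hXV : X ≤ normalizer (V : Set G) := hX.trans hLV
  have hXgL : Xg ≤ L := by
    rw [← hgen]; exact le_sup_right
  have hXgV : Xg ≤ normalizer (V : Set G) := hXgL.trans hLV
  have hBA : B = A.map (MulAut.conj g).toMonoidHom := by
    rw [hB, hA, Comm.map_conj_commutator, Comm.map_conj_eq_of_mem_normalizer hgV]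
  have hAX : A ≤ centralizer (X : Set G) := Comm.commutator_eq_bot_iff_le_centralizer'.mp hq
  have hBXg : B ≤ centralizer (Xg : Set G) := by
    rw [hBA, hXg, Basic.centralizer_map_conj]
    exact Subgroup.map_mono hAX
  have hAV : A ≤ V := Comm.commutator_le_left_of_le_normalizer hXV
  have hBV : B ≤ V := Comm.commutator_le_left_of_le_normalizer hXgV
  have hVA : V ≤ normalizer (A : Set G) := Comm.le_normalizer_commutator_left V X
  have hVB : V ≤ normalizer (B : Set G) := Comm.le_normalizer_commutator_left V Xg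
  -- normality of `A ⊔ B`
  have hXW : X ≤ normalizer ((A ⊔ B : Subgroup G) : Set G) := by
    intro x hx
    apply Comm.mem_normalizer_of_conj_mem
    have h1 : A ⊔ B ≤ (A ⊔ B).comap (MulAut.conj x).toMonoidHom := by
      apply sup_le
      · intro a ha
        rw [Subgroup.mem_comap]
        have e : (MulAut.conj x).toMonoidHom a = a := by
          have := (Subgroup.mem_centralizer_iff.mp (hAX ha)) x hx
          simp [MulAut.conj_apply, this]
        rw [e]
        exact le_sup_left (a := A) ha
      · intro b hb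
        rw [Subgroup.mem_comap]
        have hbV := hBV hb
        have e : (MulAut.conj x).toMonoidHom b = b * ⁅b⁻¹, x⁆ := by
          simp [MulAut.conj_apply, commutatorElement_def]
          group
        rw [e]
        exact (A ⊔ B).mul_mem (le_sup_right (a := A) hb)
          (le_sup_left (a := A) (Subgroup.commutator_mem_commutator (V.inv_mem hbV) hx))
    intro y hy
    simpa [MulAut.conj_apply] using h1 hy
  have hXgW : Xg ≤ normalizer ((A ⊔ B : Subgroup G) : Set G) := by
    intro x hx
    apply Comm.mem_normalizer_of_conj_mem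
    have h1 : A ⊔ B ≤ (A ⊔ B).comap (MulAut.conj x).toMonoidHom := by
      apply sup_le
      · intro b hb
        rw [Subgroup.mem_comap]
        have hbV := hAV hb
        have e : (MulAut.conj x).toMonoidHom b = b * ⁅b⁻¹, x⁆ := by
          simp [MulAut.conj_apply, commutatorElement_def]
          group
        rw [e]
        exact (A ⊔ B).mul_mem (le_sup_left (a := A) hb)
          (le_sup_right (a := A) (Subgroup.commutator_mem_commutator (V.inv_mem hbV) hx))
      · intro a ha
        rw [Subgroup.mem_comap]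
        have e : (MulAut.conj x).toMonoidHom a = a := by
          have := (Subgroup.mem_centralizer_iff.mp (hBXg ha)) x hx
          simp [MulAut.conj_apply, this]
        rw [e]
        exact le_sup_right (a := A) ha
    intro y hy
    simpa [MulAut.conj_apply] using h1 hy
  have hLW : L ≤ normalizer ((A ⊔ B : Subgroup G) : Set G) := by
    rw [← hgen]; exact sup_le hXW hXgW
  -- the kernel on `V / (A ⊔ B)`
  have hWV : A ⊔ B ≤ V := sup_le hAV hBV
  let K : Subgroup G :=
    { carrier := {l | l ∈ normalizer (V : Set G) ∧ l ∈ normalizer ((A ⊔ B : Subgroup G) : Set G) ∧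
          ∀ v ∈ V, v * l * v⁻¹ * l⁻¹ ∈ A ⊔ B}
      one_mem' := ⟨one_mem _, one_mem _, fun v _ => by simp [one_mem]⟩
      mul_mem' := by
        rintro l m ⟨hl1, hl2, hl3⟩ ⟨hm1, hm2, hm3⟩
        refine ⟨mul_mem hl1 hm1, mul_mem hl2 hm2, fun v hv => ?_⟩
        have e : v * (l * m) * v⁻¹ * (l * m)⁻¹ =
            (v * l * v⁻¹ * l⁻¹) * (l * (v * m * v⁻¹ * m⁻¹) * l⁻¹) := by group
        rw [e]
        exact (A ⊔ B).mul_mem (hl3 v hv) (Comm.conj_mem_of_mem_normalizer hl2 (hm3 v hv))
      inv_mem' := by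
        rintro l ⟨hl1, hl2, hl3⟩
        refine ⟨inv_mem hl1, inv_mem hl2, fun v hv => ?_⟩
        have e : v * l⁻¹ * v⁻¹ * l⁻¹⁻¹ = l⁻¹ * (v * l * v⁻¹ * l⁻¹)⁻¹ * l⁻¹⁻¹ := by group
        rw [e]
        exact Comm.conj_mem_of_mem_normalizer (inv_mem hl2) ((A ⊔ B).inv_mem (hl3 v hv)) }
  have hXK : X ≤ K := by
    intro x hx
    exact ⟨hXV hx, hXW hx, fun v hv => le_sup_left (a := A) (by
      have := Subgroup.commutator_mem_commutator hv hx
      simpa [commutatorElement_def] using this)⟩
  have hXgK : Xg ≤ K := by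
    intro x hx
    exact ⟨hXgV hx, hXgW hx, fun v hv => le_sup_right (a := A) (by
      have := Subgroup.commutator_mem_commutator hv hx
      simpa [commutatorElement_def] using this)⟩
  have hLK : L ≤ K := by rw [← hgen]; exact sup_le hXK hXgK
  have h1 : A ⊔ B = ⁅V, L⁆ := by
    apply le_antisymm
    · apply sup_le
      · exact Subgroup.commutator_mono le_rfl hX
      · exact Subgroup.commutator_mono le_rfl hXgL
    · rw [Subgroup.commutator_le]
      intro v hv l hl
      exact (hLK hl).2.2 v hv
  have hmemL : ∀ w : G, w ∈ centralizer (X : Set G) → w ∈ centralizer (Xg : Set G) →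
      w ∈ centralizer (L : Set G) := by
    intro w h1 h2
    rw [← hgen]
    exact Comm.mem_centralizer_sup h1 h2
  have h2 : ⁅V, L⁆ ⊓ centralizer (X : Set G) = A := by
    rw [← h1]
    apply le_antisymm
    · intro w hw
      obtain ⟨hw1, hw2⟩ := Subgroup.mem_inf.mp hw
      obtain ⟨a, ha, b, hb, rfl⟩ := Comm.mem_sup_of_le_normalizer (hBV.trans hVA) hw1
      have hbX : b ∈ centralizer (X : Set G) := by
        have := (centralizer (X : Set G)).mul_mem ((centralizer (X : Set G)).inv_mem (hAX ha)) hw2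
        simpa using this
      have hbL := hmemL b hbX (hBXg hb)
      have hb2 : b ∈ A := by
        rw [hBA] at hb
        have h3 := Basic.mem_conj_iff.mp hb
        have h4 := (Subgroup.mem_centralizer_iff.mp hbL) g hg
        have h5 : g⁻¹ * b * g = b := by
          rw [mul_assoc, ← h4]; group
        rwa [h5] at h3
      exact A.mul_mem ha hb2
    · exact le_inf le_sup_left hAX
  have h3 : ⁅V, L⁆ ⊓ centralizer (L : Set G) = A ⊓ B := by
    apply le_antisymm
    · intro w hw
      obtain ⟨hw1, hw2⟩ := Subgroup.mem_inf.mp hw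
      have hwX : w ∈ centralizer (X : Set G) := Subgroup.centralizer_le hX hw2
      have hwA : w ∈ A := by
        rw [← h2]
        exact Subgroup.mem_inf.mpr ⟨hw1, hwX⟩
      refine Subgroup.mem_inf.mpr ⟨hwA, ?_⟩
      rw [hBA, Basic.mem_conj_iff]
      have h4 := (Subgroup.mem_centralizer_iff.mp hw2) g hg
      have h5 : g⁻¹ * w * g = w := by
        rw [mul_assoc, ← h4]; group
      rwa [h5]
    · intro w hw
      obtain ⟨hw1, hw2⟩ := Subgroup.mem_inf.mp hw
      refine Subgroup.mem_inf.mpr ⟨?_, hmemL w (hAX hw1) (hBXg hw2)⟩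
      rw [← h1]
      exact le_sup_left (a := A) hw1
  exact ⟨h1, h2, h3⟩


end Cfsg.Agent.S2833
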