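import Cfsg.Statements.S2834
import Cfsg.Agent.Lib.BHS.Points

set_option autoImplicit false
open Cfsg

namespace Cfsg.Agent.S2834

/-- The L-Lemma: let H be a finite group with Sylow p-subgroup T such that H is T-minimal (generated by the conjugates of T, T in exactly one maximal subgroup M), and let A ≤ T with A not contained in O_p(H). Then there is a subgroup L of H containing A·O_p(H) such that (a) A·O_p(L) lies in exactly one maximal subgroup L₀ of L, and L₀ = L ∩ gMg⁻¹ for some g ∈ H; (b) L = ⟨A, xAx⁻¹⟩·O_p(L) for every x ∈ L outside L₀. -/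
theorem result {H : Type*} [Group H] [Finite H] {p : ℕ} [Fact p.Prime] (T : Sylow p H) (hmin : Cfsg.IsMinimalOver (T : Subgroup H)) (M : Subgroup H) (hM : IsCoatom M ∧ (T : Subgroup H) ≤ M) (A : Subgroup H) (hAT : A ≤ (T : Subgroup H)) (hA : ¬ A ≤ Cfsg.pCore p H) : ∃ L : Subgroup H, A ⊔ Cfsg.pCore p H ≤ L ∧ ∃ L₀ : Subgroup H, A ⊔ (Cfsg.pCoreOf p L) ≤ L₀ ∧ L₀ < L ∧ (∀ X : Subgroup H, A ⊔ (Cfsg.pCoreOf p L) ≤ X → X < L → X ≤ L₀) ∧ (∃ g : H, L₀ = L ⊓ ((M : Subgroup H).map (MulAut.conj (g : H)).toMonoidHom)) ∧ ∀ x ∈ L, x ∉ L₀ → (A ⊔ ((A : Subgroup H).map (MulAut.conj (x : H)).toMonoidHom)) ⊔ (Cfsg.pCoreOf p L) = L := by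
  have hP : Cfsg.Agent.Lib.BHS.Points.PtHyp p T M :=
    { hnn := fun hn => by
        obtain ⟨h1, -⟩ := hmin
        have h2 : Subgroup.normalClosure ((T : Subgroup H) : Set H) ≤ (T : Subgroup H) :=
          Subgroup.normalClosure_le_normal le_rfl
        rw [h1] at h2
        exact hM.1.1 (top_le_iff.1 (h2.trans hM.2))
      huniq := fun M' h1 h2 => by
        obtain ⟨-, M₀, -, h3⟩ := hmin
        rw [h3 M' ⟨h1, h2⟩, h3 M hM]
      hM := hM.1
      hTM := hM.2 }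
  exact Cfsg.Agent.Lib.BHS.Points.L_lemma hP (T.isPGroup'.to_le hAT) hA

end Cfsg.Agent.S2834
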