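import Cfsg.Statements.S2835
import Cfsg.Agent.Lib.LocalStruct.Minimal

set_option autoImplicit false
open Cfsg

namespace Cfsg.Agent.S2835

open Cfsg.Agent.Lib.LocalStruct Subgroup

/-- Let L be a finite group, L₀ a maximal subgroup, T a Sylow p-subgroup of L₀ and Y ≤ T, and suppose L is Y-minimal (generated by the conjugates of Y, with Y in exactly one maximal subgroup, necessarily L₀). Then N_L(T) ≤ L₀, O_p(L) ≤ L₀ and T is a Sylow p-subgroup of L; N_L(L₀) = L₀; L = ⟨Y, gYg⁻¹⟩ for each g ∈ L outside L₀; and if Y is abelian then Y ∩ gYg⁻¹ = C_Y(L) for each such g. -/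
theorem result {L : Type*} [Group L] [Finite L] {p : ℕ} [Fact p.Prime] (L₀ : Subgroup L) (hL₀ : IsCoatom L₀) (T : Sylow p ↥L₀) (Y : Subgroup L) (hYT : Y ≤ (T : Subgroup ↥L₀).map L₀.subtype) (hmin : Cfsg.IsMinimalOver Y) : Subgroup.normalizer (((T : Subgroup ↥L₀).map L₀.subtype : Subgroup L) : Set L) ≤ L₀ ∧ Cfsg.pCore p L ≤ L₀ ∧ (∃ P : Sylow p L, (P : Subgroup L) = (T : Subgroup ↥L₀).map L₀.subtype) ∧ Subgroup.normalizer (L₀ : Set L) = L₀ ∧ (∀ g : L, g ∉ L₀ → Y ⊔ Y.map (MulAut.conj g).toMonoidHom = ⊤) ∧ (IsMulCommutative ↥Y → ∀ g : L, g ∉ L₀ → Y ⊓ Y.map (MulAut.conj g).toMonoidHom = Y ⊓ Subgroup.center L) := by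
  set T' : Subgroup L := (T : Subgroup ↥L₀).map L₀.subtype with hT'
  have hT'p : IsPGroup p T' := T.isPGroup'.map _
  have hT'L₀ : T' ≤ L₀ := by
    rintro _ ⟨x, -, rfl⟩
    exact x.2
  have hYL₀ : Y ≤ L₀ := hYT.trans hT'L₀
  have hYp : IsPGroup p Y := hT'p.to_le hYT
  have hT'top : T' ≠ ⊤ := by
    intro h
    apply hL₀.1
    exact top_le_iff.mp (h ▸ hT'L₀)
  have h1 : normalizer (T' : Set L) ≤ L₀ :=
    Minimal.le_of_minimalOver hmin hL₀ hYL₀ (hYT.trans Subgroup.le_normalizer)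
      (Minimal.normalizer_ne_top_of_minimalOver hmin hYT hT'top)
  refine ⟨h1, Minimal.pCore_le_coatom hmin hL₀ hYL₀ hYp, ?_,
    Minimal.normalizer_coatom_eq hmin hL₀ hYL₀, fun g hg => Minimal.sup_conj_eq_top hmin hL₀ hYL₀ hg,
    fun hc g hg => Minimal.inf_conj_eq hmin hL₀ hYL₀ hc hg⟩
  obtain ⟨P, hP⟩ := hT'p.exists_le_sylow
  refine ⟨P, le_antisymm ?_ hP⟩
  refine Minimal.le_of_inf_normalizer_le P.isPGroup' ?_ hP
  intro x hx
  obtain ⟨hx1, hx2⟩ := Subgroup.mem_inf.mp hx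
  have hx3 : x ∈ L₀ := h1 hx2
  have h2 : IsPGroup p ((P : Subgroup L).subgroupOf L₀) :=
    P.isPGroup'.comap_of_injective _ L₀.subtype_injective
  have h3 : (T : Subgroup ↥L₀) ≤ (P : Subgroup L).subgroupOf L₀ := by
    intro y hy
    rw [Subgroup.mem_subgroupOf]
    exact hP ⟨y, hy, rfl⟩
  have h4 := T.is_maximal' h2 h3
  have h5 : (⟨x, hx3⟩ : L₀) ∈ (P : Subgroup L).subgroupOf L₀ := by
    rw [Subgroup.mem_subgroupOf]
    exact hx1
  rw [h4] at h5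
  exact ⟨⟨x, hx3⟩, h5, rfl⟩


end Cfsg.Agent.S2835
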