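import Cfsg.Statements.S2836
import Cfsg.Agent.S2835
import Cfsg.Agent.Lib.LocalStruct.PCoreOf

set_option autoImplicit false
open Cfsg

namespace Cfsg.Agent.S2836

open Subgroup Cfsg.Agent.Lib.LocalStruct Cfsg.Agent.Lib.LocalStruct.Basic Cfsg.Agent.Lib.LocalStruct.Comm Cfsg.Agent.Lib.LocalStruct.PCoreOf Cfsg.Agent.Lib.LocalStruct.WeakClosed

/-- Let L be a finite group, L₀ a maximal subgroup, T a Sylow p-subgroup of L₀, Y ≤ T, and suppose L is Y-minimal. Let D be the intersection of the conjugates of L₀ (the core of L₀). Then D contains O_p(L) and D/O_p(L) is the Frattini subgroup of L/O_p(L), so D is p-closed; and every normal subgroup N of L contained in L₀ is p-closed with N/O_p(N) a nilpotent group of order prime to p. -/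
theorem result {L : Type*} [Group L] [Finite L] {p : ℕ} [Fact p.Prime] (L₀ : Subgroup L) (hL₀ : IsCoatom L₀) (T : Sylow p ↥L₀) (Y : Subgroup L) (hYT : Y ≤ (T : Subgroup ↥L₀).map L₀.subtype) (hmin : Cfsg.IsMinimalOver Y) : (Cfsg.pCore p L ≤ L₀.normalCore ∧ (L₀.normalCore).map (QuotientGroup.mk' (Cfsg.pCore p L)) = frattini (L ⧸ Cfsg.pCore p L) ∧ Cfsg.IsPClosed p ↥(L₀.normalCore)) ∧ ∀ (N : Subgroup L) [N.Normal], N ≤ L₀ → Cfsg.IsPClosed p ↥N ∧ Group.IsNilpotent (↥N ⧸ Cfsg.pCore p ↥N) ∧ (Nat.card (↥N ⧸ Cfsg.pCore p ↥N)).Coprime p := by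
  classical
  obtain ⟨-, hOp, ⟨P, hP⟩, -, -, -⟩ := Cfsg.Agent.S2835.result L₀ hL₀ T Y hYT hmin
  have hYP : Y ≤ (P : Subgroup L) := hP ▸ hYT
  have hPL₀ : (P : Subgroup L) ≤ L₀ := by
    rw [hP]
    rintro _ ⟨x, -, rfl⟩
    exact x.2
  have hYL₀ : Y ≤ L₀ := hYP.trans hPL₀
  set D := L₀.normalCore with hDdef
  haveI hDn : D.Normal := normalCore_normal _
  have hDL₀ : D ≤ L₀ := normalCore_le _
  have hPD : (P : Subgroup L) ≤ normalizer (D : Set L) := by
    rw [Subgroup.normalizer_eq_top]; exact le_top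
  have hnorm : normalizer (((P : Subgroup L) ⊓ D : Subgroup L) : Set L) = ⊤ := by
    by_contra hne
    have h1 : normalizer (((P : Subgroup L) ⊓ D : Subgroup L) : Set L) ≤ L₀ :=
      Minimal.le_of_minimalOver hmin hL₀ hYL₀ (hYP.trans (PClosed.le_normalizer_inf hPD)) hne
    have h2 := PClosed.frattini_inf P D
    apply hL₀.1
    rw [eq_top_iff, ← h2]
    exact sup_le h1 hDL₀
  have hDc : Cfsg.IsPClosed p D := PClosed.isPClosed_of_inf_normalized P hPD (by rw [hnorm]; exact le_top)
  have hOpD : Cfsg.pCore p L ≤ D := normal_le_normalCore.mpr hOp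
  set O := Cfsg.pCore p L with hOdef
  have hmapD : (Cfsg.pCore p D).map D.subtype = O ⊓ D :=
    Cfsg.Agent.Lib.Core.Basic.map_pCore_of_isSubnormal hDn.isSubnormal
  have hnotdvd : ¬ p ∣ (Cfsg.pCore p D).index := by
    have hS := PClosed.sylow_eq_pCore hDc (default : Sylow p D)
    rw [← hS]
    exact Sylow.not_dvd_index _
  have key : ∀ X : Subgroup L, IsCoatom X → O ≤ X → D ≤ X := by
    intro X hX hOX
    by_contra hDX
    have hsup : X ⊔ D = ⊤ :=
      hX.2 _ (lt_of_le_of_ne le_sup_left (fun h => hDX (h ▸ le_sup_right)))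
    have h1 : (X ⊓ D).relIndex X = D.index := by
      rw [Subgroup.inf_relIndex_left, ← Subgroup.relIndex_sup_right, hsup, Subgroup.relIndex_top_right]
    have h2 := Subgroup.relIndex_mul_relIndex (X ⊓ D) X ⊤ inf_le_left le_top
    have h3 := Subgroup.relIndex_mul_relIndex (X ⊓ D) D ⊤ inf_le_right le_top
    rw [Subgroup.relIndex_top_right, Subgroup.relIndex_top_right, h1] at h2
    rw [Subgroup.relIndex_top_right, Subgroup.relIndex_top_right] at h3
    have hDne : D.index ≠ 0 := Subgroup.index_ne_zero_of_finite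
    have h4 : X.index = (X ⊓ D).relIndex D := by
      apply Nat.eq_of_mul_eq_mul_left (Nat.pos_of_ne_zero hDne)
      rw [h2, ← h3, mul_comm]
    have h5 : ¬ p ∣ X.index := by
      rw [h4]
      intro hd
      apply hnotdvd
      refine hd.trans (Subgroup.index_dvd_of_le ?_)
      intro z hz
      have hz' : (z : L) ∈ O ⊓ D := by
        rw [← hmapD]
        exact Subgroup.mem_map_of_mem _ hz
      rw [Subgroup.mem_subgroupOf]
      exact ⟨hOX hz'.1, hz'.2⟩
    haveI : Finite (L ⧸ X) := inferInstance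
    obtain ⟨q, hq⟩ := P.isPGroup'.nonempty_fixed_point_of_prime_not_dvd_card (L ⧸ X) h5
    obtain ⟨g, rfl⟩ := QuotientGroup.mk_surjective q
    have hg : ∀ a ∈ (P : Subgroup L), g⁻¹ * (a * g) ∈ X := by
      intro a ha
      have := hq ⟨a, ha⟩
      have h6 : ((a * g : L) : L ⧸ X) = (g : L ⧸ X) := this
      exact QuotientGroup.eq.mp h6.symm
    have hYX : Y ≤ X.map (MulAut.conj g).toMonoidHom := by
      intro y hy
      refine ⟨g⁻¹ * (y * g), hg y (hYP hy), ?_⟩
      simp [MulAut.conj_apply]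
    have hne : X.map (MulAut.conj g).toMonoidHom ≠ ⊤ := by
      intro ht
      apply hX.1
      have := map_conj_inv_map_conj (Q := X) g
      rw [← this, ht]
      exact eq_top_iff.mpr (fun z _ => ⟨g * z * g⁻¹, trivial, by simp [MulAut.conj_apply]; group⟩)
    have h7 := Minimal.le_of_minimalOver hmin hL₀ hYL₀ hYX hne
    have h8 : X ≤ L₀.map (MulAut.conj g⁻¹).toMonoidHom := (map_conj_le_iff_le_inv g).mp h7
    have hne2 : L₀.map (MulAut.conj g⁻¹).toMonoidHom ≠ ⊤ := by
      intro ht
      apply hL₀.1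
      have := map_conj_map_conj_inv (Q := L₀) g
      rw [← this, ht]
      exact eq_top_iff.mpr (fun z _ => ⟨g⁻¹ * z * g, trivial, by simp [MulAut.conj_apply]; group⟩)
    have h9 : X = L₀.map (MulAut.conj g⁻¹).toMonoidHom := by
      by_contra hc
      exact hne2 (hX.2 _ (lt_of_le_of_ne h8 hc))
    apply hDX
    rw [h9]
    intro d hd
    refine ⟨g * d * g⁻¹, hDL₀ (hDn.conj_mem d hd g), ?_⟩
    simp [MulAut.conj_apply]
    group
  have hfrat : D.map (QuotientGroup.mk' O) = frattini (L ⧸ O) := by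
    apply le_antisymm
    · rw [Subgroup.map_le_iff_le_comap]
      apply le_trans _ (le_refl _)
      simp only [frattini, Order.radical, Subgroup.comap_iInf]
      refine le_iInf₂ fun M hM => ?_
      apply key _ (Minimal.isCoatom_comap_mk (N := O) (M := M) hM)
      intro o ho
      rw [Subgroup.mem_comap]
      have : QuotientGroup.mk' O o = 1 := (QuotientGroup.eq_one_iff o).mpr ho
      rw [this]
      exact M.one_mem
    · intro x hx
      obtain ⟨x', rfl⟩ := QuotientGroup.mk'_surjective O x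
      refine ⟨x', ?_, rfl⟩
      intro b
      have h1 : QuotientGroup.mk' O (b * x' * b⁻¹) ∈ frattini (L ⧸ O) := by
        rw [map_mul, map_mul, map_inv]
        exact (inferInstance : (frattini (L ⧸ O)).Normal).conj_mem _ hx _
      have h2 := frattini_le_coatom (Minimal.isCoatom_map_mk (N := O) hL₀ hOp) h1
      obtain ⟨l, hl, hl2⟩ := h2
      have h3 : l⁻¹ * (b * x' * b⁻¹) ∈ O := by
        have := QuotientGroup.eq.mp hl2
        exact this
      have h4 := L₀.mul_mem hl (hOp h3)
      simpa using h4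
  refine ⟨⟨hOpD, hfrat, hDc⟩, ?_⟩
  intro N hN hNL₀
  have hND : N ≤ D := normal_le_normalCore.mpr hNL₀
  have hNc : Cfsg.IsPClosed p N := PClosed.isPClosed_of_le hND hDc
  refine ⟨hNc, ?_, ?_⟩
  · set f : N →* L ⧸ O := (QuotientGroup.mk' O).comp N.subtype with hf
    have hker : f.ker = Cfsg.pCore p N := by
      have hmap : (Cfsg.pCore p N).map N.subtype = O ⊓ N :=
        Cfsg.Agent.Lib.Core.Basic.map_pCore_of_isSubnormal hN.isSubnormal
      ext z
      rw [MonoidHom.mem_ker]
      constructor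
      · intro hz
        have hz' : (z : L) ∈ O := (QuotientGroup.eq_one_iff _).mp hz
        have : (z : L) ∈ (Cfsg.pCore p N).map N.subtype := by
          rw [hmap]
          exact ⟨hz', z.2⟩
        obtain ⟨w, hw, hwz⟩ := this
        have : w = z := Subtype.ext hwz
        rwa [← this]
      · intro hz
        have : (z : L) ∈ O ⊓ N := by
          rw [← hmap]
          exact Subgroup.mem_map_of_mem _ hz
        exact (QuotientGroup.eq_one_iff _).mpr this.1
    have hrange : f.range ≤ frattini (L ⧸ O) := by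
      rw [← hfrat]
      rintro _ ⟨z, rfl⟩
      exact ⟨z, hND z.2, rfl⟩
    haveI : Group.IsNilpotent (frattini (L ⧸ O)) := frattini_nilpotent
    have h1 : Group.IsNilpotent (f.range.subgroupOf (frattini (L ⧸ O))) := inferInstance
    have h2 : Group.IsNilpotent f.range :=
      Group.nilpotent_of_surjective (Subgroup.subgroupOfEquivOfLe hrange).toMonoidHom
        (Subgroup.subgroupOfEquivOfLe hrange).surjective
    have e1 : (N ⧸ f.ker) ≃* f.range := QuotientGroup.quotientKerEquivRange f
    have e2 : (N ⧸ Cfsg.pCore p N) ≃* (N ⧸ f.ker) := QuotientGroup.quotientMulEquivOfEq hker.symm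
    exact Group.nilpotent_of_surjective (e2.trans e1).symm.toMonoidHom (e2.trans e1).symm.surjective
  · have hS := PClosed.sylow_eq_pCore hNc (default : Sylow p N)
    have hnd : ¬ p ∣ (Cfsg.pCore p N).index := by
      rw [← hS]
      exact Sylow.not_dvd_index _
    have : Nat.card (N ⧸ Cfsg.pCore p N) = (Cfsg.pCore p N).index := rfl
    rw [this]
    exact ((Fact.out : p.Prime).coprime_iff_not_dvd.mpr hnd).symm

end Cfsg.Agent.S2836
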