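import Cfsg.Statements.S2837
import Cfsg.Agent.Lib.LocalStruct.PCoreOf
import Cfsg.Agent.Lib.PGroups.Basic

set_option autoImplicit false
open Cfsg

namespace Cfsg.Agent.S2837

open Subgroup Cfsg.Agent.Lib.LocalStruct Cfsg.Agent.Lib.LocalStruct.Basic Cfsg.Agent.Lib.LocalStruct.Comm Cfsg.Agent.Lib.LocalStruct.PCoreOf Cfsg.Agent.Lib.LocalStruct.WeakClosed
open scoped commutatorElement

/-- Let L be a finite group of characteristic p, L₀ a maximal subgroup, Y an elementary abelian p-subgroup of L₀ with L Y-minimal and O_p(L) ≤ N_L(Y). Put A = the normal closure of O_p(L) ∩ Y in L. Then for every g ∈ L outside L₀: Φ(A) = A' = [A ∩ Y, A] = [A ∩ Y, A ∩ gYg⁻¹] ≤ C_Y(L), and Y ∩ gYg⁻¹ = (A ∩ Y) ∩ (A ∩ gYg⁻¹) = C_Y(L) = C_A(L). -/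
theorem result {L : Type*} [Group L] [Finite L] {p : ℕ} [Fact p.Prime] (hchar : Subgroup.centralizer (Cfsg.pCore p L : Set L) ≤ Cfsg.pCore p L) (L₀ : Subgroup L) (hL₀ : IsCoatom L₀) (Y : Subgroup L) (hYL₀ : Y ≤ L₀) (hYel : Cfsg.IsElementaryAbelian p Y) (hmin : Cfsg.IsMinimalOver Y) (hOY : Cfsg.pCore p L ≤ Subgroup.normalizer (Y : Set L)) (A : Subgroup L) (hA : A = Subgroup.normalClosure (((Cfsg.pCore p L ⊓ Y : Subgroup L)) : Set L)) (g : L) (hg : g ∉ L₀) : (frattini ↥A).map A.subtype = ⁅A, A⁆ ∧ ⁅A, A⁆ = ⁅A ⊓ Y, A⁆ ∧ ⁅A ⊓ Y, A⁆ = ⁅A ⊓ Y, A ⊓ Y.map (MulAut.conj g).toMonoidHom⁆ ∧ ⁅A ⊓ Y, A⁆ ≤ Y ⊓ Subgroup.center L ∧ Y ⊓ Y.map (MulAut.conj g).toMonoidHom = Y ⊓ Subgroup.center L ∧ (A ⊓ Y) ⊓ (A ⊓ Y.map (MulAut.conj g).toMonoidHom) = Y ⊓ Subgroup.center L ∧ A ⊓ Subgroup.center L = Y ⊓ Subgroup.center L := by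
  classical
  set Q := Cfsg.pCore p L with hQdef
  haveI hQn : Q.Normal := Cfsg.pCore_normal p L
  have hQp : IsPGroup p Q := Cfsg.Agent.Lib.Core.Basic.pCore_isPGroup
  have hcY : ∀ a ∈ Y, ∀ b ∈ Y, a * b = b * a := by
    intro a ha b hb
    have := hYel.1.is_comm.comm ⟨a, ha⟩ ⟨b, hb⟩
    simpa [Subtype.ext_iff] using this
  have hpY : ∀ a ∈ Y, a ^ p = 1 := hYel.2
  set Yg := Y.map (MulAut.conj g).toMonoidHom with hYg
  have hQg : Q.map (MulAut.conj g).toMonoidHom = Q :=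
    map_conj_eq_of_mem_normalizer (by rw [Subgroup.normalizer_eq_top]; trivial)
  have hcYg : ∀ a ∈ Yg, ∀ b ∈ Yg, a * b = b * a := by
    rintro _ ⟨a, ha, rfl⟩ _ ⟨b, hb, rfl⟩
    rw [← map_mul, ← map_mul, hcY a ha b hb]
  have hpYg : ∀ a ∈ Yg, a ^ p = 1 := by
    rintro _ ⟨a, ha, rfl⟩
    rw [← map_pow, hpY a ha, map_one]
  have hOYg : Q ≤ normalizer (Yg : Set L) := by
    rw [hYg, normalizer_map_conj, ← hQg]
    rw [hQg]
    have := map_conj_mono g hOY
    rwa [hQg] at this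
  have hYN : Y ≤ normalizer (Q : Set L) := by
    rw [Subgroup.normalizer_eq_top]; exact le_top
  have hYgN : Yg ≤ normalizer (Q : Set L) := by
    rw [Subgroup.normalizer_eq_top]; exact le_top
  set Y₀ := Q ⊓ Y with hY₀
  set Y₁ := Q ⊓ Yg with hY₁
  have hQYc : ⁅Q, Y⁆ ≤ Y₀ := commutator_le_inf_of_normalizes hYN hOY
  have hQYgc : ⁅Q, Yg⁆ ≤ Y₁ := commutator_le_inf_of_normalizes hYgN hOYg
  have hW : ⁅Y₀, Y₁⁆ ≤ Y₀ ⊓ Y₁ := by
    apply le_inf
    · rw [Subgroup.commutator_comm]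
      exact (Subgroup.commutator_mono inf_le_left inf_le_right).trans hQYc
    · exact (Subgroup.commutator_mono inf_le_left inf_le_right).trans hQYgc
  obtain ⟨hN₁, hN₂⟩ := normalizes_of_commutator_le_inf hW
  have hYZ : Y ⊓ Yg = Y ⊓ center L := Minimal.inf_conj_eq hmin hL₀ hYL₀ hYel.1 hg
  have hYY : Y ⊔ Yg = ⊤ := Minimal.sup_conj_eq_top hmin hL₀ hYL₀ hg
  have h01 : Y₀ ⊓ Y₁ ≤ Y ⊓ center L := by
    rw [← hYZ]
    exact inf_le_inf inf_le_right inf_le_right
  set W := ⁅Y₀, Y₁⁆ with hWdef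
  have hWZ : W ≤ Y ⊓ center L := hW.trans h01
  haveI hWn : W.Normal := by
    constructor
    intro n hn x
    have := (Subgroup.mem_center_iff.mp (hWZ hn).2) x
    rw [this]
    simpa using hn
  -- `A = Y₀ ⊔ Y₁`
  have hcj1 : Y ≤ normalizer ((Y₀ ⊔ Y₁ : Subgroup L) : Set L) := by
    intro y hy
    apply mem_normalizer_of_conj_mem
    have : Y₀ ⊔ Y₁ ≤ (Y₀ ⊔ Y₁).comap (MulAut.conj y).toMonoidHom := by
      apply sup_le
      · intro a ha
        apply Subgroup.mem_sup_left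
        refine ⟨hQn.conj_mem a ha.1 y, ?_⟩
        simp only [MulEquiv.coe_toMonoidHom, MulAut.conj_apply]
        rw [hcY y hy a ha.2, mul_inv_cancel_right]
        exact ha.2
      · intro b hb
        have h1 : ⁅b, y⁆ ∈ Y₀ := hQYc (Subgroup.commutator_mem_commutator hb.1 hy)
        have e : (MulAut.conj y).toMonoidHom b = ⁅b, y⁆⁻¹ * b := by
          simp [commutatorElement_def, MulAut.conj_apply]
          group
        rw [Subgroup.mem_comap, e]
        exact Subgroup.mul_mem _ (Subgroup.mem_sup_left (Y₀.inv_mem h1)) (Subgroup.mem_sup_right hb)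
    exact fun x hx => this hx
  have hcj2 : Yg ≤ normalizer ((Y₀ ⊔ Y₁ : Subgroup L) : Set L) := by
    intro y hy
    apply mem_normalizer_of_conj_mem
    have : Y₀ ⊔ Y₁ ≤ (Y₀ ⊔ Y₁).comap (MulAut.conj y).toMonoidHom := by
      apply sup_le
      · intro b hb
        have h1 : ⁅b, y⁆ ∈ Y₁ := hQYgc (Subgroup.commutator_mem_commutator hb.1 hy)
        have e : (MulAut.conj y).toMonoidHom b = ⁅b, y⁆⁻¹ * b := by
          simp [commutatorElement_def, MulAut.conj_apply]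
          group
        rw [Subgroup.mem_comap, e]
        exact Subgroup.mul_mem _ (Subgroup.mem_sup_right (Y₁.inv_mem h1)) (Subgroup.mem_sup_left hb)
      · intro a ha
        apply Subgroup.mem_sup_right
        refine ⟨hQn.conj_mem a ha.1 y, ?_⟩
        simp only [MulEquiv.coe_toMonoidHom, MulAut.conj_apply]
        rw [hcYg y hy a ha.2, mul_inv_cancel_right]
        exact ha.2
    exact fun x hx => this hx
  haveI hA₀n : (Y₀ ⊔ Y₁ : Subgroup L).Normal := by
    rw [← Subgroup.normalizer_eq_top_iff, eq_top_iff, ← hYY]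
    exact sup_le hcj1 hcj2
  have hAeq : A = Y₀ ⊔ Y₁ := by
    apply le_antisymm
    · rw [hA]
      exact Subgroup.normalClosure_le_normal (le_sup_left (a := Y₀) (b := Y₁))
    · apply sup_le
      · rw [hA]
        exact Subgroup.subset_normalClosure
      · have hAn : A.Normal := by rw [hA]; infer_instance
        have hY₀A : Y₀ ≤ A := by rw [hA]; exact Subgroup.subset_normalClosure
        rintro x ⟨hx1, a, ha, rfl⟩
        have : a ∈ Y₀ := by
          refine ⟨?_, ha⟩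
          have := hQn.conj_mem _ hx1 g⁻¹
          simp only [MulEquiv.coe_toMonoidHom, MulAut.conj_apply, inv_inv] at this
          have e : g⁻¹ * (g * a * g⁻¹) * g = a := by group
          rwa [e] at this
        have := hAn.conj_mem a (hY₀A this) g
        simpa [MulAut.conj_apply] using this
  subst hAeq
  have hAQ : Y₀ ⊔ Y₁ ≤ Q := sup_le inf_le_left inf_le_left
  have hAY : (Y₀ ⊔ Y₁) ⊓ Y = Y₀ :=
    le_antisymm (le_inf (inf_le_left.trans hAQ) inf_le_right) (le_inf le_sup_left inf_le_right)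
  have hAYg : (Y₀ ⊔ Y₁) ⊓ Yg = Y₁ :=
    le_antisymm (le_inf (inf_le_left.trans hAQ) inf_le_right) (le_inf le_sup_right inf_le_right)
  rw [hAY, hAYg]
  -- computations modulo `W`
  have hsup : ∀ x ∈ Y₀ ⊔ Y₁, ∃ a ∈ Y₀, ∃ b ∈ Y₁, x = a * b := fun x hx =>
    mem_sup_of_le_normalizer hN₁ hx
  let π := QuotientGroup.mk' W
  have hπ : ∀ x, π x = 1 ↔ x ∈ W := fun x => QuotientGroup.eq_one_iff x
  have hcab : ∀ a ∈ Y₀, ∀ b ∈ Y₁, Commute (π a) (π b) := by
    intro a ha b hb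
    rw [Commute, SemiconjBy]
    rw [← commutatorElement_eq_one_iff_mul_comm, ← map_commutatorElement, hπ]
    exact Subgroup.commutator_mem_commutator ha hb
  have hcaa : ∀ a ∈ Y₀, ∀ b ∈ Y₀, Commute (π a) (π b) := by
    intro a ha b hb
    rw [Commute, SemiconjBy, ← map_mul, ← map_mul, hcY a ha.2 b hb.2]
  have hcbb : ∀ a ∈ Y₁, ∀ b ∈ Y₁, Commute (π a) (π b) := by
    intro a ha b hb
    rw [Commute, SemiconjBy, ← map_mul, ← map_mul, hcYg a ha.2 b hb.2]
  have hAA : ⁅Y₀ ⊔ Y₁, Y₀ ⊔ Y₁⁆ ≤ W := by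
    rw [Subgroup.commutator_le]
    intro x hx y hy
    obtain ⟨a₁, ha₁, b₁, hb₁, rfl⟩ := hsup x hx
    obtain ⟨a₂, ha₂, b₂, hb₂, rfl⟩ := hsup y hy
    rw [← hπ, map_commutatorElement, commutatorElement_eq_one_iff_mul_comm, map_mul, map_mul]
    have : Commute (π a₁ * π b₁) (π a₂ * π b₂) :=
      Commute.mul_left (Commute.mul_right (hcaa _ ha₁ _ ha₂) (hcab _ ha₁ _ hb₂))
        (Commute.mul_right (hcab _ ha₂ _ hb₁).symm (hcbb _ hb₁ _ hb₂))
    exact this
  have hWAA : W ≤ ⁅Y₀, Y₀ ⊔ Y₁⁆ := Subgroup.commutator_mono le_rfl le_sup_right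
  have hWAA2 : ⁅Y₀, Y₀ ⊔ Y₁⁆ ≤ ⁅Y₀ ⊔ Y₁, Y₀ ⊔ Y₁⁆ := Subgroup.commutator_mono le_sup_left le_rfl
  have e1 : ⁅Y₀ ⊔ Y₁, Y₀ ⊔ Y₁⁆ = W := le_antisymm hAA (hWAA.trans hWAA2)
  have e2 : ⁅Y₀, Y₀ ⊔ Y₁⁆ = W := le_antisymm (hWAA2.trans hAA) hWAA
  have hpow : ∀ x ∈ Y₀ ⊔ Y₁, x ^ p ∈ W := by
    intro x hx
    obtain ⟨a, ha, b, hb, rfl⟩ := hsup x hx
    rw [← hπ, map_pow, map_mul, (hcab a ha b hb).mul_pow, ← map_pow, ← map_pow, hpY a ha.2,
      hpYg b hb.2, map_one, one_mul]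
  have hAp : IsPGroup p ↥(Y₀ ⊔ Y₁) := hQp.to_le hAQ
  refine ⟨?_, ?_, ?_, ?_, hYZ, ?_, ?_⟩
  · rw [← Subgroup.map_subtype_commutator]
    apply le_antisymm
    · apply Subgroup.map_mono
      apply Cfsg.Agent.Lib.PGroups.Basic.frattini_le_of_normal (p := p) _ le_rfl
      intro x
      have h1 : ((x ^ p : ↥(Y₀ ⊔ Y₁)) : L) ∈ W := hpow x x.2
      rw [← e1, ← Subgroup.map_subtype_commutator] at h1
      obtain ⟨w, hw, hwx⟩ := h1
      have : w = x ^ p := Subtype.ext hwx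
      rwa [← this]
    · apply Subgroup.map_mono
      exact Cfsg.Agent.Lib.PGroups.Basic.commutator_le_frattini hAp
  · rw [e1, e2]
  · rw [e2]
  · rw [e2]
    exact hWZ
  · apply le_antisymm
    · refine (le_inf ?_ ?_ : Y₀ ⊓ Y₁ ≤ Y ⊓ center L)
      · exact inf_le_left.trans inf_le_right
      · exact h01.trans inf_le_right
    · have hZQ : center L ≤ Q := fun z hz => hchar (by
        rw [Subgroup.mem_centralizer_iff]
        intro x _
        exact (Subgroup.mem_center_iff.mp hz) x)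
      refine le_inf (le_inf (inf_le_right.trans hZQ) inf_le_left) (le_inf (inf_le_right.trans hZQ) ?_)
      rw [← hYZ]
      exact inf_le_right
  · have hZQ : center L ≤ Q := fun z hz => hchar (by
      rw [Subgroup.mem_centralizer_iff]
      intro x _
      exact (Subgroup.mem_center_iff.mp hz) x)
    apply le_antisymm
    · rintro z ⟨hz1, hz2⟩
      obtain ⟨a, ha, b, hb, rfl⟩ := hsup z hz1
      have hbc : b ∈ center L := by
        have hle : Y ⊔ Yg ≤ centralizer ({b} : Set L) := by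
          apply sup_le
          · intro y hy
            rw [Subgroup.mem_centralizer_singleton_iff]
            have h1 := (Subgroup.mem_center_iff.mp hz2) y
            have h2 := hcY y hy a ha.2
            have : a * (y * b) = a * (b * y) := by
              rw [← mul_assoc a y b, ← h2, mul_assoc y a b, h1, mul_assoc]
            exact mul_left_cancel this
          · intro y hy
            rw [Subgroup.mem_centralizer_singleton_iff]
            exact hcYg y hy b hb.2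
        rw [hYY] at hle
        rw [Subgroup.mem_center_iff]
        intro y
        have := hle (Subgroup.mem_top y)
        rw [Subgroup.mem_centralizer_singleton_iff] at this
        exact this
      have hbY : b ∈ Y := by
        have h1 : b ∈ Yg := hb.2
        rw [hYg, mem_conj_iff] at h1
        have h2 := (Subgroup.mem_center_iff.mp hbc) g
        rwa [show g⁻¹ * b * g = b by rw [mul_assoc, ← h2]; group] at h1
      exact ⟨Y.mul_mem ha.2 hbY, hz2⟩
    · exact le_inf (le_trans (le_inf (inf_le_right.trans hZQ) inf_le_left) le_sup_left) inf_le_right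

end Cfsg.Agent.S2837
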