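import Cfsg.Statements.S2840
import Cfsg.Agent.Lib.LocalStruct.WeakClosed

set_option autoImplicit false
open Cfsg

namespace Cfsg.Agent.S2840

open Cfsg.Agent.Lib.LocalStruct.Basic Cfsg.Agent.Lib.LocalStruct.Comm Cfsg.Agent.Lib.LocalStruct.WeakClosed Subgroup

/-- Let Q be a nontrivial p-subgroup of the finite group H that is a weakly closed subgroup and K a subgroup containing Q; let K° be the weak closure of Q in K (generated by the H-conjugates of Q inside K). Then K° is generated by the K-conjugates of Q, and K° is the subnormal closure of Q in K. -/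
theorem result {H : Type*} [Group H] [Finite H] {p : ℕ} [Fact p.Prime] (Q : Subgroup H) (hQp : IsPGroup p ↥Q) (hQ1 : Q ≠ ⊥) (hwc : Cfsg.IsWeaklyClosedSubgroup p Q) (K : Subgroup H) (hQK : Q ≤ K) (Kc : Subgroup H) (hKc : Kc = Cfsg.weakClosure Q K) : Kc = ⨆ k : ↥K, ((Q : Subgroup H).map (MulAut.conj ((k : H) : H)).toMonoidHom) ∧ Kc = (Cfsg.subnormalClosure (Q.subgroupOf K)).map K.subtype := by
  subst hKc
  have hu := uniqueConj_of_isWC hwc
  have hu₁ : UniqueConj p (Q.subgroupOf K) := uniqueConj_of_isWC (hu.subgroupOf hQp hQK)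
  have hQ₁ : IsPGroup p (Q.subgroupOf K) := isPGroup_subgroupOf hQp K
  have h1 : weakClosure Q K = ⨆ k : ↥K, Q.map (MulAut.conj ((k : H) : H)).toMonoidHom := by
    apply le_antisymm
    · apply iSup_le
      rintro ⟨g, hg⟩
      obtain ⟨k, hk, e⟩ := hu.exists_conj_of_le hQp hQK hg
      simp only
      rw [e]
      exact le_iSup (fun k : ↥K => Q.map (MulAut.conj ((k : H) : H)).toMonoidHom) ⟨k, hk⟩
    · apply iSup_le
      intro k
      exact le_iSup (fun g : {g : H // Q.map (MulAut.conj g).toMonoidHom ≤ K} =>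
        Q.map (MulAut.conj (g : H)).toMonoidHom) ⟨k, conj_le_of_mem hQK k.2⟩
  refine ⟨h1, ?_⟩
  rw [h1]
  have hEK := iSup_conj_le hQK
  have hQE := le_iSup_conj Q K
  have hEn := le_normalizer_iSup_conj Q K
  apply le_antisymm
  · apply iSup_le
    intro k
    rw [← Subgroup.map_subgroupOf_eq_of_le (conj_le_of_mem hQK k.2)]
    apply Subgroup.map_mono
    apply le_sInf
    rintro S ⟨hS1, hS2⟩
    have h4 := hu₁.conj_le_of_isSubnormal hQ₁ hS2 hS1 k
    refine le_trans ?_ h4
    rintro x ⟨q, hq, hqx⟩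
    refine ⟨⟨q, hQK hq⟩, hq, ?_⟩
    apply Subtype.ext
    simpa [MulAut.conj_apply] using hqx
  · have h5 : subnormalClosure (Q.subgroupOf K) ≤ (⨆ k : ↥K, Q.map (MulAut.conj ((k : H) : H)).toMonoidHom).subgroupOf K := by
      apply sInf_le
      refine ⟨fun x hx => Subgroup.mem_subgroupOf.mpr (hQE (Subgroup.mem_subgroupOf.mp hx)), ?_⟩
      exact ((Subgroup.normal_subgroupOf_iff_le_normalizer hEK).mpr hEn).isSubnormal
    have := Subgroup.map_mono (f := K.subtype) h5
    rwa [Subgroup.map_subgroupOf_eq_of_le hEK] at this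

end Cfsg.Agent.S2840
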