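import Cfsg.Statements.S2841
import Cfsg.Agent.Lib.LocalStruct.WeakClosed

set_option autoImplicit false
open Cfsg

namespace Cfsg.Agent.S2841

open Cfsg.Agent.Lib.LocalStruct.Basic Cfsg.Agent.Lib.LocalStruct.Comm Cfsg.Agent.Lib.LocalStruct.WeakClosed Subgroup
open scoped commutatorElement

/-- Let Q be a nontrivial p-subgroup of the finite group H that is a weakly closed subgroup and N a normal subgroup of H. Then N = N_N(Q)·[N, Q] and [N, Q] = (Q ∩ [N, Q])·[N, Q, Q]. -/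
theorem result {H : Type*} [Group H] [Finite H] {p : ℕ} [Fact p.Prime] (Q : Subgroup H) (hQp : IsPGroup p ↥Q) (hQ1 : Q ≠ ⊥) (hwc : Cfsg.IsWeaklyClosedSubgroup p Q) (N' : Subgroup H) [N'.Normal] : (∀ n : H, n ∈ N' → ∃ a ∈ N' ⊓ Subgroup.normalizer ((Q : Subgroup H) : Set H), ∃ b ∈ ⁅N', Q⁆, n = a * b) ∧ (∀ c : H, c ∈ ⁅N', Q⁆ → ∃ a ∈ Q ⊓ ⁅N', Q⁆, ∃ b ∈ ⁅⁅N', Q⁆, Q⁆, c = a * b) := by
  have hu := uniqueConj_of_isWC hwc
  set N : Subgroup H := N' with hN
  have hNn : N.Normal := inferInstance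
  set C : Subgroup H := ⁅N, Q⁆ with hC
  have hCN : C ≤ N := commutator_le_left_of_le_normalizer (by
    rw [Subgroup.normalizer_eq_top_iff.mpr hNn]; exact le_top)
  have hQC : Q ≤ normalizer (C : Set H) := le_normalizer_commutator_right N Q
  have hNC : N ≤ normalizer (C : Set H) := le_normalizer_commutator_left N Q
  -- part 1
  have h1 : ∀ n : H, n ∈ N → ∃ a ∈ N ⊓ normalizer (Q : Set H), ∃ b ∈ C, n = a * b := by
    intro n hn
    have hQn : Q.map (MulAut.conj n).toMonoidHom ≤ C ⊔ Q := by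
      rintro _ ⟨q, hq, rfl⟩
      have e : (MulAut.conj n).toMonoidHom q = ⁅n, q⁆ * q := by
        simp [commutatorElement_def, MulAut.conj_apply]
      rw [e]
      exact (C ⊔ Q).mul_mem (Subgroup.mem_sup_left (Subgroup.commutator_mem_commutator hn hq))
        (Subgroup.mem_sup_right hq)
    obtain ⟨k, hk, e⟩ := hu.exists_conj_of_le hQp le_sup_right hQn
    obtain ⟨c, hc, q, hq, rfl⟩ := mem_sup_of_le_normalizer hQC hk
    rw [map_conj_mul, mem_normalizer_iff_map.mp (Subgroup.le_normalizer hq)] at e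
    have h2 : c⁻¹ * n ∈ normalizer (Q : Set H) := by
      rw [mem_normalizer_iff_map, map_conj_mul, e, map_conj_inv_map_conj]
    refine ⟨c⁻¹ * n, ⟨N.mul_mem (N.inv_mem (hCN hc)) hn, h2⟩, (c⁻¹ * n)⁻¹ * c * (c⁻¹ * n), ?_, by group⟩
    exact conj_inv_mem_of_mem_normalizer (hNC (N.mul_mem (N.inv_mem (hCN hc)) hn)) hc
  refine ⟨h1, ?_⟩
  -- part 2
  set D : Subgroup H := ⁅C, Q⁆ with hD
  have hDC : C ≤ normalizer (D : Set H) := le_normalizer_commutator_left C Q
  have hQD : Q ≤ normalizer (D : Set H) := le_normalizer_commutator_right C Q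
  have hle : C ≤ D ⊔ (Q ⊓ C) := by
    rw [hC, Subgroup.commutator_le]
    intro n hn q hq
    obtain ⟨a, ⟨haN, haQ⟩, c, hc, rfl⟩ := h1 n hn
    have e : ⁅a * c, q⁆ = (a * ⁅c, q⁆ * a⁻¹) * ⁅a, q⁆ := by
      simp only [commutatorElement_def]
      group
    rw [e]
    have haC : a ∈ normalizer (C : Set H) := hNC haN
    have haD : a ∈ normalizer (D : Set H) := mem_normalizer_commutator haC haQ
    refine (D ⊔ (Q ⊓ C)).mul_mem (Subgroup.mem_sup_left (conj_mem_of_mem_normalizer haD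
      (Subgroup.commutator_mem_commutator hc hq))) (Subgroup.mem_sup_right ⟨?_, ?_⟩)
    · rw [commutatorElement_def]
      exact Q.mul_mem (conj_mem_of_mem_normalizer haQ hq) (Q.inv_mem hq)
    · exact Subgroup.commutator_mem_commutator haN hq
  intro c hc
  have h2 : (Q ⊓ C) ≤ normalizer (D : Set H) := inf_le_left.trans hQD
  exact mem_sup_of_le_normalizer' h2 (hle hc)

end Cfsg.Agent.S2841
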