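import Cfsg.Statements.S2842
import Cfsg.Agent.Lib.LocalStruct.WCCharP
import Cfsg.Agent.Lib.LocalStruct.Large2

set_option autoImplicit false
open Cfsg

namespace Cfsg.Agent.S2842

open Subgroup Cfsg.Agent.Lib.LocalStruct Cfsg.Agent.Lib.LocalStruct.Basic Cfsg.Agent.Lib.LocalStruct.Comm Cfsg.Agent.Lib.LocalStruct.PCoreOf Cfsg.Agent.Lib.LocalStruct.WeakClosed

/-- Let Q be a nontrivial p-subgroup of the finite group H that is a weakly closed subgroup with C_H(Q) ≤ Q, and Q ≤ L ≤ H. Suppose H has characteristic p, or more generally that C_H(y) has characteristic p for some nonidentity y ∈ C_{O_p(L)}(Q). Then [Q, C_H(O_p(L))] ≤ Q ∩ O_p(L), C_H(O_p(L)) is a p-group, and L has characteristic p. -/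
theorem result {H : Type*} [Group H] [Finite H] {p : ℕ} [Fact p.Prime] (Q : Subgroup H) (hQp : IsPGroup p ↥Q) (hQ1 : Q ≠ ⊥) (hwc : Cfsg.IsWeaklyClosedSubgroup p Q) (hCQ : Subgroup.centralizer ((Q : Subgroup H) : Set H) ≤ Q) (L : Subgroup H) (hQL : Q ≤ L) (hyp : Subgroup.centralizer (Cfsg.pCore p H : Set H) ≤ Cfsg.pCore p H ∨ ∃ y : H, y ≠ 1 ∧ y ∈ (Cfsg.pCoreOf p L) ⊓ Subgroup.centralizer ((Q : Subgroup H) : Set H) ∧ Subgroup.centralizer (Cfsg.pCore p ↥(Subgroup.centralizer ({y} : Set H)) : Set ↥(Subgroup.centralizer ({y} : Set H))) ≤ Cfsg.pCore p ↥(Subgroup.centralizer ({y} : Set H))) : ⁅Q, Subgroup.centralizer (((Cfsg.pCoreOf p L) : Subgroup H) : Set H)⁆ ≤ Q ⊓ (Cfsg.pCoreOf p L) ∧ IsPGroup p ↥(Subgroup.centralizer (((Cfsg.pCoreOf p L) : Subgroup H) : Set H)) ∧ Subgroup.centralizer (Cfsg.pCore p ↥L : Set ↥L) ≤ Cfsg.pCore p ↥L := by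
  classical
  set E := Cfsg.pCoreOf p L with hEdef
  have hEp : IsPGroup p E := isPGroup_pCoreOf L
  have hLE : L ≤ normalizer (E : Set H) := le_normalizer_pCoreOf L
  set C₁ := centralizer (E : Set H) with hC₁def
  have hLC : L ≤ normalizer (C₁ : Set H) := Large2.le_normalizer_centralizer hLE
  have hu := uniqueConj_of_isWC hwc
  have hPE : Q ⊓ Cfsg.pCoreOf p C₁ ≤ E := by
    refine (inf_le_inf_right _ hQL).trans ?_
    apply le_pCoreOf inf_le_left _ ((isPGroup_pCoreOf C₁).to_le inf_le_right)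
    intro l hl
    apply mem_normalizer_of_conj_mem
    rintro x ⟨hx1, hx2⟩
    refine ⟨L.mul_mem (L.mul_mem hl hx1) (inv_mem hl), ?_⟩
    have : l ∈ normalizer ((Cfsg.pCoreOf p C₁ : Subgroup H) : Set H) := by
      rw [mem_normalizer_iff_map, pCoreOf_conj, mem_normalizer_iff_map.mp (hLC hl)]
    exact conj_mem_of_mem_normalizer this hx2
  have hmain : ⁅C₁, Q⁆ ≤ Q ⊓ E ∧ IsPGroup p C₁ := by
    rcases hyp with hyp | ⟨y, hy1, hy2, hy3⟩
    · apply WCCharP.main hQp hu hCQ (hQL.trans hLC) (hQL.trans hLE)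
        le_rfl hEp hPE (Cfsg.Agent.Lib.Core.Basic.pCore_isPGroup (p := p) (G := H))
      · intro q _
        exact mem_normalizer_of_conj_mem fun x hx =>
          (Cfsg.pCore_normal p H).conj_mem x hx q
      · intro q _
        exact mem_normalizer_of_conj_mem fun x hx =>
          (Cfsg.pCore_normal p H).conj_mem x hx q
      · intro x _ hx
        exact hyp hx
    · set K := centralizer ({y} : Set H) with hKdef
      have hyE : y ∈ E := hy2.1
      have hyQ : y ∈ centralizer ((Q : Subgroup H) : Set H) := hy2.2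
      have hQK : Q ≤ K := by
        intro q hq
        rw [hKdef, Subgroup.mem_centralizer_singleton_iff]
        exact ((Subgroup.mem_centralizer_iff.mp hyQ) q hq)
      have hCK : C₁ ≤ K := by
        intro c hc
        rw [hKdef, Subgroup.mem_centralizer_singleton_iff]
        exact ((Subgroup.mem_centralizer_iff.mp hc) y hyE).symm
      apply WCCharP.main hQp hu hCQ (hQL.trans hLC) (hQL.trans hLE)
        le_rfl hEp hPE (isPGroup_pCoreOf K) (hQK.trans (le_normalizer_pCoreOf K))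
        (hCK.trans (le_normalizer_pCoreOf K))
      intro x hx hxc
      have hxK := hCK hx
      have : (⟨x, hxK⟩ : K) ∈ centralizer (Cfsg.pCore p K : Set K) := by
        rw [Subgroup.mem_centralizer_iff]
        intro z hz
        apply Subtype.ext
        exact (Subgroup.mem_centralizer_iff.mp hxc) z (Subgroup.mem_map_of_mem _ hz)
      exact Subgroup.mem_map_of_mem _ (hy3 this)
  obtain ⟨h1, h2⟩ := hmain
  refine ⟨?_, h2, ?_⟩
  · rw [Subgroup.commutator_comm]
    exact h1
  · intro x hx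
    have hinf : L ⊓ C₁ ≤ E := by
      apply le_pCoreOf inf_le_left _ (h2.to_le inf_le_right)
      intro l hl
      apply mem_normalizer_of_conj_mem
      rintro z ⟨hz1, hz2⟩
      exact ⟨L.mul_mem (L.mul_mem hl hz1) (inv_mem hl), conj_mem_of_mem_normalizer (hLC hl) hz2⟩
    have hxC : (x : H) ∈ C₁ := by
      rw [hC₁def, Subgroup.mem_centralizer_iff]
      rintro _ ⟨z, hz, rfl⟩
      exact congrArg Subtype.val ((Subgroup.mem_centralizer_iff.mp hx) z hz)
    obtain ⟨w, hw, hwx⟩ := hinf ⟨x.2, hxC⟩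
    have : w = x := Subtype.ext hwx
    rwa [← this]

end Cfsg.Agent.S2842
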