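import Cfsg.Statements.S2843
import Cfsg.Agent.Lib.LocalStruct.Large2

set_option autoImplicit false
open Cfsg

namespace Cfsg.Agent.S2843

open Cfsg.Agent.Lib.LocalStruct.Basic Cfsg.Agent.Lib.LocalStruct.Comm Cfsg.Agent.Lib.LocalStruct.WeakClosed Cfsg.Agent.Lib.LocalStruct.PCoreOf Cfsg.Agent.Lib.LocalStruct.Large Cfsg.Agent.Lib.LocalStruct.Large2 Subgroup
open scoped commutatorElement

/-- Let Q be a nontrivial large p-subgroup of the finite group H, Q ≤ L ≤ H, and Y a nontrivial p-subgroup of H normalized by L. Let L° be the weak closure of Q in L (generated by the conjugates of Q inside L). Then L° equals the weak closure of Q in L·C_H(Y), and [L°, C_H(Y)] ≤ O_p(L°); in particular C_H(Y) normalizes L°. -/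
theorem result {H : Type*} [Group H] [Finite H] {p : ℕ} [Fact p.Prime] (Q : Subgroup H) (hQp : IsPGroup p ↥Q) (hQ1 : Q ≠ ⊥) (hL : Cfsg.IsLarge Q) (L : Subgroup H) (hQL : Q ≤ L) (Y : Subgroup H) (hYp : IsPGroup p ↥Y) (hY1 : Y ≠ ⊥) (hLY : L ≤ Subgroup.normalizer ((Y : Subgroup H) : Set H)) : Cfsg.weakClosure Q L = Cfsg.weakClosure Q (L ⊔ Subgroup.centralizer ((Y : Subgroup H) : Set H)) ∧ ⁅Cfsg.weakClosure Q L, Subgroup.centralizer ((Y : Subgroup H) : Set H)⁆ ≤ (Cfsg.pCoreOf p (Cfsg.weakClosure Q L)) ∧ Subgroup.centralizer ((Y : Subgroup H) : Set H) ≤ Subgroup.normalizer (((Cfsg.weakClosure Q L) : Subgroup H) : Set H) := by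
  have hu := uniqueConj hQp hQ1 hL
  set C : Subgroup H := centralizer (Y : Set H) with hC
  have hLC : L ≤ normalizer (C : Set H) := le_normalizer_centralizer hLY
  have hCg : ∀ g : H, Q.map (MulAut.conj g).toMonoidHom ≤ L →
      C ≤ normalizer ((Q.map (MulAut.conj g).toMonoidHom : Subgroup H) : Set H) := fun g hg =>
    centralizer_le_normalizer (isPGroup_map_conj g hQp) (isLarge_conj hL g) hYp hY1 (hg.trans hLY)
  set W : Subgroup H := weakClosure Q L with hW
  have hWL : W ≤ L := weakClosure_le_self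
  have h1 : W = weakClosure Q (L ⊔ C) := by
    apply le_antisymm (weakClosure_mono le_sup_left)
    apply weakClosure_le
    intro g hg
    obtain ⟨k, hk, e⟩ := hu.exists_conj_of_le hQp (hQL.trans le_sup_left) hg
    rw [sup_comm] at hk
    obtain ⟨c, hc, l, hl, rfl⟩ := mem_sup_of_le_normalizer hLC hk
    have hlQ : Q.map (MulAut.conj l).toMonoidHom ≤ L := conj_le_of_mem hQL hl
    rw [map_conj_mul, mem_normalizer_iff_map.mp (hCg l hlQ hc)] at e
    rw [e]
    exact conj_le_weakClosure hlQ
  have hCW : C ≤ normalizer (W : Set H) := by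
    intro c hc
    apply mem_normalizer_of_conj_mem
    have h2 : W ≤ W.comap (MulAut.conj c).toMonoidHom := by
      apply weakClosure_le
      intro g hg x hx
      rw [Subgroup.mem_comap]
      exact conj_le_weakClosure hg (conj_mem_of_mem_normalizer (hCg g hg hc) hx)
    exact fun x hx => h2 hx
  refine ⟨h1, ?_, hCW⟩
  set B : Subgroup H := pCoreOf p W with hB
  have hWB : W ≤ normalizer (B : Set H) := le_normalizer_pCoreOf W
  have hgen : ∀ g : H, Q.map (MulAut.conj g).toMonoidHom ≤ L → ∀ x ∈ Q.map (MulAut.conj g).toMonoidHom,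
      ∀ c ∈ C, ⁅x, c⁆ ∈ B := by
    intro g hg x hx c hc
    set A : Subgroup H := Q.map (MulAut.conj g).toMonoidHom with hA
    have hAp : IsPGroup p A := isPGroup_map_conj g hQp
    have hcA := hCg g hg hc
    have h2 : ⁅x, c⁆ ∈ A ⊓ C := by
      constructor
      · have e : ⁅x, c⁆ = x * (c * x⁻¹ * c⁻¹) := by
          simp [commutatorElement_def, mul_assoc]
        rw [e]
        exact A.mul_mem hx (conj_mem_of_mem_normalizer hcA (A.inv_mem hx))
      · rw [commutatorElement_def]
        exact C.mul_mem (conj_mem_of_mem_normalizer (hLC (hg hx)) hc) (C.inv_mem hc)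
    have h3 : A ⊓ C ≤ pCoreOf p C := by
      refine le_pCoreOf inf_le_right ?_ (hAp.to_le inf_le_left)
      intro c' hc'
      rw [mem_normalizer_iff_map, Subgroup.map_inf _ _ _ (MulAut.conj c').injective,
        mem_normalizer_iff_map.mp (hCg g hg hc'), mem_normalizer_iff_map.mp (Subgroup.le_normalizer hc')]
    have h4 : pCoreOf p C ⊓ W ≤ B := by
      refine le_pCoreOf inf_le_right ?_ ((isPGroup_pCoreOf C).to_le inf_le_left)
      intro w hw
      rw [mem_normalizer_iff_map, Subgroup.map_inf _ _ _ (MulAut.conj w).injective,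
        mem_normalizer_iff_map.mp (le_normalizer_pCoreOf_of hLC (hWL hw)),
        mem_normalizer_iff_map.mp (Subgroup.le_normalizer hw)]
    exact h4 ⟨h3 h2, conj_le_weakClosure hg h2.1⟩
  -- the set of good elements is a subgroup
  let S : Subgroup H :=
    { carrier := {x | x ∈ W ∧ ∀ c ∈ C, ⁅x, c⁆ ∈ B}
      one_mem' := ⟨one_mem _, fun c _ => by simp⟩
      mul_mem' := by
        rintro a b ⟨ha, ha'⟩ ⟨hb, hb'⟩
        refine ⟨W.mul_mem ha hb, fun c hc => ?_⟩
        have e : ⁅a * b, c⁆ = (a * ⁅b, c⁆ * a⁻¹) * ⁅a, c⁆ := by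
          simp only [commutatorElement_def]
          group
        rw [e]
        exact B.mul_mem (conj_mem_of_mem_normalizer (hWB ha) (hb' c hc)) (ha' c hc)
      inv_mem' := by
        rintro a ⟨ha, ha'⟩
        refine ⟨W.inv_mem ha, fun c hc => ?_⟩
        have e : ⁅a⁻¹, c⁆ = a⁻¹ * (⁅a, c⁆)⁻¹ * a := by
          simp only [commutatorElement_def]
          group
        rw [e]
        exact conj_inv_mem_of_mem_normalizer (hWB ha) (B.inv_mem (ha' c hc)) }
  have hWS : W ≤ S := by
    apply weakClosure_le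
    intro g hg x hx
    exact ⟨conj_le_weakClosure hg hx, hgen g hg x hx⟩
  rw [Subgroup.commutator_le]
  intro w hw c hc
  exact (hWS hw).2 c hc

end Cfsg.Agent.S2843
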