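import Cfsg.Statements.S2846
import Cfsg.Agent.Lib.LocalStruct.FrakMExist
import Cfsg.Agent.S2843

set_option autoImplicit false
open Cfsg

namespace Cfsg.Agent.S2846

open Subgroup Cfsg.Agent.Lib.LocalStruct Cfsg.Agent.Lib.LocalStruct.Basic Cfsg.Agent.Lib.LocalStruct.Comm Cfsg.Agent.Lib.LocalStruct.PCoreOf Cfsg.Agent.Lib.LocalStruct.WeakClosed
open scoped commutatorElement

/-- Let Q be a nontrivial large p-subgroup of the finite group H, S a Sylow p-subgroup containing Q, and L a subgroup containing S with O_p(L) ≠ 1 and C_H(O_p(L)) ≤ O_p(L). Then there are a subgroup M containing S having the basic property (M ∈ 𝔐_H, writing Y_X for the largest p-reduced normal subgroup of X and 𝓛_H for the set of subgroups X with O_p(X) ≠ 1 and C_H(O_p(X)) ≤ O_p(X): M ∈ 𝓛_H, M·C_H(Y_M) is the only maximal member of 𝓛_H containing M and its largest p-reduced normal subgroup is again Y_M, C_M(Y_M) is p-closed, and the image of C_M(Y_M) in M/O_p(M) lies in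 the Frattini subgroup of M/O_p(M)) and a subgroup L* with S ≤ L* ≤ M, O_p(L*) ≠ 1, C_H(O_p(L*)) ≤ O_p(L*), such that L·C_H(Y_L) = L*·C_H(Y_L), the weak closures of Q in L and in L* agree and lie in that of M, and Y_L = Y_{L*} ≤ Y_M. If moreover Q is not normal in L, then Q is normal in neither L* nor M. -/
theorem result {H : Type*} [Group H] [Finite H] {p : ℕ} [Fact p.Prime] (Q : Subgroup H) (hQp : IsPGroup p ↥Q) (hQ1 : Q ≠ ⊥) (hLg : Cfsg.IsLarge Q) (S : Sylow p H) (hQS : Q ≤ (S : Subgroup H)) (L : Subgroup H) (hSL : (S : Subgroup H) ≤ L) (hL : L ∈ Cfsg.charPSubgroups p H) : ∃ M Ls : Subgroup H, (S : Subgroup H) ≤ M ∧ Cfsg.IsInFrakM p M ∧ (S : Subgroup H) ≤ Ls ∧ Ls ≤ M ∧ Ls ∈ Cfsg.charPSubgroups p H ∧ L ⊔ Subgroup.centralizer (((Cfsg.largestPReducedOf p L) : Subgroup H) : Set H) = Ls ⊔ Subgroup.centralizer (((Cfsg.largestPReducedOf p L) : Subgroup H) : Set H) ∧ Cfsg.weakClosure Q L = Cfsg.weakClosure Q Ls ∧ Cfsg.weakClosure Q Ls ≤ Cfsg.weakClosure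 Q M ∧ (Cfsg.largestPReducedOf p L) = (Cfsg.largestPReducedOf p Ls) ∧ (Cfsg.largestPReducedOf p Ls) ≤ (Cfsg.largestPReducedOf p M) ∧ (¬ L ≤ Subgroup.normalizer ((Q : Subgroup H) : Set H) → ¬ Ls ≤ Subgroup.normalizer ((Q : Subgroup H) : Set H) ∧ ¬ M ≤ Subgroup.normalizer ((Q : Subgroup H) : Set H)) := by
  classical
  have hP : Cfsg.IsOfParabolicCharacteristic p H := (Cfsg.Agent.S2845.result Q hQp hQ1 hLg).2.2
  obtain ⟨M, Ls, hSM, hM, hSLs, hLsM, hLsL, hYeq, hYM, hsup⟩ := FrakMExist.exists_frakM hP S L hSL hL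
  have hY1 : Cfsg.largestPReducedOf p L ≠ ⊥ := FrakH2.largestPReducedOf_ne_bot S hSL hL
  have hYp : IsPGroup p (Cfsg.largestPReducedOf p L) := PReducedOf.isPGroup_largestPReducedOf L
  have hLY : L ≤ normalizer ((Cfsg.largestPReducedOf p L : Subgroup H) : Set H) :=
    PReducedOf.le_normalizer_largestPReducedOf L
  have hLsY : Ls ≤ normalizer ((Cfsg.largestPReducedOf p L : Subgroup H) : Set H) := by
    rw [hYeq]
    exact PReducedOf.le_normalizer_largestPReducedOf Ls
  have hwc : Cfsg.weakClosure Q L = Cfsg.weakClosure Q Ls := by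
    have h1 := (Cfsg.Agent.S2843.result Q hQp hQ1 hLg L (hQS.trans hSL) _ hYp hY1 hLY).1
    have h2 := (Cfsg.Agent.S2843.result Q hQp hQ1 hLg Ls (hQS.trans hSLs) _ hYp hY1 hLsY).1
    rw [h1, h2, hsup]
  have hu := Large.uniqueConj hQp hQ1 hLg
  have hNQ : ∀ X : Subgroup H, Q ≤ X → X ≤ normalizer ((Q : Subgroup H) : Set H) →
      Cfsg.weakClosure Q X = Q := by
    intro X hQX hXQ
    apply le_antisymm _ (Large2.le_weakClosure hQX)
    apply Large2.weakClosure_le
    intro g hg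
    have hp : IsPGroup p (Q.map (MulAut.conj g).toMonoidHom ⊔ Q : Subgroup H) :=
      IsPGroup.to_sup_of_normal_right' (isPGroup_map_conj g hQp) hQp (hg.trans hXQ)
    have := hu.eq_of_le hp le_sup_right (g := g) le_sup_left
    exact this.le
  have hQN : ∀ X : Subgroup H, Cfsg.weakClosure Q X = Q → Q ≤ X →
      X ≤ normalizer ((Q : Subgroup H) : Set H) := by
    intro X hX hQX x hx
    apply mem_normalizer_of_conj_mem
    intro q hq
    have h1 : Q.map (MulAut.conj x).toMonoidHom ≤ X := conj_le_of_mem hQX hx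
    have h2 := Large2.conj_le_weakClosure h1
    rw [hX] at h2
    exact h2 ⟨q, hq, rfl⟩
  refine ⟨M, Ls, hSM, hM, hSLs, hLsM, hLsL, hsup, hwc, Large2.weakClosure_mono hLsM, hYeq,
    hYeq ▸ hYM, ?_⟩
  intro hnL
  have h1 : ¬ Ls ≤ normalizer ((Q : Subgroup H) : Set H) := by
    intro h
    apply hnL
    apply hQN L _ (hQS.trans hSL)
    rw [hwc]
    exact hNQ Ls (hQS.trans hSLs) h
  exact ⟨h1, fun h => h1 (hLsM.trans h)⟩

end Cfsg.Agent.S2846
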