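import Cfsg.Statements.S2849
import Cfsg.Agent.Lib.LocalStruct.BasicProp
import Cfsg.Agent.Lib.QuadAct.Stable

set_option autoImplicit false
open Cfsg

namespace Cfsg.Agent.S2849

open Cfsg.Agent.Lib.LocalStruct.Basic Cfsg.Agent.Lib.LocalStruct.Comm Cfsg.Agent.Lib.LocalStruct.PCoreOf Cfsg.Agent.Lib.LocalStruct.PReducedOf Cfsg.Agent.Lib.LocalStruct.WeakClosed Subgroup

/-- Standing hypotheses: G a finite group, S a Sylow p-subgroup, Q a nontrivial large p-subgroup of G contained in S (C_G(Q) ≤ Q and N_G(U) ≤ N_G(Q) for all nontrivial U ≤ C_G(Q)), and M a subgroup containing S with the basic property (M ∈ 𝔐_G(S)); Y_M denotes the largest p-reduced normal subgroup of M and M† = M·C_G(Y_M). Suppose Y_M is asymmetric in G. Then for every subgroup R with Y_M ≤ R ≤ M†, the normal closure of Y_M in N_G(R) is elementary abelian. -/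
theorem result {G : Type*} [Group G] [Finite G] {p : ℕ} [Fact p.Prime] (S : Sylow p G) (Q : Subgroup G) (hQp : IsPGroup p ↥Q) (hQ1 : Q ≠ ⊥) (hQS : Q ≤ (S : Subgroup G)) (hQ : Cfsg.IsLarge Q) (M : Subgroup G) (hSM : (S : Subgroup G) ≤ M) (hM : Cfsg.IsInFrakM p M) (hasym : ¬ Cfsg.IsSymmetricIn (Cfsg.largestPReducedOf p M)) (R : Subgroup G) (hYR : (Cfsg.largestPReducedOf p M) ≤ R) (hRM : R ≤ (M ⊔ Subgroup.centralizer (((Cfsg.largestPReducedOf p M) : Subgroup G) : Set G))) : Cfsg.IsElementaryAbelian p ((Subgroup.normalClosure ((((Cfsg.largestPReducedOf p M)).subgroupOf (Subgroup.normalizer ((R : Subgroup G) : Set G)) : Subgroup ↥(Subgroup.normalizer ((R : Subgroup G) : Set G))) : Set ↥(Subgroup.normalizer ((R : Subgroup G) : Set G)))).map (Subgroup.normalizer ((R : Subgroup G) : Set G)).subtype) := by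
  set Y : Subgroup G := largestPReducedOf p M with hY
  set N : Subgroup G := normalizer (R : Set G) with hN
  have hYel : IsElementaryAbelian p Y := isElementaryAbelian_largestPReducedOf M
  have hdag : M ⊔ centralizer (Y : Set G) ≤ normalizer (Y : Set G) :=
    sup_le (le_normalizer_largestPReducedOf M) (Subgroup.centralizer_le_normalizer _)
  have hRY : R ≤ normalizer (Y : Set G) := hRM.trans hdag
  have hcomm : ∀ n ∈ N, ∀ a ∈ Y, ∀ b ∈ Y.map (MulAut.conj n).toMonoidHom, a * b = b * a := by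
    intro n hn
    have h1 : Y.map (MulAut.conj n).toMonoidHom ≤ R := by
      calc _ ≤ R.map (MulAut.conj n).toMonoidHom := map_conj_mono n hYR
        _ = R := mem_normalizer_iff_map.mp hn
    have h2 : R ≤ normalizer ((Y.map (MulAut.conj n).toMonoidHom : Subgroup G) : Set G) := by
      rw [normalizer_map_conj]
      calc R = R.map (MulAut.conj n).toMonoidHom := (mem_normalizer_iff_map.mp hn).symm
        _ ≤ _ := map_conj_mono n hRY
    have h3 := commutator_le_inf_of_normalizes (h1.trans hRY) (hYR.trans h2)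
    have h4 : ⁅Y, Y.map (MulAut.conj n).toMonoidHom⁆ = ⊥ := by
      by_contra h5
      exact hasym ⟨n, h5, h3⟩
    exact commutator_eq_bot_iff_forall.mp h4
  have hel : IsElementaryAbelian p (normalClosure (((Y.subgroupOf N : Subgroup ↥N)) : Set ↥N)) := by
    unfold Subgroup.normalClosure
    apply Cfsg.Agent.Lib.QuadAct.OmegaZ.isElementaryAbelian_closure
    · intro x hx x' hx'
      obtain ⟨a, ha, u, rfl⟩ := Group.mem_conjugatesOfSet_iff.mp hx |> fun ⟨a, ha, h⟩ =>
        (⟨a, ha, isConj_iff.mp h⟩ : ∃ a, a ∈ _ ∧ ∃ c, c * a * c⁻¹ = x)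
      obtain ⟨a', ha', u', rfl⟩ := Group.mem_conjugatesOfSet_iff.mp hx' |> fun ⟨a, ha, h⟩ =>
        (⟨a, ha, isConj_iff.mp h⟩ : ∃ a, a ∈ _ ∧ ∃ c, c * a * c⁻¹ = x')
      have h5 := hcomm (u⁻¹ * u' : N) (N.mul_mem (N.inv_mem u.2) u'.2) a ha
        ((u⁻¹ * u' : N) * a' * (u⁻¹ * u' : N)⁻¹ : N) (conj_mem_conj ha')
      apply Subtype.ext
      simp only [Subgroup.coe_mul, Subgroup.coe_inv] at h5 ⊢
      calc (u : G) * a * (u : G)⁻¹ * ((u' : G) * a' * (u' : G)⁻¹)
          = (u : G) * ((a : G) * ((u : G)⁻¹ * u' * a' * ((u : G)⁻¹ * u')⁻¹)) * (u : G)⁻¹ := by group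
        _ = (u : G) * (((u : G)⁻¹ * u' * a' * ((u : G)⁻¹ * u')⁻¹) * a) * (u : G)⁻¹ := by rw [h5]
        _ = _ := by group
    · intro x hx
      obtain ⟨a, ha, u, rfl⟩ := Group.mem_conjugatesOfSet_iff.mp hx |> fun ⟨a, ha, h⟩ =>
        (⟨a, ha, isConj_iff.mp h⟩ : ∃ a, a ∈ _ ∧ ∃ c, c * a * c⁻¹ = x)
      have : a ^ p = 1 := Subtype.ext (hYel.2 a ha)
      rw [conj_pow, this]
      simp
  exact Cfsg.Agent.Lib.QuadAct.Stable.isElementaryAbelian_map hel _

end Cfsg.Agent.S2849
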