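import Cfsg.Statements.S2850
import Cfsg.Agent.Lib.LocalStruct.Asym

set_option autoImplicit false
open Cfsg

namespace Cfsg.Agent.S2850

open Subgroup Cfsg.Agent.Lib.LocalStruct Cfsg.Agent.Lib.LocalStruct.Basic Cfsg.Agent.Lib.LocalStruct.Comm Cfsg.Agent.Lib.LocalStruct.PCoreOf Cfsg.Agent.Lib.LocalStruct.WeakClosed
open scoped commutatorElement

/-- Standing hypotheses: G a finite group, S a Sylow p-subgroup, Q a nontrivial large p-subgroup of G contained in S (C_G(Q) ≤ Q and N_G(U) ≤ N_G(Q) for all nontrivial U ≤ C_G(Q)), and M a subgroup containing S with the basic property (M ∈ 𝔐_G(S)); Y_M denotes the largest p-reduced normal subgroup of M and M† = M·C_G(Y_M). Suppose Y_M is asymmetric in G. Then N_G(L) ≤ N_G(O_p(M)) ≤ M† for every p-subgroup L containing O_p(M); O_p(M) is a weakly closed subgroup of G; for every subgroup L containing O_p(M), L ∩ M† contains a Sylow p-subgroup of L; and two elements of Y_M conjugate in G are conjugate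 in M. -/
theorem result {G : Type*} [Group G] [Finite G] {p : ℕ} [Fact p.Prime] (S : Sylow p G) (Q : Subgroup G) (hQp : IsPGroup p ↥Q) (hQ1 : Q ≠ ⊥) (hQS : Q ≤ (S : Subgroup G)) (hQ : Cfsg.IsLarge Q) (M : Subgroup G) (hSM : (S : Subgroup G) ≤ M) (hM : Cfsg.IsInFrakM p M) (hasym : ¬ Cfsg.IsSymmetricIn (Cfsg.largestPReducedOf p M)) : (∀ L : Subgroup G, IsPGroup p ↥L → (Cfsg.pCoreOf p M) ≤ L → Subgroup.normalizer ((L : Subgroup G) : Set G) ≤ Subgroup.normalizer (((Cfsg.pCoreOf p M) : Subgroup G) : Set G) ∧ Subgroup.normalizer (((Cfsg.pCoreOf p M) : Subgroup G) : Set G) ≤ (M ⊔ Subgroup.centralizer (((Cfsg.largestPReducedOf p M) : Subgroup G) : Set G))) ∧ Cfsg.IsWeaklyClosedSubgroup p (Cfsg.pCoreOf p M) ∧ (∀ L : Subgroup G, (Cfsg.pCoreOf p M) ≤ L → Cfsg.IsParabolic p ((L ⊓ (M ⊔ Subgroup.centralizer (((Cfsg.largestPReducedOf p M) : Subgroup G) : Set G))).subgroupOf L)) ∧ (∀ x ∈ (Cfsg.largestPReducedOf p M), ∀ g : G, g * x * g⁻¹ ∈ (Cfsg.largestPReducedOf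 p M) → ∃ m ∈ M, m * x * m⁻¹ = g * x * g⁻¹) := by
  classical
  set T : Subgroup G := Cfsg.pCoreOf p M with hT
  set Y : Subgroup G := Cfsg.largestPReducedOf p M with hY
  set C : Subgroup G := centralizer (Y : Set G) with hC
  set D : Subgroup G := M ⊔ C with hD
  have hu : UniqueConj p T := uniqueConj_of_comm fun g h =>
    Asym.conj_eq_of_comm S hQp hQ1 hQ hSM hM hasym g h
  have hTp : IsPGroup p T := isPGroup_pCoreOf M
  have hT1 : T ≠ ⊥ := Large2.pCoreOf_ne_bot hM.1.1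
  have hNT : normalizer (T : Set G) ≤ D :=
    FrakM.normalizer_le_dagger hQp hQ1 hQ S hSM hM (le_normalizer_pCoreOf M) hTp hT1
  have hTC : T ≤ C := PReducedOf.pCoreOf_le_centralizer M
  have hYT : Y ≤ T := PReducedOf.largestPReducedOf_le_pCoreOf M
  refine ⟨fun L hL hTL => ⟨hu.normalizer_le hL hTL, hNT⟩, isWC_of_uniqueConj hTp hu, ?_, ?_⟩
  · intro L hTL
    obtain ⟨T₁, hT₁⟩ := exists_sylow_of_subgroup_ge hTL hTp
    have hp : IsPGroup p ((T₁ : Subgroup L).map L.subtype) := T₁.isPGroup'.map _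
    have hT₂ : (T₁ : Subgroup L).map L.subtype ≤ D :=
      (Subgroup.le_normalizer.trans (hu.normalizer_le hp hT₁)).trans hNT
    refine ⟨T₁, ?_⟩
    intro x hx
    rw [Subgroup.mem_subgroupOf]
    exact ⟨x.2, hT₂ ⟨x, hx, rfl⟩⟩
  · intro x hx g hg
    set K : Subgroup G := centralizer ({g * x * g⁻¹} : Set G) with hK
    have hTK : T ≤ K := by
      intro t ht
      rw [hK, Subgroup.mem_centralizer_singleton_iff]
      exact ((Subgroup.mem_centralizer_iff.mp (hTC ht)) _ hg).symm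
    have hTgK : T.map (MulAut.conj g).toMonoidHom ≤ K := by
      rintro _ ⟨t, ht, rfl⟩
      rw [hK, Subgroup.mem_centralizer_singleton_iff]
      have h1 := (Subgroup.mem_centralizer_iff.mp (hTC ht)) x hx
      simp only [MulEquiv.coe_toMonoidHom, MulAut.conj_apply]
      calc g * t * g⁻¹ * (g * x * g⁻¹) = g * (t * x) * g⁻¹ := by group
        _ = g * (x * t) * g⁻¹ := by rw [h1.symm]
        _ = g * x * g⁻¹ * (g * t * g⁻¹) := by group
    obtain ⟨k, hk, hkk⟩ := hu.exists_conj_of_le hTp hTK hTgK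
    have hn : k⁻¹ * g ∈ normalizer (T : Set G) := by
      rw [mem_normalizer_iff_map, map_conj_mul, hkk, ← map_conj_mul, inv_mul_cancel, map_conj_one]
    have hDn : k⁻¹ * g ∈ C ⊔ M := by
      rw [sup_comm]
      exact hNT hn
    obtain ⟨c, hc, m, hm, hcm⟩ := mem_sup_of_le_normalizer
      (PReducedOf.le_normalizer_centralizer_largestPReducedOf M) hDn
    refine ⟨m, hm, ?_⟩
    have hmx : m * x * m⁻¹ ∈ Y :=
      conj_mem_of_mem_normalizer (PReducedOf.le_normalizer_largestPReducedOf M hm) hx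
    have hk' : k * (g * x * g⁻¹) = (g * x * g⁻¹) * k :=
      (Subgroup.mem_centralizer_singleton_iff.mp hk)
    have e1 : (k⁻¹ * g) * x * (k⁻¹ * g)⁻¹ = g * x * g⁻¹ := by
      have : (k⁻¹ * g) * x * (k⁻¹ * g)⁻¹ = k⁻¹ * (g * x * g⁻¹) * k := by group
      rw [this, mul_assoc, ← hk']
      group
    have e2 : (k⁻¹ * g) * x * (k⁻¹ * g)⁻¹ = m * x * m⁻¹ := by
      rw [hcm]
      have h3 := (Subgroup.mem_centralizer_iff.mp hc) _ hmx
      have : (c * m) * x * (c * m)⁻¹ = c * (m * x * m⁻¹) * c⁻¹ := by group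
      rw [this, ← h3]
      group
    rw [← e2, e1]

end Cfsg.Agent.S2850
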