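import Cfsg.Statements.S2851
import Cfsg.Agent.S2850
import Cfsg.Agent.Lib.LocalStruct.FstarQuot

set_option autoImplicit false
open Cfsg

namespace Cfsg.Agent.S2851

open Subgroup Cfsg.Agent.Lib.LocalStruct Cfsg.Agent.Lib.LocalStruct.Basic Cfsg.Agent.Lib.LocalStruct.Comm Cfsg.Agent.Lib.LocalStruct.PCoreOf Cfsg.Agent.Lib.LocalStruct.WeakClosed Cfsg.Agent.Lib.LocalStruct.PClosed
open scoped commutatorElement

/-- Standing hypotheses: G a finite group, S a Sylow p-subgroup, Q a nontrivial large p-subgroup of G contained in S, M a subgroup containing S with the basic property (M ∈ 𝔐_G(S)); Y_M the largest p-reduced normal subgroup of M and M† = M·C_G(Y_M). Let F be the preimage in M† of the generalized Fitting subgroup of M†/C_{M†}(Y_M). If Y_M is asymmetric in G and H is a subgroup of characteristic p containing F, then Y_M ≤ Y_H. -/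
theorem result {G : Type*} [Group G] [Finite G] {p : ℕ} [Fact p.Prime] (S : Sylow p G) (Q : Subgroup G) (hQp : IsPGroup p ↥Q) (hQ1 : Q ≠ ⊥) (hQS : Q ≤ (S : Subgroup G)) (hQ : Cfsg.IsLarge Q) (M : Subgroup G) (hSM : (S : Subgroup G) ≤ M) (hM : Cfsg.IsInFrakM p M) (hasym : ¬ Cfsg.IsSymmetricIn (Cfsg.largestPReducedOf p M)) [hn : ((Subgroup.centralizer (((Cfsg.largestPReducedOf p M) : Subgroup G) : Set G)).subgroupOf (M ⊔ Subgroup.centralizer (((Cfsg.largestPReducedOf p M) : Subgroup G) : Set G))).Normal] (F : Subgroup G) (hF : F = ((Cfsg.generalizedFittingSubgroup (↥(M ⊔ Subgroup.centralizer (((Cfsg.largestPReducedOf p M) : Subgroup G) : Set G)) ⧸ (Subgroup.centralizer (((Cfsg.largestPReducedOf p M) : Subgroup G) : Set G)).subgroupOf (M ⊔ Subgroup.centralizer (((Cfsg.largestPReducedOf p M) : Subgroup G) : Set G)))).comap (QuotientGroup.mk' ((Subgroup.centralizer (((Cfsg.largestPReducedOf p M) : Subgroup G) : Set G)).subgroupOf (M ⊔ Subgroup.centralizer (((Cfsg.largestPReducedOf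 p M) : Subgroup G) : Set G))))).map ((M ⊔ Subgroup.centralizer (((Cfsg.largestPReducedOf p M) : Subgroup G) : Set G))).subtype) (H : Subgroup G) (hFH : F ≤ H) (hH : Subgroup.centralizer (Cfsg.pCore p ↥H : Set ↥H) ≤ Cfsg.pCore p ↥H) : (Cfsg.largestPReducedOf p M) ≤ Cfsg.largestPReducedOf p H := by
  classical
  have hS2850 := Cfsg.Agent.S2850.result S Q hQp hQ1 hQS hQ M hSM hM hasym
  set Y : Subgroup G := Cfsg.largestPReducedOf p M with hY
  set C : Subgroup G := centralizer (Y : Set G) with hC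
  set D : Subgroup G := M ⊔ C with hD
  set T : Subgroup G := Cfsg.pCoreOf p M with hT
  have hL : ∀ L : Subgroup G, IsPGroup p L → T ≤ L → L ≤ D := fun L h1 h2 =>
    (Subgroup.le_normalizer.trans (hS2850.1 L h1 h2).1).trans (hS2850.1 L h1 h2).2
  have hYD : Y = Cfsg.largestPReducedOf p D := hM.2.2.2.1
  have hYDle : Y ≤ D := le_trans (PReducedOf.largestPReducedOf_le M) le_sup_left
  have hTC : T ≤ C := PReducedOf.pCoreOf_le_centralizer M
  have hYT : Y ≤ T := PReducedOf.largestPReducedOf_le_pCoreOf M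
  have hTp : IsPGroup p T := isPGroup_pCoreOf M
  have hV : Cfsg.IsPReducedNormal p (Cfsg.largestPReduced p D) :=
    PReducedOf.isPReducedNormal_largestPReduced
  have hCV : centralizer ((Cfsg.largestPReduced p D : Subgroup D) : Set D) = C.subgroupOf D := by
    have h1 := PReducedOf.subgroupOf_largestPReducedOf (p := p) D
    rw [← h1, ← hYD]
    ext x
    rw [PReducedOf.mem_centralizer_subgroupOf hYDle, Subgroup.mem_subgroupOf]
  have key : ∀ (A : Subgroup G), F ≤ normalizer (A : Set G) → (∀ a ∈ A ⊓ F, ∃ k : ℕ, a ^ (p ^ k) ∈ C) →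
      ∀ x ∈ A, x ∈ D → IsPElt p x → x ∈ C := fun A hA h1 x hxA hxD hxp =>
    FstarQuot.mem_of_isPElt hV hCV hF hA h1 hxA hxD hxp
  have hCD : C ≤ D := le_sup_right
  have hCF : C ≤ F := by
    intro c hc
    rw [hF]
    refine ⟨⟨c, hCD hc⟩, ?_, rfl⟩
    have : QuotientGroup.mk' (C.subgroupOf D) (⟨c, hCD hc⟩ : D) = 1 :=
      (QuotientGroup.eq_one_iff _).mpr (Subgroup.mem_subgroupOf.mpr hc)
    show QuotientGroup.mk' (C.subgroupOf D) (⟨c, hCD hc⟩ : D) ∈
      generalizedFittingSubgroup (D ⧸ C.subgroupOf D)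
    rw [this]
    exact Subgroup.one_mem _
  have hTH : T ≤ H := (hTC.trans hCF).trans hFH
  have hYH : Y ≤ H := hYT.trans hTH
  set R : Subgroup G := Cfsg.pCoreOf p H with hR
  have hRp : IsPGroup p R := isPGroup_pCoreOf H
  have hRH : H ≤ normalizer (R : Set G) := le_normalizer_pCoreOf H
  have hRD : R ≤ D := le_sup_left.trans (hL (R ⊔ T)
    (IsPGroup.to_sup_of_normal_left' hRp hTp (hTH.trans hRH)) le_sup_right)
  have hRC : R ≤ C := by
    intro x hx
    refine key R (hFH.trans hRH) ?_ x hx (hRD hx) (IsPElt.of_mem hRp hx)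
    rintro a ⟨ha, -⟩
    obtain ⟨k, hk⟩ := IsPElt.of_mem hRp ha
    exact ⟨k, by rw [hk]; exact C.one_mem⟩
  have hYR : Y ≤ R := by
    intro y hy
    have h1 : (⟨y, hYH hy⟩ : H) ∈ centralizer (Cfsg.pCore p H : Set H) := by
      rw [Large2.mem_centralizer_pCore_iff, Subgroup.mem_centralizer_iff]
      intro r hr
      exact ((Subgroup.mem_centralizer_iff.mp (hRC hr)) y hy).symm
    exact ⟨_, hH h1, rfl⟩
  -- the normal closure
  set Y' : Subgroup H := Y.subgroupOf H with hY'
  set R' : Subgroup H := Cfsg.pCore p H with hR'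
  haveI hR'n : R'.Normal := Cfsg.pCore_normal p H
  set Zt : Subgroup H := R' ⊓ centralizer (R' : Set H) with hZt
  haveI hZtn : Zt.Normal := Subgroup.normal_inf_normal _ _
  have hZc : ∀ a ∈ Zt, ∀ b ∈ Zt, a * b = b * a := fun a ha b hb =>
    Subgroup.mem_centralizer_iff.mp hb.2 a ha.1
  haveI hOmn := Cfsg.Agent.Lib.PReduced.Basic.omegaNormal_normal (p := p) Zt hZc
  set W' : Subgroup H := normalClosure (Y' : Set H) with hW'
  have hYel := PReducedOf.isElementaryAbelian_largestPReducedOf (p := p) M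
  have hY'Om : (Y' : Set H) ⊆ (Cfsg.Agent.Lib.PReduced.Basic.omegaNormal p Zt hZc : Set H) := by
    intro y hy
    have hy' : (y : G) ∈ Y := Subgroup.mem_subgroupOf.mp hy
    refine ⟨⟨?_, ?_⟩, ?_⟩
    · obtain ⟨w, hw, hwy⟩ := hYR hy'
      have : w = y := Subtype.ext hwy
      rwa [← this]
    · show y ∈ centralizer (R' : Set H)
      rw [Subgroup.mem_centralizer_iff]
      intro r hr
      apply Subtype.ext
      exact ((Subgroup.mem_centralizer_iff.mp (hRC (Subgroup.mem_map_of_mem _ hr))) y hy').symm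
    · apply Subtype.ext
      simpa using hYel.2 y hy'
  have hW'Om : W' ≤ Cfsg.Agent.Lib.PReduced.Basic.omegaNormal p Zt hZc :=
    Subgroup.normalClosure_le_normal hY'Om
  have hY'W' : Y' ≤ W' := Subgroup.subset_normalClosure
  haveI hW'n : W'.Normal := Subgroup.normalClosure_normal
  haveI hCW'n : (centralizer (W' : Set H)).Normal := Subgroup.normal_centralizer
  have hcW : ∀ k : H, k ∈ centralizer (W' : Set H) → (k : G) ∈ C := by
    intro k hk
    rw [hC, Subgroup.mem_centralizer_iff]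
    intro y hy
    have h1 : (⟨y, hYH hy⟩ : H) ∈ W' := hY'W' (Subgroup.mem_subgroupOf.mpr hy)
    exact congrArg Subtype.val ((Subgroup.mem_centralizer_iff.mp hk) _ h1)
  have hred : Cfsg.IsPReducedNormal p W' := by
    refine Cfsg.Agent.Lib.PReduced.Basic.isPReducedNormal_of hW'n ⟨⟨⟨?_⟩⟩, ?_⟩ ?_
    · rintro ⟨a, ha⟩ ⟨b, hb⟩
      exact Subtype.ext (hZc a (hW'Om ha).1 b (hW'Om hb).1)
    · intro a ha
      exact (hW'Om ha).2
    · intro K' hK'n hK'
      obtain ⟨T₁, hT₁⟩ := exists_sylow_of_subgroup_ge hTH hTp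
      have hT₁D : (T₁ : Subgroup H).map H.subtype ≤ D := hL _ (T₁.isPGroup'.map _) hT₁
      set K : Subgroup G := K'.map H.subtype with hK
      have hFK : F ≤ normalizer (K : Set G) := by
        intro f hf
        apply mem_normalizer_of_conj_mem
        rintro _ ⟨k, hk, rfl⟩
        exact ⟨(⟨f, hFH hf⟩ : H) * k * (⟨f, hFH hf⟩ : H)⁻¹, hK'n.conj_mem k hk _, by simp⟩
      have hkK : ∀ x ∈ K, x ∈ D → IsPElt p x → x ∈ C := by
        refine key K hFK ?_
        rintro a ⟨⟨k, hk, rfl⟩, -⟩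
        obtain ⟨j, hj⟩ := hK' k hk
        exact ⟨j, by simpa using hcW _ hj⟩
      obtain ⟨S₀, hS₀⟩ := exists_sylow_inf T₁ (K := K') (by
        rw [Subgroup.normalizer_eq_top_iff.mpr hK'n]; exact le_top)
      haveI hN₀ : ((centralizer (W' : Set H)).subgroupOf K').Normal :=
        Subgroup.Normal.subgroupOf hCW'n _
      have hsup := FstarQuot.sup_sylow_eq_top (p := p) ((centralizer (W' : Set H)).subgroupOf K')
        (fun x => by
          obtain ⟨j, hj⟩ := hK' x x.2
          exact ⟨j, Subgroup.mem_subgroupOf.mpr (by simpa using hj)⟩) S₀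
      have hK'C : ∀ k ∈ K', (k : G) ∈ C := by
        intro k hk
        have h1 : (⟨k, hk⟩ : K') ∈ ((centralizer (W' : Set H)).subgroupOf K') ⊔ (S₀ : Subgroup K') := by
          rw [hsup]; trivial
        obtain ⟨n, hn, s, hs, hns⟩ := Subgroup.mem_sup_of_normal_left.mp h1
        have hk2 : k = (n : H) * (s : H) := (congrArg Subtype.val hns).symm
        rw [hk2]
        push_cast
        refine C.mul_mem (hcW _ (Subgroup.mem_subgroupOf.mp hn)) ?_
        have hs1 : (s : H) ∈ (T₁ : Subgroup H) ⊓ K' := by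
          rw [← hS₀]
          exact Subgroup.mem_map_of_mem _ hs
        apply hkK _ (Subgroup.mem_map_of_mem _ hs1.2) (hT₁D (Subgroup.mem_map_of_mem _ hs1.1))
        exact IsPElt.of_mem (T₁.isPGroup'.map H.subtype) (Subgroup.mem_map_of_mem _ hs1.1)
      haveI hcK' : (centralizer (K' : Set H)).Normal := Subgroup.normal_centralizer
      have hW'K : W' ≤ centralizer (K' : Set H) := by
        apply Subgroup.normalClosure_le_normal
        intro y hy
        rw [SetLike.mem_coe, Subgroup.mem_centralizer_iff]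
        intro k hk
        apply Subtype.ext
        have hy' : (y : G) ∈ Y := Subgroup.mem_subgroupOf.mp hy
        exact ((Subgroup.mem_centralizer_iff.mp (hK'C k hk)) y hy').symm
      intro k hk
      rw [Subgroup.mem_centralizer_iff]
      intro w hw
      exact ((Subgroup.mem_centralizer_iff.mp (hW'K hw)) k hk).symm
  have hle := PReducedOf.le_largestPReduced hred
  intro y hy
  exact ⟨⟨y, hYH hy⟩, hle (hY'W' (Subgroup.mem_subgroupOf.mpr hy)), rfl⟩

end Cfsg.Agent.S2851
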