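import Cfsg.Statements.S2852
import Cfsg.Agent.S2850
import Cfsg.Agent.Lib.LocalStruct.CharPOf

set_option autoImplicit false
open Cfsg

namespace Cfsg.Agent.S2852

open Subgroup Cfsg.Agent.Lib.LocalStruct Cfsg.Agent.Lib.LocalStruct.Basic Cfsg.Agent.Lib.LocalStruct.Comm Cfsg.Agent.Lib.LocalStruct.PCoreOf Cfsg.Agent.Lib.LocalStruct.WeakClosed
open scoped commutatorElement

/-- Standing hypotheses: G a finite group, S a Sylow p-subgroup, Q a nontrivial large p-subgroup of G contained in S, M a subgroup containing S with the basic property (M ∈ 𝔐_G(S)); Y_M the largest p-reduced normal subgroup of M. If Y_M is char-p-tall and asymmetric in G, then some subgroup H of G lies in ℌ_G(O_p(M)): H has characteristic p, O_p(M) ≤ H, Y_M ≰ O_p(H), and Y_M ≤ O_p(P) for every proper subgroup P of H containing O_p(M). -/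
theorem result {G : Type*} [Group G] [Finite G] {p : ℕ} [Fact p.Prime] (S : Sylow p G) (Q : Subgroup G) (hQp : IsPGroup p ↥Q) (hQ1 : Q ≠ ⊥) (hQS : Q ≤ (S : Subgroup G)) (hQ : Cfsg.IsLarge Q) (M : Subgroup G) (hSM : (S : Subgroup G) ≤ M) (hM : Cfsg.IsInFrakM p M) (htall : Cfsg.IsCharPTall p (Cfsg.largestPReducedOf p M)) (hasym : ¬ Cfsg.IsSymmetricIn (Cfsg.largestPReducedOf p M)) : ∃ H : Subgroup G, Cfsg.IsInFrakH p M H := by
  classical
  have hS2850 := Cfsg.Agent.S2850.result S Q hQp hQ1 hQS hQ M hSM hM hasym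
  set Y : Subgroup G := Cfsg.largestPReducedOf p M with hY
  set C : Subgroup G := centralizer (Y : Set G) with hC
  set T : Subgroup G := Cfsg.pCoreOf p M with hT
  have hTp : IsPGroup p T := isPGroup_pCoreOf M
  have hu : UniqueConj p T := uniqueConj_of_isWC hS2850.2.1
  have hCT : centralizer (T : Set G) ≤ T := hM.1.2
  obtain ⟨T₀, L₀, hT₀L₀, hchar, hYL₀⟩ := htall
  -- `T` is a Sylow subgroup of `C(Y)`
  have hSC : (S : Subgroup G) ≤ normalizer (C : Set G) :=
    hSM.trans (PReducedOf.le_normalizer_centralizer_largestPReducedOf M)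
  obtain ⟨S₀, hS₀⟩ := PClosed.exists_sylow_inf S hSC
  rw [← BasicProp.pCoreOf_eq_inf_centralizer S hSM hM.2.2.2.2.1] at hS₀
  obtain ⟨c, hc⟩ := MulAction.exists_smul_eq C S₀ T₀
  have hTc : T.map (MulAut.conj (c : G)).toMonoidHom = (T₀ : Subgroup C).map C.subtype := by
    rw [← hc, coe_map_smul_sylow, hS₀]
  set L : Subgroup G := L₀.map (MulAut.conj (c : G)⁻¹).toMonoidHom with hL
  have hTL : T ≤ L := by
    rw [hL, le_map_conj_iff, inv_inv, hTc]
    exact hT₀L₀
  have hLchar : centralizer (Cfsg.pCore p L : Set L) ≤ Cfsg.pCore p L :=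
    CharPOf.charP_map_conj _ hchar
  have hYc : Y.map (MulAut.conj (c : G)).toMonoidHom = Y := by
    apply mem_normalizer_iff_map.mp
    exact Subgroup.centralizer_le_normalizer _ c.2
  have hYL : ¬ Y ≤ Cfsg.pCoreOf p L := by
    intro h
    apply hYL₀
    have h1 := map_conj_mono (c : G) h
    rw [hYc, hL, ← pCoreOf_conj, map_conj_map_conj_inv] at h1
    exact h1
  -- minimal choice
  let 𝒮 : Set (Subgroup G) := {H | T ≤ H ∧ H ≤ L ∧ ¬ Y ≤ Cfsg.pCoreOf p H}
  have h𝒮 : 𝒮.Nonempty := ⟨L, hTL, le_rfl, hYL⟩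
  obtain ⟨H, hH⟩ := (Set.toFinite 𝒮).exists_minimal h𝒮
  refine ⟨H, CharPOf.charP_of_le hTp hu hCT hH.1.1 hH.1.2.1 hLchar, hH.1.1, hH.1.2.2, ?_⟩
  intro P hTP hPH
  by_contra hne
  have := hH.2 (y := P) ⟨hTP, hPH.le.trans hH.1.2.1, hne⟩ hPH.le
  exact absurd (le_antisymm hPH.le this) hPH.ne

end Cfsg.Agent.S2852
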