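import Cfsg.Statements.S2853
import Cfsg.Agent.S2850
import Cfsg.Agent.Lib.LocalStruct.FrakH

set_option autoImplicit false
open Cfsg

namespace Cfsg.Agent.S2853

open Subgroup Cfsg.Agent.Lib.LocalStruct Cfsg.Agent.Lib.LocalStruct.Basic Cfsg.Agent.Lib.LocalStruct.Comm Cfsg.Agent.Lib.LocalStruct.PCoreOf Cfsg.Agent.Lib.LocalStruct.WeakClosed
open scoped commutatorElement

/-- Standing hypotheses: G a finite group, S a Sylow p-subgroup, Q a nontrivial large p-subgroup of G contained in S, M a subgroup containing S with the basic property (M ∈ 𝔐_G(S)); Y_M the largest p-reduced normal subgroup of M and M† = M·C_G(Y_M). Suppose Y_M is char-p-tall and asymmetric in G and H ∈ ℌ_G(O_p(M)). Then every Sylow p-subgroup of H ∩ M† is a Sylow p-subgroup of H; O_p(H) normalizes O_p(M) and Y_M; O^p(H) = [O^p(H), Y_M] and H = O^p(H)·O_p(M); O^p(H)·Y_M is the normal closure of Y_M in H; and H is the normal closure of O_p(M) in H. Here O^p(H) is the subgroup generated by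 the elements of H of order prime to p. -/
theorem result {G : Type*} [Group G] [Finite G] {p : ℕ} [Fact p.Prime] (S : Sylow p G) (Q : Subgroup G) (hQp : IsPGroup p ↥Q) (hQ1 : Q ≠ ⊥) (hQS : Q ≤ (S : Subgroup G)) (hQ : Cfsg.IsLarge Q) (M : Subgroup G) (hSM : (S : Subgroup G) ≤ M) (hM : Cfsg.IsInFrakM p M) (htall : Cfsg.IsCharPTall p (Cfsg.largestPReducedOf p M)) (hasym : ¬ Cfsg.IsSymmetricIn (Cfsg.largestPReducedOf p M)) (H : Subgroup G) (hH : Cfsg.IsInFrakH p M H) (R : Subgroup G) (hR : R = (Cfsg.pResidual p ↥H).map H.subtype) : (∀ T : Sylow p ↥(H ⊓ (M ⊔ Subgroup.centralizer (((Cfsg.largestPReducedOf p M) : Subgroup G) : Set G))), ∃ P : Sylow p ↥H, ((P : Subgroup ↥H).map H.subtype) = (T : Subgroup ↥(H ⊓ (M ⊔ Subgroup.centralizer (((Cfsg.largestPReducedOf p M) : Subgroup G) : Set G)))).map (H ⊓ (M ⊔ Subgroup.centralizer (((Cfsg.largestPReducedOf p M) : Subgroup G) : Set G))).subtype) ∧ Cfsg.pCoreOf p H ≤ Subgroup.normalizer (((Cfsg.pCoreOf p M) : Subgroup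 G) : Set G) ⊓ Subgroup.normalizer (((Cfsg.largestPReducedOf p M) : Subgroup G) : Set G) ∧ ⁅R, (Cfsg.largestPReducedOf p M)⁆ = R ∧ R ⊔ (Cfsg.pCoreOf p M) = H ∧ R ⊔ (Cfsg.largestPReducedOf p M) = (Subgroup.normalClosure ((((Cfsg.largestPReducedOf p M)).subgroupOf H : Subgroup ↥H) : Set ↥H)).map H.subtype ∧ (Subgroup.normalClosure ((((Cfsg.pCoreOf p M)).subgroupOf H : Subgroup ↥H) : Set ↥H)).map H.subtype = H := by
  classical
  have hS2850 := Cfsg.Agent.S2850.result S Q hQp hQ1 hQS hQ M hSM hM hasym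
  obtain ⟨hChar, hTH, hYH, hmin⟩ := hH
  set Y : Subgroup G := Cfsg.largestPReducedOf p M with hY
  set C : Subgroup G := centralizer (Y : Set G) with hC
  set T : Subgroup G := Cfsg.pCoreOf p M with hT
  set D : Subgroup G := M ⊔ C with hD
  have hTp : IsPGroup p T := isPGroup_pCoreOf M
  have hTC : T ≤ C := PReducedOf.pCoreOf_le_centralizer M
  have hYT : Y ≤ T := PReducedOf.largestPReducedOf_le_pCoreOf M
  have hYab : Y ≤ centralizer (Y : Set G) := hYT.trans hTC
  have hTY : T ≤ normalizer (Y : Set G) := hTC.trans (Subgroup.centralizer_le_normalizer _)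
  have hDY : D ≤ normalizer (Y : Set G) :=
    sup_le (PReducedOf.le_normalizer_largestPReducedOf M) (Subgroup.centralizer_le_normalizer _)
  have hK : R = FrakH.resOf p H := hR
  subst hK
  refine ⟨?_, ?_, FrakH.comm_eq hTp hYab hTH hTY hYT hYH hmin, FrakH.resOf_sup_eq hTH hYH hmin,
    FrakH.sup_eq_normalClosure hTp hYab hTH hTY hYT hYH hmin, FrakH.normalClosure_eq hTH hYH hmin⟩
  · intro T' 
    obtain ⟨P₀, hP₀⟩ := hS2850.2.2.1 H hTH
    -- compare with a Sylow subgroup of `H` above the image of `T'`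
    have hp : IsPGroup p ((T' : Subgroup ↥(H ⊓ D)).map (H ⊓ D).subtype) := T'.isPGroup'.map _
    have hle : (T' : Subgroup ↥(H ⊓ D)).map (H ⊓ D).subtype ≤ H := by
      rintro _ ⟨x, -, rfl⟩
      exact x.2.1
    have hp' : IsPGroup p (((T' : Subgroup ↥(H ⊓ D)).map (H ⊓ D).subtype).subgroupOf H) :=
      hp.comap_of_injective H.subtype H.subtype_injective
    obtain ⟨P, hP⟩ := hp'.exists_le_sylow
    refine ⟨P, ?_⟩
    have hP1 : (T' : Subgroup ↥(H ⊓ D)).map (H ⊓ D).subtype ≤ (P : Subgroup H).map H.subtype := by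
      have := Subgroup.map_mono (f := H.subtype) hP
      rwa [Subgroup.map_subgroupOf_eq_of_le hle] at this
    symm
    apply Subgroup.eq_of_le_of_card_ge hP1
    -- `|P| = |P₀| ≤ |T'|`
    have hP₀le : (P₀ : Subgroup H).map H.subtype ≤ H ⊓ D := by
      rintro _ ⟨x, hx, rfl⟩
      have := hP₀ hx
      rw [Subgroup.mem_subgroupOf] at this
      exact this
    have hP₀p : IsPGroup p (((P₀ : Subgroup H).map H.subtype).subgroupOf (H ⊓ D)) :=
      (P₀.isPGroup'.map H.subtype).comap_of_injective (H ⊓ D).subtype (H ⊓ D).subtype_injective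
    obtain ⟨T₂, hT₂⟩ := hP₀p.exists_le_sylow
    have hc1 : Nat.card (T₂ : Subgroup ↥(H ⊓ D)) = Nat.card (T' : Subgroup ↥(H ⊓ D)) := by
      rw [Sylow.card_eq_multiplicity, Sylow.card_eq_multiplicity]
    have hc2 : Nat.card (P : Subgroup H) = Nat.card (P₀ : Subgroup H) := by
      rw [Sylow.card_eq_multiplicity, Sylow.card_eq_multiplicity]
    have hc3 : Nat.card (((P₀ : Subgroup H).map H.subtype).subgroupOf (H ⊓ D)) ≤ Nat.card (T₂ : Subgroup ↥(H ⊓ D)) :=
      Subgroup.card_le_of_le hT₂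
    have hc4 : Nat.card (((P₀ : Subgroup H).map H.subtype).subgroupOf (H ⊓ D)) = Nat.card (P₀ : Subgroup H) := by
      rw [Nat.card_congr (Subgroup.subgroupOfEquivOfLe hP₀le).toEquiv,
        Subgroup.card_map_of_injective H.subtype_injective]
    rw [Subgroup.card_map_of_injective H.subtype_injective, Subgroup.card_map_of_injective (H ⊓ D).subtype_injective]
    omega
  · have hL : IsPGroup p (Cfsg.pCoreOf p H ⊔ T : Subgroup G) :=
      IsPGroup.to_sup_of_normal_left' (isPGroup_pCoreOf H) hTp (hTH.trans (le_normalizer_pCoreOf H))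
    have h1 := (hS2850.1 _ hL le_sup_right).1
    have h2 : Cfsg.pCoreOf p H ≤ normalizer ((Cfsg.pCoreOf p H ⊔ T : Subgroup G) : Set G) :=
      le_sup_left.trans Subgroup.le_normalizer
    have h3 := (h2.trans h1)
    exact le_inf h3 (h3.trans ((hS2850.1 _ hTp le_rfl).2.trans hDY))

end Cfsg.Agent.S2853
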