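import Cfsg.Statements.S2854
import Cfsg.Agent.S2850
import Cfsg.Agent.Lib.LocalStruct.FrakH2

set_option autoImplicit false
open Cfsg

namespace Cfsg.Agent.S2854

open Subgroup Cfsg.Agent.Lib.LocalStruct Cfsg.Agent.Lib.LocalStruct.Basic Cfsg.Agent.Lib.LocalStruct.Comm Cfsg.Agent.Lib.LocalStruct.PCoreOf Cfsg.Agent.Lib.LocalStruct.WeakClosed
open scoped commutatorElement

/-- Standing hypotheses: G a finite group, S a Sylow p-subgroup, Q a nontrivial large p-subgroup of G contained in S, M a subgroup containing S with the basic property (M ∈ 𝔐_G(S)); Y_M the largest p-reduced normal subgroup of M and M† = M·C_G(Y_M). Suppose Y_M is asymmetric in G, H ∈ ℌ_G(O_p(M)), and H ≤ N_G(gQg⁻¹) for some g ∈ G. Then gQg⁻¹ ≤ O_p(H·gQg⁻¹) ≤ N_G(O_p(M)) ≤ N_G(Y_M) = M†; H is normal in H·gQg⁻¹ with O^p(H) = O^p(H·gQg⁻¹); and H·gQg⁻¹ is p-irreducible. -/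
theorem result {G : Type*} [Group G] [Finite G] {p : ℕ} [Fact p.Prime] (S : Sylow p G) (Q : Subgroup G) (hQp : IsPGroup p ↥Q) (hQ1 : Q ≠ ⊥) (hQS : Q ≤ (S : Subgroup G)) (hQ : Cfsg.IsLarge Q) (M : Subgroup G) (hSM : (S : Subgroup G) ≤ M) (hM : Cfsg.IsInFrakM p M) (hasym : ¬ Cfsg.IsSymmetricIn (Cfsg.largestPReducedOf p M)) (H : Subgroup G) (hH : Cfsg.IsInFrakH p M H) (g : G) (hHQ : H ≤ Subgroup.normalizer ((((Q : Subgroup G).map (MulAut.conj (g : G)).toMonoidHom) : Subgroup G) : Set G)) : ((Q : Subgroup G).map (MulAut.conj (g : G)).toMonoidHom) ≤ Cfsg.pCoreOf p (H ⊔ ((Q : Subgroup G).map (MulAut.conj (g : G)).toMonoidHom)) ∧ Cfsg.pCoreOf p (H ⊔ ((Q : Subgroup G).map (MulAut.conj (g : G)).toMonoidHom)) ≤ Subgroup.normalizer (((Cfsg.pCoreOf p M) : Subgroup G) : Set G) ∧ Subgroup.normalizer (((Cfsg.pCoreOf p M) : Subgroup G) : Set G) ≤ Subgroup.normalizer (((Cfsg.largestPReducedOf p M) : Subgroup G) : Set G) ∧ Subgroup.normalizer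 (((Cfsg.largestPReducedOf p M) : Subgroup G) : Set G) = (M ⊔ Subgroup.centralizer (((Cfsg.largestPReducedOf p M) : Subgroup G) : Set G)) ∧ (H.subgroupOf (H ⊔ ((Q : Subgroup G).map (MulAut.conj (g : G)).toMonoidHom))).Normal ∧ (Cfsg.pResidual p ↥H).map H.subtype = (Cfsg.pResidual p ↥(H ⊔ ((Q : Subgroup G).map (MulAut.conj (g : G)).toMonoidHom))).map (H ⊔ ((Q : Subgroup G).map (MulAut.conj (g : G)).toMonoidHom)).subtype ∧ Cfsg.IsPIrreducible p ↥(H ⊔ ((Q : Subgroup G).map (MulAut.conj (g : G)).toMonoidHom)) := by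
  classical
  have hS2850 := Cfsg.Agent.S2850.result S Q hQp hQ1 hQS hQ M hSM hM hasym
  obtain ⟨hChar, hTH, hYH, hmin⟩ := hH
  set Y : Subgroup G := Cfsg.largestPReducedOf p M with hY
  set C : Subgroup G := centralizer (Y : Set G) with hC
  set T : Subgroup G := Cfsg.pCoreOf p M with hT
  set D : Subgroup G := M ⊔ C with hD
  set Q' : Subgroup G := Q.map (MulAut.conj g).toMonoidHom with hQ'
  have hTp : IsPGroup p T := isPGroup_pCoreOf M
  have hTC : T ≤ C := PReducedOf.pCoreOf_le_centralizer M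
  have hYT : Y ≤ T := PReducedOf.largestPReducedOf_le_pCoreOf M
  have hYab : Y ≤ centralizer (Y : Set G) := hYT.trans hTC
  have hTY : T ≤ normalizer (Y : Set G) := hTC.trans (Subgroup.centralizer_le_normalizer _)
  have hMY : M ≤ normalizer (Y : Set G) := PReducedOf.le_normalizer_largestPReducedOf M
  have hDY : D ≤ normalizer (Y : Set G) :=
    sup_le hMY (Subgroup.centralizer_le_normalizer _)
  have hY1 : Y ≠ ⊥ := FrakH2.largestPReducedOf_ne_bot S hSM hM.1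
  have hQ'p : IsPGroup p Q' := isPGroup_map_conj g hQp
  have hHsQ : H ⊔ Q' ≤ normalizer (Q' : Set G) := sup_le hHQ Subgroup.le_normalizer
  have h1 : Q' ≤ Cfsg.pCoreOf p (H ⊔ Q') := le_pCoreOf le_sup_right hHsQ hQ'p
  have hL : IsPGroup p (Cfsg.pCoreOf p (H ⊔ Q') ⊔ T : Subgroup G) :=
    IsPGroup.to_sup_of_normal_left' (isPGroup_pCoreOf _) hTp
      ((hTH.trans le_sup_left).trans (le_normalizer_pCoreOf _))
  have h2 : Cfsg.pCoreOf p (H ⊔ Q') ≤ normalizer (T : Set G) :=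
    (le_sup_left.trans Subgroup.le_normalizer).trans (hS2850.1 _ hL le_sup_right).1
  have hQ'T : Q' ≤ normalizer (T : Set G) := h1.trans h2
  have hQ'H : Q' ≤ normalizer (H : Set G) := FrakH2.le_normalizer_of (p := p) hTH hYH hmin hHQ hQ'T
  have hHsH : H ⊔ Q' ≤ normalizer (H : Set G) := sup_le Subgroup.le_normalizer hQ'H
  refine ⟨h1, h2, (hS2850.1 _ hTp le_rfl).2.trans hDY, ?_, ?_, ?_, ?_⟩
  · exact le_antisymm (FrakM.normalizer_le_dagger hQp hQ1 hQ S hSM hM hMY (hTp.to_le hYT) hY1) hDY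
  · exact (FrakH.normal_subgroupOf_iff le_sup_left).mpr hHsH
  · exact FrakH2.resOf_eq_of_normal le_sup_left hHsH hQ'p le_sup_right rfl
  · exact FrakH2.isPIrreducible_sup hTp hYab hTH hTY hYT hYH hmin hQ'p hHQ hQ'H

end Cfsg.Agent.S2854
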