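import Cfsg.Statements.S2855
import Cfsg.Agent.Lib.LocalStruct.TransFam2

set_option autoImplicit false
open Cfsg

namespace Cfsg.Agent.S2855

open Subgroup Cfsg.Agent.Lib.Core.Basic Cfsg.Agent.Lib.Core.Residual Cfsg.Agent.Lib.LocalStruct Cfsg.Agent.Lib.LocalStruct.Basic Cfsg.Agent.Lib.LocalStruct.Comm Cfsg.Agent.Lib.LocalStruct.PCoreOf Cfsg.Agent.Lib.LocalStruct.PClosed Cfsg.Agent.Lib.LocalStruct.WeakClosed Cfsg.Agent.Lib.LocalStruct.Large2 Cfsg.Agent.Lib.LocalStruct.WeakFact Cfsg.Agent.Lib.LocalStruct.TransFam Cfsg.Agent.Lib.LocalStruct.TransFam2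
open scoped commutatorElement

/-- Let H be a finite group, p a prime, and 𝒦 a nonempty set of subgroups of H permuted transitively by conjugation, with R the subgroup generated by the members of 𝒦. Suppose O^p(H) ≤ R, each E ∈ 𝒦 has E·O_p(H) normal in R·O_p(H), and each E ∈ 𝒦 is p-minimal (generated by the conjugates of a Sylow p-subgroup T_E of E, with T_E in exactly one maximal subgroup of E). Then H is p-minimal in the same sense. If instead each E ∈ 𝒦 is strongly p-irreducible, then H is p-irreducible and, for E, K ∈ 𝒦, either O^p(E·O_p(H)) = O^p(K·O_p(H)) or [E, K] ≤ O_p(H). -/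
theorem result {H : Type*} [Group H] [Finite H] {p : ℕ} [Fact p.Prime] (𝒦 : Set (Subgroup H)) (hne : 𝒦.Nonempty) (hinv : ∀ h : H, ∀ E ∈ 𝒦, E.map (MulAut.conj h).toMonoidHom ∈ 𝒦) (htr : ∀ E ∈ 𝒦, ∀ K ∈ 𝒦, ∃ h : H, K = E.map (MulAut.conj h).toMonoidHom) (hres : Cfsg.pResidual p H ≤ sSup 𝒦) (hnorm : ∀ E ∈ 𝒦, sSup 𝒦 ⊔ Cfsg.pCore p H ≤ Subgroup.normalizer ((E ⊔ Cfsg.pCore p H : Subgroup H) : Set H)) : ((∀ E ∈ 𝒦, ∀ T : Sylow p ↥E, Cfsg.IsMinimalOver (T : Subgroup ↥E)) → ∀ T : Sylow p H, Cfsg.IsMinimalOver (T : Subgroup H)) ∧ ((∀ E ∈ 𝒦, Cfsg.IsStronglyPIrreducible p ↥E) → Cfsg.IsPIrreducible p H ∧ ∀ E ∈ 𝒦, ∀ K ∈ 𝒦, (Cfsg.pResidual p ↥(E ⊔ Cfsg.pCore p H)).map (E ⊔ Cfsg.pCore p H).subtype = (Cfsg.pResidual p ↥(K ⊔ Cfsg.pCore p H)).map (K ⊔ Cfsg.pCore p H).subtype ∨ ⁅E, K⁆ ≤ Cfsg.pCore p H) := by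
  refine ⟨fun hmin T => part1 hne hinv htr hres hnorm hmin T, fun hSIr => ?_⟩
  set O : Subgroup H := pCore p H with hO
  set R : Subgroup H := sSup 𝒦 with hR
  have hOn : O.Normal := Cfsg.pCore_normal p H
  have hOp : IsPGroup p O := pCore_isPGroup
  set π := QuotientGroup.mk' O with hπ
  have hsurj : Function.Surjective π := QuotientGroup.mk'_surjective _
  have hkerπ : π.ker = O := QuotientGroup.ker_mk' O
  have hOmap : O.map π = ⊥ := QuotientGroup.map_mk'_self O
  have hmapsup : ∀ E : Subgroup H, (E ⊔ O).map π = E.map π := by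
    intro E
    rw [Subgroup.map_sup, hOmap, sup_bot_eq]
  set 𝒦' : Set (Subgroup (H ⧸ O)) := (Subgroup.map π) '' 𝒦 with h𝒦'
  have hinv' : ∀ h : H ⧸ O, ∀ E ∈ 𝒦', E.map (MulAut.conj h).toMonoidHom ∈ 𝒦' := by
    rintro b _ ⟨E, hE, rfl⟩
    obtain ⟨h, rfl⟩ := hsurj b
    exact ⟨_, hinv h E hE, map_mk_conj O h E⟩
  have hnorm' : ∀ E ∈ 𝒦', sSup 𝒦' ≤ normalizer (E : Set (H ⧸ O)) := by
    rintro _ ⟨E, hE, rfl⟩
    apply sSup_le
    rintro _ ⟨K, hK, rfl⟩
    have h1 : K ≤ normalizer ((E ⊔ O : Subgroup H) : Set H) :=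
      (le_sSup hK).trans (le_sup_left.trans (hnorm E hE))
    have h2 := (Subgroup.map_mono h1).trans (Subgroup.le_normalizer_map π)
    rwa [hmapsup] at h2
  have hRn' : (sSup 𝒦').Normal := sSup_normal hinv'
  have hsubn : ∀ E ∈ 𝒦, (E.map π).IsSubnormal := by
    intro E hE
    have hle : E.map π ≤ sSup 𝒦' := le_sSup ⟨E, hE, rfl⟩
    exact Subgroup.IsSubnormal.step _ (sSup 𝒦') hle hRn'.isSubnormal
      ((FrakH.normal_subgroupOf_iff hle).mpr (hnorm' _ ⟨E, hE, rfl⟩))
  have hpc : ∀ E ∈ 𝒦, pCoreOf p E ≤ O := by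
    intro E hE
    have h1 : (pCoreOf p E).map π ≤ pCoreOf p (E.map π) := by
      apply le_pCoreOf
      · exact Subgroup.map_mono (pCoreOf_le E)
      · exact (Subgroup.map_mono (le_normalizer_pCoreOf E)).trans (Subgroup.le_normalizer_map π)
      · exact (isPGroup_pCoreOf E).map π
    have h2 : pCoreOf p (E.map π) ≤ pCore p (H ⧸ O) := map_pCore_le_of_isSubnormal (hsubn E hE)
    have h3 := h1.trans h2
    rw [pCore_quotient_eq_bot, le_bot_iff, Subgroup.map_eq_bot_iff, hkerπ] at h3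
    exact h3
  have hClean : CleanHyp p 𝒦' := by
    refine ⟨hinv', ?_, ?_, hnorm', pCore_quotient_eq_bot, ?_, ?_⟩
    · rintro _ ⟨E, hE, rfl⟩ _ ⟨K, hK, rfl⟩
      obtain ⟨h, rfl⟩ := htr E hE K hK
      exact ⟨π h, map_mk_conj O h E⟩
    · rw [← map_pResidual_of_surjective (p := p) π hsurj, Subgroup.map_le_iff_le_comap]
      refine hres.trans (sSup_le fun E hE => ?_)
      rw [← Subgroup.map_le_iff_le_comap]
      exact le_sSup ⟨E, hE, rfl⟩
    · rintro _ ⟨E, hE, rfl⟩ N hNE hEN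
      have hNn : ((E ⊓ N.comap π).subgroupOf E).Normal := by
        apply (FrakH.normal_subgroupOf_iff inf_le_left).mpr
        intro e he
        apply mem_normalizer_of_conj_mem
        rintro x ⟨hx1, hx2⟩
        refine ⟨E.mul_mem (E.mul_mem he hx1) (E.inv_mem he), ?_⟩
        have hx3 : π x ∈ N := hx2
        show π (e * x * e⁻¹) ∈ N
        have h1 : π e ∈ normalizer (N : Set (H ⧸ O)) := hEN ⟨e, he, rfl⟩
        have h2 := conj_mem_of_mem_normalizer h1 hx3
        simpa using h2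
      by_cases hc : ⁅(E ⊓ N.comap π).subgroupOf E, (⊤ : Subgroup ↥E)⁆ ≤ pCore p ↥E
      · left
        rw [commutator_eq_bot_iff_forall]
        intro a ha b hb
        obtain ⟨n, hn, rfl⟩ := hNE ha
        obtain ⟨e, he, rfl⟩ := hb
        have h1 : (⟨n, hn⟩ : ↥E) ∈ (E ⊓ N.comap π).subgroupOf E :=
          Subgroup.mem_subgroupOf.mpr ⟨hn, ha⟩
        have h2 := hc (Subgroup.commutator_mem_commutator h1 (Subgroup.mem_top (⟨e, he⟩ : ↥E)))
        have h3 : ⁅n, e⁆ ∈ O := hpc E hE ⟨_, h2, rfl⟩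
        have h4 : π ⁅n, e⁆ = 1 := by
          rw [hπ, QuotientGroup.mk'_apply, QuotientGroup.eq_one_iff]
          exact h3
        rw [map_commutatorElement, commutatorElement_eq_one_iff_commute] at h4
        exact h4
      · right
        have h1 := (hSIr E hE).2 _ hNn hc
        have e : FrakH.resOf p (E.map π) = (FrakH.resOf p E).map π := (map_resOf π E).symm
        rw [e, Subgroup.map_le_iff_le_comap]
        rintro _ ⟨x, hx, rfl⟩
        exact (Subgroup.mem_subgroupOf.mp (h1 hx)).2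
    · rintro _ ⟨E, hE, rfl⟩ hcl
      apply (hSIr E hE).1
      refine isPClosed_of_ker (π.subgroupMap E) ?_ hcl
      refine IsPGroup.to_le (hOp.comap_of_injective E.subtype E.subtype_injective) ?_
      intro x hx
      have h1 : π x = 1 := congrArg Subtype.val hx
      rw [hπ, QuotientGroup.mk'_apply, QuotientGroup.eq_one_iff] at h1
      exact Subgroup.mem_subgroupOf.mpr h1
  refine ⟨⟨?_, ?_⟩, ?_⟩
  · intro hcl
    obtain ⟨E, hE⟩ := hne
    exact (hSIr E hE).1 (isPClosed_subgroup E hcl)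
  · intro N hNn hN
    have h1 : ¬ IsPClosed p ↥(N.map π) := by
      intro hcl
      apply hN
      refine isPClosed_of_ker (π.subgroupMap N) ?_ hcl
      refine IsPGroup.to_le (hOp.comap_of_injective N.subtype N.subtype_injective) ?_
      intro x hx
      have h1 : π x = 1 := congrArg Subtype.val hx
      rw [hπ, QuotientGroup.mk'_apply, QuotientGroup.eq_one_iff] at h1
      exact Subgroup.mem_subgroupOf.mpr h1
    have h2 := hClean.irreducible (N.map π) (hNn.map π hsurj) h1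
    rw [← map_pResidual_of_surjective (p := p) π hsurj, Subgroup.map_le_iff_le_comap,
      Subgroup.comap_map_eq, hkerπ] at h2
    have hY : FrakH.resOf p (pResidual p H) = pResidual p H := by
      show (pResidual p ↥(pResidual p H)).map _ = _
      rw [Cfsg.Agent.Lib.Core.Residual.pResidual_pResidual, ← MonoidHom.range_eq_map,
        Subgroup.range_subtype]
    refine le_of_resOf_eq_of_le_sup hY hOp ?_ h2
    rw [Subgroup.normalizer_eq_top_iff.mpr hNn]
    exact le_top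
  · intro E hE K hK
    have hle : ∀ {E K : Subgroup H}, FrakH.resOf p (E.map π) = FrakH.resOf p (K.map π) →
        FrakH.resOf p (E ⊔ O) ≤ FrakH.resOf p (K ⊔ O) := by
      intro E K he
      have h1 : (FrakH.resOf p (E ⊔ O)).map π = (FrakH.resOf p (K ⊔ O)).map π := by
        rw [map_resOf, map_resOf, hmapsup, hmapsup]
        exact he
      have h2 := Subgroup.le_comap_map π (FrakH.resOf p (E ⊔ O))
      rw [h1, Subgroup.comap_map_eq, hkerπ] at h2
      refine le_of_resOf_eq_of_le_sup (resOf_resOf _) hOp ?_ h2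
      exact le_sup_right.trans (FrakH.le_normalizer_resOf _)
    rcases hClean.dichotomy ⟨E, hE, rfl⟩ ⟨K, hK, rfl⟩ with h1 | h1
    · exact Or.inl (le_antisymm (hle h1) (hle h1.symm))
    · right
      rw [← Subgroup.map_commutator, Subgroup.map_eq_bot_iff, hkerπ] at h1
      exact h1

end Cfsg.Agent.S2855
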