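import Cfsg.Statements.S2859
import Cfsg.Agent.Lib.LocalStruct.WeakFact
import Cfsg.Agent.Lib.LocalStruct.BasicProp

set_option autoImplicit false
open Cfsg

namespace Cfsg.Agent.S2859

open Subgroup Cfsg.Agent.Lib.LocalStruct Cfsg.Agent.Lib.LocalStruct.Basic Cfsg.Agent.Lib.LocalStruct.Comm Cfsg.Agent.Lib.LocalStruct.PCoreOf Cfsg.Agent.Lib.LocalStruct.WeakClosed Cfsg.Agent.Lib.LocalStruct.Large2 Cfsg.Agent.Lib.LocalStruct.WeakFact
open scoped commutatorElement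

/-- Let Q be a nontrivial p-subgroup of the finite group H that is a weakly closed subgroup, H° the weak closure of Q in H (generated by the conjugates of Q) and H_∘ = O^p(H°). Suppose H₁, H₂ are normal subgroups of H° with H° = H₁H₂ and [H₁, H₂] ≤ N_H(Q), and put Kᵢ = O^p of the weak closure of Q in HᵢQ. Then for i = 1, 2: Kᵢ = [Kᵢ, Q] = [Kᵢ, Hᵢ] ≤ Hᵢ′ and Kᵢ is normal in H°; H_∘ = K₁K₂; and [K₁, K₂] ≤ O_p(H°). -/
theorem result {G : Type*} [Group G] [Finite G] {p : ℕ} [Fact p.Prime] (Q : Subgroup G) (hQp : IsPGroup p ↥Q) (hQ1 : Q ≠ ⊥) (hwc : Cfsg.IsWeaklyClosedSubgroup p Q) (Hc : Subgroup G) (hHc : Hc = Cfsg.weakClosure Q ⊤) (H₁ H₂ : Subgroup G) (hn₁ : H₁ ≤ Hc ∧ Hc ≤ Subgroup.normalizer ((H₁ : Subgroup G) : Set G)) (hn₂ : H₂ ≤ Hc ∧ Hc ≤ Subgroup.normalizer ((H₂ : Subgroup G) : Set G)) (hprod : H₁ ⊔ H₂ = Hc) (hcomm : ⁅H₁, H₂⁆ ≤ Subgroup.normalizer ((Q : Subgroup G) : Set G)) (K₁ K₂ : Subgroup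 G) (hK₁ : K₁ = ((Cfsg.pResidual p ↥(Cfsg.weakClosure Q (H₁ ⊔ Q))).map ((Cfsg.weakClosure Q (H₁ ⊔ Q))).subtype)) (hK₂ : K₂ = ((Cfsg.pResidual p ↥(Cfsg.weakClosure Q (H₂ ⊔ Q))).map ((Cfsg.weakClosure Q (H₂ ⊔ Q))).subtype)) : (⁅K₁, Q⁆ = K₁ ∧ ⁅K₁, H₁⁆ = K₁ ∧ K₁ ≤ ⁅H₁, H₁⁆ ∧ Hc ≤ Subgroup.normalizer ((K₁ : Subgroup G) : Set G)) ∧ (⁅K₂, Q⁆ = K₂ ∧ ⁅K₂, H₂⁆ = K₂ ∧ K₂ ≤ ⁅H₂, H₂⁆ ∧ Hc ≤ Subgroup.normalizer ((K₂ : Subgroup G) : Set G)) ∧ K₁ ⊔ K₂ = ((Cfsg.pResidual p ↥Hc).map (Hc).subtype) ∧ ⁅K₁, K₂⁆ ≤ (Cfsg.pCoreOf p Hc) := by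
  have hu := uniqueConj_of_isWC hwc
  subst hHc
  set Hc : Subgroup G := Cfsg.weakClosure Q ⊤ with hHc
  have hQHc : Q ≤ Hc := le_weakClosure le_top
  set ι := Hc.subtype with hι
  have hινj : Function.Injective ι := Hc.subtype_injective
  set Q' : Subgroup ↥Hc := Q.subgroupOf Hc with hQ'
  set A : Subgroup ↥Hc := H₁.subgroupOf Hc with hA
  set B : Subgroup ↥Hc := H₂.subgroupOf Hc with hB
  have hQ'p : IsPGroup p ↥Q' := isPGroup_subgroupOf hQp Hc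
  have hu' : UniqueConj p Q' := uniqueConj_of_isWC (hu.subgroupOf hQp hQHc)
  haveI hAn : A.Normal := (FrakH.normal_subgroupOf_iff hn₁.1).mpr hn₁.2
  haveI hBn : B.Normal := (FrakH.normal_subgroupOf_iff hn₂.1).mpr hn₂.2
  have mQ' : Q'.map ι = Q := Subgroup.map_subgroupOf_eq_of_le hQHc
  have mA : A.map ι = H₁ := Subgroup.map_subgroupOf_eq_of_le hn₁.1
  have mB : B.map ι = H₂ := Subgroup.map_subgroupOf_eq_of_le hn₂.1
  have htop : (⊤ : Subgroup ↥Hc).map ι = Hc := by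
    rw [← MonoidHom.range_eq_map, Subgroup.range_subtype]
  have hsup : A ⊔ B = ⊤ := by
    apply Subgroup.map_injective hινj
    rw [Subgroup.map_sup, mA, mB, hprod, htop]
  have hD : ⁅A, B⁆ ≤ normalizer ((Q' : Subgroup ↥Hc) : Set ↥Hc) := by
    intro x hx
    have hx2 : (x : G) ∈ ⁅H₁, H₂⁆ := by
      rw [← mA, ← mB, ← Subgroup.map_commutator]
      exact ⟨x, hx, rfl⟩
    apply mem_normalizer_of_conj_mem
    intro y hy
    rw [hQ', Subgroup.mem_subgroupOf] at hy ⊢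
    simpa using conj_mem_of_mem_normalizer (hcomm hx2) hy
  have hgen : ∀ N : Subgroup ↥Hc, N.Normal → Q' ≤ N → N = ⊤ := by
    intro N hN hQN
    apply Subgroup.map_injective hινj
    rw [htop]
    apply le_antisymm (by rintro _ ⟨x, -, rfl⟩; exact x.2)
    have hQN2 : Q ≤ N.map ι := by
      rw [← mQ']; exact Subgroup.map_mono hQN
    apply weakClosure_le
    intro g hg
    obtain ⟨k, hk, e⟩ := hu.exists_conj_of_le hQp hQHc (conj_le_weakClosure hg)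
    rw [e]
    have hkn : k ∈ normalizer ((N.map ι : Subgroup G) : Set G) :=
      FrakH.le_normalizer_map_subtype N hk
    calc _ ≤ (N.map ι).map (MulAut.conj k).toMonoidHom := map_conj_mono k hQN2
      _ = N.map ι := mem_normalizer_iff_map.mp hkn
  have key : ∀ L : Subgroup ↥Hc, Q' ≤ L → (weakClosure Q' L).map ι = weakClosure Q (L.map ι) := by
    intro L hQL
    have hQL2 : Q ≤ L.map ι := by
      rw [← mQ']; exact Subgroup.map_mono hQL
    apply le_antisymm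
    · rw [Subgroup.map_le_iff_le_comap]
      apply weakClosure_le
      intro g hg
      rw [← Subgroup.map_le_iff_le_comap]
      have e := Cfsg.Agent.Lib.LocalStruct.BasicProp.map_subtype_conj_subgroupOf hQHc g
      have hg2 : Q.map (MulAut.conj (g : G)).toMonoidHom ≤ L.map ι := by
        rw [← e]; exact Subgroup.map_mono hg
      show ((Q.subgroupOf Hc).map (MulAut.conj g).toMonoidHom).map Hc.subtype ≤ _
      rw [e]
      exact conj_le_weakClosure hg2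
    · apply weakClosure_le
      intro g hg
      obtain ⟨k, hk, e⟩ := hu.exists_conj_of_le hQp hQL2 hg
      obtain ⟨k', hk', rfl⟩ := hk
      rw [e]
      have hk2 : Q'.map (MulAut.conj k').toMonoidHom ≤ L := conj_le_of_mem hQL hk'
      have e3 := Subgroup.map_mono (f := ι) (conj_le_weakClosure hk2)
      rwa [Cfsg.Agent.Lib.LocalStruct.BasicProp.map_subtype_conj_subgroupOf hQHc k'] at e3
  have mK : ∀ {C : Subgroup ↥Hc} {H : Subgroup G}, C.map ι = H →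
      (FrakH.resOf p (weakClosure Q' (C ⊔ Q'))).map ι = FrakH.resOf p (weakClosure Q (H ⊔ Q)) := by
    intro C H hC
    rw [map_resOf, key _ le_sup_right, Subgroup.map_sup, hC, mQ']
  obtain ⟨a1, a2, a3, a4, a5⟩ := core_side (H₁ := A) (H₂ := B) hQ'p hu' hsup hD hgen
  obtain ⟨b1, b2, b3, b4, b5⟩ := core_side (H₁ := B) (H₂ := A) hQ'p hu' (by rwa [sup_comm])
    (by rwa [Subgroup.commutator_comm]) hgen
  have hs := core_sup (H₁ := A) (H₂ := B) hQ'p hu' hsup hgen a4 b4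
  have m1 : (FrakH.resOf p (weakClosure Q' (A ⊔ Q'))).map ι = K₁ := by rw [hK₁]; exact mK mA
  have m2 : (FrakH.resOf p (weakClosure Q' (B ⊔ Q'))).map ι = K₂ := by rw [hK₂]; exact mK mB
  set K₁' : Subgroup ↥Hc := FrakH.resOf p (weakClosure Q' (A ⊔ Q')) with hK₁'
  set K₂' : Subgroup ↥Hc := FrakH.resOf p (weakClosure Q' (B ⊔ Q')) with hK₂'
  have transfer : ∀ {C D : Subgroup ↥Hc} {C' D' : Subgroup G}, C.map ι = C' → D.map ι = D' →
      ⁅C', D'⁆ = (⁅C, D⁆).map ι := by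
    intro C D C' D' hC hD
    rw [Subgroup.map_commutator, hC, hD]
  refine ⟨⟨?_, ?_, ?_, ?_⟩, ⟨?_, ?_, ?_, ?_⟩, ?_, ?_⟩
  · rw [transfer m1 mQ', a1, m1]
  · rw [transfer m1 mA, a2, m1]
  · rw [transfer mA mA, ← m1]; exact Subgroup.map_mono a3
  · rw [← m1]; exact FrakH.le_normalizer_map_subtype K₁'
  · rw [transfer m2 mQ', b1, m2]
  · rw [transfer m2 mB, b2, m2]
  · rw [transfer mB mB, ← m2]; exact Subgroup.map_mono b3
  · rw [← m2]; exact FrakH.le_normalizer_map_subtype K₂'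
  · rw [← m1, ← m2, ← Subgroup.map_sup, hs]
  · rw [transfer m1 m2, pCoreOf_eq_map]
    apply Subgroup.map_mono
    refine le_trans ?_ a5
    refine Subgroup.commutator_mono a3 ?_
    exact b3.trans (Subgroup.commutator_le_left B B)

end Cfsg.Agent.S2859
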