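import Cfsg.Statements.S2860
import Cfsg.Agent.Lib.LocalStruct.LargeQS

set_option autoImplicit false
open Cfsg

namespace Cfsg.Agent.S2860

open Subgroup Cfsg.Agent.Lib.Core.Basic Cfsg.Agent.Lib.LocalStruct Cfsg.Agent.Lib.LocalStruct.Basic Cfsg.Agent.Lib.LocalStruct.Comm Cfsg.Agent.Lib.LocalStruct.PCoreOf Cfsg.Agent.Lib.LocalStruct.WeakClosed Cfsg.Agent.Lib.LocalStruct.Large2 Cfsg.Agent.Lib.LocalStruct.WeakFact Cfsg.Agent.Lib.LocalStruct.LargeQS
open scoped commutatorElement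

/-- Let Q be a nontrivial large p-subgroup of the finite group H, U a nontrivial elementary abelian p-subgroup of H, and Q ≤ E ≤ N_H(U) with Q not normal in E. Suppose O_p(E/C_E(U)) = 1 and O^p(E)·C_E(U)/C_E(U) is quasisimple. Let E° be the weak closure of Q in E (generated by the conjugates of Q inside E) and E_∘ = O^p(E°). Then O^p(E)·C_E(U) = E_∘·C_E(U); E_∘ is perfect and equals O^p(E_∘); E_∘/C_{E_∘}(U) and E_∘/O_p(E_∘) are quasisimple; and E_∘ = [E_∘, Y] for every p-subgroup Y of E not centralizing U. -/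
theorem result {G : Type*} [Group G] [Finite G] {p : ℕ} [Fact p.Prime] (Q : Subgroup G) (hQp : IsPGroup p ↥Q) (hQ1 : Q ≠ ⊥) (hQ : Cfsg.IsLarge Q) (U : Subgroup G) (hU : Cfsg.IsElementaryAbelian p U) (hU1 : U ≠ ⊥) (E : Subgroup G) (hQE : Q ≤ E) (hEU : E ≤ Subgroup.normalizer ((U : Subgroup G) : Set G)) (hQn : ¬ E ≤ Subgroup.normalizer ((Q : Subgroup G) : Set G)) [hn : ((Subgroup.centralizer ((U : Subgroup G) : Set G)).subgroupOf E).Normal] (hred : Cfsg.pCore p (↥E ⧸ (Subgroup.centralizer ((U : Subgroup G) : Set G)).subgroupOf E) = ⊥) (hqs : Cfsg.IsQuasisimple ↥(((Cfsg.pResidual p ↥E) ⊔ (Subgroup.centralizer ((U : Subgroup G) : Set G)).subgroupOf E).map (QuotientGroup.mk' ((Subgroup.centralizer ((U : Subgroup G) : Set G)).subgroupOf E)))) (Er : Subgroup G) (hEr : Er = ((Cfsg.pResidual p ↥(Cfsg.weakClosure Q E)).map ((Cfsg.weakClosure Q E)).subtype)) [hn2 : ((Subgroup.centralizer ((U : Subgroup G) : Set G)).subgroupOf Er).Normal] : ((Cfsg.pResidual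 p ↥E).map (E).subtype) ⊔ (E ⊓ Subgroup.centralizer ((U : Subgroup G) : Set G)) = Er ⊔ (E ⊓ Subgroup.centralizer ((U : Subgroup G) : Set G)) ∧ ⁅Er, Er⁆ = Er ∧ ((Cfsg.pResidual p ↥Er).map (Er).subtype) = Er ∧ Cfsg.IsQuasisimple (↥Er ⧸ (Subgroup.centralizer ((U : Subgroup G) : Set G)).subgroupOf Er) ∧ Cfsg.IsQuasisimple (↥Er ⧸ Cfsg.pCore p ↥Er) ∧ ∀ Y : Subgroup G, Y ≤ E → IsPGroup p ↥Y → ¬ Y ≤ Subgroup.centralizer ((U : Subgroup G) : Set G) → ⁅Er, Y⁆ = Er := by
  have hu := Cfsg.Agent.Lib.LocalStruct.Large.uniqueConj hQp hQ1 hQ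
  have hUp : IsPGroup p ↥U := fun x => ⟨1, by
    apply Subtype.ext
    simpa using hU.2 x x.2⟩
  have hCN : centralizer ((U : Subgroup G) : Set G) ≤ normalizer ((Q : Subgroup G) : Set G) :=
    centralizer_le_normalizer hQp hQ hUp hU1 (hQE.trans hEU)
  set ι := E.subtype with hι
  have hιnj : Function.Injective ι := E.subtype_injective
  set Q' : Subgroup ↥E := Q.subgroupOf E with hQ'
  set Cz : Subgroup G := centralizer ((U : Subgroup G) : Set G) with hCz
  set C' : Subgroup ↥E := Cz.subgroupOf E with hC'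
  have hQ'p : IsPGroup p ↥Q' := isPGroup_subgroupOf hQp E
  have hu' : UniqueConj p Q' := uniqueConj_of_isWC (hu.subgroupOf hQp hQE)
  have mQ' : Q'.map ι = Q := Subgroup.map_subgroupOf_eq_of_le hQE
  have htop : (⊤ : Subgroup ↥E).map ι = E := by
    rw [← MonoidHom.range_eq_map, Subgroup.range_subtype]
  have hCQ' : C' ≤ normalizer ((Q' : Subgroup ↥E) : Set ↥E) := by
    intro x hx
    have hx2 : (x : G) ∈ Cz := Subgroup.mem_subgroupOf.mp hx
    apply mem_normalizer_of_conj_mem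
    intro y hy
    rw [hQ', Subgroup.mem_subgroupOf] at hy ⊢
    simpa using conj_mem_of_mem_normalizer (hCN hx2) hy
  have hQC' : ¬ Q' ≤ C' := by
    intro h
    apply hQn
    have h1 : Q ≤ Cz := by
      intro q hq
      have : (⟨q, hQE hq⟩ : ↥E) ∈ C' := h (Subgroup.mem_subgroupOf.mpr hq)
      exact Subgroup.mem_subgroupOf.mp this
    have h2 : U ≤ centralizer ((Q : Subgroup G) : Set G) := by
      intro u hu'
      rw [Subgroup.mem_centralizer_iff]
      intro q hq
      have := Subgroup.mem_centralizer_iff.mp (h1 hq) u hu'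
      exact this.symm
    exact hEU.trans (hQ.2 U h2 hU1)
  have hqs' : IsQuasisimple ↥((pResidual p ↥E).map (QuotientGroup.mk' C')) := by
    have e : ((pResidual p ↥E) ⊔ C').map (QuotientGroup.mk' C') =
        (pResidual p ↥E).map (QuotientGroup.mk' C') := by
      rw [Subgroup.map_sup, QuotientGroup.map_mk'_self, sup_bot_eq]
    rw [e] at hqs
    exact hqs
  obtain ⟨c1, c2, c4, c5, c6⟩ := core hn hQ'p hu' hCQ' hQC' hred hqs'
  have mEc : (weakClosure Q' ⊤).map ι = weakClosure Q E := by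
    rw [map_weakClosure_subgroupOf hQp hu hQE ⊤ le_top, htop]
  have mEr : (FrakH.resOf p (weakClosure Q' ⊤)).map ι = Er := by
    rw [map_resOf, mEc, hEr]
  set Er' : Subgroup ↥E := FrakH.resOf p (weakClosure Q' ⊤) with hEr'
  have mC' : C'.map ι = E ⊓ Cz := by
    rw [hC', Subgroup.subgroupOf_map_subtype, inf_comm]
  let e : ↥Er' ≃* ↥Er := (Er'.equivMapOfInjective ι hιnj).trans (MulEquiv.subgroupCongr mEr)
  have he : ∀ x : ↥Er', ((e x : ↥Er) : G) = ((x : ↥E) : G) := fun x => rfl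
  refine ⟨?_, ?_, ?_, ?_, ?_, ?_⟩
  · have h := congrArg (Subgroup.map ι) c1
    rwa [Subgroup.map_sup, Subgroup.map_sup, mC', mEr] at h
  · have h := congrArg (Subgroup.map ι) c2
    rwa [Subgroup.map_commutator, mEr] at h
  · rw [hEr]; exact resOf_resOf _
  · refine quasisimple_quot_congr e (C'.subgroupOf Er') (Cz.subgroupOf Er) ?_ c4
    ext y
    constructor
    · intro hy
      refine ⟨e.symm y, ?_, by simp⟩
      show e.symm y ∈ C'.subgroupOf Er'
      rw [Subgroup.mem_subgroupOf, hC', Subgroup.mem_subgroupOf]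
      have h1 := he (e.symm y)
      rw [MulEquiv.apply_symm_apply] at h1
      rw [← h1]
      exact Subgroup.mem_subgroupOf.mp hy
    · rintro ⟨x, hx, rfl⟩
      rw [Subgroup.mem_subgroupOf]
      have hx2 := Subgroup.mem_subgroupOf.mp hx
      exact Subgroup.mem_subgroupOf.mp hx2
  · refine quasisimple_quot_congr e (pCore p ↥Er') (pCore p ↥Er) ?_ c5
    exact (map_pCore_equiv e).symm
  · intro Y hYE hYp hYC
    have hY' : ¬ Y.subgroupOf E ≤ C' := by
      intro h
      apply hYC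
      intro y hy
      have : (⟨y, hYE hy⟩ : ↥E) ∈ C' := h (Subgroup.mem_subgroupOf.mpr hy)
      exact Subgroup.mem_subgroupOf.mp this
    have h := congrArg (Subgroup.map ι) (c6 (Y.subgroupOf E) (isPGroup_subgroupOf hYp E) hY')
    rwa [Subgroup.map_commutator, mEr, Subgroup.map_subgroupOf_eq_of_le hYE] at h

end Cfsg.Agent.S2860
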