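import Cfsg.Statements.S2861
import Cfsg.Agent.Lib.LocalStruct.FrakLQuot

set_option autoImplicit false
open Cfsg

namespace Cfsg.Agent.S2861

open Subgroup Cfsg.Agent.Lib.Core.Basic Cfsg.Agent.Lib.LocalStruct Cfsg.Agent.Lib.LocalStruct.Basic Cfsg.Agent.Lib.LocalStruct.Comm Cfsg.Agent.Lib.LocalStruct.PCoreOf Cfsg.Agent.Lib.LocalStruct.WeakClosed Cfsg.Agent.Lib.LocalStruct.NormUniq Cfsg.Agent.Lib.LocalStruct.FrakLQuot
open scoped commutatorElement

/-- Standing hypotheses: G a finite group, S a Sylow p-subgroup, Q a nontrivial large p-subgroup of G contained in S, M a subgroup containing S with the basic property (M ∈ 𝔐_G(S)); Y_M the largest p-reduced normal subgroup of M and M† = M·C_G(Y_M). Let L ∈ 𝔏_G(Y_M) (L ∈ 𝔏_G(Y_M): Y_M ≤ L; O_p(L) is the normal closure in L of Y_M ∩ O_p(L) and normalizes Y_M; L is Y_M-minimal of characteristic p with N_L(Y_M) its unique maximal subgroup over Y_M; and L/O_p(L) ≅ SL₂(q) with q = |Y_M : Y_M ∩ O_p(L)|, or p = 2 and L/O_p(L)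 is a Suzuki group Sz(q) or dihedral of order 2r, r an odd prime) and A = O_p(L). Then Y_M·A/A is the unique nontrivial elementary abelian normal p-subgroup of N_L(Y_M)/A. -/
theorem result {G : Type*} [Group G] [Finite G] {p : ℕ} [Fact p.Prime] (S : Sylow p G) (Q : Subgroup G) (hQp : IsPGroup p ↥Q) (hQ1 : Q ≠ ⊥) (hQS : Q ≤ (S : Subgroup G)) (hQ : Cfsg.IsLarge Q) (M : Subgroup G) (hSM : (S : Subgroup G) ≤ M) (hM : Cfsg.IsInFrakM p M) (L : Subgroup G) (hL : Cfsg.IsInFrakL p M L) (NL : Subgroup G) (hNL : NL = L ⊓ Subgroup.normalizer (((Cfsg.largestPReducedOf p M) : Subgroup G) : Set G)) [hn : (((Cfsg.pCoreOf p L)).subgroupOf NL).Normal] : let Ybar : Subgroup (↥NL ⧸ ((Cfsg.pCoreOf p L)).subgroupOf NL) := (((Cfsg.largestPReducedOf p M)).subgroupOf NL).map (QuotientGroup.mk' (((Cfsg.pCoreOf p L)).subgroupOf NL)); Ybar ≠ ⊥ ∧ Ybar.Normal ∧ Cfsg.IsElementaryAbelian p Ybar ∧ ∀ (V : Subgroup (↥NL ⧸ ((Cfsg.pCoreOf p L)).subgroupOf NL)), V.Normal → Cfsg.IsElementaryAbelian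 p V → V ≠ ⊥ → V = Ybar := by
  obtain ⟨hYL, -, hAN, hmin, -, ⟨hNLlt, hmax⟩, hcases⟩ := hL
  have hYel : IsElementaryAbelian p (largestPReducedOf p M) :=
    PReducedOf.isElementaryAbelian_largestPReducedOf M
  have hYp : IsPGroup p ↥(largestPReducedOf p M) := PReducedOf.isPGroup_largestPReducedOf M
  have hNLlt' : NL < L := by rw [hNL]; exact hNLlt
  have hmax' : ∀ X : Subgroup G, largestPReducedOf p M ≤ X → X < L → X ≤ NL := by
    rw [hNL]; exact hmax
  refine main_transfer hYL hYel hNL hAN hmin.1 hNLlt' hmax' ?_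
  set Yt : Subgroup (↥L ⧸ pCore p ↥L) :=
    ((largestPReducedOf p M).subgroupOf L).map (QuotientGroup.mk' (pCore p ↥L)) with hYt
  have hYtp : IsPGroup p ↥Yt :=
    (isPGroup_subgroupOf hYp L).map _
  have hYtel : IsElementaryAbelian p Yt :=
    isElementaryAbelian_map_hom _ (isElementaryAbelian_subgroupOf hYel L)
  have hYtc : Nat.card ↥Yt = (largestPReducedOf p M ⊓ pCoreOf p L).relIndex (largestPReducedOf p M) :=
    card_image hYL
  have hYt1 : Yt ≠ ⊥ := by
    intro hb
    rw [hYt, Subgroup.map_eq_bot_iff, QuotientGroup.ker_mk'] at hb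
    have h1 : normalClosure (((largestPReducedOf p M).subgroupOf L : Subgroup ↥L) : Set ↥L) ≤
        pCore p ↥L := Subgroup.normalClosure_le_normal hb
    rw [hmin.1] at h1
    apply hNLlt.ne
    rw [inf_eq_left]
    intro l hl
    exact hAN ⟨⟨l, hl⟩, h1 (Subgroup.mem_top _), rfl⟩
  have card_map : ∀ {X : Type _} [Group X] (e : (↥L ⧸ pCore p ↥L) ≃* X),
      Nat.card ↥(Yt.map e.toMonoidHom) = Nat.card ↥Yt := fun e =>
    Nat.card_congr (Subgroup.equivMapOfInjective Yt _ e.injective).symm.toEquiv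
  rcases hcases with ⟨F, _, _, hF, ⟨e⟩⟩ | ⟨hp, F, _, _, m, hF, hF2, ⟨e⟩⟩ | ⟨hp, r, hr, hr2, ⟨e⟩⟩
  · apply NormUnique.of_equiv e
    apply normUnique_SL2 _ (hYtp.map _)
    rw [card_map, hYtc, hF]
  · subst hp
    by_cases hm : m = 0
    · subst hm
      have hF' : Fintype.card F = 2 := by rw [hF]; norm_num
      have he : ∀ x : F, x ^ (2 ^ (0 + 1)) = x := by
        intro x
        rcases NormUniqSz2.F01 hF' x with rfl | rfl <;> simp
      apply NormUnique.of_equiv e
      apply NormUniqSz2.normUnique_of_noKlein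
      · intro a b ha hb hab
        have h1 := NormUniqSz2.noKlein hF' he a.2 b.2
          (congrArg Subtype.val ha) (congrArg Subtype.val hb) (congrArg Subtype.val hab)
        rcases h1 with h | h | h
        · exact Or.inl (Subtype.ext h)
        · exact Or.inr (Or.inl (Subtype.ext h))
        · exact Or.inr (Or.inr (Subtype.ext h))
      · exact isElementaryAbelian_map_hom _ hYtel
      · intro hb
        exact hYt1 ((Subgroup.map_eq_bot_iff_of_injective _ e.injective).mp hb)
    · have hm1 : 1 ≤ m := Nat.one_le_iff_ne_zero.mpr hm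
      have hc := Cfsg.Agent.Lib.Suzuki.Stab.ctx_of_card hm1 hF
      haveI hch : CharP F 2 := Cfsg.Agent.Lib.Suzuki.Elements.charP_two_of_card hF
      let e' := e.trans (Cfsg.Agent.Lib.SzIso.Basic.equivSz hc).symm
      apply NormUnique.of_equiv e'
      apply NormUniqSz.normUnique_Sz hc
      · exact isElementaryAbelian_map_hom _ hYtel
      · rw [card_map, hYtc, hF2]
  · subst hp
    haveI : NeZero r := ⟨hr.ne_zero⟩
    haveI : Finite (DihedralGroup r) := inferInstance
    apply NormUnique.of_equiv e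
    refine normUnique_of_card (hr.odd_of_ne_two hr2) DihedralGroup.nat_card (hYtp.map _) ?_
    intro hb
    exact hYt1 ((Subgroup.map_eq_bot_iff_of_injective _ e.injective).mp hb)

end Cfsg.Agent.S2861
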