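import Cfsg.Statements.S2862
import Cfsg.Agent.Lib.LocalStruct.AsymL5

set_option autoImplicit false
open Cfsg

namespace Cfsg.Agent.S2862

open Subgroup Cfsg.Agent.Lib.LocalStruct Cfsg.Agent.Lib.LocalStruct.Basic
  Cfsg.Agent.Lib.LocalStruct.PCoreOf Cfsg.Agent.Lib.LocalStruct.WeakClosed
  Cfsg.Agent.Lib.LocalStruct.AsymL2 Cfsg.Agent.Lib.LocalStruct.AsymL4
  Cfsg.Agent.Lib.LocalStruct.AsymL5

/-- Standing hypotheses: G a finite group, S a Sylow p-subgroup, Q a nontrivial large p-subgroup of G contained in S, M a subgroup containing S with the basic property (M ∈ 𝔐_G(S)); Y_M the largest p-reduced normal subgroup of M and M† = M·C_G(Y_M). Suppose Y_M is char-p-tall and asymmetric in G, H ∈ ℌ_G(O_p(M)), and L is minimal among the subgroups of H containing Y_M with Y_M ≰ O_p(L). Then H = ⟨L, O_p(M)⟩ = ⟨hY_Mh⁻¹, O_p(M)⟩ for every h ∈ L outside N_L(Y_M); L is Y_M-minimal and of characteristic p, with N_L(Y_M) the unique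 maximal subgroup of L containing Y_M; [V, O^p(L)] ≠ 1 for every noncentral chief factor V/W of H inside O_p(H) (that is, O^p(L) does not act trivially on V/W); and the normal closure of O_p(L) ∩ Y_M in L lies in O_p(H). -/
theorem result {G : Type*} [Group G] [Finite G] {p : ℕ} [Fact p.Prime] (S : Sylow p G) (Q : Subgroup G) (hQp : IsPGroup p ↥Q) (hQ1 : Q ≠ ⊥) (hQS : Q ≤ (S : Subgroup G)) (hQ : Cfsg.IsLarge Q) (M : Subgroup G) (hSM : (S : Subgroup G) ≤ M) (hM : Cfsg.IsInFrakM p M) (htall : Cfsg.IsCharPTall p (Cfsg.largestPReducedOf p M)) (hasym : ¬ Cfsg.IsSymmetricIn (Cfsg.largestPReducedOf p M)) (H : Subgroup G) (hH : Cfsg.IsInFrakH p M H) (L : Subgroup G) (hLH : L ≤ H) (hYL : (Cfsg.largestPReducedOf p M) ≤ L) (hYO : ¬ (Cfsg.largestPReducedOf p M) ≤ (Cfsg.pCoreOf p L)) (hmin : ∀ L' : Subgroup G, L' ≤ L → (Cfsg.largestPReducedOf p M) ≤ L' → ¬ (Cfsg.largestPReducedOf p M) ≤ (Cfsg.pCoreOf p L') → L' = L) : (L ⊔ (Cfsg.pCoreOf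 p M) = H ∧ ∀ h ∈ L, h ∉ Subgroup.normalizer (((Cfsg.largestPReducedOf p M) : Subgroup G) : Set G) → (((Cfsg.largestPReducedOf p M) : Subgroup G).map (MulAut.conj (h : G)).toMonoidHom) ⊔ (Cfsg.pCoreOf p M) = H) ∧ (Cfsg.IsMinimalOver (((Cfsg.largestPReducedOf p M)).subgroupOf L) ∧ Subgroup.centralizer (Cfsg.pCore p ↥L : Set ↥L) ≤ Cfsg.pCore p ↥L ∧ L ⊓ Subgroup.normalizer (((Cfsg.largestPReducedOf p M) : Subgroup G) : Set G) < L ∧ ∀ X : Subgroup G, (Cfsg.largestPReducedOf p M) ≤ X → X < L → X ≤ L ⊓ Subgroup.normalizer (((Cfsg.largestPReducedOf p M) : Subgroup G) : Set G)) ∧ (∀ V W' : Subgroup G, V ≤ (Cfsg.pCoreOf p H) → H ≤ Subgroup.normalizer ((V : Subgroup G) : Set G) → H ≤ Subgroup.normalizer ((W' : Subgroup G) : Set G) → W' < V → (∀ Z' : Subgroup G, H ≤ Subgroup.normalizer ((Z' : Subgroup G) : Set G) → W' ≤ Z' → Z' ≤ V → Z' = W' ∨ Z' = V) → ¬ ⁅V, H⁆ ≤ W' → ¬ ⁅V, ((Cfsg.pResidual p ↥L).map (L).subtype)⁆ ≤ W') ∧ (Subgroup.normalClosure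 (((((Cfsg.pCoreOf p L) ⊓ (Cfsg.largestPReducedOf p M)).subgroupOf L : Subgroup ↥L)) : Set ↥L)).map L.subtype ≤ (Cfsg.pCoreOf p H) := by
  classical
  set T : Subgroup G := Cfsg.pCoreOf p M with hT
  set Y : Subgroup G := Cfsg.largestPReducedOf p M with hY
  have hu : UniqueConj p T := uniqueConj_of_comm fun g h =>
    Asym.conj_eq_of_comm S hQp hQ1 hQ hSM hM hasym g h
  have hTp : IsPGroup p T := isPGroup_pCoreOf M
  have hT1 : T ≠ ⊥ := Large2.pCoreOf_ne_bot hM.1.1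
  have hNT := FrakM.normalizer_le_dagger hQp hQ1 hQ S hSM hM (le_normalizer_pCoreOf M) hTp hT1
  have hNY : normalizer (T : Set G) ≤ normalizer (Y : Set G) :=
    hNT.trans (sup_le (PReducedOf.le_normalizer_largestPReducedOf M)
      (Subgroup.centralizer_le_normalizer _))
  have hC : Core p T Y H L :=
    { hOp := hTp
      hYO := PReducedOf.largestPReducedOf_le_pCoreOf M
      hOC := PReducedOf.pCoreOf_le_centralizer M
      hu := hu
      hNO := hNY
      hasym := fun g h => by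
        by_contra hne
        exact hasym ⟨g, hne, h⟩
      hOH := hH.2.1
      hCK := fun g hg hc => by
        have h1 : (⟨g, hg⟩ : ↥H) ∈ centralizer (Cfsg.pCore p ↥H : Set ↥H) :=
          Large2.mem_centralizer_pCore_iff.mpr hc
        exact ⟨⟨g, hg⟩, hH.1 h1, rfl⟩
      hYK := hH.2.2.1
      hmin := hH.2.2.2
      hLH := hLH
      hYL := hYL
      hYOL := hYO
      hminL := hmin }
  refine ⟨⟨hC.sup_O_eq, fun h hh hn => sup_eq_of_not_normalizer hC hh hn⟩,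
    ⟨isMinimalOver hC, centralizer_le hC, inf_lt hC, fun X hYX hXL => le_inf_normalizer hC hYX hXL⟩,
    ?_, normalClosure_le hC⟩
  intro V W' hVK hHV hHW hlt hirr hnc
  exact not_comm_resOf_le hC ⟨hVK, hHV, hHW, hlt, hirr⟩ hnc

end Cfsg.Agent.S2862
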