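import Cfsg.Statements.S2864
import Cfsg.Agent.Lib.LocalStruct.FrakM
import Cfsg.Agent.Lib.LocalStruct.BurnsideComm

set_option autoImplicit false
open Cfsg

namespace Cfsg.Agent.S2864

open Subgroup Cfsg.Agent.Lib.LocalStruct Cfsg.Agent.Lib.LocalStruct.Basic Cfsg.Agent.Lib.LocalStruct.Comm Cfsg.Agent.Lib.LocalStruct.PCoreOf Cfsg.Agent.Lib.LocalStruct.WeakClosed
open scoped commutatorElement

/-- Standing hypotheses: G a finite group, S a Sylow p-subgroup, Q a nontrivial large p-subgroup of G contained in S, M a subgroup containing S with the basic property (M ∈ 𝔐_G(S)); Y_M the largest p-reduced normal subgroup of M and M† = M·C_G(Y_M). Let I be a nontrivial normal p-subgroup of M and Y ≤ O_p(M†); let L be a subgroup of G containing Y and A a normal p-subgroup of L with I ≤ A ≤ M. If [Y, A] ≤ [I, A], then Y ≤ O_p(L). -/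
theorem result {G : Type*} [Group G] [Finite G] {p : ℕ} [Fact p.Prime] (S : Sylow p G) (Q : Subgroup G) (hQp : IsPGroup p ↥Q) (hQ1 : Q ≠ ⊥) (hQS : Q ≤ (S : Subgroup G)) (hQ : Cfsg.IsLarge Q) (M : Subgroup G) (hSM : (S : Subgroup G) ≤ M) (hM : Cfsg.IsInFrakM p M) (I : Subgroup G) (hI1 : I ≠ ⊥) (hIp : IsPGroup p ↥I) (hIM : I ≤ M ∧ M ≤ Subgroup.normalizer ((I : Subgroup G) : Set G)) (Y : Subgroup G) (hY : Y ≤ (Cfsg.pCoreOf p (M ⊔ Subgroup.centralizer (((Cfsg.largestPReducedOf p M) : Subgroup G) : Set G)))) (L : Subgroup G) (hYL : Y ≤ L) (A : Subgroup G) (hAp : IsPGroup p ↥A) (hAL : A ≤ L ∧ L ≤ Subgroup.normalizer ((A : Subgroup G) : Set G)) (hIA : I ≤ A) (hAM : A ≤ M) (hc : ⁅Y, A⁆ ≤ ⁅I, A⁆) : Y ≤ (Cfsg.pCoreOf p L) := by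
  classical
  have hNI := FrakM.normalizer_le_dagger hQp hQ1 hQ S hSM hM hIM.2 hIp hI1
  set D := M ⊔ centralizer ((Cfsg.largestPReducedOf p M : Subgroup G) : Set G) with hD
  set P := Cfsg.pCoreOf p D with hP
  have hPp : IsPGroup p P := isPGroup_pCoreOf D
  have hDP : D ≤ normalizer (P : Set G) := le_normalizer_pCoreOf D
  have hYp : IsPGroup p Y := hPp.to_le hY
  set A' := A.subgroupOf L with hA'
  set Y' := Y.subgroupOf L with hY'
  haveI hAn : A'.Normal := (Subgroup.normal_subgroupOf_iff_le_normalizer hAL.1).mpr hAL.2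
  have hA'p : IsPGroup p A' := hAp.comap_of_injective L.subtype L.subtype_injective
  have hY'p : IsPGroup p Y' := hYp.comap_of_injective L.subtype L.subtype_injective
  have hmapA : A'.map L.subtype = A := Subgroup.map_subgroupOf_eq_of_le hAL.1
  have key := BurnsideComm.le_pCore_of_comm (p := p) A' Y' hA'p hY'p ?_ ?_
  · intro y hy
    have h1 : (⟨y, hYL hy⟩ : L) ∈ Y' := by
      rw [hY', Subgroup.mem_subgroupOf]
      exact hy
    exact ⟨_, key h1, rfl⟩
  · rw [Subgroup.commutator_le]
    intro y hy a ha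
    have h1 : ((⁅y, a⁆ : L) : G) ∈ ⁅A, A⁆ :=
      (hc.trans (Subgroup.commutator_mono hIA le_rfl)) (Subgroup.commutator_mem_commutator hy ha)
    have h1e : ⁅A, A⁆ = (⁅A', A'⁆).map L.subtype := by
      rw [Subgroup.map_commutator, hmapA]
    rw [h1e] at h1
    obtain ⟨w, hw, hwy⟩ := h1
    have : w = ⁅y, a⁆ := Subtype.ext hwy
    rwa [← this]
  · intro y hy c hcc
    set K := centralizer (A' : Set L) with hK
    haveI hKn : K.Normal := Subgroup.normal_centralizer
    have hcI : (c : G) ∈ centralizer (I : Set G) := by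
      rw [Subgroup.mem_centralizer_iff]
      intro i hi
      have h1 : (⟨i, hAL.1 (hIA hi)⟩ : L) ∈ A' := by
        rw [hA', Subgroup.mem_subgroupOf]
        exact hIA hi
      exact congrArg Subtype.val ((Subgroup.mem_centralizer_iff.mp hcc) _ h1)
    have hcD : ∀ c : L, c ∈ K → (c : G) ∈ D := by
      intro c hcc
      have hcI : (c : G) ∈ centralizer (I : Set G) := by
        rw [Subgroup.mem_centralizer_iff]
        intro i hi
        have h1 : (⟨i, hAL.1 (hIA hi)⟩ : L) ∈ A' := by
          rw [hA', Subgroup.mem_subgroupOf]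
          exact hIA hi
        exact congrArg Subtype.val ((Subgroup.mem_centralizer_iff.mp hcc) _ h1)
      exact hNI (Subgroup.centralizer_le_normalizer _ hcI)
    set X := K ⊓ P.subgroupOf L with hX
    have hXp : IsPGroup p X := (hPp.comap_of_injective L.subtype L.subtype_injective).to_le inf_le_right
    have hXK : K ≤ normalizer (X : Set L) := by
      intro k hk
      apply mem_normalizer_of_conj_mem
      rintro x ⟨hx1, hx2⟩
      refine ⟨hKn.conj_mem x hx1 k, ?_⟩
      have hx3 : (x : G) ∈ P := hx2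
      show ((k * x * k⁻¹ : L) : G) ∈ P
      exact conj_mem_of_mem_normalizer (hDP (hcD k hk)) hx3
    have hXO : X ≤ Cfsg.pCore p L := by
      refine (le_pCoreOf inf_le_left hXK hXp).trans ?_
      exact Cfsg.Agent.Lib.Core.Basic.map_pCore_le_of_isSubnormal hKn.isSubnormal
    apply hXO
    constructor
    · rw [commutatorElement_def]
      exact K.mul_mem (hKn.conj_mem c hcc y) (K.inv_mem hcc)
    · show ((⁅y, c⁆ : L) : G) ∈ P
      rw [commutatorElement_def]
      have hy' : (y : G) ∈ P := hY hy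
      have e : ((y * c * y⁻¹ * c⁻¹ : L) : G) = (y : G) * ((c : G) * (y : G)⁻¹ * (c : G)⁻¹) := by
        push_cast
        group
      rw [e]
      exact P.mul_mem hy' (conj_mem_of_mem_normalizer (hDP (hcD c hcc)) (P.inv_mem hy'))

end Cfsg.Agent.S2864
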