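import Cfsg.Statements.S2872
import Cfsg.Agent.Lib.LocalStruct.Minimal
import Cfsg.Agent.Lib.LocalStruct.PCoreOf
import Cfsg.Agent.Lib.LocalStruct.WeakClosed
import Cfsg.Agent.Lib.PGroups.Basic
import Cfsg.Agent.Lib.Transfer.Basic

set_option autoImplicit false
open Cfsg

namespace Cfsg.Agent.S2872

open Subgroup Cfsg.Agent.Lib.LocalStruct Cfsg.Agent.Lib.LocalStruct.Basic Cfsg.Agent.Lib.LocalStruct.Comm Cfsg.Agent.Lib.LocalStruct.PCoreOf Cfsg.Agent.Lib.LocalStruct.WeakClosed
open scoped commutatorElement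

/-- Let S be a Sylow 2-subgroup of the finite group G. Then G has a proper normal subgroup of 2-power index (O²(G) ≠ G), or Ω₁(Z(S)) is contained in the Frattini subgroup of S, or N_G(S) acts nontrivially on Ω₁(Z(S)) by conjugation. -/
theorem result {G : Type*} [Group G] [Finite G] (S : Sylow 2 G) : Cfsg.pResidual 2 G ≠ ⊤ ∨ Cfsg.omegaOne 2 ((S : Subgroup G) ⊓ Subgroup.centralizer ((S : Subgroup G) : Set G)) ≤ (frattini ↥(S : Subgroup G)).map (S : Subgroup G).subtype ∨ ∃ g ∈ Subgroup.normalizer ((S : Subgroup G) : Set G), ∃ z ∈ Cfsg.omegaOne 2 ((S : Subgroup G) ⊓ Subgroup.centralizer ((S : Subgroup G) : Set G)), g * z * g⁻¹ ≠ z := by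
  classical
  by_contra hcon
  push Not at hcon
  obtain ⟨htop, hB, hC⟩ := hcon
  haveI : Fact (Nat.Prime 2) := ⟨Nat.prime_two⟩
  -- a generator of `Ω₁(Z(S))` outside the Frattini subgroup
  obtain ⟨z, ⟨hzZ, hz2⟩, hzF⟩ : ∃ z : G, (z ∈ (S : Subgroup G) ⊓ centralizer ((S : Subgroup G) : Set G) ∧ z ^ 2 = 1) ∧
      z ∉ (frattini ↥(S : Subgroup G)).map (S : Subgroup G).subtype := by
    by_contra hc
    push Not at hc
    apply hB
    refine (Subgroup.closure_le _).mpr ?_
    rintro x ⟨hx1, hx2⟩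
    exact hc x ⟨hx1, hx2⟩
  have hzS : z ∈ (S : Subgroup G) := hzZ.1
  have hzc : ∀ s ∈ (S : Subgroup G), s * z = z * s :=
    fun s hs => Subgroup.mem_centralizer_iff.mp hzZ.2 s hs
  have hzΩ : z ∈ Cfsg.omegaOne 2 ((S : Subgroup G) ⊓ centralizer ((S : Subgroup G) : Set G)) :=
    Subgroup.subset_closure ⟨hzZ, hz2⟩
  have hzN : ∀ g ∈ normalizer ((S : Subgroup G) : Set G), g * z * g⁻¹ = z := fun g hg => hC g hg z hzΩ
  -- a maximal subgroup of `S` missing `z`
  set z' : ↥(S : Subgroup G) := ⟨z, hzS⟩ with hz'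
  obtain ⟨K, hK, hzK⟩ : ∃ K : Subgroup ↥(S : Subgroup G), IsCoatom K ∧ z' ∉ K := by
    by_contra hc
    push Not at hc
    apply hzF
    have hle : zpowers z' ≤ frattini ↥(S : Subgroup G) := by
      unfold frattini Order.radical
      exact le_iInf₂ fun K hKc => (Subgroup.zpowers_le).mpr (hc K hKc)
    exact ⟨z', hle (Subgroup.mem_zpowers z'), rfl⟩
  haveI hKn : K.Normal := Minimal.coatom_normal_of_isPGroup S.isPGroup' hK
  have hKi : K.index = 2 := Cfsg.Agent.Lib.PGroups.Basic.index_eq_of_isCoatom S.isPGroup' hK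
  have hcard : Nat.card (↥(S : Subgroup G) ⧸ K) = 2 := hKi
  have hcyc : IsCyclic (↥(S : Subgroup G) ⧸ K) := isCyclic_of_prime_card hcard
  have hcomm : IsMulCommutative (↥(S : Subgroup G) ⧸ K) := hcyc.isMulCommutative
  let _ : CommGroup (↥(S : Subgroup G) ⧸ K) :=
    { (inferInstance : Group (↥(S : Subgroup G) ⧸ K)) with
      mul_comm := mul_comm' }
  let ϕ : ↥(S : Subgroup G) →* (↥(S : Subgroup G) ⧸ K) := QuotientGroup.mk' K
  have hϕ1 : ∀ x : ↥(S : Subgroup G), ϕ x = 1 ↔ x ∈ K := by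
    intro x
    change ((x : ↥(S : Subgroup G) ⧸ K) = 1) ↔ _
    rw [QuotientGroup.eq_one_iff]
  have hsq : ∀ c : ↥(S : Subgroup G) ⧸ K, c ^ 2 = 1 := by
    intro c
    have : c ^ Nat.card (↥(S : Subgroup G) ⧸ K) = 1 := pow_card_eq_one'
    rwa [hcard] at this
  have htwo : ∀ a b : ↥(S : Subgroup G) ⧸ K, a ≠ 1 → b ≠ 1 → a = b := by
    intro a b ha hb
    by_contra hab
    have h3 : Nat.card (↥(S : Subgroup G) ⧸ K) ≥ 3 := by
      have := Fintype.ofFinite (↥(S : Subgroup G) ⧸ K)
      rw [Nat.card_eq_fintype_card]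
      have h4 : ({1, a, b} : Finset (↥(S : Subgroup G) ⧸ K)).card = 3 := by
        rw [Finset.card_eq_three]
        exact ⟨1, a, b, ha.symm, hb.symm, hab, rfl⟩
      rw [← h4]
      exact Finset.card_le_univ _
    omega
  set c₀ := ϕ z' with hc₀
  have hc₀1 : c₀ ≠ 1 := fun h => hzK ((hϕ1 _).mp h)
  -- the relevant cosets
  let P : G ⧸ (S : Subgroup G) → Prop := fun c =>
    ∃ (y : G) (hy : y⁻¹ * z * y ∈ (S : Subgroup G)), (y : G ⧸ (S : Subgroup G)) = c ∧ (⟨_, hy⟩ : ↥(S : Subgroup G)) ∉ K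
  have hPfix : ∀ c : G ⧸ (S : Subgroup G), P c → z • c = c := by
    rintro c ⟨y, hy, rfl, -⟩
    change ((z * y : G) : G ⧸ (S : Subgroup G)) = (y : G ⧸ (S : Subgroup G))
    rw [QuotientGroup.eq]
    have h3 := (S : Subgroup G).inv_mem hy
    simpa [mul_assoc] using h3
  -- `S` permutes the complement of `P`, without fixed points
  have hPs : ∀ (s : ↥(S : Subgroup G)) (c : G ⧸ (S : Subgroup G)), P c → P (s • c) := by
    rintro s c ⟨y, hy, rfl, hyK⟩
    have e : ((s : G) * y)⁻¹ * z * ((s : G) * y) = y⁻¹ * z * y := by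
      have := hzc s s.2
      calc ((s : G) * y)⁻¹ * z * ((s : G) * y) = y⁻¹ * ((s : G)⁻¹ * (z * (s : G))) * y := by group
        _ = y⁻¹ * ((s : G)⁻¹ * ((s : G) * z)) * y := by rw [this]
        _ = y⁻¹ * z * y := by group
    refine ⟨(s : G) * y, e ▸ hy, rfl, ?_⟩
    have : (⟨((s : G) * y)⁻¹ * z * ((s : G) * y), e ▸ hy⟩ : ↥(S : Subgroup G)) = ⟨_, hy⟩ := Subtype.ext e
    rw [this]
    exact hyK
  let R : SubMulAction ↥(S : Subgroup G) (G ⧸ (S : Subgroup G)) :=
    { carrier := {c | ¬ P c}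
      smul_mem' := by
        intro s c hc hs
        apply hc
        have := hPs s⁻¹ _ hs
        rwa [inv_smul_smul] at this }
  have hRfix : MulAction.fixedPoints ↥(S : Subgroup G) R = ∅ := by
    rw [Set.eq_empty_iff_forall_notMem]
    rintro ⟨c, hc⟩ hfix
    apply hc
    obtain ⟨x, rfl⟩ := QuotientGroup.mk_surjective c
    have hx : ∀ s ∈ (S : Subgroup G), x⁻¹ * s * x ∈ (S : Subgroup G) := by
      intro s hs
      have h3 := congrArg Subtype.val (hfix ⟨s, hs⟩)
      change ((s * x : G) : G ⧸ (S : Subgroup G)) = (x : G ⧸ (S : Subgroup G)) at h3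
      rw [QuotientGroup.eq] at h3
      have h4 := (S : Subgroup G).inv_mem h3
      simpa [mul_assoc] using h4
    have hxN : x⁻¹ ∈ normalizer ((S : Subgroup G) : Set G) :=
      mem_normalizer_of_conj_mem fun s hs => by simpa using hx s hs
    have e : x⁻¹ * z * x = z := by simpa using hzN x⁻¹ hxN
    have hy : x⁻¹ * z * x ∈ (S : Subgroup G) := by rw [e]; exact hzS
    refine ⟨x, hy, rfl, ?_⟩
    have : (⟨x⁻¹ * z * x, hy⟩ : ↥(S : Subgroup G)) = z' := Subtype.ext e
    rw [this]
    exact hzK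
  have hRcard : 2 ∣ Nat.card R := by
    have h3 := S.isPGroup'.card_modEq_card_fixedPoints (α := R)
    have h4 : Nat.card (MulAction.fixedPoints ↥(S : Subgroup G) R) = 0 := by
      rw [hRfix]
      simp
    rw [h4] at h3
    exact (Nat.modEq_zero_iff_dvd).mp h3
  -- the count of `P`-cosets is odd
  have hodd : Odd (Nat.card {c : G ⧸ (S : Subgroup G) // P c}) := by
    have hind : ¬ 2 ∣ Nat.card (G ⧸ (S : Subgroup G)) := S.not_dvd_index
    have hsum : Nat.card (G ⧸ (S : Subgroup G)) =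
        Nat.card {c : G ⧸ (S : Subgroup G) // P c} + Nat.card R := by
      have e := Nat.card_congr (Equiv.sumCompl P)
      rw [Nat.card_sum] at e
      rw [← e]
      rfl
    rw [Nat.odd_iff]
    omega
  have hz1 : ∀ (k : ℕ), z ^ k = 1 → ∀ (g : G) (h : g⁻¹ * z ^ k * g ∈ (S : Subgroup G)),
      ϕ ⟨g⁻¹ * z ^ k * g, h⟩ = 1 := by
    intro k hk g h
    have : (⟨g⁻¹ * z ^ k * g, h⟩ : ↥(S : Subgroup G)) = 1 := Subtype.ext (by simp [hk])
    rw [this, map_one]
  have hper : ∀ c : G ⧸ (S : Subgroup G), z • c ≠ c → z ^ Function.minimalPeriod (z • ·) c = 1 := by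
    intro c hc
    have h2 : Function.minimalPeriod (z • ·) c ∣ 2 := by
      apply Function.IsPeriodicPt.minimalPeriod_dvd
      change (z • ·)^[2] c = c
      simp only [Function.iterate_succ, Function.iterate_zero, Function.comp_apply, id_eq]
      rw [← mul_smul, ← pow_two, hz2, one_smul]
    rcases (Nat.dvd_prime Nat.prime_two).mp h2 with h3 | h3
    · exfalso
      apply hc
      have := Function.minimalPeriod_eq_one_iff_isFixedPt.mp h3
      exact this
    · rw [h3, hz2]
  haveI hFX : Fintype (Quotient (MulAction.orbitRel (Subgroup.zpowers z) (G ⧸ (S : Subgroup G)))) :=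
    Fintype.ofFinite _
  have hVc : MonoidHom.transfer ϕ z = c₀ := by
    rw [MonoidHom.transfer_eq_prod_quotient_orbitRel_zpowers_quot]
    have hterm : ∀ (c : G ⧸ (S : Subgroup G)) (k : ℕ), k = 1 →
        ∀ h : c.out⁻¹ * z ^ k * c.out ∈ (S : Subgroup G), (ϕ ⟨_, h⟩ ≠ 1 ↔ P c) := by
      rintro c k rfl h
      have h' : c.out⁻¹ * z * c.out ∈ (S : Subgroup G) := by simpa using h
      have e : (⟨c.out⁻¹ * z ^ 1 * c.out, h⟩ : ↥(S : Subgroup G)) = ⟨c.out⁻¹ * z * c.out, h'⟩ :=
        Subtype.ext (by simp)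
      rw [e]
      constructor
      · intro hne
        exact ⟨c.out, h', QuotientGroup.out_eq' c, fun hK => hne ((hϕ1 _).mpr hK)⟩
      · rintro ⟨y, hy, hyc, hyK⟩ hone
        have hK := (hϕ1 _).mp hone
        apply hyK
        have h3 : (c.out : G ⧸ (S : Subgroup G)) = y := by rw [QuotientGroup.out_eq', hyc]
        rw [QuotientGroup.eq] at h3
        have h4 := hKn.conj_mem _ hK (⟨c.out⁻¹ * y, h3⟩ : ↥(S : Subgroup G))⁻¹
        have e2 : (⟨y⁻¹ * z * y, hy⟩ : ↥(S : Subgroup G)) =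
            (⟨c.out⁻¹ * y, h3⟩ : ↥(S : Subgroup G))⁻¹ * ⟨c.out⁻¹ * z * c.out, h'⟩ *
              (⟨c.out⁻¹ * y, h3⟩ : ↥(S : Subgroup G))⁻¹⁻¹ := by
          apply Subtype.ext
          simp only [Subgroup.coe_mul, Subgroup.coe_inv]
          group
        rw [e2]
        exact h4
    have hψ : ∀ q : Quotient (MulAction.orbitRel (Subgroup.zpowers z) (G ⧸ (S : Subgroup G))),
        (ϕ ⟨q.out.out⁻¹ * z ^ Function.minimalPeriod (z • ·) q.out * q.out.out,
            QuotientGroup.out_conj_pow_minimalPeriod_mem (S : Subgroup G) z q.out⟩ ≠ 1 ↔ P q.out) := by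
      intro q
      by_cases hfix : z • q.out = q.out
      · exact hterm q.out _ (Function.minimalPeriod_eq_one_iff_isFixedPt.mpr hfix) _
      · constructor
        · intro hne
          exact absurd (hz1 _ (hper _ hfix) _ _) hne
        · intro hP
          exact absurd (hPfix _ hP) hfix
    set ψ : Quotient (MulAction.orbitRel (Subgroup.zpowers z) (G ⧸ (S : Subgroup G))) →
        (↥(S : Subgroup G) ⧸ K) := fun q =>
      ϕ ⟨q.out.out⁻¹ * z ^ Function.minimalPeriod (z • ·) q.out * q.out.out,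
            QuotientGroup.out_conj_pow_minimalPeriod_mem (S : Subgroup G) z q.out⟩ with hψdef
    have hprod : ∏ q, ψ q = ∏ q : Quotient (MulAction.orbitRel (Subgroup.zpowers z) (G ⧸ (S : Subgroup G))),
        if P (Quotient.out q) then c₀ else 1 := by
      apply Finset.prod_congr rfl
      intro q _
      by_cases hq : P q.out
      · rw [if_pos hq]
        exact htwo _ _ ((hψ q).mpr hq) hc₀1
      · rw [if_neg hq]
        by_contra hne
        exact hq ((hψ q).mp hne)
    rw [hprod, ← Finset.prod_filter, Finset.prod_const]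
    change c₀ ^ (Finset.univ.filter fun q : Quotient (MulAction.orbitRel (Subgroup.zpowers z)
        (G ⧸ (S : Subgroup G))) => P (Quotient.out q)).card = c₀
    -- count
    have hcount : (Finset.univ.filter fun q : Quotient (MulAction.orbitRel (Subgroup.zpowers z)
        (G ⧸ (S : Subgroup G))) => P (Quotient.out q)).card = Nat.card {c : G ⧸ (S : Subgroup G) // P c} := by
      rw [← Fintype.card_subtype, ← Nat.card_eq_fintype_card]
      have hout : ∀ c : G ⧸ (S : Subgroup G), P c →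
          (Quotient.mk (MulAction.orbitRel (Subgroup.zpowers z) (G ⧸ (S : Subgroup G))) c).out = c := by
        intro c hc
        have h3 := Quotient.mk_out (s := MulAction.orbitRel (Subgroup.zpowers z) (G ⧸ (S : Subgroup G))) c
        have h4 : _ ∈ MulAction.orbit (Subgroup.zpowers z) c := MulAction.orbitRel_apply.mp h3
        obtain ⟨g, hg⟩ := h4
        rw [← hg]
        have h5 : Subgroup.zpowers z ≤ MulAction.stabilizer G c :=
          (Subgroup.zpowers_le).mpr (MulAction.mem_stabilizer_iff.mpr (hPfix c hc))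
        exact MulAction.mem_stabilizer_iff.mp (h5 g.2)
      refine Nat.card_congr (Equiv.mk
        (fun q : {q : Quotient (MulAction.orbitRel (Subgroup.zpowers z) (G ⧸ (S : Subgroup G))) // P q.out} =>
          (⟨q.1.out, q.2⟩ : {c : G ⧸ (S : Subgroup G) // P c}))
        (fun c : {c : G ⧸ (S : Subgroup G) // P c} =>
          ⟨Quotient.mk _ c.1, (hout c.1 c.2).symm ▸ c.2⟩) ?_ ?_)
      · intro q
        apply Subtype.ext
        exact Quotient.out_eq _
      · intro c
        apply Subtype.ext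
        exact hout c.1 c.2
    rw [hcount]
    obtain ⟨k, hk⟩ := hodd
    rw [hk, pow_succ, pow_mul, hsq, one_pow, one_mul]
  -- conclusion
  have h1 : (MonoidHom.transfer ϕ).ker = ⊤ := by
    apply top_le_iff.mp
    rw [← htop]
    apply Cfsg.Agent.Lib.Transfer.Basic.pResidual_le_ker
    intro x
    refine ⟨1, ?_⟩
    simpa using hsq x
  have h2 : z ∈ (MonoidHom.transfer ϕ).ker := by rw [h1]; trivial
  rw [MonoidHom.mem_ker, hVc] at h2
  exact hc₀1 h2

end Cfsg.Agent.S2872
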