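import Cfsg.Statements.S2873
import Cfsg.Agent.Lib.LocalStruct.PCoreOf
import Cfsg.Agent.Lib.LocalStruct.WeakClosed

set_option autoImplicit false
open Cfsg

namespace Cfsg.Agent.S2873

open Subgroup Cfsg.Agent.Lib.LocalStruct Cfsg.Agent.Lib.LocalStruct.Basic Cfsg.Agent.Lib.LocalStruct.Comm Cfsg.Agent.Lib.LocalStruct.PCoreOf Cfsg.Agent.Lib.LocalStruct.WeakClosed
open scoped commutatorElement

theorem dih_invol {r : ℕ} (hr : Odd r) [NeZero r] {x : DihedralGroup r} (hx : x * x = 1) (h1 : x ≠ 1) :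
    ∃ j, x = DihedralGroup.sr j := by
  cases x with
  | sr j => exact ⟨j, rfl⟩
  | r i =>
    exfalso
    apply h1
    rw [DihedralGroup.r_mul_r, DihedralGroup.one_def] at hx
    have h2 : i + i = 0 := DihedralGroup.r.inj hx
    have h3 : (2 : ZMod r) * i = 0 := by rw [two_mul]; exact h2
    have hu : IsUnit (2 : ZMod r) := by
      have := (ZMod.unitOfCoprime 2 (Nat.coprime_two_left.mpr hr)).isUnit
      simpa using this
    have h4 : i = 0 := by
      have := (hu.mul_right_eq_zero).mp h3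
      exact this
    rw [h4]
    rfl

theorem dih_rot {r : ℕ} (hr : Odd r) {x : DihedralGroup r} (hx : x ^ r = 1) :
    ∃ i, x = DihedralGroup.r i := by
  cases x with
  | r i => exact ⟨i, rfl⟩
  | sr j =>
    exfalso
    have h2 := orderOf_dvd_of_pow_eq_one hx
    rw [DihedralGroup.orderOf_sr] at h2
    exact (Nat.not_even_iff_odd.mpr hr) (even_iff_two_dvd.mpr h2)


/-- Let G be a finite group and r an odd prime such that G ⧸ O₂(G) is dihedral of order 2r, and let R be a Sylow r-subgroup of G with C_{O₂(G)}(R) = 1. Then N_G(R) is dihedral of order 2r; for any involution a of N_G(R), every involution of G outside O₂(G) is conjugate to a; and |C_{O₂(G)}(a)|² = |O₂(G)|. -/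
theorem result {G : Type*} [Group G] [Finite G] {r : ℕ} [Fact r.Prime] (hr : r ≠ 2) [hN : (Cfsg.pCore 2 G).Normal] (hquot : Nonempty (G ⧸ Cfsg.pCore 2 G ≃* DihedralGroup r)) (R : Sylow r G) (hC : Cfsg.pCore 2 G ⊓ Subgroup.centralizer ((R : Subgroup G) : Set G) = ⊥) : Nonempty (↥(Subgroup.normalizer ((R : Subgroup G) : Set G)) ≃* DihedralGroup r) ∧ ∀ a : G, a ∈ Subgroup.normalizer ((R : Subgroup G) : Set G) → orderOf a = 2 → (∀ b : G, orderOf b = 2 → b ∉ Cfsg.pCore 2 G → ∃ g : G, g * a * g⁻¹ = b) ∧ Nat.card ↥(Cfsg.pCore 2 G ⊓ Subgroup.centralizer ({a} : Set G)) ^ 2 = Nat.card ↥(Cfsg.pCore 2 G) := by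
  classical
  haveI : Fact (Nat.Prime 2) := ⟨Nat.prime_two⟩
  have hrp : r.Prime := Fact.out
  have hodd : Odd r := hrp.odd_of_ne_two hr
  haveI : NeZero r := ⟨hrp.ne_zero⟩
  obtain ⟨e⟩ := hquot
  set V : Subgroup G := Cfsg.pCore 2 G with hV
  let π : G →* DihedralGroup r := e.toMonoidHom.comp (QuotientGroup.mk' V)
  have hπ1 : ∀ x : G, π x = 1 ↔ x ∈ V := by
    intro x
    change e (x : G ⧸ V) = 1 ↔ _
    rw [map_eq_one_iff e e.injective, QuotientGroup.eq_one_iff]
  have hπs : Function.Surjective π :=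
    e.surjective.comp (QuotientGroup.mk'_surjective V)
  have hVp : IsPGroup 2 V := Cfsg.Agent.Lib.Core.Basic.pCore_isPGroup
  have hdisj : ∀ x ∈ (R : Subgroup G), x ∈ V → x = 1 := by
    intro x hx hxV
    have h1 := IsPGroup.disjoint_of_ne r 2 hr (R : Subgroup G) V R.isPGroup' hVp
    exact Subgroup.disjoint_def.mp h1 hx hxV
  have hπR : ∀ x ∈ (R : Subgroup G), ∀ y ∈ (R : Subgroup G), π x = π y → x = y := by
    intro x hx y hy hxy
    have h1 : π (x * y⁻¹) = 1 := by rw [map_mul, map_inv, hxy, mul_inv_cancel]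
    have h2 := hdisj _ (Subgroup.mul_mem _ hx (Subgroup.inv_mem _ hy)) ((hπ1 _).mp h1)
    exact mul_inv_eq_one.mp h2
  -- the order of `R`
  have hcardG : Nat.card G = Nat.card V * (2 * r) := by
    rw [Subgroup.card_eq_card_quotient_mul_card_subgroup V, Nat.card_congr e.toEquiv,
      DihedralGroup.nat_card, mul_comm]
  have hrG : r ∣ Nat.card G := by
    rw [hcardG]
    exact dvd_mul_of_dvd_right (dvd_mul_left r 2) _
  have hrR : r ∣ Nat.card (R : Subgroup G) := R.dvd_card_of_dvd_card hrG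
  obtain ⟨ρ', hρ'⟩ := exists_prime_orderOf_dvd_card' r hrR
  set ρ : G := (ρ' : G) with hρdef
  have hρR : ρ ∈ (R : Subgroup G) := ρ'.2
  have hρo : orderOf ρ = r := by rw [hρdef, Subgroup.orderOf_coe]; exact hρ'
  have hcardR : Nat.card (R : Subgroup G) = r := by
    have h1 : Nat.card (R : Subgroup G) ∣ 2 * r := by
      have h2 : Function.Injective (π.comp (R : Subgroup G).subtype) := by
        intro x y hxy
        exact Subtype.ext (hπR x x.2 y y.2 hxy)
      have h3 := Subgroup.card_dvd_of_injective _ h2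
      rwa [DihedralGroup.nat_card] at h3
    obtain ⟨k, hk⟩ := IsPGroup.iff_card.mp R.isPGroup'
    rw [hk] at h1 hrR ⊢
    have hk1 : k ≠ 0 := by
      rintro rfl
      simp at hrR
      exact hrp.one_lt.ne' hrR
    have hk2 : k ≤ 1 := by
      by_contra hc
      have h2 : r ^ 2 ∣ 2 * r := (pow_dvd_pow r (by omega)).trans h1
      rw [pow_two] at h2
      have h3 : r ∣ 2 := Nat.dvd_of_mul_dvd_mul_right hrp.pos h2
      exact hr ((Nat.prime_dvd_prime_iff_eq hrp Nat.prime_two).mp h3)
    have : k = 1 := by omega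
    rw [this, pow_one]
  have hRz : (R : Subgroup G) = zpowers ρ := by
    symm
    apply Subgroup.eq_of_le_of_card_ge ((Subgroup.zpowers_le).mpr hρR)
    rw [Nat.card_zpowers, hρo, hcardR]
  -- rotations are the images of the powers of `ρ`
  have hρr : ρ ^ r = 1 := by
    have := pow_orderOf_eq_one ρ
    rwa [hρo] at this
  obtain ⟨i₀, hi₀⟩ : ∃ i, π ρ = DihedralGroup.r i := dih_rot hodd (by
    rw [← map_pow, hρr, map_one])
  have hρ1 : ρ ≠ 1 := by
    intro h
    rw [h, orderOf_one] at hρo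
    exact hrp.one_lt.ne hρo
  have hi₀0 : i₀ ≠ 0 := by
    intro h
    rw [h, DihedralGroup.r_zero] at hi₀
    exact hρ1 (hdisj ρ hρR ((hπ1 ρ).mp hi₀))
  have hrot : ∀ i : ZMod r, ∃ k : ℕ, π (ρ ^ k) = DihedralGroup.r i := by
    intro i
    refine ⟨(i / i₀).val, ?_⟩
    rw [map_pow, hi₀, DihedralGroup.r_pow, ZMod.natCast_val, ZMod.cast_id']
    simp only [id_eq]
    rw [mul_div_cancel₀ _ hi₀0]
  -- `V R` is normal
  have hK : (V ⊔ (R : Subgroup G)).Normal := by
    constructor
    intro x hx g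
    have hVn : V ≤ V ⊔ (R : Subgroup G) := le_sup_left
    have hRn : (R : Subgroup G) ≤ V ⊔ (R : Subgroup G) := le_sup_right
    obtain ⟨v, hv, u, hu, rfl⟩ := Subgroup.mem_sup_of_normal_left.mp hx
    have e1 : g * (v * u) * g⁻¹ = (g * v * g⁻¹) * (g * u * g⁻¹) := by group
    rw [e1]
    apply Subgroup.mul_mem _ (hVn (hN.conj_mem v hv g))
    obtain ⟨i, hi⟩ : ∃ i, π (g * u * g⁻¹) = DihedralGroup.r i := dih_rot hodd (by
      have h1 : u ^ r = 1 := by
        rw [← hcardR]
        have := pow_card_eq_one' (x := (⟨u, hu⟩ : (R : Subgroup G)))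
        exact congrArg Subtype.val this
      rw [← map_pow, conj_pow, h1]
      simp)
    obtain ⟨k, hk⟩ := hrot i
    have h2 : (g * u * g⁻¹) * (ρ ^ k)⁻¹ ∈ V := by
      rw [← hπ1, map_mul, map_inv, hi, hk, mul_inv_cancel]
    have e2 : g * u * g⁻¹ = ((g * u * g⁻¹) * (ρ ^ k)⁻¹) * ρ ^ k := by group
    rw [e2]
    exact Subgroup.mul_mem _ (hVn h2) (hRn (Subgroup.pow_mem _ hρR _))
  -- the Frattini factorization
  have hfac : ∀ g : G, ∃ v ∈ V, ∃ n ∈ normalizer ((R : Subgroup G) : Set G), g = v * n := by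
    intro g
    have h1 := Sylow.normalizer_sup_eq_top' (N := V ⊔ (R : Subgroup G)) R le_sup_right
    have h2 : normalizer ((R : Subgroup G) : Set G) ⊔ V = ⊤ := by
      rw [eq_top_iff, ← h1]
      exact sup_le le_sup_left (sup_le le_sup_right (Subgroup.le_normalizer.trans le_sup_left))
    have h3 : g ∈ V ⊔ normalizer ((R : Subgroup G) : Set G) := by
      rw [sup_comm, h2]
      trivial
    obtain ⟨v, hv, n, hn, rfl⟩ := Subgroup.mem_sup_of_normal_left.mp h3
    exact ⟨v, hv, n, hn, rfl⟩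
  -- `N(R) ∩ V = 1`
  have hNV : ∀ x ∈ normalizer ((R : Subgroup G) : Set G), x ∈ V → x = 1 := by
    intro x hx hxV
    have h1 : x ∈ V ⊓ centralizer ((R : Subgroup G) : Set G) := by
      refine Subgroup.mem_inf.mpr ⟨hxV, Subgroup.mem_centralizer_iff.mpr ?_⟩
      intro u hu
      have h2 : x * u * x⁻¹ * u⁻¹ = 1 := by
        apply hdisj
        · exact Subgroup.mul_mem _ (conj_mem_of_mem_normalizer hx hu) (Subgroup.inv_mem _ hu)
        · have e1 : x * u * x⁻¹ * u⁻¹ = x * (u * x⁻¹ * u⁻¹) := by group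
          rw [e1]
          exact V.mul_mem hxV (hN.conj_mem _ (V.inv_mem hxV) u)
      have h3 : x * u * x⁻¹ = u := by
        rwa [mul_inv_eq_one] at h2
      have h4 : x * u = u * x := by
        rwa [mul_inv_eq_iff_eq_mul] at h3
      exact h4.symm
    rw [hC, Subgroup.mem_bot] at h1
    exact h1
  have hπN : ∀ x ∈ normalizer ((R : Subgroup G) : Set G), ∀ y ∈ normalizer ((R : Subgroup G) : Set G),
      π x = π y → x = y := by
    intro x hx y hy hxy
    have h1 : π (x * y⁻¹) = 1 := by rw [map_mul, map_inv, hxy, mul_inv_cancel]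
    have h2 := hNV _ (Subgroup.mul_mem _ hx (Subgroup.inv_mem _ hy)) ((hπ1 _).mp h1)
    exact mul_inv_eq_one.mp h2
  refine ⟨?_, ?_⟩
  · refine ⟨MulEquiv.ofBijective (π.comp (normalizer ((R : Subgroup G) : Set G)).subtype) ⟨?_, ?_⟩⟩
    · intro x y hxy
      exact Subtype.ext (hπN x x.2 y y.2 hxy)
    · intro y
      obtain ⟨g, rfl⟩ := hπs y
      obtain ⟨v, hv, n, hn, rfl⟩ := hfac g
      refine ⟨⟨n, hn⟩, ?_⟩
      change π n = π (v * n)
      rw [map_mul, (hπ1 v).mpr hv, one_mul]
  · intro a haN ha2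
    have haa : a * a = 1 := by
      rw [← pow_two, ← ha2, pow_orderOf_eq_one]
    have ha1 : a ≠ 1 := by
      rintro rfl
      simp at ha2
    have haV : a ∉ V := fun h => ha1 (hNV a haN h)
    obtain ⟨j₀, hj₀⟩ : ∃ j, π a = DihedralGroup.sr j :=
      dih_invol hodd (by rw [← map_mul, haa, map_one]) (fun h => haV ((hπ1 a).mp h))
    have hinv : a * ρ * a⁻¹ = ρ⁻¹ := by
      apply hπR _ (conj_mem_of_mem_normalizer haN hρR) _ (Subgroup.inv_mem _ hρR)
      rw [map_mul, map_mul, map_inv, map_inv, hi₀, hj₀, DihedralGroup.inv_sr, DihedralGroup.inv_r,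
        DihedralGroup.sr_mul_r, DihedralGroup.sr_mul_sr]
      congr 1
      ring
    set a' : G := ρ * a * ρ⁻¹ with ha'
    have hρN : ρ ∈ normalizer ((R : Subgroup G) : Set G) := Subgroup.le_normalizer hρR
    have ha'N : a' ∈ normalizer ((R : Subgroup G) : Set G) :=
      Subgroup.mul_mem _ (Subgroup.mul_mem _ hρN haN) (Subgroup.inv_mem _ hρN)
    have ha'a' : a' * a' = 1 := by
      have : a' * a' = ρ * (a * a) * ρ⁻¹ := by rw [ha']; group
      rw [this, haa]
      group
    have hπa' : π a' = DihedralGroup.sr (j₀ - 2 * i₀) := by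
      rw [ha', map_mul, map_mul, map_inv, hi₀, hj₀, DihedralGroup.inv_r, DihedralGroup.r_mul_sr,
        DihedralGroup.sr_mul_r]
      congr 1
      ring
    -- two involutions in the cosets of `a`, `a'` come from a single conjugate
    have htwo0 : (2 : ZMod r) ≠ 0 := by
      intro h
      have h2 : ((2 : ℕ) : ZMod r) = 0 := by exact_mod_cast h
      rw [ZMod.natCast_eq_zero_iff] at h2
      exact hr ((Nat.prime_dvd_prime_iff_eq hrp Nat.prime_two).mp h2)
    have hsurj : ∀ b₀ b₁ : G, b₀ * b₀ = 1 → π b₀ = π a → b₁ * b₁ = 1 → π b₁ = π a' →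
        ∃ v ∈ V, b₀ = v * a * v⁻¹ ∧ b₁ = v * a' * v⁻¹ := by
      intro b₀ b₁ h0 hb0 h1 hb1
      set c := b₀ * b₁ with hc
      have hπc : π c = DihedralGroup.r (-(2 * i₀)) := by
        rw [hc, map_mul, hb0, hb1, hj₀, hπa', DihedralGroup.sr_mul_sr]
        congr 1
        ring
      have hcne : orderOf c ≠ 0 := (orderOf_pos c).ne'
      have hrc : r ∣ orderOf c := by
        have h2 : π c ^ orderOf c = 1 := by rw [← map_pow, pow_orderOf_eq_one, map_one]
        rw [hπc, DihedralGroup.r_pow, DihedralGroup.one_def] at h2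
        have h3 := DihedralGroup.r.inj h2
        have h5 : -(2 * i₀) ≠ 0 := neg_ne_zero.mpr (mul_ne_zero htwo0 hi₀0)
        have h4 : ((orderOf c : ℕ) : ZMod r) = 0 := by
          rcases mul_eq_zero.mp h3 with h | h
          · exact absurd h h5
          · exact_mod_cast h
        exact (ZMod.natCast_eq_zero_iff _ _).mp h4
      set d := c ^ (orderOf c / r) with hd
      have hdo : orderOf d = r := orderOf_pow_orderOf_div hcne hrc
      have hb0i : b₀⁻¹ = b₀ := inv_eq_of_mul_eq_one_left h0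
      have hb1i : b₁⁻¹ = b₁ := inv_eq_of_mul_eq_one_left h1
      have hc0 : b₀ * c * b₀⁻¹ = c⁻¹ := by
        rw [hc, mul_inv_rev, hb0i, hb1i, ← mul_assoc, h0, one_mul]
      have hc1 : b₁ * c * b₁⁻¹ = c⁻¹ := by
        rw [hc, mul_inv_rev, hb0i, hb1i, mul_assoc, mul_assoc, h1, mul_one]
      have hnorm : ∀ b : G, b * c * b⁻¹ = c⁻¹ → b ∈ normalizer ((zpowers d : Subgroup G) : Set G) := by
        intro b hb
        apply mem_normalizer_of_conj_mem
        intro x hx
        obtain ⟨k, rfl⟩ := mem_zpowers_iff.mp hx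
        have h2 : b * d * b⁻¹ = d⁻¹ := by
          rw [hd, ← conj_pow, hb, inv_pow]
        have h3 : b * d ^ k * b⁻¹ = (b * d * b⁻¹) ^ k := by
          rw [conj_zpow]
        rw [h3, h2]
        exact Subgroup.zpow_mem _ (Subgroup.inv_mem _ (mem_zpowers d)) k
      have hZp : IsPGroup r (zpowers d) :=
        IsPGroup.iff_card.mpr ⟨1, by rw [Nat.card_zpowers, hdo, pow_one]⟩
      obtain ⟨g, hg⟩ := exists_le_conj_sylow R hZp
      have hZeq : zpowers d = (R : Subgroup G).map (MulAut.conj g).toMonoidHom := by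
        apply Subgroup.eq_of_le_of_card_ge hg
        rw [card_map_conj, hcardR, Nat.card_zpowers, hdo]
      obtain ⟨v, hv, n, hn, rfl⟩ := hfac g
      have hZv : zpowers d = (R : Subgroup G).map (MulAut.conj v).toMonoidHom := by
        rw [hZeq, map_conj_mul, mem_normalizer_iff_map.mp hn]
      have key : ∀ b x : G, b * c * b⁻¹ = c⁻¹ → π b = π x →
          x ∈ normalizer ((R : Subgroup G) : Set G) → b = v * x * v⁻¹ := by
        intro b x hb hπb hx
        have h2 := hnorm b hb
        rw [hZv, normalizer_map_conj, mem_conj_iff] at h2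
        have h3 : v⁻¹ * b * v = x := by
          apply hπN _ h2 _ hx
          rw [map_mul, map_mul, map_inv, (hπ1 v).mpr hv, hπb]
          simp
        rw [← h3]
        group
      exact ⟨v, hv, key b₀ a hc0 hb0 haN, key b₁ a' hc1 hb1 ha'N⟩
    have hinj : ∀ u ∈ V, ∀ v ∈ V, u * a * u⁻¹ = v * a * v⁻¹ → u * a' * u⁻¹ = v * a' * v⁻¹ → u = v := by
      intro u hu v hv h1 h2
      set w := u⁻¹ * v with hw
      have hwV : w ∈ V := V.mul_mem (V.inv_mem hu) hv
      have hwa : w * a = a * w := by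
        calc w * a = u⁻¹ * (v * a * v⁻¹) * v := by rw [hw]; group
          _ = u⁻¹ * (u * a * u⁻¹) * v := by rw [h1]
          _ = a * w := by rw [hw]; group
      have hwa' : w * a' = a' * w := by
        calc w * a' = u⁻¹ * (v * a' * v⁻¹) * v := by rw [hw]; group
          _ = u⁻¹ * (u * a' * u⁻¹) * v := by rw [h2]
          _ = a' * w := by rw [hw]; group
      have hρ2 : a * a' = ρ⁻¹ * ρ⁻¹ := by
        have e : a * a' = (a * ρ * a⁻¹) * (a * a) * ρ⁻¹ := by rw [ha']; group
        rw [e, hinv, haa, mul_one]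
      have hcomm : Commute w (ρ⁻¹ * ρ⁻¹) := by
        change w * (ρ⁻¹ * ρ⁻¹) = (ρ⁻¹ * ρ⁻¹) * w
        rw [← hρ2]
        calc w * (a * a') = (w * a) * a' := by group
          _ = (a * w) * a' := by rw [hwa]
          _ = a * (w * a') := by group
          _ = a * (a' * w) := by rw [hwa']
          _ = (a * a') * w := by group
      obtain ⟨m, hm⟩ := hodd
      have e : (ρ⁻¹ * ρ⁻¹) ^ m = ρ := by
        have h : ρ⁻¹ ^ (2 * m + 1) = 1 := by rw [inv_pow, ← hm, hρr, inv_one]
        have h2 : (ρ⁻¹ * ρ⁻¹) ^ m = ρ⁻¹ ^ (2 * m) := by rw [← pow_two, ← pow_mul]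
        rw [h2]
        rw [pow_succ] at h
        simpa using eq_inv_of_mul_eq_one_left h
      have hcomm2 : Commute w ρ := by
        have := hcomm.pow_right m
        rwa [e] at this
      have hmem : w ∈ V ⊓ centralizer ((R : Subgroup G) : Set G) := by
        refine mem_inf.mpr ⟨hwV, mem_centralizer_iff.mpr ?_⟩
        intro x hx
        have hx' : x ∈ zpowers ρ := by rw [← hRz]; exact hx
        obtain ⟨k, rfl⟩ := mem_zpowers_iff.mp hx'
        exact ((hcomm2.zpow_right k).symm).eq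
      rw [hC, mem_bot] at hmem
      have : u⁻¹ * v = 1 := hmem
      exact (inv_mul_eq_one.mp this)
    have hconjinv : ∀ (x v : G), x * x = 1 → (v * x * v⁻¹) * (v * x * v⁻¹) = 1 := by
      intro x v hx
      have : (v * x * v⁻¹) * (v * x * v⁻¹) = v * (x * x) * v⁻¹ := by group
      rw [this, hx]
      group
    have hconjπ : ∀ (x v : G), v ∈ V → π (v * x * v⁻¹) = π x := by
      intro x v hv
      rw [map_mul, map_mul, map_inv, (hπ1 v).mpr hv]
      simp
    refine ⟨?_, ?_⟩
    · intro b hb2 hbV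
      have hbb : b * b = 1 := by
        rw [← pow_two, ← hb2, pow_orderOf_eq_one]
      obtain ⟨j, hj⟩ : ∃ j, π b = DihedralGroup.sr j :=
        dih_invol hodd (by rw [← map_mul, hbb, map_one]) (fun h => hbV ((hπ1 b).mp h))
      obtain ⟨g, hg⟩ := hπs (DihedralGroup.r ((j - j₀) / 2))
      have h1 : π (g * b * g⁻¹) = π a := by
        have h2 : (j - j₀) / 2 * 2 = j - j₀ := div_mul_cancel₀ _ htwo0
        rw [map_mul, map_mul, map_inv, hg, hj, hj₀, DihedralGroup.inv_r, DihedralGroup.r_mul_sr,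
          DihedralGroup.sr_mul_r]
        congr 1
        linear_combination -h2
      obtain ⟨v, hv, h2, -⟩ := hsurj (g * b * g⁻¹) a' (hconjinv b g hbb) h1 ha'a' rfl
      refine ⟨g⁻¹ * v, ?_⟩
      calc g⁻¹ * v * a * (g⁻¹ * v)⁻¹ = g⁻¹ * (v * a * v⁻¹) * g := by group
        _ = g⁻¹ * (g * b * g⁻¹) * g := by rw [← h2]
        _ = b := by group
    · let I₀ := {b : G // b * b = 1 ∧ π b = π a}
      let I₁ := {b : G // b * b = 1 ∧ π b = π a'}
      have hcard01 : Nat.card ↥V = Nat.card I₀ * Nat.card I₁ := by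
        rw [← Nat.card_prod]
        apply Nat.card_congr
        refine Equiv.ofBijective (fun v : ↥V => ((⟨v * a * (v : G)⁻¹, hconjinv a v haa, hconjπ a v v.2⟩ : I₀),
          (⟨v * a' * (v : G)⁻¹, hconjinv a' v ha'a', hconjπ a' v v.2⟩ : I₁))) ⟨?_, ?_⟩
        · intro u v huv
          have h0 := congrArg (fun p : I₀ × I₁ => p.1.1) huv
          have h1 := congrArg (fun p : I₀ × I₁ => p.2.1) huv
          exact Subtype.ext (hinj u u.2 v v.2 h0 h1)
        · rintro ⟨⟨b₀, h0, hb0⟩, ⟨b₁, h1, hb1⟩⟩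
          obtain ⟨v, hv, e0, e1⟩ := hsurj b₀ b₁ h0 hb0 h1 hb1
          refine ⟨⟨v, hv⟩, ?_⟩
          exact Prod.ext (Subtype.ext e0.symm) (Subtype.ext e1.symm)
      have hcent : ∀ w : G, w ∈ centralizer ({a} : Set G) → w * a * w⁻¹ = a := by
        intro w hw
        have h1 := mem_centralizer_iff.mp hw a (Set.mem_singleton a)
        rw [mul_inv_eq_iff_eq_mul]
        exact h1.symm
      have hcard1c : Nat.card ↥(V ⊓ centralizer ({a} : Set G)) = Nat.card I₁ := by
        apply Nat.card_congr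
        refine Equiv.ofBijective (fun w : ↥(V ⊓ centralizer ({a} : Set G)) =>
          (⟨w * a' * (w : G)⁻¹, hconjinv a' w ha'a', hconjπ a' w (mem_inf.mp w.2).1⟩ : I₁)) ⟨?_, ?_⟩
        · intro u v huv
          have huv' := congrArg (fun p : I₁ => p.1) huv
          refine Subtype.ext (hinj u (mem_inf.mp u.2).1 v (mem_inf.mp v.2).1 ?_ huv')
          rw [hcent u (mem_inf.mp u.2).2, hcent v (mem_inf.mp v.2).2]
        · rintro ⟨b₁, h1, hb1⟩
          obtain ⟨v, hv, e0, e1⟩ := hsurj a b₁ haa rfl h1 hb1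
          have hvc : v ∈ centralizer ({a} : Set G) := by
            refine mem_centralizer_iff.mpr ?_
            intro x hx
            rw [Set.mem_singleton_iff.mp hx]
            have h2 : v * a = a * v := by
              conv_rhs => rw [e0]
              group
            exact h2.symm
          refine ⟨⟨v, mem_inf.mpr ⟨hv, hvc⟩⟩, ?_⟩
          exact Subtype.ext e1.symm
      have hρπ : ∀ x y : G, π x = π y → π (ρ * x * ρ⁻¹) = π (ρ * y * ρ⁻¹) := by
        intro x y hxy
        rw [map_mul, map_mul, map_mul, map_mul, hxy]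
      have hρπ' : ∀ x y : G, π (ρ * x * ρ⁻¹) = π (ρ * y * ρ⁻¹) → π x = π y := by
        intro x y hxy
        rw [map_mul, map_mul, map_mul, map_mul] at hxy
        exact mul_left_cancel (mul_right_cancel hxy)
      have hcard01' : Nat.card I₀ = Nat.card I₁ := by
        apply Nat.card_congr
        refine
          { toFun := fun b => (⟨ρ * b.1 * ρ⁻¹, hconjinv _ _ b.2.1, hρπ _ _ b.2.2⟩ : I₁)
            invFun := fun b => (⟨ρ⁻¹ * b.1 * ρ, ?_, ?_⟩ : I₀)
            left_inv := ?_
            right_inv := ?_ }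
        · have := hconjinv b.1 ρ⁻¹ b.2.1
          simpa using this
        · apply hρπ'
          have : ρ * (ρ⁻¹ * b.1 * ρ) * ρ⁻¹ = b.1 := by group
          rw [this]
          exact b.2.2
        · intro b
          apply Subtype.ext
          change ρ⁻¹ * (ρ * b.1 * ρ⁻¹) * ρ = b.1
          group
        · intro b
          apply Subtype.ext
          change ρ * (ρ⁻¹ * b.1 * ρ) * ρ⁻¹ = b.1
          group
      rw [hcard1c, hcard01, hcard01', pow_two]

end Cfsg.Agent.S2873
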