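import Cfsg.Statements.S2874
import Cfsg.Agent.Lib.LocalStruct.Basic

set_option autoImplicit false
open Cfsg

namespace Cfsg.Agent.S2874

open Equiv Equiv.Perm Matrix Cfsg.Agent.Lib.LocalStruct.Basic

def cP : Perm (Fin 4) := swap 0 1 * swap 1 2
def tP : Perm (Fin 4) := swap 0 1 * swap 2 3

def cA : alternatingGroup (Fin 4) := ⟨cP, by rw [mem_alternatingGroup]; decide⟩
def tA : alternatingGroup (Fin 4) := ⟨tP, by rw [mem_alternatingGroup]; decide⟩

theorem rel_c : cA * cA * cA = 1 := by apply Subtype.ext; change cP * cP * cP = 1; decide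
theorem rel_c1 : cA ≠ 1 := by intro h; have := congrArg Subtype.val h; change cP = 1 at this; revert this; decide
theorem rel_t : tA * tA = 1 := by apply Subtype.ext; change tP * tP = 1; decide
theorem rel_t1 : tA ≠ 1 := by intro h; have := congrArg Subtype.val h; change tP = 1 at this; revert this; decide
theorem rel_1 : tA * (cA * tA * cA⁻¹) = cA * (cA * tA * cA⁻¹) * cA⁻¹ := by
  apply Subtype.ext; change tP * (cP * tP * cP⁻¹) = cP * (cP * tP * cP⁻¹) * cP⁻¹; decide
theorem rel_2 : (cA * tA * cA⁻¹) * tA = cA * (cA * tA * cA⁻¹) * cA⁻¹ := by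
  apply Subtype.ext; change (cP * tP * cP⁻¹) * tP = cP * (cP * tP * cP⁻¹) * cP⁻¹; decide

set_option maxRecDepth 100000 in
theorem wordsP : ∀ g : Perm (Fin 4), sign g = 1 → ∃ i : Fin 3, ∃ j : Fin 2, ∃ l : Fin 2,
    g = cP ^ i.val * tP ^ j.val * (cP * tP * cP⁻¹) ^ l.val := by
  decide

theorem closure_ct : Subgroup.closure ({cA, tA} : Set (alternatingGroup (Fin 4))) = ⊤ := by
  rw [eq_top_iff]
  rintro g -
  obtain ⟨i, j, l, h⟩ := wordsP g.1 (mem_alternatingGroup.mp g.2)
  have e : g = cA ^ i.val * tA ^ j.val * (cA * tA * cA⁻¹) ^ l.val := Subtype.ext h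
  rw [e]
  have hc : cA ∈ Subgroup.closure ({cA, tA} : Set (alternatingGroup (Fin 4))) :=
    Subgroup.subset_closure (by simp)
  have ht : tA ∈ Subgroup.closure ({cA, tA} : Set (alternatingGroup (Fin 4))) :=
    Subgroup.subset_closure (by simp)
  exact mul_mem (mul_mem (pow_mem hc _) (pow_mem ht _))
    (pow_mem (mul_mem (mul_mem hc ht) (inv_mem hc)) _)

variable {k : ℕ}

def psi (hk : k ≠ 0) : ZMod (2 ^ k) →+* ZMod 2 := ZMod.castHom (dvd_pow_self 2 hk) (ZMod 2)

theorem isUnit_of_psi (hk : k ≠ 0) (x : ZMod (2 ^ k)) (h : psi hk x = 1) : IsUnit x := by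
  haveI : NeZero (2 ^ k) := ⟨by positivity⟩
  have hx : x = ((x.val : ℕ) : ZMod (2 ^ k)) := (ZMod.natCast_zmod_val x).symm
  rw [hx, ZMod.isUnit_iff_coprime]
  apply Nat.Coprime.pow_right
  rw [Nat.coprime_two_right]
  by_contra hodd
  have heven : Even x.val := Nat.not_odd_iff_even.mp hodd
  have h0 : ((x.val : ℕ) : ZMod 2) = 0 := (ZMod.natCast_eq_zero_iff_even).mpr heven
  have h1 : psi hk x = ((x.val : ℕ) : ZMod 2) := by
    conv_lhs => rw [hx]
    exact map_natCast (psi hk) x.val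
  rw [h1, h0] at h
  exact zero_ne_one h

theorem psi_of_isUnit (hk : k ≠ 0) (x : ZMod (2 ^ k)) (h : IsUnit x) : psi hk x = 1 := by
  have h1 : IsUnit (psi hk x) := h.map (psi hk)
  have : ∀ y : ZMod 2, IsUnit y → y = 1 := by decide
  exact this _ h1

theorem cases2 : ∀ p q r s : ZMod 2, p * s - q * r = 1 →
    (p - 1) * (1 + p + (p * p + q * r)) + q * (r + (r * p + s * r)) = 0 →
    (p - 1) * (q + (p * q + q * s)) + q * (1 + s + (r * q + s * s)) = 0 →
    r * (1 + p + (p * p + q * r)) + (s - 1) * (r + (r * p + s * r)) = 0 →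
    r * (q + (p * q + q * s)) + (s - 1) * (1 + s + (r * q + s * s)) = 0 →
    (p = 1 ∧ q = 0 ∧ r = 0 ∧ s = 1) ∨ (r = 1 ∧ (p - 1) * (s - 1) - q * r = 1) := by
  decide

def om (k : ℕ) : GL (Fin 2) (ZMod (2 ^ k)) where
  val := !![0, -1; 1, -1]
  inv := !![-1, 1; -1, 0]
  val_inv := by
    rw [Matrix.mul_fin_two, Matrix.one_fin_two]
    congr 1
    simp
  inv_val := by
    rw [Matrix.mul_fin_two, Matrix.one_fin_two]
    congr 1
    simp

theorem mat_eq {R : Type*} {a b c d a' b' c' d' : R}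
    (h : (!![a, b; c, d] : Matrix (Fin 2) (Fin 2) R) = !![a', b'; c', d']) :
    a = a' ∧ b = b' ∧ c = c' ∧ d = d' := by
  refine ⟨?_, ?_, ?_, ?_⟩
  · simpa using congrFun (congrFun h 0) 0
  · simpa using congrFun (congrFun h 0) 1
  · simpa using congrFun (congrFun h 1) 0
  · simpa using congrFun (congrFun h 1) 1

theorem eq_mat {R : Type*} {a b c d a' b' c' d' : R} (h1 : a = a') (h2 : b = b') (h3 : c = c') (h4 : d = d') :
    (!![a, b; c, d] : Matrix (Fin 2) (Fin 2) R) = !![a', b'; c', d'] := by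
  rw [h1, h2, h3, h4]

theorem exists_conj_om (hk : k ≠ 0) (g : GL (Fin 2) (ZMod (2 ^ k))) (h3 : g * g * g = 1) (h1 : g ≠ 1) :
    ∃ P : GL (Fin 2) (ZMod (2 ^ k)), g = P * om k * P⁻¹ := by
  have hMM : g.val * g.val * g.val = 1 := congrArg Units.val h3
  have hdet : IsUnit (g.val).det := (Matrix.isUnit_iff_isUnit_det _).mp g.isUnit
  have hd1 : psi hk (g.val).det = 1 := psi_of_isUnit hk _ hdet
  obtain ⟨p, q, r, s, hMe⟩ : ∃ p q r s, g.val = !![p, q; r, s] := ⟨_, _, _, _, Matrix.eta_fin_two _⟩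
  have hne1 : g.val ≠ 1 := fun h => h1 (Units.ext h)
  rw [hMe] at hMM hd1 hne1
  rw [Matrix.det_fin_two_of] at hd1
  set M : Matrix (Fin 2) (Fin 2) (ZMod (2 ^ k)) := !![p, q; r, s] with hM
  have hAD : (M - 1) * (1 + M + M * M) = 0 := by
    have : (M - 1) * (1 + M + M * M) = M * M * M - 1 := by noncomm_ring
    rw [this, hMM, sub_self]
  have hD : 1 + M + M * M = !![1 + p + (p * p + q * r), q + (p * q + q * s); r + (r * p + s * r), 1 + s + (r * q + s * s)] := by
    rw [hM, Matrix.mul_fin_two, Matrix.one_fin_two]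
    simp [Matrix.of_add_of]
  have hA : M - 1 = !![p - 1, q; r, s - 1] := by
    rw [hM, Matrix.one_fin_two]
    simp [Matrix.of_sub_of]
  rw [hD, hA, Matrix.mul_fin_two, ← Matrix.ext_iff] at hAD
  have e1 := hAD 0 0
  have e2 := hAD 0 1
  have e3 := hAD 1 0
  have e4 := hAD 1 1
  simp only [Matrix.of_apply, Matrix.cons_val', Matrix.cons_val_zero, Matrix.cons_val_one, Matrix.cons_val_fin_one, Matrix.zero_apply] at e1 e2 e3 e4
  have cs := cases2 (psi hk p) (psi hk q) (psi hk r) (psi hk s)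
    (by simpa only [map_sub, map_mul] using hd1)
    (by simpa only [map_add, map_sub, map_mul, map_one, map_zero] using congrArg (psi hk) e1)
    (by simpa only [map_add, map_sub, map_mul, map_one, map_zero] using congrArg (psi hk) e2)
    (by simpa only [map_add, map_sub, map_mul, map_one, map_zero] using congrArg (psi hk) e3)
    (by simpa only [map_add, map_sub, map_mul, map_one, map_zero] using congrArg (psi hk) e4)
  rcases cs with ⟨hp, hq, hr, hs⟩ | ⟨hr, hdA⟩
  · exfalso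
    have hdetD : IsUnit (1 + M + M * M).det := by
      apply isUnit_of_psi hk
      rw [hD, Matrix.det_fin_two_of]
      simp only [map_add, map_sub, map_mul, map_one, hp, hq, hr, hs]
      decide
    have hDu : IsUnit (1 + M + M * M) := (Matrix.isUnit_iff_isUnit_det _).mpr hdetD
    have hA0 : M - 1 = 0 := by
      have h0 : (M - 1) * (1 + M + M * M) = 0 := by
        have : (M - 1) * (1 + M + M * M) = M * M * M - 1 := by noncomm_ring
        rw [this, hMM, sub_self]
      exact (hDu.mul_left_eq_zero).mp h0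
    exact hne1 (sub_eq_zero.mp hA0)
  · have hdetA : IsUnit (M - 1).det := by
      apply isUnit_of_psi hk
      rw [hA, Matrix.det_fin_two_of]
      simpa only [map_add, map_sub, map_mul, map_one] using hdA
    have hAu : IsUnit (M - 1) := (Matrix.isUnit_iff_isUnit_det _).mpr hdetA
    have hD0 : 1 + M + M * M = 0 := by
      have h0 : (M - 1) * (1 + M + M * M) = 0 := by
        have : (M - 1) * (1 + M + M * M) = M * M * M - 1 := by noncomm_ring
        rw [this, hMM, sub_self]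
      exact (hAu.mul_right_eq_zero).mp h0
    rw [hD, ← Matrix.ext_iff] at hD0
    have d00 := hD0 0 0
    have d10 := hD0 1 0
    simp only [Matrix.of_apply, Matrix.cons_val', Matrix.cons_val_zero, Matrix.cons_val_one, Matrix.cons_val_fin_one, Matrix.zero_apply] at d00 d10
    have hru : IsUnit r := isUnit_of_psi hk r hr
    have hPdet : IsUnit (!![1, p; 0, r] : Matrix (Fin 2) (Fin 2) (ZMod (2 ^ k))).det := by
      rw [Matrix.det_fin_two_of]
      simpa using hru
    refine ⟨Matrix.nonsingInvUnit _ hPdet, ?_⟩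
    apply eq_mul_inv_of_mul_eq
    apply Units.ext
    change g.val * !![1, p; 0, r] = !![1, p; 0, r] * (!![0, -1; 1, -1])
    rw [hMe, Matrix.mul_fin_two, Matrix.mul_fin_two]
    apply eq_mat
    · ring
    · linear_combination d00
    · ring
    · linear_combination d10

theorem basis_zero {R : Type*} [CommRing R] (h3 : IsUnit (3 : R)) {x₁ x₂ x₃ x₄ : R}
    (h00 : x₁ - x₄ = 0) (h01 : -x₂ + x₃ = 0) (h10 : x₂ + x₃ - x₄ = 0) (h11 : x₁ - x₂ + x₄ = 0) :
    x₁ = 0 ∧ x₂ = 0 ∧ x₃ = 0 ∧ x₄ = 0 := by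
  have e : 3 * x₂ = 0 := by linear_combination -h00 - 2 * h01 + 2 * h10 + h11
  have h2 : x₂ = 0 := (h3.mul_right_eq_zero).mp e
  have h3' : x₃ = 0 := by linear_combination h01 + h2
  have h4 : x₄ = 0 := by linear_combination -h10 + h2 + h3'
  have h1 : x₁ = 0 := by linear_combination h00 + h4
  exact ⟨h1, h2, h3', h4⟩

theorem two_torsion (hk : k ≠ 0) (y : ZMod (2 ^ k)) (h : 2 * y = 0) :
    y = 0 ∨ y = ((2 ^ (k - 1) : ℕ) : ZMod (2 ^ k)) := by
  haveI : NeZero (2 ^ k) := ⟨by positivity⟩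
  have hx : y = ((y.val : ℕ) : ZMod (2 ^ k)) := (ZMod.natCast_zmod_val y).symm
  rw [hx] at h
  have h2 : ((2 * y.val : ℕ) : ZMod (2 ^ k)) = 0 := by
    push_cast
    exact h
  rw [ZMod.natCast_eq_zero_iff] at h2
  have hk2 : 2 ^ k = 2 * 2 ^ (k - 1) := by
    rw [← pow_succ']
    congr 1
    omega
  have h2' : 2 * 2 ^ (k - 1) ∣ 2 * y.val := by rw [← hk2]; exact h2
  have h3 : 2 ^ (k - 1) ∣ y.val := Nat.dvd_of_mul_dvd_mul_left (by norm_num) h2'
  obtain ⟨c, hc⟩ := h3
  have hlt : y.val < 2 * 2 ^ (k - 1) := by rw [← hk2]; exact ZMod.val_lt y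
  have hpos : 0 < 2 ^ (k - 1) := by positivity
  have hc2 : c < 2 := by
    rw [hc, mul_comm 2] at hlt
    exact Nat.lt_of_mul_lt_mul_left hlt
  interval_cases c
  · left
    rw [hx, hc]
    simp
  · right
    rw [hx, hc]
    simp

theorem hh_facts (hk : 2 ≤ k) :
    ((2 ^ (k - 1) : ℕ) : ZMod (2 ^ k)) * ((2 ^ (k - 1) : ℕ) : ZMod (2 ^ k)) = 0 ∧
      2 * ((2 ^ (k - 1) : ℕ) : ZMod (2 ^ k)) = 0 := by
  have hk2 : 2 ^ k = 2 * 2 ^ (k - 1) := by
    rw [← pow_succ']
    congr 1
    omega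
  constructor
  · rw [← Nat.cast_mul, ZMod.natCast_eq_zero_iff, ← pow_add]
    exact pow_dvd_pow _ (by omega)
  · have : (2 : ZMod (2 ^ k)) * ((2 ^ (k - 1) : ℕ) : ZMod (2 ^ k)) = ((2 * 2 ^ (k - 1) : ℕ) : ZMod (2 ^ k)) := by
      push_cast
      ring
    rw [this, ← hk2]
    exact ZMod.natCast_self _

def bb (hk : 2 ≤ k) : GL (Fin 2) (ZMod (2 ^ k)) where
  val := !![1, ((2 ^ (k - 1) : ℕ) : ZMod (2 ^ k)); ((2 ^ (k - 1) : ℕ) : ZMod (2 ^ k)), 1]
  inv := !![1, ((2 ^ (k - 1) : ℕ) : ZMod (2 ^ k)); ((2 ^ (k - 1) : ℕ) : ZMod (2 ^ k)), 1]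
  val_inv := by
    obtain ⟨h1, h2⟩ := hh_facts hk
    rw [Matrix.mul_fin_two, Matrix.one_fin_two]
    apply eq_mat
    · linear_combination h1
    · linear_combination h2
    · linear_combination h2
    · linear_combination h1
  inv_val := by
    obtain ⟨h1, h2⟩ := hh_facts hk
    rw [Matrix.mul_fin_two, Matrix.one_fin_two]
    apply eq_mat
    · linear_combination h1
    · linear_combination h2
    · linear_combination h2
    · linear_combination h1

theorem conj_formula {R : Type*} [CommRing R] (p q r s : R) :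
    (!![0, -1; 1, -1] : Matrix (Fin 2) (Fin 2) R) * !![p, q; r, s] * !![-1, 1; -1, 0] =
      !![r + s, -r; r + s - p - q, p - r] := by
  rw [Matrix.mul_fin_two, Matrix.mul_fin_two]
  apply eq_mat <;> ring

theorem val_conj (a : GL (Fin 2) (ZMod (2 ^ k))) :
    (om k * a * (om k)⁻¹).val = !![0, -1; 1, -1] * a.val * !![-1, 1; -1, 0] := rfl

theorem eq_of_rel (hk : 2 ≤ k) (a : GL (Fin 2) (ZMod (2 ^ k))) (ha1 : a ≠ 1) (h2 : a * a = 1)
    (h3 : a * (om k * a * (om k)⁻¹) = om k * (om k * a * (om k)⁻¹) * (om k)⁻¹)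
    (h4 : (om k * a * (om k)⁻¹) * a = om k * (om k * a * (om k)⁻¹) * (om k)⁻¹) :
    a = bb hk ∨ a = om k * bb hk * (om k)⁻¹ ∨ a = om k * (om k * bb hk * (om k)⁻¹) * (om k)⁻¹ := by
  have hk0 : k ≠ 0 := by omega
  have h3u : IsUnit (3 : ZMod (2 ^ k)) := by
    apply isUnit_of_psi hk0
    rw [map_ofNat]
    decide
  obtain ⟨t, ht⟩ := h3u.exists_right_inv
  obtain ⟨p, q, r, s, hMe⟩ : ∃ p q r s, a.val = !![p, q; r, s] := ⟨_, _, _, _, Matrix.eta_fin_two _⟩
  obtain ⟨u, v, y, z, rfl, rfl, rfl, rfl⟩ : ∃ u v y z : ZMod (2 ^ k), p = u - z ∧ q = y - v ∧ r = v + y - z ∧ s = u - v + z := by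
    refine ⟨p + (q + 2 * (t * (s - p - 2 * q + 2 * r)) - r), t * (s - p - 2 * q + 2 * r),
      q + t * (s - p - 2 * q + 2 * r), q + 2 * (t * (s - p - 2 * q + 2 * r)) - r, ?_, ?_, ?_, ?_⟩
    · ring
    · ring
    · ring
    · linear_combination (-(s - p - 2 * q + 2 * r)) * ht
  have hv2 : a.val * a.val = 1 := congrArg Units.val h2
  have hv3 : a.val * (om k * a * (om k)⁻¹).val = (om k * (om k * a * (om k)⁻¹) * (om k)⁻¹).val :=
    congrArg Units.val h3
  have hv4 : (om k * a * (om k)⁻¹).val * a.val = (om k * (om k * a * (om k)⁻¹) * (om k)⁻¹).val :=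
    congrArg Units.val h4
  rw [val_conj (om k * a * (om k)⁻¹), val_conj a, hMe, conj_formula, conj_formula] at hv3 hv4
  rw [hMe, Matrix.mul_fin_two, Matrix.one_fin_two] at hv2
  rw [Matrix.mul_fin_two] at hv3 hv4
  obtain ⟨a00, a01, a10, a11⟩ := mat_eq hv2
  obtain ⟨b00, b01, b10, b11⟩ := mat_eq hv3
  obtain ⟨c00, c01, c10, c11⟩ := mat_eq hv4
  have hu3 : IsUnit (3 : ZMod (2 ^ k)) := by
    apply isUnit_of_psi hk0
    rw [map_ofNat]
    decide
  -- write `N` for the norm of `β`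
  obtain ⟨A1, A2, A3, A4⟩ := basis_zero hu3
    (x₁ := u ^ 2 - v ^ 2 + (y ^ 2 - y * z + z ^ 2) - 1) (x₂ := 2 * u * v - v ^ 2)
    (x₃ := (2 * u - v) * y) (x₄ := (2 * u - v) * z)
    (by linear_combination a00) (by linear_combination a01)
    (by linear_combination a10) (by linear_combination a11)
  obtain ⟨B1, B2, -, -⟩ := basis_zero hu3
    (x₁ := u ^ 2 - v ^ 2 - u) (x₂ := 2 * u * v - v ^ 2 + (y ^ 2 - y * z + z ^ 2) - v)
    (x₃ := (u + v + 1) * z) (x₄ := -(u + v + 1) * (y - z))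
    (by linear_combination b00) (by linear_combination b01)
    (by linear_combination b10) (by linear_combination b11)
  obtain ⟨C1, -, -, -⟩ := basis_zero hu3
    (x₁ := u ^ 2 - v ^ 2 - (y ^ 2 - y * z + z ^ 2) - u) (x₂ := 2 * u * v - v ^ 2 - (y ^ 2 - y * z + z ^ 2) - v)
    (x₃ := -(2 * v - u - 1) * z) (x₄ := (2 * v - u - 1) * (y - z))
    (by linear_combination c00) (by linear_combination c01)
    (by linear_combination c10) (by linear_combination c11)
  have hN : y ^ 2 - y * z + z ^ 2 = 0 := by linear_combination B1 - C1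
  have hu : u = 1 := by linear_combination A1 - B1 - hN
  have hv : v = 0 := by linear_combination A2 - B2 + hN
  subst hu hv
  have hy : 2 * y = 0 := by linear_combination A3
  have hz : 2 * z = 0 := by linear_combination A4
  obtain ⟨h1, h22⟩ := hh_facts hk
  set h : ZMod (2 ^ k) := ((2 ^ (k - 1) : ℕ) : ZMod (2 ^ k)) with hh
  have hbb : (bb hk).val = !![1, h; h, 1] := rfl
  have hb1 : (om k * bb hk * (om k)⁻¹).val = !![1 - h, h; 0, 1 + h] := by
    rw [val_conj, hbb, conj_formula]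
    apply eq_mat
    · linear_combination h22
    · linear_combination -h22
    · ring
    · linear_combination -h22
  have hb2 : (om k * (om k * bb hk * (om k)⁻¹) * (om k)⁻¹).val = !![1 - h, 0; -h, 1 + h] := by
    rw [val_conj, hb1, conj_formula]
    apply eq_mat
    · linear_combination h22
    · ring
    · linear_combination h22
    · linear_combination -h22
  rcases two_torsion hk0 y hy with rfl | hy' <;> rcases two_torsion hk0 z hz with rfl | hz'
  · exfalso
    apply ha1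
    apply Units.ext
    rw [hMe, Units.val_one, Matrix.one_fin_two]
    apply eq_mat <;> ring
  · right; right
    apply Units.ext
    rw [hb2, hMe, hz']
    apply eq_mat <;> ring
  · left
    apply Units.ext
    rw [hMe, hy', hbb]
    apply eq_mat <;> ring
  · right; left
    apply Units.ext
    rw [hMe, hy', hz', hb1]
    apply eq_mat <;> ring

theorem closure_conj {G : Type*} [Group G] (x b : G) :
    Subgroup.closure ({x, x * b * x⁻¹} : Set G) = Subgroup.closure ({x, b} : Set G) := by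
  apply le_antisymm
  · rw [Subgroup.closure_le]
    have hx : x ∈ Subgroup.closure ({x, b} : Set G) := Subgroup.subset_closure (by simp)
    have hb : b ∈ Subgroup.closure ({x, b} : Set G) := Subgroup.subset_closure (by simp)
    rintro w (rfl | rfl)
    · exact hx
    · exact mul_mem (mul_mem hx hb) (inv_mem hx)
  · rw [Subgroup.closure_le]
    have hx : x ∈ Subgroup.closure ({x, x * b * x⁻¹} : Set G) := Subgroup.subset_closure (by simp)
    have hb : x * b * x⁻¹ ∈ Subgroup.closure ({x, x * b * x⁻¹} : Set G) :=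
      Subgroup.subset_closure (by simp)
    rintro w (rfl | rfl)
    · exact hx
    · have h5 : x⁻¹ * (x * w * x⁻¹) * x ∈ Subgroup.closure ({x, x * w * x⁻¹} : Set G) :=
        mul_mem (mul_mem (inv_mem hx) hb) hx
      have e : x⁻¹ * (x * w * x⁻¹) * x = w := by group
      rwa [e] at h5

theorem range_eq (hk : 2 ≤ k) (f : alternatingGroup (Fin 4) →* GL (Fin 2) (ZMod (2 ^ k)))
    (hf : Function.Injective f) (hc : f cA = om k) :
    f.range = Subgroup.closure ({om k, bb hk} : Set (GL (Fin 2) (ZMod (2 ^ k)))) := by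
  have h1 : f.range = Subgroup.closure ({om k, f tA} : Set (GL (Fin 2) (ZMod (2 ^ k)))) := by
    rw [MonoidHom.range_eq_map, ← closure_ct, MonoidHom.map_closure, Set.image_pair, hc]
  have hrel := eq_of_rel hk (f tA)
    (fun h => rel_t1 (hf (by rw [h, map_one])))
    (by rw [← map_mul, rel_t, map_one])
    (by
      have := congrArg f rel_1
      simpa only [map_mul, map_inv, hc] using this)
    (by
      have := congrArg f rel_2
      simpa only [map_mul, map_inv, hc] using this)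
  rw [h1]
  rcases hrel with h | h | h
  · rw [h]
  · rw [h, closure_conj]
  · rw [h, closure_conj, closure_conj]

theorem exists_eq_map (hk : 2 ≤ k) (H : Subgroup (GL (Fin 2) (ZMod (2 ^ k))))
    (e : ↥H ≃* ↥(alternatingGroup (Fin 4))) :
    ∃ P : GL (Fin 2) (ZMod (2 ^ k)), H = (Subgroup.closure ({om k, bb hk} : Set (GL (Fin 2) (ZMod (2 ^ k))))).map (MulAut.conj P).toMonoidHom := by
  let f₀ : alternatingGroup (Fin 4) →* GL (Fin 2) (ZMod (2 ^ k)) := H.subtype.comp e.symm.toMonoidHom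
  have hf₀ : Function.Injective f₀ := H.subtype_injective.comp e.symm.injective
  have hr₀ : f₀.range = H := by
    rw [MonoidHom.range_comp, MonoidHom.range_eq_top_of_surjective _ e.symm.surjective,
      ← MonoidHom.range_eq_map]
    exact H.range_subtype
  obtain ⟨P, hP⟩ := exists_conj_om (by omega) (f₀ cA) (by rw [← map_mul, ← map_mul, rel_c, map_one])
    (fun h => rel_c1 (hf₀ (by rw [h, map_one])))
  refine ⟨P, ?_⟩
  let f : alternatingGroup (Fin 4) →* GL (Fin 2) (ZMod (2 ^ k)) := (MulAut.conj P⁻¹).toMonoidHom.comp f₀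
  have hf : Function.Injective f := (MulAut.conj P⁻¹).injective.comp hf₀
  have hfc : f cA = om k := by
    change (MulAut.conj P⁻¹) (f₀ cA) = om k
    rw [hP, MulAut.conj_apply]
    group
  have hr := range_eq hk f hf hfc
  rw [← hr, MonoidHom.range_comp, hr₀, map_conj_map_conj_inv]


/-- For k ≥ 2, any two subgroups of GL₂(ℤ/2ᵏℤ) (the automorphism group of the homocyclic group ℤ/2ᵏ × ℤ/2ᵏ) that are isomorphic to the alternating group of degree 4 are conjugate. -/
theorem result (k : ℕ) (hk : 2 ≤ k) (H₁ H₂ : Subgroup (GL (Fin 2) (ZMod (2 ^ k)))) (h₁ : Nonempty (↥H₁ ≃* ↥(alternatingGroup (Fin 4)))) (h₂ : Nonempty (↥H₂ ≃* ↥(alternatingGroup (Fin 4)))) : ∃ g : GL (Fin 2) (ZMod (2 ^ k)), H₂ = H₁.map (MulAut.conj g).toMonoidHom := by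
  classical
  obtain ⟨e₁⟩ := h₁
  obtain ⟨e₂⟩ := h₂
  obtain ⟨P₁, hP₁⟩ := exists_eq_map hk H₁ e₁
  obtain ⟨P₂, hP₂⟩ := exists_eq_map hk H₂ e₂
  refine ⟨P₂ * P₁⁻¹, ?_⟩
  rw [hP₁, hP₂, ← map_conj_mul, inv_mul_cancel_right]


end Cfsg.Agent.S2874
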