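import Cfsg.Statements.S2879
import Cfsg.Agent.Lib.LocalStruct.Basic
import Cfsg.Agent.Lib.LocalStruct.Comm
import Cfsg.Agent.Lib.Solvable.Fitting
import Cfsg.Agent.Lib.ElementFusion.SL23
import Cfsg.Agent.Lib.TwoGroups.QD

set_option autoImplicit false
open Cfsg

namespace Cfsg.Agent.S2879

open Subgroup Cfsg.Agent.Lib.LocalStruct Cfsg.Agent.Lib.LocalStruct.Basic Cfsg.Agent.Lib.LocalStruct.Comm

variable {G : Type*} [Group G]

theorem comm_of_cyclic [Finite G] {y : G} (hy : Odd (orderOf y)) {A : Subgroup G}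
    (hAc : IsCyclic A) (hA2 : IsPGroup 2 A) (hyA : y ∈ normalizer (A : Set G)) :
    ∀ a ∈ A, y * a * y⁻¹ = a := by
  classical
  intro a ha
  let φ := normalizerMonoidHom A
  let α := φ ⟨y, hyA⟩
  have h1 : orderOf α ∣ orderOf y := by
    have := orderOf_map_dvd φ ⟨y, hyA⟩
    rwa [Subgroup.orderOf_mk] at this
  have h2 : orderOf α ∣ Nat.card (MulAut A) := orderOf_dvd_natCard α
  rw [IsCyclic.card_mulAut] at h2
  obtain ⟨k, hk⟩ := IsPGroup.iff_card.mp hA2
  rw [hk] at h2
  have h3 : orderOf α = 1 := by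
    cases k with
    | zero => simpa using h2
    | succ m =>
      rw [Nat.totient_prime_pow_succ Nat.prime_two] at h2
      simp only [Nat.add_one_sub_one, Nat.reduceSub, mul_one] at h2
      obtain ⟨b, -, hb⟩ := (Nat.dvd_prime_pow Nat.prime_two).mp h2
      rw [hb] at h1 ⊢
      cases b with
      | zero => simp
      | succ b =>
        exfalso
        have : 2 ∣ orderOf y := (Dvd.intro_left _ (pow_succ 2 b).symm).trans h1
        exact (Nat.not_even_iff_odd.mpr hy) (even_iff_two_dvd.mpr this)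
  have h4 : α = 1 := orderOf_eq_one_iff.mp h3
  have h5 : α ⟨a, ha⟩ = ⟨a, ha⟩ := by rw [h4]; rfl
  exact congrArg Subtype.val h5

theorem eq_one_of_two_elt {c : G} (hc : ∃ k : ℕ, c ^ 2 ^ k = 1) {n : ℕ} (hn : Odd n) (h : c ^ n = 1) : c = 1 := by
  obtain ⟨k, hk⟩ := hc
  have h1 := orderOf_dvd_of_pow_eq_one hk
  have h2 := orderOf_dvd_of_pow_eq_one h
  obtain ⟨b, -, hb⟩ := (Nat.dvd_prime_pow Nat.prime_two).mp h1
  rw [hb] at h2
  cases b with
  | zero => simpa [orderOf_eq_one_iff] using hb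
  | succ b =>
    exfalso
    have : 2 ∣ n := (Dvd.intro_left _ (pow_succ 2 b).symm).trans h2
    exact (Nat.not_even_iff_odd.mpr hn) (even_iff_two_dvd.mpr this)

theorem two_elt_of_mem {Q : Subgroup G} (hQ : IsPGroup 2 Q) {c : G} (hc : c ∈ Q) : ∃ k : ℕ, c ^ 2 ^ k = 1 := by
  obtain ⟨k, hk⟩ := hQ ⟨c, hc⟩
  exact ⟨k, congrArg Subtype.val hk⟩

theorem comm_of_index_two [Finite G] {y : G} (hy : Odd (orderOf y)) {Q Q₀ : Subgroup G} (hQ₀Q : Q₀ ≤ Q)
    (hQ : IsPGroup 2 Q) (hQ₀c : IsCyclic Q₀) (hyQ : y ∈ normalizer (Q : Set G))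
    (hyQ₀ : y ∈ normalizer (Q₀ : Set G))
    (hprod : ∀ τ ∈ Q, τ ∉ Q₀ → ∀ τ' ∈ Q, τ' ∉ Q₀ → τ⁻¹ * τ' ∈ Q₀) :
    ∀ a ∈ Q, y * a * y⁻¹ = a := by
  have hQ₀2 : IsPGroup 2 Q₀ := hQ.to_le hQ₀Q
  have hcy := comm_of_cyclic hy hQ₀c hQ₀2 hyQ₀
  intro a ha
  by_cases haQ : a ∈ Q₀
  · exact hcy a haQ
  have h1 : y * a * y⁻¹ ∈ Q := conj_mem_of_mem_normalizer hyQ ha
  have h2 : y * a * y⁻¹ ∉ Q₀ := by
    intro h
    apply haQ
    have := conj_inv_mem_of_mem_normalizer hyQ₀ h
    have e : y⁻¹ * (y * a * y⁻¹) * y = a := by group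
    rwa [e] at this
  set c := a⁻¹ * (y * a * y⁻¹) with hc
  have hcQ : c ∈ Q₀ := hprod a ha haQ _ h1 h2
  have hcc := hcy c hcQ
  have hpow : ∀ k : ℕ, y ^ k * a * (y ^ k)⁻¹ = a * c ^ k := by
    intro k
    induction k with
    | zero => simp
    | succ k ih =>
      have e1 : y ^ (k + 1) * a * (y ^ (k + 1))⁻¹ = y * (y ^ k * a * (y ^ k)⁻¹) * y⁻¹ := by
        rw [pow_succ']
        group
      have e2 : y * (a * c ^ k) * y⁻¹ = (y * a * y⁻¹) * (y * c ^ k * y⁻¹) := by group
      have e3 : y * c ^ k * y⁻¹ = c ^ k := by rw [← conj_pow, hcc]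
      have e4 : y * a * y⁻¹ = a * c := by rw [hc]; group
      rw [e1, ih, e2, e3, e4, pow_succ', mul_assoc]
  have h3 := hpow (orderOf y)
  rw [pow_orderOf_eq_one] at h3
  have h4 : c ^ orderOf y = 1 := by
    have : a = a * c ^ orderOf y := by simpa using h3
    exact (mul_eq_left.mp this.symm)
  have h5 : c = 1 := eq_one_of_two_elt (two_elt_of_mem hQ₀2 hcQ) hy h4
  have : y * a * y⁻¹ = a * c := by rw [hc]; group
  rw [this, h5, mul_one]

/-- the structure of the Sylow `2`-subgroup that we need -/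
structure TS {S : Type*} [Group S] (x : S) : Prop where
  four : 4 ∣ orderOf x
  cases : ∀ t : S, t ∉ zpowers x → t ^ 4 = 1 ∧ (∀ u ∈ zpowers x, u ^ 4 = 1 → t * u * t⁻¹ = u⁻¹) ∧
    ∀ t' : S, t' ∉ zpowers x → t⁻¹ * t' ∈ zpowers x

theorem pow_four_eq {S : Type*} [Monoid S] (a : S) : a ^ 4 = (a * a) ^ 2 := by
  rw [← pow_two, ← pow_mul]

theorem ts_dihedral {S : Type*} [Group S] [Finite S] (hp : IsPGroup 2 S) {n : ℕ} (hn : 4 ≤ n)
    (e : S ≃* DihedralGroup n) : ∃ x : S, TS x := by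
  haveI : NeZero n := ⟨by omega⟩
  have hcard : Nat.card S = 2 * n := by rw [Nat.card_congr e.toEquiv, DihedralGroup.nat_card]
  obtain ⟨k, hk⟩ := IsPGroup.iff_card.mp hp
  have hn2 : n ∣ 2 ^ k := by rw [← hk, hcard]; exact dvd_mul_left n 2
  obtain ⟨m, -, rfl⟩ := (Nat.dvd_prime_pow Nat.prime_two).mp hn2
  have hm : 2 ≤ m := by
    by_contra hc
    have hm1 : m ≤ 1 := by omega
    have : 2 ^ m ≤ 2 ^ 1 := Nat.pow_le_pow_right (by norm_num) hm1
    omega
  refine ⟨e.symm (DihedralGroup.r 1), ?_, ?_⟩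
  · rw [MulEquiv.orderOf_eq, DihedralGroup.orderOf_r_one]
    exact pow_dvd_pow 2 hm
  · intro t ht
    set x := e.symm (DihedralGroup.r (1 : ZMod (2 ^ m))) with hx
    have hrot : ∀ j : ZMod (2 ^ m), e.symm (DihedralGroup.r j) ∈ zpowers x := by
      intro j
      refine ⟨(j.val : ℤ), ?_⟩
      change x ^ ((j.val : ℕ) : ℤ) = _
      rw [zpow_natCast, hx, ← map_pow, DihedralGroup.r_pow]
      simp
    have hrot' : ∀ u ∈ zpowers x, ∃ j, e u = DihedralGroup.r j := by
      intro u hu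
      rw [← mem_powers_iff_mem_zpowers] at hu
      obtain ⟨k, rfl⟩ := hu
      refine ⟨(k : ZMod (2 ^ m)), ?_⟩
      change e (x ^ k) = _
      rw [map_pow, hx, MulEquiv.apply_symm_apply, DihedralGroup.r_pow]
      simp
    have hsr : ∀ s : S, s ∉ zpowers x → ∃ i, e s = DihedralGroup.sr i := by
      intro s hs
      cases hes : e s with
      | sr i => exact ⟨i, rfl⟩
      | r i =>
        exfalso
        apply hs
        have := hrot i
        rwa [← hes, MulEquiv.symm_apply_apply] at this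
    obtain ⟨i, hi⟩ := hsr t ht
    refine ⟨?_, ?_, ?_⟩
    · apply e.injective
      rw [map_pow, hi, map_one]
      rw [pow_four_eq, DihedralGroup.sr_mul_sr, sub_self, DihedralGroup.r_zero, one_pow]
    · intro u hu _
      obtain ⟨j, hj⟩ := hrot' u hu
      apply e.injective
      rw [map_mul, map_mul, map_inv, map_inv, hi, hj, DihedralGroup.inv_sr, DihedralGroup.inv_r,
        DihedralGroup.sr_mul_r, DihedralGroup.sr_mul_sr]
      congr 1
      ring
    · intro t' ht'
      obtain ⟨i', hi'⟩ := hsr t' ht'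
      have : t⁻¹ * t' = e.symm (DihedralGroup.r (i' - i)) := by
        apply e.injective
        rw [MulEquiv.apply_symm_apply, map_mul, map_inv, hi, hi', DihedralGroup.inv_sr,
          DihedralGroup.sr_mul_sr]
      rw [this]
      exact hrot _

theorem ts_qd {S : Type*} [Group S] [Finite S] (hS : Cfsg.IsQuasiDihedral S) : ∃ x : S, TS x := by
  obtain ⟨n, K, x, y, hn, hcard, hKn, h⟩ := Cfsg.Agent.Lib.TwoGroups.QD.exists_data hS
  refine ⟨x, ?_, ?_⟩
  · have h1 : ((4 : ℕ) : ℤ) ∣ (orderOf x : ℤ) := by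
      rw [h.ox]
      exact ⟨2 * K, by push_cast; ring⟩
    exact_mod_cast h1
  · intro t ht
    have hform : ∀ s : S, s ∉ zpowers x → ∃ i : ℤ, s = x ^ i * y := by
      intro s hs
      rcases h.elem_cases s with ⟨i, rfl⟩ | ⟨i, rfl⟩
      · exact absurd (zpow_mem (mem_zpowers x) i) hs
      · exact ⟨i, rfl⟩
    obtain ⟨i, rfl⟩ := hform t ht
    refine ⟨?_, ?_, ?_⟩
    · rw [pow_four_eq, h.xy_mul_self, ← zpow_natCast, ← zpow_mul, h.zpow_eq_one_iff]
      exact ⟨i, by push_cast; ring⟩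
    · intro u hu hu4
      obtain ⟨b, rfl⟩ := mem_zpowers_iff.mp hu
      rw [h.conj_xy', ← zpow_neg, h.zpow_eq_iff]
      have h4 : x ^ (4 * b) = 1 := by
        rw [mul_comm, zpow_mul]
        exact_mod_cast hu4
      rw [h.zpow_eq_one_iff] at h4
      obtain ⟨c, hc⟩ := h4
      have hK : K ≠ 0 := h.Kpos.ne'
      have hb : b = 2 * K * c := by
        have : 4 * (b - 2 * K * c) = 0 := by linear_combination hc
        have h0 : b - 2 * K * c = 0 := by
          rcases mul_eq_zero.mp this with h1 | h1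
          · norm_num at h1
          · exact h1
        linear_combination h0
      refine ⟨K * c, ?_⟩
      rw [hb]
      ring
    · intro t' ht'
      obtain ⟨j, rfl⟩ := hform t' ht'
      rw [h.inv2, h.mul4]
      exact zpow_mem (mem_zpowers x) _

structure TSG (T : Subgroup G) (x : G) : Prop where
  four : 4 ∣ orderOf x
  mem : x ∈ T
  cases : ∀ t ∈ T, t ∉ zpowers x → t ^ 4 = 1 ∧ (∀ u ∈ zpowers x, u ^ 4 = 1 → t * u * t⁻¹ = u⁻¹) ∧
    ∀ t' ∈ T, t' ∉ zpowers x → t⁻¹ * t' ∈ zpowers x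

theorem tsg_of_ts {T : Subgroup G} {x : ↥T} (h : TS x) : TSG T (x : G) := by
  have hup : ∀ {t : G} (ht : t ∈ T), t ∉ zpowers (x : G) → (⟨t, ht⟩ : ↥T) ∉ zpowers x := by
    intro t ht h1 h2
    apply h1
    obtain ⟨k, hk⟩ := mem_zpowers_iff.mp h2
    exact mem_zpowers_iff.mpr ⟨k, by simpa using congrArg Subtype.val hk⟩
  have hdown : ∀ {t : ↥T}, t ∈ zpowers x → (t : G) ∈ zpowers (x : G) := by
    intro t h2
    obtain ⟨k, hk⟩ := mem_zpowers_iff.mp h2
    exact mem_zpowers_iff.mpr ⟨k, by rw [← hk]; simp⟩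
  refine ⟨?_, x.2, ?_⟩
  · rw [Subgroup.orderOf_coe]; exact h.four
  · intro t ht htx
    obtain ⟨h1, h2, h3⟩ := h.cases ⟨t, ht⟩ (hup ht htx)
    refine ⟨by simpa using congrArg Subtype.val h1, ?_, ?_⟩
    · intro u hu hu4
      have huT : u ∈ T := zpowers_le.mpr x.2 hu
      have hu' : (⟨u, huT⟩ : ↥T) ∈ zpowers x := by
        obtain ⟨k, hk⟩ := mem_zpowers_iff.mp hu
        exact mem_zpowers_iff.mpr ⟨k, Subtype.ext (by simpa using hk)⟩
      have := h2 _ hu' (Subtype.ext (by simpa using hu4))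
      simpa using congrArg Subtype.val this
    · intro t' ht' hx'
      have := h3 ⟨t', ht'⟩ (hup ht' hx')
      simpa using hdown this

theorem mem_zpowers_four [Finite G] {i h : G} (hi : i ^ 4 = 1) (hh : h ∈ zpowers i) :
    h = 1 ∨ h = i ∨ h = i ^ 2 ∨ h = i ^ 3 := by
  rw [← mem_powers_iff_mem_zpowers] at hh
  obtain ⟨n, rfl⟩ := hh
  change i ^ n = 1 ∨ i ^ n = i ∨ i ^ n = i ^ 2 ∨ i ^ n = i ^ 3
  have h1 : i ^ n = i ^ (n % 4) := by
    conv_lhs => rw [← Nat.div_add_mod n 4, pow_add, pow_mul, hi, one_pow, one_mul]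
  have h2 : n % 4 < 4 := Nat.mod_lt _ (by norm_num)
  rw [h1]
  interval_cases (n % 4) <;> simp

structure QS (Q : Subgroup G) (i j y : G) : Prop where
  hiQ : i ∈ Q
  hjQ : j ∈ Q
  hi4 : i ^ 4 = 1
  hi2 : i ^ 2 ≠ 1
  hj2 : j ^ 2 = i ^ 2
  hji : j * i * j⁻¹ = i⁻¹
  hyi : y * i * y⁻¹ = j
  hyN : y ∉ normalizer ((zpowers i : Subgroup G) : Set G)
  hjn : j ∉ zpowers i
  hel : ∀ a ∈ Q, a ∉ zpowers i → j⁻¹ * a ∈ zpowers i

theorem exists_ij [Finite G] {Q T : Subgroup G} (hQn : Q.Normal) (hQp : IsPGroup 2 Q) (hQT : Q ≤ T)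
    (hCQ : centralizer (Q : Set G) ≤ Q) {x : G} (hts : TSG T x)
    (hZ : (T ⊓ centralizer (T : Set G)).Normal) (hZQ : T ⊓ centralizer (T : Set G) ≤ Q)
    (hZ1 : T ⊓ centralizer (T : Set G) ≠ ⊥) {y : G} (hy : Odd (orderOf y)) (hyQ : y ∉ Q) :
    ∃ i j : G, QS Q i j y := by
  classical
  set Q₀ := Q ⊓ zpowers x with hQ₀
  have hQ₀Q : Q₀ ≤ Q := inf_le_left
  have hQ₀x : Q₀ ≤ zpowers x := inf_le_right
  haveI hQ₀c : IsCyclic Q₀ := Subgroup.isCyclic_of_le hQ₀x
  have hyQn : y ∈ normalizer (Q : Set G) :=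
    mem_normalizer_of_conj_mem (fun a ha => hQn.conj_mem a ha y)
  have hnotx : ∀ τ ∈ Q, τ ∉ Q₀ → τ ∉ zpowers x := fun τ hτ h1 h2 => h1 (mem_inf.mpr ⟨hτ, h2⟩)
  have hprod : ∀ τ ∈ Q, τ ∉ Q₀ → ∀ τ' ∈ Q, τ' ∉ Q₀ → τ⁻¹ * τ' ∈ Q₀ := by
    intro τ hτ h1 τ' hτ' h2
    obtain ⟨-, -, h3⟩ := hts.cases τ (hQT hτ) (hnotx τ hτ h1)
    exact mem_inf.mpr ⟨mul_mem (inv_mem hτ) hτ', h3 τ' (hQT hτ') (hnotx τ' hτ' h2)⟩
  have hN : y ∉ normalizer (Q₀ : Set G) := by
    intro hyN
    have h1 := comm_of_index_two hy hQ₀Q hQp hQ₀c hyQn hyN hprod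
    apply hyQ
    apply hCQ
    rw [mem_centralizer_iff]
    intro a ha
    have := h1 a ha
    rw [mul_inv_eq_iff_eq_mul] at this
    exact this.symm
  obtain ⟨g, hg⟩ := IsCyclic.exists_generator (α := Q₀)
  set i : G := (g : G) with hi
  have hQ₀i : Q₀ = zpowers i := by
    apply le_antisymm
    · intro a ha
      obtain ⟨k, hk⟩ := mem_zpowers_iff.mp (hg ⟨a, ha⟩)
      exact mem_zpowers_iff.mpr ⟨k, by simpa using congrArg Subtype.val hk⟩
    · exact zpowers_le.mpr g.2
  have hiQ₀ : i ∈ Q₀ := g.2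
  have hiQ : i ∈ Q := hQ₀Q hiQ₀
  have hjQ : y * i * y⁻¹ ∈ Q := hQn.conj_mem i hiQ y
  set j := y * i * y⁻¹ with hj
  have hjQ₀ : j ∉ Q₀ := by
    intro hjm
    apply hN
    apply mem_normalizer_of_conj_mem
    intro a ha
    rw [hQ₀i] at ha
    obtain ⟨k, rfl⟩ := mem_zpowers_iff.mp ha
    have : y * i ^ k * y⁻¹ = j ^ k := by rw [hj, conj_zpow]
    rw [this]
    exact zpow_mem hjm k
  obtain ⟨hj4, hjinv, -⟩ := hts.cases j (hQT hjQ) (hnotx j hjQ hjQ₀)
  have hi4 : i ^ 4 = 1 := by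
    rw [hj, conj_pow, conj_eq_one_iff] at hj4
    exact hj4
  have hZQ₀ : T ⊓ centralizer (T : Set G) ≤ Q₀ := by
    intro t ht
    refine mem_inf.mpr ⟨hZQ ht, ?_⟩
    by_contra htx
    obtain ⟨htT, htc⟩ := mem_inf.mp ht
    obtain ⟨-, h2, -⟩ := hts.cases t htT htx
    set w := x ^ (orderOf x / 4) with hw
    have hwo : orderOf w = 4 := orderOf_pow_orderOf_div (orderOf_pos x).ne' hts.four
    have hwx : w ∈ zpowers x := npow_mem_zpowers x _
    have hw4 : w ^ 4 = 1 := by rw [← hwo]; exact pow_orderOf_eq_one w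
    have h3 := h2 w hwx hw4
    have hwT : w ∈ T := zpowers_le.mpr hts.mem hwx
    have h4 : t * w = w * t := ((mem_centralizer_iff.mp htc) w hwT).symm
    have h5 : t * w * t⁻¹ = w := by rw [h4]; group
    rw [h5] at h3
    have h6 : w ^ 2 = 1 := by
      rw [pow_two]
      nth_rewrite 1 [h3]
      simp
    have := orderOf_dvd_of_pow_eq_one h6
    rw [hwo] at this
    norm_num at this
  have hi2 : i ^ 2 ≠ 1 := by
    intro hi2
    apply hN
    obtain ⟨z, hz⟩ := (Subgroup.ne_bot_iff_exists_ne_one.mp hZ1)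
    have hzQ₀ : (z : G) ∈ Q₀ := hZQ₀ z.2
    have hzi : (z : G) ∈ zpowers i := hQ₀i ▸ hzQ₀
    have hz1' : (z : G) ≠ 1 := fun h => hz (Subtype.ext h)
    have hzeq : (z : G) = i := by
      rcases mem_zpowers_four hi4 hzi with h | h | h | h
      · exact absurd h hz1'
      · exact h
      · rw [hi2] at h
        exact absurd h hz1'
      · rw [h, pow_succ, hi2, one_mul]
    have hiZ : i ∈ T ⊓ centralizer (T : Set G) := hzeq ▸ z.2
    have hQ₀Z : Q₀ = T ⊓ centralizer (T : Set G) :=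
      le_antisymm (by rw [hQ₀i]; exact zpowers_le.mpr hiZ) hZQ₀
    rw [hQ₀Z]
    exact mem_normalizer_of_conj_mem (fun a ha => hZ.conj_mem a ha y)
  have hjj : j * j ∈ zpowers i := by
    have h1 : j⁻¹ ∉ Q₀ := fun h => hjQ₀ (by simpa using inv_mem h)
    have h2 := hprod j⁻¹ (inv_mem hjQ) h1 j hjQ hjQ₀
    rw [inv_inv] at h2
    rwa [hQ₀i] at h2
  have hinv : j * i * j⁻¹ = i⁻¹ := hjinv i (hQ₀x hiQ₀) hi4
  have hcomm : j * (j * j) * j⁻¹ = j * j := by group
  have hj2' : j ^ 2 = y * i ^ 2 * y⁻¹ := by rw [hj, conj_pow]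
  have hj2 : j ^ 2 = i ^ 2 := by
    rcases mem_zpowers_four hi4 hjj with h | h | h | h
    · exfalso
      apply hi2
      rw [pow_two j, h] at hj2'
      exact (conj_eq_one_iff.mp hj2'.symm)
    · exfalso
      rw [h, hinv] at hcomm
      apply hi2
      rw [pow_two]
      nth_rewrite 1 [← hcomm]
      simp
    · rw [pow_two j, h]
    · exfalso
      rw [h, ← conj_pow, hinv] at hcomm
      apply hi2
      have e6 : (i ^ 2) * (i ^ 4) = (i ^ 3) * (i ^ 3) := by group
      rw [hi4, mul_one] at e6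
      rw [e6]
      nth_rewrite 1 [← hcomm]
      simp
  refine ⟨i, j, hiQ, hjQ, hi4, hi2, hj2, hinv, rfl, ?_, ?_, ?_⟩
  · rw [← hQ₀i]; exact hN
  · rw [← hQ₀i]; exact hjQ₀
  · intro a ha hai
    rw [← hQ₀i] at hai ⊢
    exact hprod j hjQ hjQ₀ a ha hai

namespace QS

variable {Q : Subgroup G} {i j y : G}

theorem conj_zp (h : QS Q i j y) {b : G} (hb : b ∈ zpowers i) : j * b * j⁻¹ = b⁻¹ := by
  obtain ⟨k, rfl⟩ := mem_zpowers_iff.mp hb
  rw [← conj_zpow, h.hji, inv_zpow]

theorem sq_jb (h : QS Q i j y) {b : G} (hb : b ∈ zpowers i) : (j * b) * (j * b) = i ^ 2 := by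
  have hc : Commute (i ^ 2) b := by
    obtain ⟨k, rfl⟩ := mem_zpowers_iff.mp hb
    exact ((Commute.refl i).pow_left 2).zpow_right k
  calc (j * b) * (j * b) = (j * b * j⁻¹) * (j * j) * b := by group
    _ = b⁻¹ * (i ^ 2) * b := by rw [h.conj_zp hb, ← pow_two, h.hj2]
    _ = i ^ 2 := by rw [mul_assoc, hc.eq]; group

theorem sq_of (h : QS Q i j y) [Finite G] {a : G} (ha : a ∈ Q) (h1 : a ≠ 1) (h2 : a ≠ i ^ 2) : a ^ 2 = i ^ 2 := by
  by_cases hai : a ∈ zpowers i
  · rcases mem_zpowers_four h.hi4 hai with e | e | e | e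
    · exact absurd e h1
    · rw [e]
    · exact absurd e h2
    · rw [e, ← pow_mul]
      have e6 : i ^ (3 * 2) = i ^ 4 * i ^ 2 := by group
      rw [e6, h.hi4, one_mul]
  · have hb := h.hel a ha hai
    have e := h.sq_jb hb
    rw [pow_two]
    rw [mul_inv_cancel_left] at e
    exact e

theorem j4 (h : QS Q i j y) : j ^ 4 = 1 := by
  rw [pow_four_eq, ← pow_two, h.hj2, ← pow_mul]
  exact h.hi4

theorem e1 (h : QS Q i j y) : j * i⁻¹ * j⁻¹ = i := by
  have : j * i⁻¹ * j⁻¹ = (j * i * j⁻¹)⁻¹ := by group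
  rw [this, h.hji, inv_inv]

theorem jij (h : QS Q i j y) : j * i * j = i := by
  have h1 := h.sq_jb (mem_zpowers i)
  have h2 : (j * i * j) * i = i * i := by
    rw [pow_two] at h1
    rw [← h1]
    group
  exact mul_right_cancel h2

theorem e2 (h : QS Q i j y) : i * j⁻¹ * i⁻¹ = j := by
  calc i * j⁻¹ * i⁻¹ = (j * i * j) * j⁻¹ * i⁻¹ := by rw [h.jij]
    _ = j := by group

theorem k_cases (h : QS Q i j y) [Finite G] (hQn : Q.Normal) (hy : Odd (orderOf y)) :
    y * j * y⁻¹ = j * i ∨ y * j * y⁻¹ = j * i ^ 3 := by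
  have hk : y * j * y⁻¹ ∈ Q := hQn.conj_mem j h.hjQ y
  by_cases hki : y * j * y⁻¹ ∈ zpowers i
  · exfalso
    apply h.hyN
    have hy2 : y * y ∈ normalizer ((zpowers i : Subgroup G) : Set G) := by
      apply mem_normalizer_of_conj_mem
      intro a ha
      obtain ⟨m, rfl⟩ := mem_zpowers_iff.mp ha
      have e : (y * y) * i ^ m * (y * y)⁻¹ = (y * j * y⁻¹) ^ m := by
        rw [← conj_zpow, ← h.hyi]
        congr 1
        group
      rw [e]
      exact zpow_mem hki m
    obtain ⟨m, hm⟩ := hy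
    have e : y = (y * y) ^ (m + 1) := by
      rw [← pow_two, ← pow_mul]
      have e2 : 2 * (m + 1) = orderOf y + 1 := by omega
      rw [e2, pow_succ, pow_orderOf_eq_one, one_mul]
    rw [e]
    exact pow_mem hy2 _
  · have hb := h.hel _ hk hki
    set b := j⁻¹ * (y * j * y⁻¹) with hbdef
    have hkb : y * j * y⁻¹ = j * b := by rw [hbdef]; group
    rcases mem_zpowers_four h.hi4 hb with e | e | e | e
    · exfalso
      rw [e, mul_one] at hkb
      apply h.hjn
      have h1 : y * i * y⁻¹ = i := by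
        have h2 : y * (y * i * y⁻¹) * y⁻¹ = y * i * y⁻¹ := by rw [h.hyi]; exact hkb
        have h3 : y⁻¹ * (y * (y * i * y⁻¹) * y⁻¹) * y = y⁻¹ * (y * i * y⁻¹) * y := by rw [h2]
        simpa [mul_assoc] using h3
      rw [← h.hyi, h1]
      exact mem_zpowers i
    · left
      rw [hkb, e]
    · exfalso
      rw [e, ← h.hj2] at hkb
      have h3 : j * j ^ 2 = j⁻¹ := by
        apply eq_inv_of_mul_eq_one_left
        rw [← h.j4]
        group
      rw [h3] at hkb
      apply h.hjn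
      have h5 : j⁻¹ = y * i⁻¹ * y⁻¹ := by rw [← h.hyi]; group
      rw [h5] at hkb
      have h6 : j = i⁻¹ := by
        have h7 : y⁻¹ * (y * j * y⁻¹) * y = y⁻¹ * (y * i⁻¹ * y⁻¹) * y := by rw [hkb]
        simpa [mul_assoc] using h7
      rw [h6]
      exact inv_mem (mem_zpowers i)
    · right
      rw [hkb, e]

theorem mem_of_fix (h : QS Q i j y) (hCQ : centralizer (Q : Set G) ≤ Q) {g : G}
    (hgi : g * i * g⁻¹ = i) (hgj : g * j * g⁻¹ = j) : g ∈ Q := by
  apply hCQ
  rw [mem_centralizer_iff]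
  intro a ha
  have hz : ∀ b ∈ zpowers i, g * b * g⁻¹ = b := by
    intro b hb
    obtain ⟨k, rfl⟩ := mem_zpowers_iff.mp hb
    rw [← conj_zpow, hgi]
  have h1 : g * a * g⁻¹ = a := by
    by_cases hai : a ∈ zpowers i
    · exact hz a hai
    · have hb := h.hel a ha hai
      set b := j⁻¹ * a with hbd
      have e : a = j * b := by rw [hbd]; group
      have e2 : g * (j * b) * g⁻¹ = (g * j * g⁻¹) * (g * b * g⁻¹) := by group
      rw [e, e2, hgj, hz b hb]
  rw [mul_inv_eq_iff_eq_mul] at h1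
  exact h1.symm

theorem y3 (h : QS Q i j y) (hk : y * j * y⁻¹ = j * i ∨ y * j * y⁻¹ = j * i ^ 3)
    (hCQ : centralizer (Q : Set G) ≤ Q) (hQp : IsPGroup 2 Q) (hy : Odd (orderOf y)) : y ^ 3 = 1 := by
  have hfixi : y ^ 3 * i * (y ^ 3)⁻¹ = i := by
    have e : y ^ 3 * i * (y ^ 3)⁻¹ = y * (y * j * y⁻¹) * y⁻¹ := by
      rw [← h.hyi, pow_succ, pow_two]
      simp only [mul_assoc, mul_inv_rev]
    rw [e]
    rcases hk with hk | hk
    · rw [hk]
      have e2 : y * (j * i) * y⁻¹ = (y * j * y⁻¹) * (y * i * y⁻¹) := by group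
      rw [e2, hk, h.hyi]
      exact h.jij
    · rw [hk]
      have e2 : y * (j * i ^ 3) * y⁻¹ = (y * j * y⁻¹) * (y * i * y⁻¹) ^ 3 := by
        rw [conj_pow]
        group
      rw [e2, hk, h.hyi]
      have e3 : j * i ^ 3 * j ^ 3 = (j * i * j⁻¹) ^ 3 * j ^ 4 := by
        rw [conj_pow]
        group
      rw [e3, h.hji, h.j4, mul_one, inv_pow]
      have e4 : (i ^ 3)⁻¹ = i ^ 4 * (i ^ 3)⁻¹ := by rw [h.hi4, one_mul]
      rw [e4]
      group
  have hfixj : y ^ 3 * j * (y ^ 3)⁻¹ = j := by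
    have e : y ^ 3 * j * (y ^ 3)⁻¹ = y * (y ^ 3 * i * (y ^ 3)⁻¹) * y⁻¹ := by
      rw [← h.hyi, pow_succ, pow_two]
      simp only [mul_assoc, mul_inv_rev]
    rw [e, hfixi, h.hyi]
  have hm := h.mem_of_fix hCQ hfixi hfixj
  apply eq_one_of_two_elt (two_elt_of_mem hQp hm) hy
  rw [← pow_mul, mul_comm, pow_mul, pow_orderOf_eq_one, one_pow]

end QS

theorem recog {i j y : G} (hi : i ^ 4 = 1) (hj : j ^ 2 = i ^ 2) (hji : j * i * j⁻¹ = i⁻¹) (hy : y ^ 3 = 1)
    (hyi : y * i * y⁻¹ = j) (hyj : y * j * y⁻¹ = j * i) (hne : i ^ 2 ≠ 1) :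
    Nonempty (↥(closure ({i, j, y} : Set G)) ≃* Matrix.SpecialLinearGroup (Fin 2) (ZMod 3)) := by
  set U := closure ({i, j, y} : Set G) with hU
  have hiU : i ∈ U := subset_closure (by simp)
  have hjU : j ∈ U := subset_closure (by simp)
  have hyU : y ∈ U := subset_closure (by simp)
  refine Cfsg.Agent.Lib.ElementFusion.SL23.nonempty_mulEquiv_sl23 (⟨i, hiU⟩ : ↥U) ⟨j, hjU⟩ ⟨y, hyU⟩
    (Subtype.ext hi) (Subtype.ext hj) (Subtype.ext hji) (Subtype.ext hy) (Subtype.ext hyi)
    (Subtype.ext hyj) (fun h => hne (congrArg Subtype.val h)) ?_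
  apply Subgroup.map_injective U.subtype_injective
  have hS : U.subtype '' {⟨i, hiU⟩, ⟨j, hjU⟩, ⟨y, hyU⟩} = {i, j, y} := by
    simp only [Set.image_insert_eq, Set.image_singleton]
    rfl
  rw [MonoidHom.map_closure, hS, ← MonoidHom.range_eq_map, range_subtype]

/-- the order `4` subgroups of `Q` -/
def subX (Q : Subgroup G) := {S : Subgroup G // S ≤ Q ∧ Nat.card S = 4}

/-- conjugation action on the order `4` subgroups of `Q` -/
def rho (Q : Subgroup G) (hQn : Q.Normal) : G →* Equiv.Perm (subX Q) where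
  toFun g :=
    { toFun := fun S => ⟨S.1.map (MulAut.conj g).toMonoidHom, by
        rintro _ ⟨a, ha, rfl⟩
        exact hQn.conj_mem a (S.2.1 ha) g, (card_map_conj g S.1).trans S.2.2⟩
      invFun := fun S => ⟨S.1.map (MulAut.conj g⁻¹).toMonoidHom, by
        rintro _ ⟨a, ha, rfl⟩
        exact hQn.conj_mem a (S.2.1 ha) g⁻¹, (card_map_conj g⁻¹ S.1).trans S.2.2⟩
      left_inv := fun S => Subtype.ext (map_conj_inv_map_conj g S.1)
      right_inv := fun S => Subtype.ext (map_conj_map_conj_inv g S.1) }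
  map_one' := Equiv.ext fun S => Subtype.ext (map_conj_one S.1)
  map_mul' g h := Equiv.ext fun S => Subtype.ext (map_conj_mul g h S.1)

namespace QS

variable {Q : Subgroup G} {i j y : G}

theorem orderOf_of [Finite G] (h : QS Q i j y) {s : G} (hs : s ^ 2 = i ^ 2) : orderOf s = 4 := by
  haveI : Fact (Nat.Prime 2) := ⟨Nat.prime_two⟩
  have := orderOf_eq_prime_pow (p := 2) (n := 1) (x := s)
    (by rw [pow_one, hs]; exact h.hi2)
    (by
      have e : s ^ 2 ^ (1 + 1) = (s ^ 2) ^ 2 := by rw [← pow_mul]; norm_num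
      rw [e, hs, ← pow_mul]
      exact h.hi4)
  simpa using this

theorem ker_le [Finite G] (h : QS Q i j y) (hQn : Q.Normal) (hCQ : centralizer (Q : Set G) ≤ Q) :
    (rho Q hQn).ker ≤ Q := by
  intro g hg
  rw [MonoidHom.mem_ker] at hg
  have hfix : ∀ s : G, s ∈ Q → s ^ 2 = i ^ 2 → g * s * g⁻¹ = s ∨ g * s * g⁻¹ = s⁻¹ := by
    intro s hsQ hs
    have ho := h.orderOf_of hs
    have hsX : (zpowers s : Subgroup G) ≤ Q ∧ Nat.card (zpowers s) = 4 :=
      ⟨zpowers_le.mpr hsQ, by rw [Nat.card_zpowers, ho]⟩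
    have h1 := congrArg (fun σ : Equiv.Perm (subX Q) => (σ ⟨zpowers s, hsX⟩).1) hg
    have h2 : (zpowers s).map (MulAut.conj g).toMonoidHom = zpowers s := h1
    have h3 : g * s * g⁻¹ ∈ zpowers s := by
      rw [← h2]
      exact conj_mem_conj (mem_zpowers s)
    have hs4 : s ^ 4 = 1 := by rw [← ho]; exact pow_orderOf_eq_one s
    have hcs : (g * s * g⁻¹) ^ 2 = g * i ^ 2 * g⁻¹ := by rw [conj_pow, hs]
    have hne : g * i ^ 2 * g⁻¹ ≠ 1 := fun e => h.hi2 (conj_eq_one_iff.mp e)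
    rcases mem_zpowers_four hs4 h3 with e | e | e | e
    · exfalso
      rw [e, one_pow] at hcs
      exact hne hcs.symm
    · exact Or.inl e
    · exfalso
      rw [e, ← pow_mul] at hcs
      have : s ^ (2 * 2) = 1 := hs4
      rw [this] at hcs
      exact hne hcs.symm
    · right
      rw [e]
      apply eq_inv_of_mul_eq_one_left
      rw [← pow_succ]
      exact hs4
  rcases hfix i h.hiQ rfl with hi | hi <;> rcases hfix j h.hjQ h.hj2 with hj | hj
  · exact h.mem_of_fix hCQ hi hj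
  · have h1 : i * g ∈ Q := by
      apply h.mem_of_fix hCQ
      · have : i * g * i * (i * g)⁻¹ = i * (g * i * g⁻¹) * i⁻¹ := by group
        rw [this, hi]
        group
      · have : i * g * j * (i * g)⁻¹ = i * (g * j * g⁻¹) * i⁻¹ := by group
        rw [this, hj]
        exact h.e2
    have : g = i⁻¹ * (i * g) := by group
    rw [this]
    exact mul_mem (inv_mem h.hiQ) h1
  · have h1 : j * g ∈ Q := by
      apply h.mem_of_fix hCQ
      · have : j * g * i * (j * g)⁻¹ = j * (g * i * g⁻¹) * j⁻¹ := by group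
        rw [this, hi]
        exact h.e1
      · have : j * g * j * (j * g)⁻¹ = j * (g * j * g⁻¹) * j⁻¹ := by group
        rw [this, hj]
        group
    have : g = j⁻¹ * (j * g) := by group
    rw [this]
    exact mul_mem (inv_mem h.hjQ) h1
  · have h1 : i * j * g ∈ Q := by
      apply h.mem_of_fix hCQ
      · have : i * j * g * i * (i * j * g)⁻¹ = i * (j * (g * i * g⁻¹) * j⁻¹) * i⁻¹ := by group
        rw [this, hi, h.e1]
        group
      · have : i * j * g * j * (i * j * g)⁻¹ = i * (j * (g * j * g⁻¹) * j⁻¹) * i⁻¹ := by group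
        rw [this, hj]
        have e : j * j⁻¹ * j⁻¹ = j⁻¹ := by group
        rw [e]
        exact h.e2
    have : g = (i * j)⁻¹ * (i * j * g) := by group
    rw [this]
    exact mul_mem (inv_mem (mul_mem h.hiQ h.hjQ)) h1

theorem card_X_le [Finite G] (h : QS Q i j y) : Nat.card (subX Q) ≤ 3 := by
  classical
  have hmem : ∀ S : subX Q, S.1 = zpowers i ∨ S.1 = zpowers j ∨ S.1 = zpowers (j * i) := by
    rintro ⟨S, hSQ, hS4⟩
    change S = zpowers i ∨ S = zpowers j ∨ S = zpowers (j * i)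
    obtain ⟨s, hsS, hs1, hs2⟩ : ∃ s ∈ S, s ≠ 1 ∧ s ≠ i ^ 2 := by
      by_contra hc
      push Not at hc
      have hle : S ≤ zpowers (i ^ 2) := by
        intro s hs
        by_cases h1 : s = 1
        · rw [h1]; exact one_mem _
        · rw [hc s hs h1]; exact mem_zpowers _
      have h1 := Subgroup.card_le_of_le hle
      rw [hS4, Nat.card_zpowers] at h1
      have h2 : orderOf (i ^ 2) ∣ 2 := by
        apply orderOf_dvd_of_pow_eq_one
        rw [← pow_mul]
        exact h.hi4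
      have := Nat.le_of_dvd (by norm_num) h2
      omega
    have hsQ := hSQ hsS
    have hs := h.sq_of hsQ hs1 hs2
    have ho := h.orderOf_of hs
    have hSeq : S = zpowers s := by
      symm
      apply Subgroup.eq_of_le_of_card_ge (zpowers_le.mpr hsS)
      rw [Nat.card_zpowers, ho, hS4]
    rw [hSeq]
    have hj4 := h.j4
    by_cases hsi : s ∈ zpowers i
    · left
      rcases mem_zpowers_four h.hi4 hsi with e | e | e | e
      · exact absurd e hs1
      · rw [e]
      · exact absurd e hs2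
      · have : s = i⁻¹ := by
          rw [e]
          apply eq_inv_of_mul_eq_one_left
          rw [← pow_succ]
          exact h.hi4
        rw [this, zpowers_inv]
    · have hb := h.hel s hsQ hsi
      set b := j⁻¹ * s with hbd
      have hsb : s = j * b := by rw [hbd]; group
      right
      rcases mem_zpowers_four h.hi4 hb with e | e | e | e
      · left
        rw [hsb, e, mul_one]
      · right
        rw [hsb, e]
      · left
        have : s = j⁻¹ := by
          rw [hsb, e, ← h.hj2]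
          apply eq_inv_of_mul_eq_one_left
          rw [← hj4]
          group
        rw [this, zpowers_inv]
      · right
        have : s = (j * i)⁻¹ := by
          rw [hsb, e]
          apply eq_inv_of_mul_eq_one_left
          have e5 : j * i ^ 3 * (j * i) = (j * i ^ 3 * j⁻¹) * (j * j) * i := by group
          rw [e5, ← conj_pow, h.hji, ← pow_two, h.hj2, inv_pow]
          have e6 : i ^ 4 = (i ^ 3) * i := by rw [pow_succ]
          have e7 : (i ^ 3)⁻¹ * i ^ 2 * i = 1 := by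
            have : (i ^ 3)⁻¹ * i ^ 2 * i = (i ^ 3)⁻¹ * i ^ 3 := by group
            rw [this]
            group
          exact e7
        rw [this, zpowers_inv]
  let F : Finset (Subgroup G) := {zpowers i, zpowers j, zpowers (j * i)}
  have hF : Nat.card F ≤ 3 := by
    rw [Nat.card_eq_fintype_card, Fintype.card_coe]
    exact Finset.card_le_three
  refine le_trans ?_ hF
  apply Nat.card_le_card_of_injective (fun S : subX Q => (⟨S.1, by
    simp only [F, Finset.mem_insert, Finset.mem_singleton]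
    exact hmem S⟩ : F))
  intro S S' hSS
  exact Subtype.ext (congrArg (fun z : F => z.1) hSS)

theorem index_dvd [Finite G] (h : QS Q i j y) (hQn : Q.Normal) (hCQ : centralizer (Q : Set G) ≤ Q) :
    Q.index ∣ 6 := by
  classical
  haveI : Finite (subX Q) := by
    unfold subX
    infer_instance
  refine (index_dvd_of_le (h.ker_le hQn hCQ)).trans ?_
  rw [index_ker]
  refine (Subgroup.card_subgroup_dvd_card _).trans ?_
  rw [Nat.card_perm]
  exact Nat.factorial_dvd_factorial h.card_X_le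

end QS

theorem main [Finite G] {Q T : Subgroup G} (hQn : Q.Normal) (hQp : IsPGroup 2 Q) (hQT : Q ≤ T)
    (hCQ : centralizer (Q : Set G) ≤ Q) {x : G} (hts : TSG T x)
    (hZ : (T ⊓ centralizer (T : Set G)).Normal) (hZQ : T ⊓ centralizer (T : Set G) ≤ Q)
    (hZ1 : T ⊓ centralizer (T : Set G) ≠ ⊥) {y : G} (hy : Odd (orderOf y)) (hyQ : y ∉ Q) :
    ∃ U : Subgroup G, U.Normal ∧ Nonempty (↥U ≃* Matrix.SpecialLinearGroup (Fin 2) (ZMod 3)) := by
  classical
  obtain ⟨i, j, h⟩ := exists_ij hQn hQp hQT hCQ hts hZ hZQ hZ1 hy hyQ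
  have hk := h.k_cases hQn hy
  have hy3 := h.y3 hk hCQ hQp hy
  have hiso : Nonempty (↥(closure ({i, j, y} : Set G)) ≃* Matrix.SpecialLinearGroup (Fin 2) (ZMod 3)) := by
    rcases hk with hk | hk
    · exact recog h.hi4 h.hj2 h.hji hy3 h.hyi hk h.hi2
    · have hclos : closure ({i⁻¹, j⁻¹, y} : Set G) = closure ({i, j, y} : Set G) := by
        apply le_antisymm
        · rw [closure_le]
          rintro w (rfl | rfl | rfl)
          · exact inv_mem (subset_closure (by simp))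
          · exact inv_mem (subset_closure (by simp))
          · exact subset_closure (by simp)
        · rw [closure_le]
          rintro w (rfl | rfl | rfl)
          · have : w⁻¹ ∈ closure ({w⁻¹, j⁻¹, y} : Set G) := subset_closure (by simp)
            simpa using inv_mem this
          · have : w⁻¹ ∈ closure ({i⁻¹, w⁻¹, y} : Set G) := subset_closure (by simp)
            simpa using inv_mem this
          · exact subset_closure (by simp)
      have h1 := recog (i := i⁻¹) (j := j⁻¹) (y := y)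
        (by rw [inv_pow, h.hi4, inv_one])
        (by rw [inv_pow, inv_pow, h.hj2])
        (by
          rw [inv_inv, inv_inv]
          have e2 : j⁻¹ * i⁻¹ * j = i := by
            rw [← h.hji]
            group
          exact e2)
        hy3
        (by
          rw [← h.hyi]
          group)
        (by
          have e : y * j⁻¹ * y⁻¹ = (y * j * y⁻¹)⁻¹ := by group
          rw [e, hk, mul_inv_rev]
          have e3 : (i ^ 3)⁻¹ = i := by
            have e4 : (i ^ 3)⁻¹ = i ^ 4 * (i ^ 3)⁻¹ := by rw [h.hi4, one_mul]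
            rw [e4]
            group
          rw [e3]
          have e5 : i * j⁻¹ = j * i := by
            have := h.e2
            rw [mul_inv_eq_iff_eq_mul] at this
            exact this
          rw [e5]
          have e6 : j⁻¹ * i⁻¹ = (i * j)⁻¹ := by group
          rw [e6]
          have e7 : j * i = (i * j)⁻¹ := by
            apply eq_inv_of_mul_eq_one_left
            have e8 : j * i * (i * j) = (j * i * j) * (j⁻¹ * i * j) := by group
            rw [e8, h.jij]
            have e9 : j⁻¹ * i * j = i⁻¹ := by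
              have h3 := h.jij
              have h4 : j⁻¹ * i * j = j⁻¹ * (j * i * j) * j := by rw [h3]
              rw [h4]
              have h5 : j⁻¹ * (j * i * j) * j = i * (j * j) := by group
              rw [h5, ← pow_two, h.hj2]
              have h6 : i ^ 4 = i * i ^ 2 * i := by group
              apply eq_inv_of_mul_eq_one_left
              rw [← h.hi4, h6]
            rw [e9]
            group
          exact e7)
        (by
          rw [inv_pow]
          exact fun e => h.hi2 (inv_eq_one.mp e))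
      rwa [hclos] at h1
  refine ⟨closure ({i, j, y} : Set G), ?_, hiso⟩
  set U := closure ({i, j, y} : Set G) with hU
  obtain ⟨e⟩ := hiso
  have hUcard : Nat.card U = 24 := by
    rw [Nat.card_congr e.toEquiv]
    exact Cfsg.Agent.Lib.ElementFusion.SL23.card_G₀
  have hiU : i ∈ U := subset_closure (by simp)
  have hjU : j ∈ U := subset_closure (by simp)
  have hQU : Q ≤ U := by
    intro a ha
    by_cases hai : a ∈ zpowers i
    · exact zpowers_le.mpr hiU hai
    · have hb := zpowers_le.mpr hiU (h.hel a ha hai)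
      have e2 : a = j * (j⁻¹ * a) := by group
      rw [e2]
      exact mul_mem hjU hb
  have hidx : Q.index ∣ 6 := h.index_dvd hQn hCQ
  have hG1 := Subgroup.card_mul_index Q
  have hG2 := Subgroup.card_mul_index U
  rw [hUcard] at hG2
  have hQ24 : Nat.card Q ∣ 24 := by
    rw [← hUcard]
    exact Subgroup.card_dvd_of_le hQU
  obtain ⟨a, ha⟩ := IsPGroup.iff_card.mp hQp
  have hQ8 : Nat.card Q ∣ 8 := by
    rw [ha] at hQ24 ⊢
    have h3 : (2 ^ a).Coprime 3 := Nat.Coprime.pow_left _ (by norm_num)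
    exact h3.dvd_of_dvd_mul_right (by simpa using hQ24)
  have hU48 : 24 * U.index ∣ 8 * 6 := by
    rw [hG2, ← hG1]
    exact Nat.mul_dvd_mul hQ8 hidx
  have hU2 : U.index ∣ 2 := by
    have : 24 * U.index ∣ 24 * 2 := by simpa using hU48
    exact Nat.dvd_of_mul_dvd_mul_left (by norm_num) this
  rcases (Nat.dvd_prime Nat.prime_two).mp hU2 with h1 | h2
  · rw [Subgroup.index_eq_one] at h1
    rw [h1]
    infer_instance
  · exact Subgroup.normal_of_index_eq_two h2


/-- Let G be a finite solvable group with O(G) = 1 whose Sylow 2-subgroup T is dihedral of order at least 8 or semidihedral, with G ≠ T and Z(T) normal in G. Then G has a normal subgroup isomorphic to SL₂(3). -/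
theorem result {G : Type*} [Group G] [Finite G] (hsol : IsSolvable G) (hO : Cfsg.oddCore G = ⊥) (T : Sylow 2 G) (hT : (∃ n : ℕ, 4 ≤ n ∧ Nonempty (↥(T : Subgroup G) ≃* DihedralGroup n)) ∨ Cfsg.IsQuasiDihedral ↥(T : Subgroup G)) (hne : (T : Subgroup G) ≠ ⊤) (hZ : ((T : Subgroup G) ⊓ Subgroup.centralizer ((T : Subgroup G) : Set G)).Normal) : ∃ U : Subgroup G, U.Normal ∧ Nonempty (↥U ≃* Matrix.SpecialLinearGroup (Fin 2) (ZMod 3)) := by
  classical
  haveI : Fact (Nat.Prime 2) := ⟨Nat.prime_two⟩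
  haveI : Group.IsSolvable G := hsol
  set Q := Cfsg.pCore 2 G with hQdef
  have hQn : Q.Normal := Cfsg.pCore_normal 2 G
  have hQp : IsPGroup 2 Q := Cfsg.Agent.Lib.Core.Basic.pCore_isPGroup
  have hQT : Q ≤ T := Cfsg.Agent.Lib.Core.Basic.pCore_le_sylow T
  have hCQ : centralizer (Q : Set G) ≤ Q := Cfsg.Agent.Lib.Solvable.Fitting.centralizer_pCore_le 2 hO
  have hTp : IsPGroup 2 (T : Subgroup G) := T.isPGroup'
  obtain ⟨x₀, hx₀⟩ : ∃ x₀ : ↥(T : Subgroup G), TS x₀ := by
    rcases hT with ⟨n, hn, ⟨e⟩⟩ | hqd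
    · exact ts_dihedral hTp hn e
    · exact ts_qd hqd
  have hts := tsg_of_ts hx₀
  have hZQ : (T : Subgroup G) ⊓ centralizer ((T : Subgroup G) : Set G) ≤ Q := by
    apply Cfsg.Agent.Lib.Core.Basic.le_pCore hZ
    exact hTp.to_le inf_le_left
  have hZ1 : (T : Subgroup G) ⊓ centralizer ((T : Subgroup G) : Set G) ≠ ⊥ := by
    haveI : Nontrivial ↥(T : Subgroup G) := by
      refine ⟨⟨x₀, 1, ?_⟩⟩
      intro h
      have h4 := hx₀.four
      rw [h, orderOf_one] at h4
      norm_num at h4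
    haveI : Nontrivial (Subgroup.center ↥(T : Subgroup G)) := hTp.center_nontrivial
    obtain ⟨c, hc⟩ := exists_ne (1 : Subgroup.center ↥(T : Subgroup G))
    rw [Subgroup.ne_bot_iff_exists_ne_one]
    refine ⟨⟨(c : ↥(T : Subgroup G)), mem_inf.mpr ⟨(c : ↥(T : Subgroup G)).2, ?_⟩⟩, ?_⟩
    · rw [mem_centralizer_iff]
      intro t ht
      have := (Subgroup.mem_center_iff.mp c.2) ⟨t, ht⟩
      exact congrArg Subtype.val this
    · intro h
      apply hc
      apply Subtype.ext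
      apply Subtype.ext
      have h2 := congrArg (fun z : ↥((T : Subgroup G) ⊓ centralizer ((T : Subgroup G) : Set G)) => (z : G)) h
      exact h2
  -- an element of odd order outside `Q`
  have hnp : ¬ IsPGroup 2 G := by
    intro hG
    apply hne
    have h1 : IsPGroup 2 (⊤ : Subgroup G) := fun g => by
      obtain ⟨k, hk⟩ := hG (g : G)
      exact ⟨k, Subtype.ext (by simpa using hk)⟩
    exact (T.is_maximal' h1 le_top).symm
  unfold IsPGroup at hnp
  push Not at hnp
  obtain ⟨g, hg⟩ := hnp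
  obtain ⟨a, m, hm, hgo⟩ := Nat.exists_eq_two_pow_mul_odd (orderOf_pos g).ne'
  have hmd : m ∣ orderOf g := ⟨2 ^ a, by rw [hgo]; ring⟩
  set y := g ^ (orderOf g / m) with hyd
  have hyo : orderOf y = m := orderOf_pow_orderOf_div (orderOf_pos g).ne' hmd
  have hm1 : m ≠ 1 := by
    rintro rfl
    apply hg a
    rw [← mul_one (2 ^ a), ← hgo, pow_orderOf_eq_one]
  refine main hQn hQp hQT hCQ hts hZ hZQ hZ1 (y := y) (by rw [hyo]; exact hm) ?_
  intro hyQ
  obtain ⟨k, hk⟩ := two_elt_of_mem hQp hyQ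
  have h1 : orderOf y ∣ 2 ^ k := orderOf_dvd_of_pow_eq_one hk
  rw [hyo] at h1
  have h2 : m.Coprime (2 ^ k) := Nat.Coprime.pow_right _ (Nat.coprime_two_right.mpr hm)
  exact hm1 (Nat.Coprime.eq_one_of_dvd h2 h1)


end Cfsg.Agent.S2879
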