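import Cfsg.Statements.S2880
import Cfsg.Agent.Lib.PGroups.ExtraRank

set_option autoImplicit false
open Cfsg

namespace Cfsg.Agent.S2880



/-- Let E be an extraspecial 2-group of order 2^(2m+1) of plus type, that is, containing an elementary abelian subgroup of order 2^(m+1) (equivalently, a central product of m dihedral groups of order 8). Then E has exactly 2^(2m) − 2^m elements of order 4. -/
theorem result {E : Type*} [Group E] [Finite E] (m : ℕ) (hm : 1 ≤ m) (hE : Cfsg.IsExtraspecial 2 E) (hcard : Nat.card E = 2 ^ (2 * m + 1)) (hplus : ∃ A : Subgroup E, Cfsg.IsElementaryAbelian 2 A ∧ Nat.card A = 2 ^ (m + 1)) : Nat.card {x : E // orderOf x = 4} = 2 ^ (2 * m) - 2 ^ m := by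
  have h := Cfsg.Agent.Lib.PGroups.Special.extraLike_of_isExtraspecial hE
  obtain ⟨m', -, hc', hN⟩ := Cfsg.Agent.Lib.PGroups.ExtraIso.count_of_isExtraspecial hE
  have hmm : m' = m := by
    rw [hcard] at hc'
    have := Nat.pow_right_injective (le_refl 2) hc'
    omega
  subst hmm
  obtain ⟨A, hA, hAc⟩ := hplus
  have hN' : Nat.card {x : E // x ^ 2 = 1} = 2 ^ (2 * m') + 2 ^ m' := by
    rcases hN with h1 | h1
    · exact h1
    · exfalso
      have h2 := (Cfsg.Agent.Lib.PGroups.ExtraRank.prank_of_minus h hm hcard h1).1 A hA.1 hA.2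
      rw [hAc] at h2
      have := (Nat.pow_le_pow_iff_right (by norm_num : 1 < 2)).mp h2
      omega
  have h4 := Cfsg.Agent.Lib.PGroups.ExtraRank.card_order_four h
  rw [hN', hcard, pow_succ] at h4
  omega

end Cfsg.Agent.S2880
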