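import Cfsg.Statements.S2881
import Cfsg.Agent.Lib.PGroups.ExtraRank
import Mathlib

set_option autoImplicit false
open Cfsg

namespace Cfsg.Agent.S2881

theorem card_modEq_of_perm {X : Type*} [Finite X] (σ : Equiv.Perm X) (h : σ ^ 5 = 1) (P : Set X)
    (hP : ∀ x, σ x = x ↔ x ∈ P) : Nat.card X ≡ Nat.card P [MOD 5] := by
  classical
  have := Fintype.ofFinite X
  have : Fact (Nat.Prime 5) := ⟨by norm_num⟩
  have h1 := Equiv.Perm.card_compl_support_modEq (p := 5) (n := 1) (σ := σ) (by simpa using h)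
  have h2 : Nat.card P = (σ.support)ᶜ.card := by
    rw [Nat.card_eq_fintype_card]
    apply Fintype.card_of_subtype
    intro x
    rw [Finset.mem_compl, Equiv.Perm.mem_support, not_not, hP]
  rw [h2, Nat.card_eq_fintype_card]
  exact h1.symm



/-- Let E be an extraspecial 2-group of order 2^(2m+1) of plus type (containing an elementary abelian subgroup of order 2^(m+1)), and let ω be an automorphism of E of order 5 whose fixed points are exactly the centre of E. Then m is divisible by 4. -/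
theorem result {E : Type*} [Group E] [Finite E] (m : ℕ) (hm : 1 ≤ m) (hE : Cfsg.IsExtraspecial 2 E) (hcard : Nat.card E = 2 ^ (2 * m + 1)) (hplus : ∃ A : Subgroup E, Cfsg.IsElementaryAbelian 2 A ∧ Nat.card A = 2 ^ (m + 1)) (ω : E ≃* E) (hω : orderOf ω = 5) (hfix : ∀ x : E, ω x = x ↔ x ∈ Subgroup.center E) : 4 ∣ m := by
  classical
  have hh := Cfsg.Agent.Lib.PGroups.Special.extraLike_of_isExtraspecial hE
  obtain ⟨m', -, hc', hN⟩ := Cfsg.Agent.Lib.PGroups.ExtraIso.count_of_isExtraspecial hE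
  have hmm : m' = m := by
    rw [hcard] at hc'
    have := Nat.pow_right_injective (le_refl 2) hc'
    omega
  subst hmm
  obtain ⟨A, hA, hAc⟩ := hplus
  have hN' : Nat.card {x : E // x ^ 2 = 1} = 2 ^ (2 * m') + 2 ^ m' := by
    rcases hN with h1 | h1
    · exact h1
    · exfalso
      have h2 := (Cfsg.Agent.Lib.PGroups.ExtraRank.prank_of_minus hh hm hcard h1).1 A hA.1 hA.2
      rw [hAc] at h2
      have := (Nat.pow_le_pow_iff_right (by norm_num : 1 < 2)).mp h2
      omega
  have hcen2 : Nat.card (Subgroup.center E) = 2 := hE.2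
  have hω5 : ω ^ 5 = 1 := by rw [← hω]; exact pow_orderOf_eq_one ω
  have hsq : ∀ z ∈ Subgroup.center E, z ^ 2 = 1 :=
    fun z hz => hh.center_pow z hz
  -- counting on `E`
  let σ : Equiv.Perm E := ω.toEquiv
  have hσ : σ ^ 5 = 1 := by
    ext x
    have := congrArg (fun f : E ≃* E => f x) hω5
    exact this
  have f1 := card_modEq_of_perm σ hσ (Subgroup.center E : Set E) (fun x => hfix x)
  -- counting on the elements of order at most two
  have hinv : ∀ x : E, (fun y : E => y ^ 2 = 1) (σ x) ↔ (fun y : E => y ^ 2 = 1) x := by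
    intro x
    show (ω x) ^ 2 = 1 ↔ x ^ 2 = 1
    rw [← map_pow, map_eq_one_iff ω ω.injective]
  let τ : Equiv.Perm {x : E // x ^ 2 = 1} := σ.subtypePerm hinv
  have hτ : τ ^ 5 = 1 := by
    ext x
    have h1 : ((τ ^ 5) x : E) = (σ ^ 5) x := by
      simp [τ, Equiv.Perm.subtypePerm_pow]
    rw [h1, hσ]
    rfl
  have f2 := card_modEq_of_perm τ hτ {x : {x : E // x ^ 2 = 1} | (x : E) ∈ Subgroup.center E} (by
    intro x
    rw [Subtype.ext_iff]
    exact hfix x)
  have hP2 : Nat.card {x : {x : E // x ^ 2 = 1} | (x : E) ∈ Subgroup.center E} = 2 := by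
    have h0 : Nat.card {x : {x : E // x ^ 2 = 1} | (x : E) ∈ Subgroup.center E} = Nat.card (Subgroup.center E) :=
      Nat.card_congr
      { toFun := fun x => ⟨x.1.1, x.2⟩
        invFun := fun z => ⟨⟨z.1, hsq z.1 z.2⟩, z.2⟩
        left_inv := fun x => rfl
        right_inv := fun z => rfl }
    rw [h0, hcen2]
  rw [hP2, hN'] at f2
  have hP1 : Nat.card (Subgroup.center E : Set E) = 2 := hcen2
  rw [hP1, hcard] at f1
  -- arithmetic
  have e1 : 2 ^ (2 * m' + 1) = 2 * ((2 ^ m') * (2 ^ m')) := by ring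
  have e2 : 2 ^ (2 * m') = (2 ^ m') * (2 ^ m') := by ring
  rw [e1] at f1
  rw [e2] at f2
  unfold Nat.ModEq at f1 f2
  have ht : 2 ^ m' % 5 = 1 := by
    generalize 2 ^ m' = T at f1 f2
    have h3 : (2 * (T * T)) % 5 = (2 * ((T % 5) * (T % 5))) % 5 := by
      simp [Nat.mul_mod]
    have h4 : (T * T + T) % 5 = ((T % 5) * (T % 5) + T % 5) % 5 := by
      simp [Nat.add_mod, Nat.mul_mod]
    rw [h3] at f1
    rw [h4] at f2
    have h5 : T % 5 < 5 := Nat.mod_lt _ (by norm_num)
    generalize T % 5 = t at f1 f2 h5 ⊢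
    interval_cases t <;> simp_all
  obtain ⟨q, r, hr, rfl⟩ : ∃ q r, r < 4 ∧ m' = 4 * q + r :=
    ⟨m' / 4, m' % 4, Nat.mod_lt _ (by norm_num), (Nat.div_add_mod m' 4).symm⟩
  have h6 : 2 ^ (4 * q + r) % 5 = 2 ^ r % 5 := by
    rw [pow_add, pow_mul, Nat.mul_mod, Nat.pow_mod]
    norm_num
  rw [h6] at ht
  interval_cases r
  · simp
  · norm_num at ht
  · norm_num at ht
  · norm_num at ht

end Cfsg.Agent.S2881
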