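import Cfsg.Statements.S3366
import Cfsg.Agent.Lib.H3366.XPart
import Cfsg.Agent.Lib.H3366.SpPart
import Cfsg.Agent.Lib.Classical.SympCount
import Mathlib

set_option autoImplicit false

open Cfsg

namespace Cfsg.Agent.S3366

open Cfsg.Agent.Lib.H3366

theorem card_psp {F : Type*} [Field F] [Fintype F] (hF : Fintype.card F = 3) :
    Nat.card (Cfsg.PSp 2 F) = 25920 := by
  have h1 := Cfsg.Agent.Lib.Classical.SympCount.card_symplecticGroup (F := F) (q := 3)
    (by rw [Nat.card_eq_fintype_card, hF]) 2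
  have h2 := Cfsg.Agent.Lib.Classical.SympSimple.card_center_symplecticGroup (m := 2) hF (by norm_num)
  have h3 := Subgroup.card_eq_card_quotient_mul_card_subgroup
    (Subgroup.center (Matrix.symplecticGroup (Fin 2) F))
  have hp : ∏ i ∈ Finset.range 2, (3 ^ (2 * (i + 1)) - 1) = 640 := by decide
  have hg : Nat.gcd 2 (3 - 1) = 2 := by norm_num
  rw [h1, h2, hp, hg] at h3
  have h4 : 3 ^ (2 ^ 2) * 640 = 51840 := by norm_num
  rw [h4] at h3
  change 51840 = Nat.card (Cfsg.PSp 2 F) * 2 at h3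
  omega

theorem sylow_part {F : Type*} [Field F] [Fintype F] (hF : Fintype.card F = 3) (c : Cfsg.PSp 2 F)
    (hc : orderOf c = 3) (hC : Nat.card (Subgroup.centralizer ({c} : Set (Cfsg.PSp 2 F))) = 648) :
    ∃ S : Sylow 3 (Cfsg.PSp 2 F), c ∈ (S : Subgroup (Cfsg.PSp 2 F)) ∧
      c ∈ Subgroup.centralizer ((S : Subgroup (Cfsg.PSp 2 F)) : Set (Cfsg.PSp 2 F)) := by
  classical
  haveI : Fact (Nat.Prime 3) := ⟨Nat.prime_three⟩
  have hfin : Finite (Cfsg.PSp 2 F) := inferInstance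
  set C := Subgroup.centralizer ({c} : Set (Cfsg.PSp 2 F)) with hCdef
  obtain ⟨K, hK⟩ := Sylow.exists_subgroup_card_pow_prime (G := C) 3 (n := 4) (by rw [hC]; norm_num)
  let K' : Subgroup (Cfsg.PSp 2 F) := K.map C.subtype
  have hK' : Nat.card K' = 3 ^ 4 := by
    have : Nat.card K' = Nat.card K := Subgroup.card_map_of_injective C.subtype_injective
    rw [this, hK]
  have hK'C : ∀ x ∈ K', x * c = c * x := by
    rintro x ⟨k, _, rfl⟩
    exact Subgroup.mem_centralizer_singleton_iff.1 k.2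
  have hp1 : IsPGroup 3 K' := IsPGroup.of_card hK'
  have hp2 : IsPGroup 3 (Subgroup.zpowers c) := by
    apply IsPGroup.of_card (n := 1)
    rw [Nat.card_zpowers, hc, pow_one]
  have hnorm : K' ≤ Subgroup.normalizer (Subgroup.zpowers c) := by
    intro x hx
    rw [Subgroup.mem_normalizer_iff]
    intro h
    have hcomm : ∀ h ∈ Subgroup.zpowers c, x * h * x⁻¹ = h := by
      intro h hh
      obtain ⟨k, rfl⟩ := Subgroup.mem_zpowers_iff.1 hh
      have : Commute x c := hK'C x hx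
      have h2 := (this.zpow_right k).eq
      rw [h2]; group
    constructor
    · intro hh
      rw [hcomm h hh]; exact hh
    · intro hh
      have h3 := hcomm _ hh
      have h5 : x * h * x⁻¹ = h := by
        calc x * h * x⁻¹ = x⁻¹ * (x * (x * h * x⁻¹) * x⁻¹) * x := by group
          _ = x⁻¹ * (x * h * x⁻¹) * x := by rw [h3]
          _ = h := by group
      rw [← h5]; exact hh
  have hp3 : IsPGroup 3 (K' ⊔ Subgroup.zpowers c : Subgroup (Cfsg.PSp 2 F)) :=
    IsPGroup.to_sup_of_normal_right' hp1 hp2 hnorm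
  obtain ⟨S, hS⟩ := hp3.exists_le_sylow
  have hSp : IsPGroup 3 (S : Subgroup (Cfsg.PSp 2 F)) := S.isPGroup'
  obtain ⟨k, hk⟩ := IsPGroup.iff_card.1 hSp
  have hcard : Nat.card (S : Subgroup (Cfsg.PSp 2 F)) ∣ 25920 := by
    rw [← card_psp hF]
    exact Subgroup.card_subgroup_dvd_card _
  have hk4 : k ≤ 4 := by
    by_contra hcon
    push Not at hcon
    have h5 : 3 ^ 5 ∣ 25920 := dvd_trans (by rw [hk] at hcard; exact dvd_trans (pow_dvd_pow 3 hcon) hcard) (dvd_refl _)
    norm_num at h5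
  have hKS : K' ≤ (S : Subgroup (Cfsg.PSp 2 F)) := le_trans le_sup_left hS
  have heq : K' = (S : Subgroup (Cfsg.PSp 2 F)) := by
    apply Subgroup.eq_of_le_of_card_ge hKS
    rw [hk, hK']
    exact Nat.pow_le_pow_right (by norm_num) hk4
  refine ⟨S, ?_, ?_⟩
  · apply hS
    exact (le_sup_right : Subgroup.zpowers c ≤ K' ⊔ Subgroup.zpowers c) (Subgroup.mem_zpowers c)
  · rw [Subgroup.mem_centralizer_iff]
    intro h hh
    have : h ∈ K' := by rw [heq]; exact hh
    exact hK'C h this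

/-- Let X be a finite group with O₃(X) extraspecial of order 27 and exponent 3, X/O₃(X) isomorphic to SL(2,3), O₂(X) = 1, and a Sylow 3-subgroup of X containing an elementary abelian subgroup of order 27. Then X is isomorphic to the centralizer in PSp(4,3) of a 3-central element of order 3 (an element of order 3 in the centre of a Sylow 3-subgroup). -/
theorem result {X : Type*} [Group X] [Finite X]
    (hR : Cfsg.IsExtraspecial 3 (Cfsg.pCore 3 X)) (hRcard : Nat.card (Cfsg.pCore 3 X) = 27)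
    (hRexp : ∀ r ∈ Cfsg.pCore 3 X, r ^ 3 = 1)
    (e : X ⧸ Cfsg.pCore 3 X ≃* Matrix.SpecialLinearGroup (Fin 2) (ZMod 3))
    (hO2 : Cfsg.pCore 2 X = ⊥)
    (hE : ∃ E : Subgroup X, IsMulCommutative E ∧ (∀ a ∈ E, a ^ 3 = 1) ∧ Nat.card E = 27)
    (F : Type*) [Field F] [Fintype F] (hF : Fintype.card F = 3) :
    ∃ (c : Cfsg.PSp 2 F) (S : Sylow 3 (Cfsg.PSp 2 F)), orderOf c = 3 ∧ c ∈ (S : Subgroup (Cfsg.PSp 2 F)) ∧
      c ∈ Subgroup.centralizer ((S : Subgroup (Cfsg.PSp 2 F)) : Set (Cfsg.PSp 2 F)) ∧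
      Nonempty (X ≃* Subgroup.centralizer ({c} : Set (Cfsg.PSp 2 F))) := by
  classical
  let Q : Subgroup X := Cfsg.pCore 3 X
  let ρ : X →* SL23 := e.toMonoidHom.comp (QuotientGroup.mk' Q)
  have hρs : Function.Surjective ρ := e.surjective.comp (QuotientGroup.mk'_surjective Q)
  have hρk : ∀ x, ρ x = 1 ↔ x ∈ Q := by
    intro x
    change e (QuotientGroup.mk x) = 1 ↔ _
    rw [map_eq_one_iff e e.injective]
    exact QuotientGroup.eq_one_iff x
  let Z : Subgroup X := (Subgroup.center Q).map Q.subtype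
  have hZ : ∀ x, x ∈ Z ↔ x ∈ Q ∧ ∀ q ∈ Q, q * x = x * q := by
    intro x
    constructor
    · rintro ⟨y, hy, rfl⟩
      refine ⟨y.2, ?_⟩
      intro q hq
      exact congrArg Subtype.val (Subgroup.mem_center_iff.1 hy ⟨q, hq⟩)
    · rintro ⟨hx, h⟩
      refine ⟨⟨x, hx⟩, ?_, rfl⟩
      change (⟨x, hx⟩ : Q) ∈ Subgroup.center Q
      rw [Subgroup.mem_center_iff]
      intro q
      exact Subtype.ext (h q.1 q.2)
  have hZ3 : Nat.card Z = 3 := by
    have : Nat.card Z = Nat.card (Subgroup.center Q) := Subgroup.card_map_of_injective Q.subtype_injective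
    rw [this]
    exact hR.2
  have hcomm : ∀ x ∈ Q, ∀ y ∈ Q, x * y * x⁻¹ * y⁻¹ ∈ Z := by
    intro x hx y hy
    have h1 : (⟨x, hx⟩ : Q) * ⟨y, hy⟩ * (⟨x, hx⟩ : Q)⁻¹ * (⟨y, hy⟩ : Q)⁻¹ ∈ commutator Q :=
      Subgroup.commutator_mem_commutator (Subgroup.mem_top _) (Subgroup.mem_top _)
    rw [hR.1.2.2] at h1
    exact ⟨_, h1, rfl⟩
  have hO : ∀ s : X, s ^ 2 = 1 → (∀ g, g * s = s * g) → s = 1 := by
    intro s hs hc
    have hn : (Subgroup.zpowers s).Normal := by
      constructor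
      intro n hn g
      obtain ⟨k, rfl⟩ := Subgroup.mem_zpowers_iff.1 hn
      have : Commute g s := hc g
      have h2 := (this.zpow_right k).eq
      rw [h2]
      simp
    have hp : IsPGroup 2 (Subgroup.zpowers s) := by
      intro x
      refine ⟨1, ?_⟩
      obtain ⟨y, hy⟩ := x
      obtain ⟨k, rfl⟩ := Subgroup.mem_zpowers_iff.1 hy
      apply Subtype.ext
      simp only [pow_one, Subgroup.coe_pow, Subgroup.coe_one]
      rw [← zpow_natCast, ← zpow_mul, mul_comm, zpow_mul, zpow_natCast, hs, one_zpow]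
    have hle : Subgroup.zpowers s ≤ Cfsg.pCore 2 X := le_sSup ⟨hn, hp⟩
    rw [hO2] at hle
    exact Subgroup.mem_bot.1 (hle (Subgroup.mem_zpowers s))
  obtain ⟨x, hx⟩ := hρs (-1)
  have hx2 : x ^ 2 ∈ Q := by
    rw [← hρk, map_pow, hx]
    exact sl_neg_sq
  have ht2 : (x ^ 3) ^ 2 = 1 := by
    have := hRexp _ hx2
    rw [← pow_mul] at this ⊢
    exact this
  have hρt : ρ (x ^ 3) = -1 := by
    rw [map_pow, hx]
    exact sl_neg_cube
  let D : Setup X :=
    { Q := Q, Z := Z, ρ := ρ, t := x ^ 3, hρs := hρs, hρk := hρk, hQ27 := hRcard, hexp := hRexp,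
      hZ := hZ, hZ3 := hZ3, hcomm := hcomm, hO2 := hO, ht2 := ht2, hρt := hρt }
  obtain ⟨e1⟩ := D.exists_iso hE
  let ι : ZMod 3 ≃+* F := ZMod.ringEquivOfPrime F Nat.prime_three hF
  have h3 : (3 : F) = 0 := by
    have h := map_ofNat ι 3
    rw [← h]
    have : (3 : ZMod 3) = 0 := by decide
    rw [this, map_zero]
  obtain ⟨c, hc, ⟨e2⟩⟩ := sp_centralizer (F := F) h3
  let e3 : X ≃* Subgroup.centralizer ({c} : Set (Cfsg.PSp 2 F)) := e1.trans ((hsMap ι).trans e2)
  have hcard : Nat.card (Subgroup.centralizer ({c} : Set (Cfsg.PSp 2 F))) = 648 := by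
    rw [← Nat.card_congr e3.toEquiv]
    exact D.card_X
  obtain ⟨S, hcS, hcC⟩ := sylow_part hF c hc hcard
  exact ⟨c, S, hc, hcS, hcC, ⟨e3⟩⟩

end Cfsg.Agent.S3366
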