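import Cfsg.Statements.S2931
import Cfsg.Agent.Lib.PcIso.A8PSp
import Cfsg.Agent.Lib.TwoFusion.SylowForms
import Cfsg.Agent.Lib.Classical.SympSimple
import Cfsg.Agent.S0288
import Cfsg.Agent.S3366
import Mathlib

set_option autoImplicit false

open Cfsg
open scoped Matrix

namespace Cfsg.Agent.S2931

open Cfsg.Agent.Lib.PcIso Cfsg.Agent.Lib.PcIso.S8O6

section part1

open Cfsg.Agent.Lib.PcIso.A8PSp

variable {F : Type} [Field F] [Fintype F] (hF : Fintype.card F = 3)

/-- The change of field on symplectic groups. -/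
def phi (e : ZMod 3 ≃+* F) : Matrix.symplecticGroup (Fin 2) (ZMod 3) →* Matrix.symplecticGroup (Fin 2) F where
  toFun A := ⟨A.1.map e, SymplecticGroup.map_mem A.2 e⟩
  map_one' := by
    apply Subtype.ext
    change (1 : Matrix _ _ (ZMod 3)).map e = 1
    simp
  map_mul' A B := by
    apply Subtype.ext
    change (A.1 * B.1).map e = A.1.map e * B.1.map e
    rw [Matrix.map_mul (f := e)]

/-- The homomorphism to `PSp`. -/
def pi (e : ZMod 3 ≃+* F) : Matrix.symplecticGroup (Fin 2) (ZMod 3) →* Cfsg.PSp 2 F :=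
  (QuotientGroup.mk' (Subgroup.center (Matrix.symplecticGroup (Fin 2) F))).comp (phi e)

open Cfsg.Agent.Lib.Classical.SympSimple in
lemma pi_neg (e : ZMod 3 ≃+* F) : pi e (negOne 2 (ZMod 3)) = 1 := by
  change ((phi e (negOne 2 (ZMod 3)) : Matrix.symplecticGroup (Fin 2) F) : Cfsg.PSp 2 F) = 1
  rw [QuotientGroup.eq_one_iff, mem_center_symplecticGroup_iff (by norm_num)]
  right
  apply Subtype.ext
  change (-1 : Matrix _ _ (ZMod 3)).map e = -1
  ext i j
  simp [Matrix.map_apply, Matrix.neg_apply, Matrix.one_apply, apply_ite e]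

open Cfsg.Agent.Lib.Classical.SympSimple in
lemma pi_eq (e : ZMod 3 ≃+* F) (a b : Matrix.symplecticGroup (Fin 2) (ZMod 3))
    (h : a.val = b.val ∨ a.val = -b.val) : pi e a = pi e b := by
  rcases h with h | h
  · rw [Subtype.ext h]
  · have : a = negOne 2 (ZMod 3) * b := by
      apply Subtype.ext
      change a.val = (-1) * b.val
      rw [h]; simp
    rw [this, map_mul, pi_neg, one_mul]

open Cfsg.Agent.Lib.Classical.SympSimple in
lemma pi_eq_one (e : ZMod 3 ≃+* F) (a : Matrix.symplecticGroup (Fin 2) (ZMod 3)) (h : pi e a = 1) :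
    a.val = 1 ∨ a.val = -1 := by
  have h1 : (phi e a : Matrix.symplecticGroup (Fin 2) F) ∈
      Subgroup.center (Matrix.symplecticGroup (Fin 2) F) := (QuotientGroup.eq_one_iff _).mp h
  rw [mem_center_symplecticGroup_iff (by norm_num)] at h1
  have hinj : Function.Injective (fun M : Matrix (Fin 2 ⊕ Fin 2) (Fin 2 ⊕ Fin 2) (ZMod 3) => M.map e) :=
    Matrix.map_injective e.injective
  rcases h1 with h1 | h1
  · left
    apply hinj
    have := congrArg Subtype.val h1
    change a.val.map e = 1 at this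
    simp only [this]
    ext i j
    simp [Matrix.one_apply, apply_ite e]
  · right
    apply hinj
    have := congrArg Subtype.val h1
    change a.val.map e = -1 at this
    simp only [this]
    ext i j
    simp [Matrix.one_apply, apply_ite e, Matrix.neg_apply]

include hF in
theorem part1 (P : Sylow 2 ↥(alternatingGroup (Fin 8))) (Q : Sylow 2 (Cfsg.PSp 2 F)) :
    Nonempty (↥(P : Subgroup ↥(alternatingGroup (Fin 8))) ≃* ↥(Q : Subgroup (Cfsg.PSp 2 F))) := by
  let e : ZMod 3 ≃+* F := ZMod.ringEquivOfPrime F Nat.prime_three hF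
  let gA : Fin 6 → ↥(alternatingGroup (Fin 8)) :=
    fun k => ⟨pA k, Equiv.Perm.mem_alternatingGroup.mpr (evenA k)⟩
  let hY : Fin 6 → Cfsg.PSp 2 F := fun k => pi e (sS k)
  let sub := (alternatingGroup (Fin 8)).subtype
  have key : ∀ w : List (Fin 6), sub ((w.map gA).prod) = (w.map pA).prod :=
    fun w => (prod_map_hom sub gA w).symm
  have subw : ∀ m, sub (word gA m) = word pA m := fun m => map_word sub gA m
  have subinj : Function.Injective sub := Subgroup.subtype_injective _
  obtain ⟨⟨E⟩, hc⟩ := pc_iso gA hY w2A wcA hw2 hwc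
    (fun k => subinj (by rw [map_mul, key]; exact rel2X k))
    (fun k j hjk => subinj (by rw [map_mul, map_mul, key]; exact relcX k j hjk))
    (fun k => by
      change pi e (sS k) * pi e (sS k) = ((w2A k).map (fun i => pi e (sS i))).prod
      rw [prod_map_hom, ← map_mul]
      exact pi_eq e _ _ (rel2Y k))
    (fun k j hjk => by
      change pi e (sS k) * pi e (sS j) = ((wcA k j).map (fun i => pi e (sS i))).prod * pi e (sS k)
      rw [prod_map_hom, ← map_mul, ← map_mul]
      exact pi_eq e _ _ (relcY k j hjk))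
    (fun m hm m' hm' he => wordX m hm m' hm' (by rw [← subw, ← subw, he]))
    (fun m hm hm0 he => by
      have h1 : pi e (word sS m) = 1 := by rw [map_word]; exact he
      rcases wordY' m hm with h | ⟨h2, h3⟩
      · exact hm0 h
      · rcases pi_eq_one e _ h1 with h4 | h4
        · exact h2 h4
        · exact h3 h4)
  have hcardA : Nat.card ↥(alternatingGroup (Fin 8)) = 2 ^ 6 * 315 := by
    have h := two_mul_nat_card_alternatingGroup (α := Fin 8)
    rw [Nat.card_perm] at h
    simp only [Nat.card_eq_fintype_card, Fintype.card_fin] at h ⊢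
    have h8 : Nat.factorial 8 = 40320 := by decide
    rw [h8] at h
    omega
  have hcardP : Nat.card (Cfsg.PSp 2 F) = 2 ^ 6 * 405 := by
    rw [Cfsg.Agent.S3366.card_psp hF]
    norm_num
  have hP := Cfsg.Agent.Lib.TwoFusion.SylowForms.card_sylow_of_eq P (by decide) hcardA
  have hQ := Cfsg.Agent.Lib.TwoFusion.SylowForms.card_sylow_of_eq Q (by decide) hcardP
  have hc' := (Nat.card_congr E.toEquiv).symm.trans hc
  obtain ⟨E1⟩ := sylow_equiv_of_card P _ (hc.trans hP.symm) 6 hc
  obtain ⟨E2⟩ := sylow_equiv_of_card Q _ (hc'.trans hQ.symm) 6 hc'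
  exact ⟨E1.trans (E.trans E2.symm)⟩

end part1

section part2

variable {K : Type} [Field K] [Fintype K] (hK : Fintype.card K = 2)

/-- Change of field for the quadratic form. -/
lemma quad_map (e : ZMod 2 ≃+* K) (u : Idx → ZMod 2) :
    Cfsg.quadFormMinus 2 K 1 1 (fun i => e (u i)) = e (Cfsg.quadFormMinus 2 (ZMod 2) 1 1 u) := by
  simp only [Cfsg.quadFormMinus, Fin.sum_univ_two, map_add, map_mul, map_pow, map_one]

/-- The isometries over `K`. -/
noncomputable def psi (e : ZMod 2 ≃+* K) : Matrix.GeneralLinearGroup Idx (ZMod 2) →* Matrix.GeneralLinearGroup Idx K :=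
  Matrix.GeneralLinearGroup.map (e : ZMod 2 →+* K)

lemma psi_val (e : ZMod 2 ≃+* K) (g : Matrix.GeneralLinearGroup Idx (ZMod 2)) :
    (psi e g).val = g.val.map e := rfl

lemma psi_inj (e : ZMod 2 ≃+* K) : Function.Injective (psi e) := by
  intro x y h
  apply Units.ext
  apply Matrix.map_injective e.injective
  exact congrArg Units.val h

lemma psi_mem (e : ZMod 2 ≃+* K) (k : Fin 7) :
    psi e (gM k) ∈ Cfsg.isometryGroup K (Cfsg.quadFormMinus 2 K 1 1) := by
  intro u v
  change Cfsg.quadFormMinus 2 K 1 1 ((gM k).val.map e *ᵥ u) = Cfsg.quadFormMinus 2 K 1 1 u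
  let u0 : Idx → ZMod 2 := fun i => e.symm (u i)
  have hu : u = fun i => e (u0 i) := by
    funext i; simp [u0]
  have h1 : (gM k).val.map e *ᵥ u = fun i => e (((gM k).val *ᵥ u0) i) := by
    funext i
    rw [hu]
    exact ((RingHom.map_mulVec (e : ZMod 2 →+* K) (gM k).val u0 i)).symm
  rw [h1, quad_map]
  conv_rhs => rw [hu, quad_map]
  congr 1
  exact isoM k u0

open Matrix in
include hK in
theorem part2 (a b : K) (hab : ∀ z₁ z₂ : K, z₁ ^ 2 + a * z₁ * z₂ + b * z₂ ^ 2 = 0 → z₁ = 0 ∧ z₂ = 0)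
    (P' : Sylow 2 (Equiv.Perm (Fin 8))) (Q' : Sylow 2 ↥(Cfsg.isometryGroup K (Cfsg.quadFormMinus 2 K a b))) :
    Nonempty (↥(P' : Subgroup (Equiv.Perm (Fin 8))) ≃*
      ↥(Q' : Subgroup ↥(Cfsg.isometryGroup K (Cfsg.quadFormMinus 2 K a b)))) := by
  let e : ZMod 2 ≃+* K := ZMod.ringEquivOfPrime K Nat.prime_two hK
  have h01 : ∀ x : K, x = 0 ∨ x = 1 := by
    intro x
    obtain ⟨y, rfl⟩ := e.surjective x
    have : y = 0 ∨ y = 1 := by revert y; decide
    rcases this with rfl | rfl
    · left; simp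
    · right; simp
  have h2 : (1 : K) + 1 = 0 := by
    rcases h01 (1 + 1) with h | h
    · exact h
    · exfalso
      have : (1 : K) = 0 := by linear_combination h
      exact one_ne_zero this
  have hb : b = 1 := by
    rcases h01 b with h | h
    · exfalso
      have := (hab 0 1 (by rw [h]; ring)).2
      exact one_ne_zero this
    · exact h
  have ha : a = 1 := by
    rcases h01 a with h | h
    · exfalso
      have := (hab 1 1 (by rw [h, hb]; linear_combination h2)).2
      exact one_ne_zero this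
    · exact h
  subst ha hb
  let hY : Fin 7 → ↥(Cfsg.isometryGroup K (Cfsg.quadFormMinus 2 K 1 1)) :=
    fun k => ⟨psi e (gM k), psi_mem e k⟩
  let sub := (Cfsg.isometryGroup K (Cfsg.quadFormMinus 2 K 1 1)).subtype
  have subinj : Function.Injective sub := Subgroup.subtype_injective _
  have key : ∀ w : List (Fin 7), sub ((w.map hY).prod) = psi e ((w.map gM).prod) := by
    intro w
    rw [← prod_map_hom sub hY w, ← prod_map_hom (psi e) gM w]
    rfl
  have subw : ∀ m, sub (word hY m) = psi e (word gM m) := by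
    intro m
    rw [map_word, map_word]
    rfl
  obtain ⟨⟨E⟩, hc⟩ := pc_iso pS hY w2S wcS S8O6.hw2 S8O6.hwc S8O6.rel2X S8O6.relcX
    (fun k => subinj (by
      rw [map_mul, key]
      change psi e (gM k) * psi e (gM k) = _
      rw [← map_mul, S8O6.rel2Y]))
    (fun k j hjk => subinj (by
      rw [map_mul, map_mul, key]
      change psi e (gM k) * psi e (gM j) = _ * psi e (gM k)
      rw [← map_mul, ← map_mul, S8O6.relcY k j hjk]))
    S8O6.wordX
    (fun m hm hm0 he => by
      have h1 : psi e (word gM m) = 1 := by rw [← subw, he, map_one]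
      have h3 : word gM m = 1 := psi_inj e (by rw [h1, map_one])
      rcases wordY' m hm with h | h
      · exact hm0 h
      · exact h (by rw [h3]; rfl))
  have hcardS : Nat.card (Equiv.Perm (Fin 8)) = 2 ^ 7 * 315 := by
    rw [Nat.card_perm]
    simp only [Nat.card_eq_fintype_card, Fintype.card_fin]
    decide
  have hcardO : Nat.card ↥(Cfsg.isometryGroup K (Cfsg.quadFormMinus 2 K 1 1)) = 2 ^ 7 * 405 := by
    have h := Cfsg.Agent.S0288.result hK 3 (by norm_num) 1 1 hab
    have h' : Nat.card ↥(Cfsg.isometryGroup K (Cfsg.quadFormMinus 2 K 1 1)) =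
        2 * 2 ^ (3 * (3 - 1)) * (2 ^ 3 + 1) * ∏ i ∈ Finset.range (3 - 1), (2 ^ (2 * (i + 1)) - 1) := h
    rw [h']
    decide
  have hP := Cfsg.Agent.Lib.TwoFusion.SylowForms.card_sylow_of_eq P' (by decide) hcardS
  have hQ := Cfsg.Agent.Lib.TwoFusion.SylowForms.card_sylow_of_eq Q' (by decide) hcardO
  have hc' := (Nat.card_congr E.toEquiv).symm.trans hc
  obtain ⟨E1⟩ := sylow_equiv_of_card P' _ (hc.trans hP.symm) 7 hc
  obtain ⟨E2⟩ := sylow_equiv_of_card Q' _ (hc'.trans hQ.symm) 7 hc'
  exact ⟨E1.trans (E.trans E2.symm)⟩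

end part2

/-- The Sylow 2-subgroups of the alternating group of degree 8 and of PSp₄(3) are isomorphic, and so are the Sylow 2-subgroups of the symmetric group of degree 8 and of the full isometry group of a non-degenerate quadratic form of minus type in dimension 6 over the field with 2 elements. -/
theorem result (F : Type) [Field F] [Fintype F] (hF : Fintype.card F = 3) (K : Type) [Field K] [Fintype K] (hK : Fintype.card K = 2) (a b : K) (hab : ∀ z₁ z₂ : K, z₁ ^ 2 + a * z₁ * z₂ + b * z₂ ^ 2 = 0 → z₁ = 0 ∧ z₂ = 0) (P : Sylow 2 ↥(alternatingGroup (Fin 8))) (Q : Sylow 2 (Cfsg.PSp 2 F)) (P' : Sylow 2 (Equiv.Perm (Fin 8))) (Q' : Sylow 2 ↥(Cfsg.isometryGroup K (Cfsg.quadFormMinus 2 K a b))) : Nonempty (↥(P : Subgroup ↥(alternatingGroup (Fin 8))) ≃* ↥(Q : Subgroup (Cfsg.PSp 2 F))) ∧ Nonempty (↥(P' : Subgroup (Equiv.Perm (Fin 8))) ≃* ↥(Q' : Subgroup ↥(Cfsg.isometryGroup K (Cfsg.quadFormMinus 2 K a b)))) :=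
  ⟨part1 hF P Q, part2 hK a b hab P' Q'⟩

end Cfsg.Agent.S2931
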