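import Cfsg.Statements.S2933
import Cfsg.Agent.Lib.TwoFusion.Hyp.Final

set_option autoImplicit false
open Cfsg

namespace Cfsg.Agent.S2933

open Cfsg.Agent.Lib.TwoFusion.Hyp
open Cfsg.Agent.Lib.TwoFusion
open scoped commutatorElement

/-- Conjugation by a normalizing element, as an automorphism of the subgroup. -/
noncomputable def conjA {G : Type*} [Group G] (T : Subgroup G) (g : G) (h : ∀ x, x ∈ T ↔ g * x * g⁻¹ ∈ T) :
    MulAut ↥T where
  toFun x := ⟨g * x.1 * g⁻¹, (h x.1).mp x.2⟩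
  invFun x := ⟨g⁻¹ * x.1 * g, (h _).mpr (by
    have e : g * (g⁻¹ * x.1 * g) * g⁻¹ = x.1 := by group
    rw [e]
    exact x.2)⟩
  left_inv x := by
    apply Subtype.ext
    change g⁻¹ * (g * x.1 * g⁻¹) * g = x.1
    group
  right_inv x := by
    apply Subtype.ext
    change g * (g⁻¹ * x.1 * g) * g⁻¹ = x.1
    group
  map_mul' a b := by
    apply Subtype.ext
    change g * (a.1 * b.1) * g⁻¹ = (g * a.1 * g⁻¹) * (g * b.1 * g⁻¹)
    group

lemma conjA_apply {G : Type*} [Group G] (T : Subgroup G) (g : G) (h : ∀ x, x ∈ T ↔ g * x * g⁻¹ ∈ T) (x : ↥T) :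
    ((conjA T g h x : ↥T) : G) = g * x.1 * g⁻¹ := rfl


/-- Let T be a 2-subgroup of a finite group G, V ≤ Z(T) a four-group, and t, ρ ∈ N_G(V) ∩ N_G(T) elements of order 2 and 3 with t commuting with ρ and with V. If [V, ρ] = V and C_T(t) = V, then T is elementary abelian of order 16, or homocyclic of rank 2 (ℤ/2ⁿ × ℤ/2ⁿ for some n ≥ 1), or isomorphic to a Sylow 2-subgroup of PSL₃(4) or of PSU₃(4). -/
theorem result {G : Type*} [Group G] [Finite G] (T V : Subgroup G) (hT : IsPGroup 2 ↥T) (hVT : V ≤ T ⊓ Subgroup.centralizer (T : Set G)) (hV : Nat.card ↥V = 4 ∧ ∀ v ∈ V, v ^ 2 = 1) (t ρ : G) (ht : orderOf t = 2) (hρ : orderOf ρ = 3) (htn : t ∈ Subgroup.normalizer (V : Set G) ⊓ Subgroup.normalizer (T : Set G)) (hρn : ρ ∈ Subgroup.normalizer (V : Set G) ⊓ Subgroup.normalizer (T : Set G)) (htρ : t * ρ = ρ * t) (htV : t ∈ Subgroup.centralizer (V : Set G)) (hVρ : ⁅V, Subgroup.zpowers ρ⁆ = V) (hCt : T ⊓ Subgroup.centralizer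 ({t} : Set G) = V) : (Nat.card ↥T = 16 ∧ ∀ x ∈ T, x ^ 2 = 1) ∨ (∃ n : ℕ, 1 ≤ n ∧ Nonempty (↥T ≃* Multiplicative (ZMod (2 ^ n)) × Multiplicative (ZMod (2 ^ n)))) ∨ (∃ (F : Type) (_ : Field F) (_ : Fintype F), Fintype.card F = 4 ∧ ∀ P : Sylow 2 (Matrix.ProjectiveSpecialLinearGroup (Fin 3) F), Nonempty (↥T ≃* ↥(P : Subgroup (Matrix.ProjectiveSpecialLinearGroup (Fin 3) F)))) ∨ (∃ (F : Type) (_ : Field F) (_ : Fintype F), Fintype.card F = 16 ∧ ∀ P : Sylow 2 (Cfsg.PSU 3 F 4), Nonempty (↥T ≃* ↥(P : Subgroup (Cfsg.PSU 3 F 4)))) := by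
  classical
  haveI : Fact (Nat.Prime 2) := ⟨Nat.prime_two⟩
  have hρT : ∀ x, x ∈ T ↔ ρ * x * ρ⁻¹ ∈ T := fun x => Subgroup.mem_normalizer_iff.mp hρn.2 x
  have htT : ∀ x, x ∈ T ↔ t * x * t⁻¹ ∈ T := fun x => Subgroup.mem_normalizer_iff.mp htn.2 x
  have hρV : ∀ x, x ∈ V ↔ ρ * x * ρ⁻¹ ∈ V := fun x => Subgroup.mem_normalizer_iff.mp hρn.1 x
  have hVleT : V ≤ T := fun v hv => (hVT hv).1
  let α : MulAut ↥T := conjA T ρ hρT
  let τ : MulAut ↥T := conjA T t htT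
  let V' : Subgroup ↥T := V.subgroupOf T
  have hαv : ∀ x : ↥T, ((α x : ↥T) : G) = ρ * x.1 * ρ⁻¹ := fun _ => rfl
  have hτv : ∀ x : ↥T, ((τ x : ↥T) : G) = t * x.1 * t⁻¹ := fun _ => rfl
  have hmemV' : ∀ x : ↥T, x ∈ V' ↔ x.1 ∈ V := fun x => Subgroup.mem_subgroupOf
  have hρ3 : ρ ^ 3 = 1 := by rw [← hρ]; exact pow_orderOf_eq_one ρ
  have ht2 : t * t = 1 := by
    have := pow_orderOf_eq_one t
    rw [ht, pow_two] at this
    exact this
  have hcube : ∀ x : ↥T, α (α (α x)) = x := by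
    intro x
    apply Subtype.ext
    rw [hαv, hαv, hαv]
    have e : ρ * (ρ * (ρ * x.1 * ρ⁻¹) * ρ⁻¹) * ρ⁻¹ = (ρ * ρ * ρ) * x.1 * (ρ * ρ * ρ)⁻¹ := by group
    have h3 : ρ * ρ * ρ = 1 := by simpa [pow_succ] using hρ3
    rw [e, h3]
    simp
  have hτ2 : ∀ x : ↥T, τ (τ x) = x := by
    intro x
    apply Subtype.ext
    rw [hτv, hτv]
    have e : t * (t * x.1 * t⁻¹) * t⁻¹ = (t * t) * x.1 * (t * t)⁻¹ := by group
    rw [e, ht2]
    simp
  have hτα : ∀ x : ↥T, τ (α x) = α (τ x) := by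
    intro x
    apply Subtype.ext
    rw [hτv, hαv, hαv, hτv]
    have e1 : t * (ρ * x.1 * ρ⁻¹) * t⁻¹ = (t * ρ) * x.1 * (t * ρ)⁻¹ := by group
    have e2 : ρ * (t * x.1 * t⁻¹) * ρ⁻¹ = (ρ * t) * x.1 * (ρ * t)⁻¹ := by group
    rw [e1, e2, htρ]
  have hVα : ∀ v ∈ V', α v ∈ V' := by
    intro v hv
    rw [hmemV'] at hv ⊢
    rw [hαv]
    exact (hρV _).mp hv
  have hV4 : Nat.card V' = 4 := by
    rw [Nat.card_congr (Subgroup.subgroupOfEquivOfLe hVleT).toEquiv]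
    exact hV.1
  have hcentral : ∀ v ∈ V', ∀ x : ↥T, v * x = x * v := by
    intro v hv x
    rw [hmemV'] at hv
    apply Subtype.ext
    have h1 : v.1 ∈ Subgroup.centralizer (T : Set G) := (hVT hv).2
    rw [Subgroup.mem_centralizer_iff] at h1
    exact (h1 x.1 x.2).symm
  have hC : ∀ x : ↥T, τ x = x ↔ x ∈ V' := by
    intro x
    rw [hmemV', ← hCt, Subgroup.mem_inf]
    constructor
    · intro h
      refine ⟨x.2, ?_⟩
      have h1 : t * x.1 * t⁻¹ = x.1 := congrArg Subtype.val h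
      rw [Subgroup.mem_centralizer_singleton_iff]
      calc x.1 * t = (t * x.1 * t⁻¹) * t := by rw [h1]
        _ = t * x.1 := by group
    · rintro ⟨-, h⟩
      rw [Subgroup.mem_centralizer_singleton_iff] at h
      apply Subtype.ext
      rw [hτv, ← h]
      group
  -- a moved element of `V`
  obtain ⟨w, hw, hwm⟩ : ∃ w ∈ V', α w ≠ w := by
    by_contra hcon
    push Not at hcon
    have hb : ⁅V, Subgroup.zpowers ρ⁆ = ⊥ := by
      rw [Subgroup.commutator_eq_bot_iff_le_centralizer]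
      intro v hv
      rw [Subgroup.mem_centralizer_iff]
      intro r hr
      obtain ⟨k, rfl⟩ := Subgroup.mem_zpowers_iff.mp hr
      have h1 := hcon ⟨v, hVleT hv⟩ ((hmemV' _).mpr hv)
      have h2 : ρ * v * ρ⁻¹ = v := congrArg Subtype.val h1
      have h3 : Commute ρ v := by
        show ρ * v = v * ρ
        calc ρ * v = (ρ * v * ρ⁻¹) * ρ := by group
          _ = v * ρ := by rw [h2]
      exact (h3.zpow_left k).eq
    rw [hb] at hVρ
    rw [← hVρ] at hV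
    have := hV.1
    rw [Subgroup.card_bot] at this
    omega
  have hmv : ∀ k ∈ V', k ≠ 1 → α k ≠ k := fun k hk hk1 =>
    moved_of_exists hcube hVα hV4 hw hwm hk hk1
  have hfpf := fpf_of_tau (V := V') hT hτ2 hτα (fun x hx => (hC x).mp hx) hmv
  have S : Fpf3 α := ⟨inferInstance, hT, hcube, hfpf⟩
  have H : TauSetup α τ V' := ⟨S, hVα, hV4, hcentral, hτ2, hτα, hC⟩
  -- the fields
  let F₄ : Type := GaloisField 2 2
  letI : Field F₄ := inferInstance
  haveI : Finite F₄ := by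
    have : Nat.card (GaloisField 2 2) = 2 ^ 2 := GaloisField.card 2 2 (by norm_num)
    exact Nat.finite_of_card_ne_zero (by rw [this]; norm_num)
  letI : Fintype F₄ := Fintype.ofFinite F₄
  have h4 : Fintype.card F₄ = 4 := by
    rw [← Nat.card_eq_fintype_card]
    have : Nat.card (GaloisField 2 2) = 2 ^ 2 := GaloisField.card 2 2 (by norm_num)
    rw [show Nat.card F₄ = Nat.card (GaloisField 2 2) from rfl, this]
    norm_num
  let F₁₆ : Type := GaloisField 2 4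
  letI : Field F₁₆ := inferInstance
  haveI : Finite F₁₆ := by
    have : Nat.card (GaloisField 2 4) = 2 ^ 4 := GaloisField.card 2 4 (by norm_num)
    exact Nat.finite_of_card_ne_zero (by rw [this]; norm_num)
  letI : Fintype F₁₆ := Fintype.ofFinite F₁₆
  have h16 : Fintype.card F₁₆ = 16 := by
    rw [← Nat.card_eq_fintype_card]
    have : Nat.card (GaloisField 2 4) = 2 ^ 4 := GaloisField.card 2 4 (by norm_num)
    rw [show Nat.card F₁₆ = Nat.card (GaloisField 2 4) from rfl, this]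
    norm_num
  haveI : Fact (Fintype.card F₁₆ = 16) := ⟨h16⟩
  rcases H.classify (F₄ := F₄) (F₁₆ := F₁₆) h4 with h1 | ⟨n, hn, he⟩ | he | he
  · left
    refine ⟨h1.1, fun x hx => ?_⟩
    have := h1.2 ⟨x, hx⟩
    rw [pow_two]
    exact congrArg Subtype.val this
  · right; left
    obtain ⟨e⟩ := he
    exact ⟨n, hn, ⟨e.trans (MulEquiv.prodMultiplicative _ _)⟩⟩
  · right; right; left
    obtain ⟨e⟩ := he
    refine ⟨F₄, inferInstance, inferInstance, h4, fun P => ?_⟩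
    obtain ⟨e₂⟩ := ut_equiv (F := F₄)
    obtain ⟨P₀, hP₀⟩ := exists_sylow h4
    have e₃ : Nonempty (↥(Cfsg.Agent.Lib.KS71.PSLSylow.Ubar 3 F₄) ≃*
        ↥(P₀ : Subgroup (Matrix.ProjectiveSpecialLinearGroup (Fin 3) F₄))) := by
      rw [hP₀]
      exact ⟨MulEquiv.refl _⟩
    obtain ⟨e₃⟩ := e₃
    exact ⟨(e.trans e₂).trans (e₃.trans (Sylow.equiv P₀ P))⟩
  · right; right; right
    obtain ⟨e⟩ := he
    refine ⟨F₁₆, inferInstance, inferInstance, h16, fun P => ?_⟩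
    obtain ⟨e₂⟩ := U34.nonempty_equiv P
    exact ⟨e.trans e₂.symm⟩

end Cfsg.Agent.S2933
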