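import Cfsg.Statements.S2934
import Cfsg.Agent.Lib.LocalEven.OddAutB
import Cfsg.Agent.Lib.Coprime.Bridge
import Cfsg.Agent.Lib.PGroups.Special

set_option autoImplicit false
open Cfsg
open Subgroup Cfsg.Agent.Lib.LocalEven.OddAutA Cfsg.Agent.Lib.Coprime.Bridge Cfsg.Agent.Lib.PGroups.Special

namespace Cfsg.Agent.S2934

open scoped commutatorElement

/-- Let p be an odd prime, W a finite 2-group and E a non-cyclic abelian p-subgroup of Aut(W) such that, for every nontrivial e ∈ E, the fixed points of e in W contain at most one involution. Then E has order 9, W is extraspecial of order 2⁵, 2⁷ or 2⁹, and the common fixed points of E in W form exactly the centre Z(W). -/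
theorem result {W : Type*} [Group W] [Finite W] (hW : IsPGroup 2 W) {p : ℕ} [Fact p.Prime] (hp : p ≠ 2) (E : Subgroup (MulAut W)) (hE : IsPGroup p ↥E) (hab : IsMulCommutative ↥E) (hnc : ¬ IsCyclic ↥E) (hfix : ∀ e ∈ E, e ≠ 1 → ∀ x y : W, orderOf x = 2 → orderOf y = 2 → e x = x → e y = y → x = y) : Nat.card ↥E = 9 ∧ Cfsg.IsExtraspecial 2 W ∧ (Nat.card W = 2 ^ 5 ∨ Nat.card W = 2 ^ 7 ∨ Nat.card W = 2 ^ 9) ∧ {x : W | ∀ e ∈ E, e x = x} = (Subgroup.center W : Set W) := by
    classical
  have hfactp2 : Fact (Nat.Prime 2) := ⟨Nat.prime_two⟩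
  haveI : Finite E := inferInstance
  have hsmul : ∀ (e : E) (x : W), e • x = (e : MulAut W) x := fun _ _ => rfl
  have hK2 : IsPGroup 2 (rangeG E W) := by
    rw [IsPGroup.iff_card]
    obtain ⟨n, hn⟩ := IsPGroup.iff_card.1 hW
    exact ⟨n, by rw [card_rangeG, hn]⟩
  have hAp : IsPGroup p (rangeA E W) := by
    rw [IsPGroup.iff_card]
    obtain ⟨n, hn⟩ := IsPGroup.iff_card.1 hE
    exact ⟨n, by rw [card_rangeA, hn]⟩
  have hinAcomm : ∀ e f : E, e * f = f * e := fun e f => hab.is_comm.comm e f
  have hconj : ∀ (e : E) (g : W), (inA e : Gam E W) * inG g = inG (e • g) * inA e := by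
    intro e g
    have h1 := inA_conj_inG e g
    rw [← h1]
    group
  have hfixiff : ∀ (e : E) (g : W), (inA e : Gam E W) * inG g = inG g * inA e ↔ e • g = g := by
    intro e g
    rw [hconj]
    constructor
    · intro h
      exact inG_injective (mul_right_cancel h)
    · intro h
      rw [h]
  have H : Hyp p (rangeG E W) (rangeA E W) := by
    refine ⟨hp, hK2, hAp, ?_, ?_, rangeA_le_normalizer_rangeG, ?_, ?_⟩
    · rintro _ ⟨e, rfl⟩ _ ⟨f, rfl⟩
      rw [← map_mul, ← map_mul, hinAcomm]
    · intro hc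
      apply hnc
      let φ : E ≃* rangeA E W := MonoidHom.ofInjective (inA_injective (A := E) (G := W))
      exact isCyclic_of_surjective φ.symm φ.symm.surjective
    · rw [eq_bot_iff]
      rintro x hx
      obtain ⟨⟨e, rfl⟩, hx2⟩ := mem_inf.1 hx
      have he : e = 1 := by
        apply Subtype.ext
        apply MulEquiv.ext
        intro g
        have h1 := mem_centralizer_iff.1 hx2 (inG g) ⟨g, rfl⟩
        exact (hfixiff e g).1 h1.symm
      rw [he, map_one, mem_bot]
    · rintro _ ⟨e, rfl⟩ hane _ ⟨g, rfl⟩ _ ⟨h, rfl⟩ hgg hg1 hhh hh1 hcg hch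
      have he1 : (e : MulAut W) ≠ 1 := by
        intro h'
        apply hane
        have : e = 1 := Subtype.ext h'
        rw [this, map_one]
      have hord : ∀ x : W, (inG x : Gam E W) * inG x = 1 → (inG x : Gam E W) ≠ 1 → orderOf x = 2 := by
        intro x h1 h2
        have h3 : x * x = 1 := by
          apply inG_injective (A := E)
          rw [map_mul, h1, map_one]
        apply orderOf_eq_prime
        · rw [pow_two, h3]
        · intro h4
          apply h2
          rw [h4, map_one]
      have := hfix e e.2 he1 g h (hord g hgg hg1) (hord h hhh hh1) ((hfixiff e g).1 hcg)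
        ((hfixiff e h).1 hch)
      rw [this]
  obtain ⟨z, hZ⟩ := H.exists_hasZ
  obtain ⟨z₀, rfl⟩ := hZ.hzK
  have hinj : Function.Injective (inG : W →* Gam E W) := inG_injective
  have hz₁ : z₀ ≠ 1 := by
    intro h
    apply hZ.hz1
    rw [h, map_one]
  have hz₂ : z₀ * z₀ = 1 := by
    apply hinj
    rw [map_mul, hZ.hzz, map_one]
  have hK : ∀ x : W, (inG x : Gam E W) ∈ rangeG E W := fun x => ⟨x, rfl⟩
  have hsq : ∀ x : W, x * x = 1 ∨ x * x = z₀ := by
    intro x
    rcases hZ.sq_mem (hK x) with h | h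
    · left
      apply hinj
      rw [map_mul, h, map_one]
    · right
      apply hinj
      rw [map_mul, h]
  have hcom : ∀ x y : W, ⁅x, y⁆ = 1 ∨ ⁅x, y⁆ = z₀ := by
    intro x y
    rcases hZ.comm_rel (hK x) (hK y) with h | h
    · left
      apply hinj
      rw [map_commutatorElement, h, map_one]
    · right
      apply hinj
      rw [map_commutatorElement, h]
  have hzc : ∀ x : W, z₀ * x = x * z₀ := by
    intro x
    apply hinj
    rw [map_mul, map_mul]
    exact (hZ.hzc _ (hK x)).symm
  have hcen : ∀ x : W, (∀ y, x * y = y * x) → x = 1 ∨ x = z₀ := by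
    intro x hx
    rcases hZ.center_eq (hK x) (by
      rintro _ ⟨y, rfl⟩
      rw [← map_mul, ← map_mul, hx y]) with h | h
    · left
      apply hinj
      rw [h, map_one]
    · right
      apply hinj
      exact h
  have hzA : ∀ e : E, e • z₀ = z₀ := fun e => (hfixiff e z₀).1 (hZ.hzA _ ⟨e, rfl⟩)
  have hmemcen : ∀ x : W, x ∈ Subgroup.center W ↔ x = 1 ∨ x = z₀ := by
    intro x
    constructor
    · intro h
      exact hcen x (fun y => (Subgroup.mem_center_iff.1 h y).symm)
    · rintro (rfl | rfl)
      · exact one_mem _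
      · exact Subgroup.mem_center_iff.2 (fun y => (hzc y).symm)
  have hcard2 : Nat.card (Subgroup.center W) = 2 := by
    rw [Nat.card_eq_two_iff]
    refine ⟨⟨1, one_mem _⟩, ⟨z₀, (hmemcen z₀).2 (Or.inr rfl)⟩, ?_, ?_⟩
    · intro h
      exact hz₁ (congrArg Subtype.val h).symm
    · ext ⟨x, hx⟩
      simp only [Set.mem_insert_iff, Set.mem_singleton_iff, Set.mem_univ, iff_true]
      rcases (hmemcen x).1 hx with h | h
      · exact Or.inl (Subtype.ext h)
      · exact Or.inr (Subtype.ext h)
  have hEx : ExtraLike 2 W := by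
    refine ⟨hW, hcard2, ?_, ?_⟩
    · intro x y
      exact (hmemcen _).2 (hcom x y)
    · intro x
      rw [pow_two]
      exact (hmemcen _).2 (hsq x)
  have hnc' : ¬ IsMulCommutative W := by
    intro hc
    obtain ⟨_, ⟨x, rfl⟩, _, ⟨y, rfl⟩, hxy⟩ := hZ.not_comm
    apply hxy
    rw [← map_mul, ← map_mul, hc.is_comm.comm x y]
  have hc1 : 8 < Nat.card W := by
    have := hZ.card_gt_eight
    rwa [card_rangeG] at this
  have hc2 : Nat.card W ≤ 512 := by
    have := hZ.card_le_512
    rwa [card_rangeG] at this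
  refine ⟨?_, hEx.isExtraspecial hnc', ?_, ?_⟩
  · have := hZ.card_eq_nine
    rwa [card_rangeA] at this
  · obtain ⟨n, hn⟩ := hEx.card_eq
    rw [hn] at hc1 hc2 ⊢
    have hn4 : n ≤ 4 := by
      by_contra hcon
      push Not at hcon
      have : 2 ^ (2 * 5 + 1) ≤ 2 ^ (2 * n + 1) := Nat.pow_le_pow_right (by norm_num) (by omega)
      omega
    interval_cases n
    · norm_num at hc1
    · norm_num at hc1
    · left; norm_num
    · right; left; norm_num
    · right; right; norm_num
  · ext x
    simp only [Set.mem_ofPred_eq, SetLike.mem_coe]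
    rw [hmemcen]
    constructor
    · intro h
      rcases hZ.fixed_pts (hK x) (by
        rintro _ ⟨e, rfl⟩
        exact (hfixiff e x).2 (h e e.2)) with h1 | h1
      · left
        apply hinj
        rw [h1, map_one]
      · right
        apply hinj
        exact h1
    · rintro (rfl | rfl) e he
      · exact map_one _
      · exact hzA ⟨e, he⟩

end Cfsg.Agent.S2934
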