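import Cfsg.Statements.S2971
import Cfsg.Agent.Lib.PGroups.NormalRankTwo
import Cfsg.Agent.Lib.LocalEven.Isolated
import Cfsg.Agent.Lib.Core.Basic

set_option autoImplicit false
open Cfsg

namespace Cfsg.Agent.S2971

/-- Let G be a finite group and p an odd prime such that G has p-rank at most 1 (no elementary abelian subgroup of order p²). If x ∈ G is an isolated element of order p, then x is central modulo the largest normal subgroup of G of order prime to p. -/
theorem result {G : Type*} [Group G] [Finite G] {p : ℕ} [Fact p.Prime] (hp : p ≠ 2) (hrk : Cfsg.PRankLE p 1 G) (x : G) (hx : orderOf x = p) (hiso : Cfsg.IsIsolated x) : Cfsg.InZStar p x := by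
    classical
  have hp' : p.Prime := Fact.out
  have hxk : ∃ k : ℕ, orderOf x = p ^ k := ⟨1, by simpa using hx⟩
  have hx1 : x ≠ 1 := by
    rintro rfl
    rw [orderOf_one] at hx
    exact hp'.one_lt.ne hx
  have hcyc : ∀ P : Sylow p G, IsCyclic ↥(P : Subgroup G) := by
    intro P
    by_contra hnc
    obtain ⟨A, -, hAe, hAc⟩ :=
      Cfsg.Agent.Lib.PGroups.NormalRankTwo.exists_normal_elementaryAbelian_sq hp P.isPGroup' hnc
    have hcomm : IsMulCommutative ↥(A.map (P : Subgroup G).subtype) := by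
      refine ⟨⟨?_⟩⟩
      rintro ⟨_, a, ha, rfl⟩ ⟨_, b, hb, rfl⟩
      apply Subtype.ext
      have h := hAe.1.is_comm.comm ⟨a, ha⟩ ⟨b, hb⟩
      have h' : a * b = b * a := congrArg Subtype.val h
      change (a : G) * (b : G) = (b : G) * (a : G)
      exact congrArg Subtype.val h'
    have hexp : ∀ a ∈ A.map (P : Subgroup G).subtype, a ^ p = 1 := by
      rintro _ ⟨a, ha, rfl⟩
      have := hAe.2 a ha
      change (a : G) ^ p = 1
      exact_mod_cast congrArg Subtype.val this
    have hle := hrk _ hcomm hexp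
    rw [Subgroup.card_map_of_injective (Subgroup.subtype_injective _), hAc, pow_one] at hle
    have h2 : p < p ^ 2 := by nlinarith [hp'.one_lt]
    omega
  obtain ⟨P, N, hNn, hc⟩ :=
    Cfsg.Agent.Lib.LocalEven.Isolated.hasNormalPComplement_of_isolated hiso hxk hx1 hcyc
  have hNc : (Nat.card N).Coprime p := by
    rw [← hc.index_eq_card]
    exact ((Nat.Prime.coprime_iff_not_dvd hp').2 P.not_dvd_index).symm
  have hNle : N ≤ pPrimeCore p G := Cfsg.Agent.Lib.Core.Basic.le_pPrimeCore hNn hNc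
  have hdec : ∀ a : G, ∃ t ∈ (P : Subgroup G), (QuotientGroup.mk a : G ⧸ N) = QuotientGroup.mk t := by
    intro a
    obtain ⟨⟨n, t⟩, hnt, -⟩ := hc.existsUnique a
    refine ⟨t, t.2, ?_⟩
    have hnt' : (n : G) * (t : G) = a := hnt
    rw [QuotientGroup.eq]
    rw [← hnt']
    have : ((n : G) * (t : G))⁻¹ * (t : G) = (t : G)⁻¹ * (n : G)⁻¹ * (t : G) := by group
    rw [this]
    have := (Subgroup.mem_normalizer_iff.1 (by rw [Subgroup.normalizer_eq_top_iff.2 hNn]; trivial : (t : G)⁻¹ ∈ Subgroup.normalizer (N : Set G)) (n : G)⁻¹).1 (inv_mem n.2)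
    simpa using this
  intro g
  apply hNle
  obtain ⟨t₁, ht₁, he₁⟩ := hdec g
  obtain ⟨t₂, ht₂, he₂⟩ := hdec x
  have hcomm : t₁ * t₂ = t₂ * t₁ := by
    haveI := hcyc P
    have h0 : IsMulCommutative ↥(P : Subgroup G) := IsCyclic.isMulCommutative
    have := h0.is_comm.comm (⟨t₁, ht₁⟩ : ↥(P : Subgroup G)) ⟨t₂, ht₂⟩
    exact congrArg Subtype.val this
  rw [← QuotientGroup.eq_one_iff]
  simp only [QuotientGroup.mk_mul, QuotientGroup.mk_inv, he₁, he₂]
  rw [← QuotientGroup.mk_mul, hcomm, QuotientGroup.mk_mul]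
  group

end Cfsg.Agent.S2971
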