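import Cfsg.Statements.S2972
import Cfsg.Agent.Lib.LocalEven.ZStar2

set_option autoImplicit false
open Cfsg
open Subgroup

namespace Cfsg.Agent.S2972

open scoped commutatorElement

/-- Let G be a finite group, p a prime and x ∈ G an isolated element of order p (the only conjugate of x commuting with x is x) which is not central modulo the largest normal subgroup of order prime to p, while x is central modulo the largest normal subgroup of order prime to p in every proper subgroup containing x, and the image of x is so in every quotient of G by a nontrivial normal subgroup (a minimal counterexample to the Z*_p statement). Then the derived subgroup G' is a non-abelian simple group and G = G'⟨x⟩. -/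
theorem result {G : Type*} [Group G] [Finite G] {p : ℕ} [Fact p.Prime] (x : G) (hx : orderOf x = p) (hiso : Cfsg.IsIsolated x) (hnz : ¬ Cfsg.InZStar p x) (hmin : ∀ (H : Subgroup G) (hxH : x ∈ H), H ≠ ⊤ → Cfsg.InZStar p (⟨x, hxH⟩ : ↥H)) (hquot : ∀ (N : Subgroup G) [N.Normal], N ≠ ⊥ → Cfsg.InZStar p (QuotientGroup.mk x : G ⧸ N)) : IsSimpleGroup ↥(commutator G) ∧ ¬ IsMulCommutative ↥(commutator G) ∧ commutator G ⊔ Subgroup.zpowers x = ⊤ := by
    classical
  have h : Cfsg.Agent.Lib.LocalEven.ZStar.MinCE p x := ⟨hx, hiso, hnz, hmin, hquot⟩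
  have hx1 := h.x_ne_one
  let P : Subgroup G → Prop := fun N => N.Normal ∧ N ≠ ⊥
  have hP : P ⊤ := ⟨inferInstance, by
    intro hb
    apply hx1
    have : x ∈ (⊤ : Subgroup G) := trivial
    rw [hb] at this
    exact this⟩
  obtain ⟨N, -, hNmin⟩ := Finite.exists_le_minimal (p := P) (a := ⊤) hP
  have hN : N.Normal := hNmin.prop.1
  have hN1 : N ≠ ⊥ := hNmin.prop.2
  have hmin' : ∀ N' : Subgroup G, N'.Normal → N' ≠ ⊥ → N' ≤ N → N' = N := fun N' h1 h2 h3 =>
    le_antisymm h3 (hNmin.le_of_le ⟨h1, h2⟩ h3)
  have hsimple := Cfsg.Agent.Lib.LocalEven.ZStar2.isSimpleGroup_of_minimal h hN hN1 hmin'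
  have hncomm : ¬ IsMulCommutative N := fun hc =>
    hN1 (h.eq_bot_of_subnormal_comm hN.isSubnormal hc)
  have htop := h.sup_eq_top hN hN1
  have heq : commutator G = N := by
    apply le_antisymm
    · rw [commutator_def, Subgroup.commutator_le]
      intro a _ b _
      have hdec : ∀ g : G, ∃ k : ℤ, (QuotientGroup.mk g : G ⧸ N) = (QuotientGroup.mk x) ^ k := by
        intro g
        have hg : g ∈ N ⊔ zpowers x := by rw [htop]; trivial
        rw [mem_sup_of_normal_left] at hg
        obtain ⟨n, hn, z, hz, rfl⟩ := hg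
        obtain ⟨k, rfl⟩ := mem_zpowers_iff.1 hz
        refine ⟨k, ?_⟩
        rw [QuotientGroup.mk_mul, (QuotientGroup.eq_one_iff n).2 hn, one_mul, QuotientGroup.mk_zpow]
      obtain ⟨i, hi⟩ := hdec a
      obtain ⟨j, hj⟩ := hdec b
      rw [← QuotientGroup.eq_one_iff, commutatorElement_def]
      simp only [QuotientGroup.mk_mul, QuotientGroup.mk_inv, hi, hj]
      have hc : Commute ((QuotientGroup.mk x : G ⧸ N) ^ i) ((QuotientGroup.mk x : G ⧸ N) ^ j) :=
        (Commute.refl _).zpow_zpow i j
      rw [hc.eq]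
      group
    · have hD : (⁅N, N⁆ : Subgroup G).Normal := Subgroup.commutator_normal N N
      have hD1 : (⁅N, N⁆ : Subgroup G) ≠ ⊥ := by
        intro hb
        apply hncomm
        rw [Subgroup.commutator_eq_bot_iff_le_centralizer] at hb
        refine ⟨⟨?_⟩⟩
        rintro ⟨a, ha⟩ ⟨b, hb'⟩
        apply Subtype.ext
        exact mem_centralizer_iff.1 (hb hb') a ha
      have := hmin' _ hD hD1 (Subgroup.commutator_le_left N N)
      rw [← this]
      exact Subgroup.commutator_mono le_top le_top
  rw [heq]
  exact ⟨hsimple, hncomm, htop⟩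

end Cfsg.Agent.S2972
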