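import Cfsg.Statements.S2975
import Cfsg.Agent.Lib.LocalEven.ZStar
import Cfsg.Agent.Lib.LocalEven.Util
import Cfsg.Agent.Lib.LocalEven.Isolated
import Cfsg.Agent.Lib.Coprime.Action
import Cfsg.Agent.Lib.Core.Basic

set_option autoImplicit false
open Cfsg
open Subgroup Cfsg.Agent.Lib.Core.Basic

namespace Cfsg.Agent.S2975

/-- Let G be a finite group, p a prime and x ∈ G an isolated element of order p (the only conjugate of x commuting with x is x) which is not central modulo the largest normal subgroup of order prime to p, while x is central modulo the largest normal subgroup of order prime to p in every proper subgroup containing x, and the image of x is so in every quotient of G by a nontrivial normal subgroup (a minimal counterexample to the Z*_p statement). Then for every prime q, every q-subgroup of G that is normalized by x and maximal among the q-subgroups normalized by x is either trivial or a Sylow q-subgroup of G; and C_G(x) permutes the x-invariant Sylow q-subgroups of G transitively by conjugation.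 -/
theorem result {G : Type*} [Group G] [Finite G] {p : ℕ} [Fact p.Prime] (x : G) (hx : orderOf x = p) (hiso : Cfsg.IsIsolated x) (hnz : ¬ Cfsg.InZStar p x) (hmin : ∀ (H : Subgroup G) (hxH : x ∈ H), H ≠ ⊤ → Cfsg.InZStar p (⟨x, hxH⟩ : ↥H)) (hquot : ∀ (N : Subgroup G) [N.Normal], N ≠ ⊥ → Cfsg.InZStar p (QuotientGroup.mk x : G ⧸ N)) (q : ℕ) [Fact q.Prime] : (∀ Q : Subgroup G, IsPGroup q ↥Q → x ∈ Subgroup.normalizer (Q : Set G) → (∀ R : Subgroup G, IsPGroup q ↥R → x ∈ Subgroup.normalizer (R : Set G) → Q ≤ R → R = Q) → Q = ⊥ ∨ ∃ S : Sylow q G, (S : Subgroup G) = Q) ∧ (∀ S₁ S₂ : Sylow q G, x ∈ Subgroup.normalizer ((S₁ : Subgroup G) : Set G) → x ∈ Subgroup.normalizer ((S₂ : Subgroup G) : Set G) → ∃ c ∈ Subgroup.centralizer ({x} : Set G), (S₁ : Subgroup G).map (MulAut.conj c).toMonoidHom = (S₂ : Subgroup G)) := by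
    classical
  have hp : p.Prime := Fact.out
  have hqq : q.Prime := Fact.out
  have hxk : ∃ k : ℕ, orderOf x = p ^ k := ⟨1, by simpa using hx⟩
  have hxp : IsPGroup p (zpowers x) := by
    refine IsPGroup.of_card (n := 1) ?_
    rw [Nat.card_zpowers, hx, pow_one]
  refine ⟨?_, ?_⟩
  · intro Q hQ hxQ hmax
    by_cases hQ1 : Q = ⊥
    · exact Or.inl hQ1
    right
    obtain ⟨S, hS⟩ := hQ.exists_le_sylow
    refine ⟨S, ?_⟩
    by_cases hqp : q = p
    · subst hqp
      have hzQ : zpowers x ≤ normalizer (Q : Set G) := zpowers_le.2 hxQ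
      have hR : IsPGroup q ↥(Q ⊔ zpowers x) := IsPGroup.to_sup_of_normal_left' hQ hxp hzQ
      have hxR : x ∈ Q ⊔ zpowers x := mem_sup_right (mem_zpowers x)
      have hRQ := hmax _ hR (le_normalizer hxR) le_sup_left
      have hxQ' : x ∈ Q := by rw [← hRQ]; exact hxR
      exact hmax _ S.isPGroup' (le_normalizer (hS hxQ')) hS
    · by_contra hne
      have hlt : Q < (S : Subgroup G) := lt_of_le_of_ne hS (Ne.symm hne)
      have hTlt := Cfsg.Agent.Lib.LocalEven.Util.lt_normalizer_inf S.isPGroup' hlt
      set M := normalizer (Q : Set G) with hM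
      set T := M ⊓ (S : Subgroup G) with hT
      have hTq : IsPGroup q T := S.isPGroup'.to_le inf_le_right
      have hQc : (Nat.card Q).Coprime p := by
        obtain ⟨n, hn⟩ := IsPGroup.iff_card.1 hQ
        rw [hn]
        exact Nat.Coprime.pow_left _ ((Nat.coprime_primes hqq hp).2 hqp)
      have hTc : (Nat.card T).Coprime p := by
        obtain ⟨n, hn⟩ := IsPGroup.iff_card.1 hTq
        rw [hn]
        exact Nat.Coprime.pow_left _ ((Nat.coprime_primes hqq hp).2 hqp)
      have hMtop : M ≠ ⊤ := by
        intro htop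
        haveI hn : Q.Normal := Subgroup.normalizer_eq_top_iff.1 htop
        exact hnz (Cfsg.Agent.Lib.LocalEven.ZStar.inZStar_of_quotient_coprime Q hQc (hquot Q hQ1))
      have hz := hmin M hxQ hMtop
      set O := (pPrimeCore p M).map M.subtype with hO
      have hMO : M ≤ normalizer (O : Set G) := by
        intro m hm
        apply Cfsg.Agent.Lib.LocalEven.Util.mem_normalizer_of_conj_le
        rintro _ ⟨o, ho, rfl⟩
        exact ⟨⟨m, hm⟩ * o * ⟨m, hm⟩⁻¹, (pPrimeCore_normal p M).conj_mem o ho _, by simp⟩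
      have hOc : (Nat.card O).Coprime p := by
        rw [hO, Subgroup.card_map_of_injective M.subtype_injective]
        exact pPrimeCore_coprime
      have hTM : T ≤ M := inf_le_left
      set K := O ⊔ T with hK
      have hKc : (Nat.card K).Coprime p :=
        Cfsg.Agent.Lib.LocalEven.ZStar.coprime_card_sup (hTM.trans hMO) hTc hOc
      have hxK : x ∈ normalizer (K : Set G) := by
        apply Cfsg.Agent.Lib.LocalEven.Util.mem_normalizer_of_conj_le
        have hle : K ≤ K.comap (MulAut.conj x).toMonoidHom := by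
          refine sup_le ?_ ?_
          · intro o ho
            exact mem_sup_left ((mem_normalizer_iff.1 (hMO hxQ) o).1 ho)
          · intro t ht
            show x * t * x⁻¹ ∈ K
            have h1 : t * x * t⁻¹ * x⁻¹ ∈ O := ⟨_, hz ⟨t, hTM ht⟩, rfl⟩
            have h2 : x * t * x⁻¹ = (t * x * t⁻¹ * x⁻¹)⁻¹ * t := by group
            rw [h2]
            exact mul_mem (mem_sup_left (inv_mem h1)) (mem_sup_right ht)
        exact fun y hy => hle hy
      have hA : zpowers x ≤ normalizer (K : Set G) := zpowers_le.2 hxK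
      have hAc : (Nat.card (zpowers x)).Coprime (Nat.card K) := by
        rw [Nat.card_zpowers, hx]
        exact hKc.symm
      have hsolv : Group.IsSolvable ↥(zpowers x) := inferInstance
      have hQK : Q ≤ K := hTlt.le.trans le_sup_right
      obtain ⟨Q₁, hQ₁, hAQ₁, hQQ₁⟩ :=
        Cfsg.Agent.Lib.Coprime.Action.exists_invariant_sylowIn_ge (p := q) hA hAc (Or.inl hsolv)
          hQK hQ (zpowers_le.2 hxQ)
      have hQ₁eq := hmax Q₁ hQ₁.2.1 (hAQ₁ (mem_zpowers x)) hQQ₁
      subst hQ₁eq
      -- contradiction with `T`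
      have hTK : T ≤ K := le_sup_right
      have hd1 : Q₁.relIndex T ∣ Q₁.relIndex K :=
        ⟨_, (Subgroup.relIndex_mul_relIndex Q₁ T K hTlt.le hTK).symm⟩
      have hrel1 : Q₁.relIndex T ≠ 1 := by
        intro h1
        rw [Subgroup.relIndex_eq_one] at h1
        exact (not_le_of_gt hTlt) h1
      obtain ⟨t, ht⟩ := IsPGroup.iff_card.1 hTq
      have hdvd2 : Q₁.relIndex T ∣ q ^ t := by
        rw [← ht, Cfsg.Agent.Lib.Coprime.Action.card_eq_card_mul_relIndex hTlt.le]
        exact Dvd.intro_left _ rfl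
      obtain ⟨u, -, hu⟩ := (Nat.dvd_prime_pow hqq).1 hdvd2
      have hu0 : u ≠ 0 := by
        intro h0
        rw [h0, pow_zero] at hu
        exact hrel1 hu
      apply hQ₁.2.2
      refine dvd_trans ?_ hd1
      rw [hu]
      exact dvd_pow_self q hu0
  · intro S₁ S₂ hx₁ hx₂
    obtain ⟨g, hg⟩ := MulAction.exists_smul_eq G S₁ S₂
    have hmemS₂ : ∀ y, y ∈ (S₂ : Subgroup G) ↔ g⁻¹ * y * g ∈ (S₁ : Subgroup G) := by
      intro y
      rw [← hg]
      exact Cfsg.Agent.Lib.LocalEven.Util.mem_smul_sylow S₁ g y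
    have hxg : g⁻¹ * x * g ∈ normalizer ((S₁ : Subgroup G) : Set G) := by
      rw [mem_normalizer_iff]
      intro s
      have key := mem_normalizer_iff.1 hx₂ (g * s * g⁻¹)
      rw [hmemS₂, hmemS₂] at key
      have e1 : g⁻¹ * (g * s * g⁻¹) * g = s := by group
      have e2 : g⁻¹ * (x * (g * s * g⁻¹) * x⁻¹) * g = g⁻¹ * x * g * s * (g⁻¹ * x * g)⁻¹ := by group
      rw [e1, e2] at key
      exact key
    obtain ⟨m, hm, hmx⟩ := Cfsg.Agent.Lib.LocalEven.Isolated.exists_conj_of_mem hiso hxk
      (normalizer ((S₁ : Subgroup G) : Set G)) hx₁ g⁻¹ (by simpa using hxg)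
    have hmx' : m * x * m⁻¹ = g⁻¹ * x * g := by simpa using hmx
    refine ⟨g * m, ?_, ?_⟩
    · rw [mem_centralizer_singleton_iff]
      calc g * m * x = g * (m * x * m⁻¹) * m := by group
        _ = x * (g * m) := by rw [hmx']; group
    · ext y
      constructor
      · rintro ⟨s, hs, rfl⟩
        rw [hmemS₂]
        have e : g⁻¹ * ((MulAut.conj (g * m)).toMonoidHom s) * g = m * s * m⁻¹ := by
          simp only [MulEquiv.coe_toMonoidHom, MulAut.conj_apply]
          group
        rw [e]
        exact (mem_normalizer_iff.1 hm s).1 hs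
      · intro hy
        rw [hmemS₂] at hy
        refine ⟨m⁻¹ * (g⁻¹ * y * g) * m, ?_, ?_⟩
        · have := (mem_normalizer_iff.1 (inv_mem hm) _).1 hy
          rw [inv_inv] at this
          exact this
        · simp only [MulEquiv.coe_toMonoidHom, MulAut.conj_apply]
          group

end Cfsg.Agent.S2975
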