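import Cfsg.Statements.S3028
import Cfsg.Agent.Lib.Subnormal.Basic
import Cfsg.Agent.Lib.Components.SylowSub
import Cfsg.Agent.Lib.QuadAct.Basic
import Cfsg.Agent.Lib.Core.Basic
import Cfsg.Agent.Lib.Transfer.Basic
import Cfsg.Agent.Lib.PLocal.ThompsonComplement
import Cfsg.Agent.Lib.Core.CoprimeMap

set_option autoImplicit false
open Cfsg

namespace Cfsg.Agent.S3028

open scoped Pointwise commutatorElement
open Cfsg.Agent.Lib.Subnormal.Basic
open Cfsg.Agent.Lib.Components.SylowSub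
open Cfsg.Agent.Lib.QuadAct.Basic
open Cfsg.Agent.Lib.Transfer.Basic
open Cfsg.Agent.Lib.Core.Basic

universe u
variable {G : Type u} [Group G] {p : ℕ}

theorem conj_top (g : G) : MulAut.conj g • (⊤ : Subgroup G) = ⊤ := by
  ext x; simp

theorem sn_bot : SN (⊥ : Subgroup G) ⊤ :=
  SN.of_le_normalizer bot_le (by rw [Subgroup.normalizer_eq_top_iff.2 inferInstance])

theorem sn_inf {B C : Subgroup G} (hB : SN B ⊤) (hC : SN C ⊤) : SN (B ⊓ C) ⊤ := by
  have := hB.inf C
  rw [top_inf_eq] at this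
  exact this.trans hC

theorem sn_conj {B : Subgroup G} (hB : SN B ⊤) (g : G) : SN (MulAut.conj g • B) ⊤ := by
  have := hB.conj g
  rwa [conj_top] at this

theorem sn_of_normal {R : Subgroup G} (hR : R.Normal) : SN R ⊤ :=
  SN.of_le_normalizer le_top (by rw [Subgroup.normalizer_eq_top_iff.2 hR])

theorem card_inf_sylow [Finite G] [Fact p.Prime] (S : Sylow p G) {X : Subgroup G} (hX : SN X ⊤) :
    Nat.card (X ⊓ (S : Subgroup G) : Subgroup G) = p ^ (Nat.card X).factorization p := by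
  have h := Sylow.card_eq_multiplicity (sylowOfSubnormal S (isSubnormal_iff_SN_top.2 hX))
  rw [← h]
  change _ = Nat.card ((S : Subgroup G).subgroupOf X)
  rw [← Subgroup.inf_subgroupOf_left]
  exact Nat.card_congr (Subgroup.subgroupOfEquivOfLe inf_le_left).toEquiv.symm

/-- Lemma N: the formula when one subgroup normalizes the other. -/
theorem lemmaN [Finite G] [Fact p.Prime] (S : Sylow p G) {B C : Subgroup G} (hB : SN B ⊤)
    (hC : SN C ⊤) (hBC : B ≤ Subgroup.normalizer (C : Set G)) :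
    (B ⊔ C) ⊓ (S : Subgroup G) = (B ⊓ S) ⊔ (C ⊓ S) := by
  set s := (S : Subgroup G) with hs
  have hle : (B ⊓ s) ⊔ (C ⊓ s) ≤ (B ⊔ C) ⊓ s :=
    sup_le (inf_le_inf_right _ le_sup_left) (inf_le_inf_right _ le_sup_right)
  refine (Subgroup.eq_of_le_of_card_ge hle ?_).symm
  have h1 := card_sup_mul_card_inf_of_le_normalizer B C hBC
  have hnorm : B ⊓ s ≤ Subgroup.normalizer ((C ⊓ s : Subgroup G) : Set G) :=
    (le_inf (inf_le_left.trans hBC) (inf_le_right.trans Subgroup.le_normalizer)).trans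
      Subgroup.inf_normalizer_le_normalizer_inf
  have h2 := card_sup_mul_card_inf_of_le_normalizer (B ⊓ s) (C ⊓ s) hnorm
  have e : (B ⊓ s) ⊓ (C ⊓ s) = (B ⊓ C) ⊓ s := by
    ext x; simp only [Subgroup.mem_inf]; tauto
  rw [e, card_inf_sylow S hB, card_inf_sylow S hC, card_inf_sylow S (sn_inf hB hC)] at h2
  rw [card_inf_sylow S (hB.sup hC)]
  have hc1 : Nat.card (B ⊔ C : Subgroup G) ≠ 0 := Nat.card_pos.ne'
  have hc2 : Nat.card (B ⊓ C : Subgroup G) ≠ 0 := Nat.card_pos.ne'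
  have hc3 : Nat.card B ≠ 0 := Nat.card_pos.ne'
  have hc4 : Nat.card C ≠ 0 := Nat.card_pos.ne'
  have h3 : (Nat.card (B ⊔ C : Subgroup G)).factorization p + (Nat.card (B ⊓ C : Subgroup G)).factorization p
      = (Nat.card B).factorization p + (Nat.card C).factorization p := by
    have := congrArg Nat.factorization h1
    rw [Nat.factorization_mul hc1 hc2, Nat.factorization_mul hc3 hc4] at this
    exact DFunLike.congr_fun this p
  rw [← pow_add, ← h3, pow_add] at h2
  have hp0 : 0 < p ^ (Nat.card (B ⊓ C : Subgroup G)).factorization p :=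
    pow_pos (Fact.out : p.Prime).pos _
  exact (Nat.eq_of_mul_eq_mul_right hp0 h2).ge

/-! ### `O^p` of a subgroup -/

/-- `O^p(X)` inside the ambient group. -/
noncomputable abbrev OP (p : ℕ) (X : Subgroup G) : Subgroup G := (pResidual p X).map X.subtype

theorem OP_le (X : Subgroup G) : OP p X ≤ X := Subgroup.map_subtype_le _

theorem mem_OP_of_coprime {X : Subgroup G} {x : G} (hx : x ∈ X) (h : (orderOf x).Coprime p) :
    x ∈ OP p X := by
  refine ⟨⟨x, hx⟩, mem_pResidual_of_coprime p ?_, rfl⟩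
  rwa [Subgroup.orderOf_mk]

theorem OP_eq_closure (X : Subgroup G) :
    OP p X = Subgroup.closure {x | x ∈ X ∧ (orderOf x).Coprime p} := by
  apply le_antisymm
  · rw [OP, pResidual, MonoidHom.map_closure]
    apply Subgroup.closure_mono
    rintro _ ⟨x, hx, rfl⟩
    refine ⟨x.2, ?_⟩
    simpa [Subgroup.orderOf_coe] using hx
  · rw [Subgroup.closure_le]
    rintro x ⟨hx, h⟩
    exact mem_OP_of_coprime hx h

theorem OP_mono {X Y : Subgroup G} (h : X ≤ Y) : OP p X ≤ OP p Y := by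
  rw [OP_eq_closure, OP_eq_closure]
  apply Subgroup.closure_mono
  rintro x ⟨hx, hc⟩
  exact ⟨h hx, hc⟩

theorem normalizer_le_normalizer_OP [Finite G] [Fact p.Prime] (X : Subgroup G) :
    Subgroup.normalizer (X : Set G) ≤ Subgroup.normalizer (OP p X : Set G) := by
  intro g hg
  refine Cfsg.Agent.Lib.Core.CoprimeMap.mem_normalizer_of_forall_conj_mem ?_
  intro v hv
  rw [OP_eq_closure] at hv ⊢
  induction hv using Subgroup.closure_induction with
  | mem x hx =>
    apply Subgroup.subset_closure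
    refine ⟨(Subgroup.mem_normalizer_iff.1 hg x).1 hx.1, ?_⟩
    exact coprime_orderOf_conj x g hx.2
  | one => simp
  | mul x y _ _ hx hy =>
    have : g * (x * y) * g⁻¹ = (g * x * g⁻¹) * (g * y * g⁻¹) := by group
    rw [this]; exact mul_mem hx hy
  | inv x _ hx =>
    have : g * x⁻¹ * g⁻¹ = (g * x * g⁻¹)⁻¹ := by group
    rw [this]; exact inv_mem hx

theorem sn_OP [Finite G] [Fact p.Prime] {X : Subgroup G} (hX : SN X ⊤) : SN (OP p X) ⊤ :=
  (SN.of_le_normalizer (OP_le X) (Subgroup.le_normalizer.trans (normalizer_le_normalizer_OP X))).trans hX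

theorem exists_decomp [Finite G] [Fact p.Prime] (S : Sylow p G) {X : Subgroup G} (hX : SN X ⊤)
    {a : G} (ha : a ∈ X) :
    ∃ t ∈ X ⊓ (S : Subgroup G), ∃ x ∈ OP p X, a = t * x := by
  have h := sylow_sup_pResidual (sylowOfSubnormal S (isSubnormal_iff_SN_top.2 hX))
  have ha' : (⟨a, ha⟩ : X) ∈ ((sylowOfSubnormal S (isSubnormal_iff_SN_top.2 hX) : Sylow p X) : Subgroup X) ⊔ pResidual p X := by
    rw [h]; trivial
  rw [Subgroup.mem_sup_of_normal_right] at ha'
  obtain ⟨t, ht, x, hx, e⟩ := ha'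
  refine ⟨t, ⟨t.2, ht⟩, x, ⟨x, hx, rfl⟩, ?_⟩
  have := congrArg Subtype.val e
  simpa using this.symm

theorem OP_le_ker {Q : Type*} [Group Q] [Finite G] [Fact p.Prime] (hQ : IsPGroup p Q) (f : G →* Q) (X : Subgroup G) :
    OP p X ≤ f.ker := by
  rintro _ ⟨x, hx, rfl⟩
  have := pResidual_le_ker hQ (f.comp X.subtype) hx
  simpa using this


/-! ### Lemma A: a normal `p`-subgroup normalizes `p`-perfect subnormal subgroups -/

theorem pow_mul_mem_aux {X : Subgroup G} {d : G} (hd : d ∈ Subgroup.normalizer (X : Set G))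
    {x : G} (hx : x ∈ X) (n : ℕ) : ∃ x' ∈ X, (x * d) ^ n = x' * d ^ n := by
  induction n with
  | zero => exact ⟨1, X.one_mem, by simp⟩
  | succ n ih =>
    obtain ⟨x', hx', e⟩ := ih
    have hdn : d ^ n ∈ Subgroup.normalizer (X : Set G) := pow_mem hd n
    refine ⟨x' * (d ^ n * x * (d ^ n)⁻¹), X.mul_mem hx' ((Subgroup.mem_normalizer_iff.1 hdn x).1 hx), ?_⟩
    rw [pow_succ, e, pow_succ]
    group

theorem chainA [Finite G] [Fact p.Prime] {X D : Subgroup G} (hXp : OP p X = X) (hD : D.Normal)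
    (hDp : IsPGroup p D) {Y : Subgroup G} (hY : SN X Y) (hYle : Y ≤ X ⊔ D) :
    Nml X Y ∧ OP p Y = X := by
  induction hY with
  | refl => exact ⟨⟨le_rfl, Subgroup.le_normalizer⟩, hXp⟩
  | @tail Y Z h1 h2 ih =>
    obtain ⟨ih1, ih2⟩ := ih (h2.1.trans hYle)
    have hXY : X ≤ Y := ih1.1
    have hZX : Z ≤ Subgroup.normalizer (X : Set G) := by
      have := h2.2.trans (normalizer_le_normalizer_OP (p := p) Y)
      rwa [ih2] at this
    refine ⟨⟨hXY.trans h2.1, hZX⟩, ?_⟩
    apply le_antisymm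
    · rw [OP_eq_closure, Subgroup.closure_le]
      rintro z ⟨hz, hc⟩
      have hz' := hYle hz
      rw [Subgroup.mem_sup_of_normal_right] at hz'
      obtain ⟨x, hx, d, hd, rfl⟩ := hz'
      have hdZ : d ∈ Z := by
        have := Z.mul_mem (Z.inv_mem (h2.1 (hXY hx))) hz
        simpa using this
      obtain ⟨k, hk⟩ := hDp ⟨d, hd⟩
      have hk' : d ^ p ^ k = 1 := by simpa using congrArg Subtype.val hk
      obtain ⟨x', hx', e⟩ := pow_mul_mem_aux (hZX hdZ) hx (p ^ k)
      have : (x * d) ^ p ^ k ∈ X := by rw [e, hk', mul_one]; exact hx'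
      exact Cfsg.Agent.Lib.PLocal.ThompsonComplement.mem_of_pow_mem_of_coprime hc this
    · have := OP_mono (p := p) (hXY.trans h2.1)
      rwa [hXp] at this

/-- Lemma A. -/
theorem normal_psub_normalizes [Finite G] [Fact p.Prime] {X D : Subgroup G} (hX : SN X ⊤)
    (hXp : OP p X = X) (hD : D.Normal) (hDp : IsPGroup p D) :
    D ≤ Subgroup.normalizer (X : Set G) := by
  have h := chainA hXp hD hDp (hX.restrict (le_sup_left : X ≤ X ⊔ D) le_top) le_rfl
  exact le_sup_right.trans h.1.2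


/-! ### Induction hypothesis consequences -/

/-- The statement for a group. -/
def SJ (p : ℕ) [Fact p.Prime] (H : Type u) [Group H] : Prop :=
  ∀ (S : Sylow p H) (A₁ A₂ : Subgroup H), A₁.IsSubnormal → A₂.IsSubnormal →
    (A₁ ⊔ A₂) ⊓ (S : Subgroup H) = (A₁ ⊓ (S : Subgroup H)) ⊔ (A₂ ⊓ (S : Subgroup H))

theorem card_lt_of_ne_top [Finite G] {J : Subgroup G} (hJ : J ≠ ⊤) : Nat.card J < Nat.card G :=
  lt_of_le_of_ne (Subgroup.card_le_card_group J) (fun h => hJ (Subgroup.eq_top_of_card_eq J h))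

theorem join_of_proper [Finite G] [Fact p.Prime]
    (IH : ∀ (H : Type u) [Group H] [Finite H], Nat.card H < Nat.card G → SJ p H)
    (S : Sylow p G) {B₁ B₂ : Subgroup G} (h₁ : SN B₁ ⊤) (h₂ : SN B₂ ⊤) (hne : B₁ ⊔ B₂ ≠ ⊤) :
    (B₁ ⊔ B₂) ⊓ (S : Subgroup G) = (B₁ ⊓ S) ⊔ (B₂ ⊓ S) := by
  set J := B₁ ⊔ B₂ with hJ
  have hJsn : SN J ⊤ := h₁.sup h₂
  have hB₁ : SN B₁ J := h₁.restrict le_sup_left le_top
  have hB₂ : SN B₂ J := h₂.restrict le_sup_right le_top
  have key := IH J (card_lt_of_ne_top hne) (sylowOfSubnormal S (isSubnormal_iff_SN_top.2 hJsn))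
    (B₁.subgroupOf J) (B₂.subgroupOf J)
    (isSubnormal_subgroupOf_of_SN hB₁) (isSubnormal_subgroupOf_of_SN hB₂)
  apply le_antisymm
  · rintro x ⟨hxJ, hxS⟩
    have htop : B₁.subgroupOf J ⊔ B₂.subgroupOf J = ⊤ := by
      apply Subgroup.map_injective J.subtype_injective
      rw [Subgroup.map_sup, Subgroup.map_subgroupOf_eq_of_le (le_sup_left : B₁ ≤ J),
        Subgroup.map_subgroupOf_eq_of_le (le_sup_right : B₂ ≤ J), ← MonoidHom.range_eq_map,
        Subgroup.range_subtype]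
    have hx2 : (⟨x, hxJ⟩ : J) ∈ (B₁.subgroupOf J ⊔ B₂.subgroupOf J) ⊓
        ((sylowOfSubnormal S (isSubnormal_iff_SN_top.2 hJsn) : Sylow p J) : Subgroup J) := by
      refine ⟨by rw [htop]; trivial, hxS⟩
    rw [key] at hx2
    have hle : ∀ B : Subgroup G, ((B.subgroupOf J) ⊓
        ((sylowOfSubnormal S (isSubnormal_iff_SN_top.2 hJsn) : Sylow p J) : Subgroup J)).map J.subtype
        ≤ B ⊓ (S : Subgroup G) := by
      rintro B _ ⟨y, ⟨hy1, hy2⟩, rfl⟩
      exact ⟨hy1, hy2⟩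
    have := Subgroup.mem_map_of_mem J.subtype hx2
    rw [Subgroup.map_sup] at this
    exact (sup_le_sup (hle B₁) (hle B₂)) this
  · exact sup_le (inf_le_inf_right _ le_sup_left) (inf_le_inf_right _ le_sup_right)

theorem sn_biSup [Finite G] {ι : Type*} {B : ι → Subgroup G} (hB : ∀ i, SN (B i) ⊤) (F : Finset ι) :
    SN (⨆ i ∈ F, B i) ⊤ := by
  classical
  induction F using Finset.induction_on with
  | empty => simpa using sn_bot
  | insert a F ha ih =>
    rw [Finset.iSup_insert]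
    exact (hB a).sup ih

theorem family_le [Finite G] [Fact p.Prime]
    (IH : ∀ (H : Type u) [Group H] [Finite H], Nat.card H < Nat.card G → SJ p H)
    (S : Sylow p G) {ι : Type*} {B : ι → Subgroup G} (hB : ∀ i, SN (B i) ⊤) {K T : Subgroup G}
    (hK : K ≠ ⊤) (hBK : ∀ i, B i ≤ K) (hT : ∀ i, B i ⊓ (S : Subgroup G) ≤ T) (F : Finset ι) :
    (⨆ i ∈ F, B i) ⊓ (S : Subgroup G) ≤ T := by
  classical
  induction F using Finset.induction_on with
  | empty => simp
  | insert a F ha ih =>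
    rw [Finset.iSup_insert]
    have hle : B a ⊔ ⨆ i ∈ F, B i ≤ K := sup_le (hBK a) (iSup₂_le fun i _ => hBK i)
    have hne : B a ⊔ ⨆ i ∈ F, B i ≠ ⊤ := fun h => hK (top_le_iff.1 (h ▸ hle))
    rw [join_of_proper IH S (hB a) (sn_biSup hB F) hne]
    exact sup_le (hT a) ih

theorem mem_normalizer_iSup' [Finite G] {ι : Type*} {B : ι → Subgroup G} {g : G}
    (h : ∀ i, ∀ v ∈ B i, g * v * g⁻¹ ∈ ⨆ j, B j) :
    g ∈ Subgroup.normalizer ((⨆ j, B j : Subgroup G) : Set G) := by
  refine Cfsg.Agent.Lib.Core.CoprimeMap.mem_normalizer_of_forall_conj_mem ?_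
  have hle : (⨆ j, B j) ≤ (⨆ j, B j).comap (MulAut.conj g).toMonoidHom := by
    refine iSup_le fun i v hv => ?_
    exact h i v hv
  intro v hv
  exact hle hv

/-- Reduction to `p`-perfect subgroups. -/
theorem reduce [Finite G] [Fact p.Prime]
    (IH : ∀ (H : Type u) [Group H] [Finite H], Nat.card H < Nat.card G → SJ p H)
    (S : Sylow p G) {A₁ A₂ : Subgroup G} (h₁ : SN A₁ ⊤) (h₂ : SN A₂ ⊤) (htop : A₁ ⊔ A₂ = ⊤)
    (hA₁ : A₁ ≠ ⊤) (hne : A₁ ⊔ OP p A₂ ≠ ⊤) :
    (S : Subgroup G) ≤ (A₁ ⊓ (S : Subgroup G)) ⊔ (A₂ ⊓ (S : Subgroup G)) := by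
  classical
  set s := (S : Subgroup G) with hs
  set T := (A₁ ⊓ s) ⊔ (A₂ ⊓ s) with hT
  have hTS : T ≤ s := sup_le inf_le_right inf_le_right
  have hX := join_of_proper IH S h₁ (sn_OP (p := p) h₂) hne
  have hX' : (A₁ ⊔ OP p A₂) ⊓ s ≤ T := by
    rw [hX]
    exact sup_le le_sup_left ((inf_le_inf_right _ (OP_le A₂)).trans le_sup_right)
  have hconj : ∀ a : A₂, (MulAut.conj (a : G) • A₁) ⊓ s ≤ T := by
    rintro ⟨a, ha⟩ y ⟨hy1, hy2⟩
    obtain ⟨t, ht, x, hx, rfl⟩ := exists_decomp S h₂ ha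
    have htT : t ∈ T := (le_sup_right : A₂ ⊓ s ≤ T) ht
    have ht' := hTS htT
    have hy' : t⁻¹ * y * t ∈ (A₁ ⊔ OP p A₂) ⊓ s := by
      refine ⟨?_, s.mul_mem (s.mul_mem (s.inv_mem ht') hy2) ht'⟩
      have hy1' := mem_conj.1 hy1
      have e : t⁻¹ * y * t = x * ((t * x)⁻¹ * y * (t * x)) * x⁻¹ := by group
      rw [e]
      exact (A₁ ⊔ OP p A₂).mul_mem ((A₁ ⊔ OP p A₂).mul_mem ((le_sup_right : OP p A₂ ≤ _) hx)
        ((le_sup_left : A₁ ≤ _) hy1')) ((A₁ ⊔ OP p A₂).inv_mem ((le_sup_right : OP p A₂ ≤ _) hx))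
    have h3 := hX' hy'
    have e : y = t * (t⁻¹ * y * t) * t⁻¹ := by group
    rw [e]
    exact T.mul_mem (T.mul_mem htT h3) (T.inv_mem htT)
  obtain ⟨K, hAK, hKlt, hKn⟩ := h₁.eq_or_exists.resolve_left hA₁
  have hBK : ∀ a : A₂, MulAut.conj (a : G) • A₁ ≤ K := fun a =>
    (conj_mono hAK).trans (le_of_eq (conj_eq_of_mem_normalizer (hKn trivial)))
  let B : A₂ → Subgroup G := fun a => MulAut.conj (a : G) • A₁
  have hBsn : ∀ a, SN (B a) ⊤ := fun a => sn_conj h₁ _
  haveI : Fintype A₂ := Fintype.ofFinite _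
  have hN := family_le IH S hBsn hKlt.ne hBK hconj Finset.univ
  have hNsn := sn_biSup hBsn Finset.univ
  simp only [Finset.mem_univ, iSup_pos] at hN hNsn
  have hA₁N : A₁ ≤ ⨆ a, B a := by
    have : B 1 ≤ ⨆ a, B a := le_iSup B 1
    simpa [B] using this
  have hnorm : A₂ ≤ Subgroup.normalizer ((⨆ a, B a : Subgroup G) : Set G) := by
    intro b hb
    refine mem_normalizer_iSup' fun a v hv => ?_
    refine (le_iSup B (⟨b, hb⟩ * a)) ?_
    have hv' := mem_conj.1 hv
    change _ ∈ MulAut.conj (b * (a : G)) • A₁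
    rw [mem_conj]
    have e : (b * (a : G))⁻¹ * (b * v * b⁻¹) * (b * (a : G)) = (a : G)⁻¹ * v * a := by group
    rw [e]; exact hv'
  have hL := lemmaN S h₂ hNsn hnorm
  have htop' : A₂ ⊔ ⨆ a, B a = ⊤ := by
    rw [eq_top_iff, ← htop, sup_comm A₁ A₂]
    exact sup_le_sup_left hA₁N _
  rw [htop', top_inf_eq] at hL
  rw [hs, hL]
  exact sup_le le_sup_right hN

/-- Quotient step. -/
theorem lemmaQ [Finite G] [Fact p.Prime]
    (IH : ∀ (H : Type u) [Group H] [Finite H], Nat.card H < Nat.card G → SJ p H)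
    (S : Sylow p G) {A₁ A₂ R : Subgroup G} (h₁ : SN A₁ ⊤) (h₂ : SN A₂ ⊤) (htop : A₁ ⊔ A₂ = ⊤)
    (hR : R.Normal) (hRne : R ≠ ⊥) {x : G} (hx : x ∈ (S : Subgroup G)) :
    ∃ t ∈ (A₁ ⊓ (S : Subgroup G)) ⊔ (A₂ ⊓ (S : Subgroup G)), ∃ r ∈ R ⊓ (S : Subgroup G), x = t * r := by
  set s := (S : Subgroup G) with hs
  set T := (A₁ ⊓ s) ⊔ (A₂ ⊓ s) with hT
  have hTS : T ≤ s := sup_le inf_le_right inf_le_right
  set π := QuotientGroup.mk' R with hπdef
  have hπ : Function.Surjective π := QuotientGroup.mk'_surjective R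
  have hcard : Nat.card (G ⧸ R) < Nat.card G := by
    have h1 := Subgroup.card_eq_card_quotient_mul_card_subgroup R
    have h2 : 1 < Nat.card R := by
      rw [Finite.one_lt_card_iff_nontrivial]
      exact (Subgroup.nontrivial_iff_ne_bot R).2 hRne
    rw [h1]
    exact lt_mul_of_one_lt_right Nat.card_pos h2
  have key := IH (G ⧸ R) hcard (S.mapSurjective hπ) (A₁.map π) (A₂.map π)
    ((isSubnormal_iff_SN_top.2 h₁).map hπ) ((isSubnormal_iff_SN_top.2 h₂).map hπ)
  rw [Sylow.coe_mapSurjective] at key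
  have hsup : A₁.map π ⊔ A₂.map π = ⊤ := by
    rw [← Subgroup.map_sup, htop, ← MonoidHom.range_eq_map, MonoidHom.range_eq_top]
    exact hπ
  have hRkill : (R ⊓ s).map π = ⊥ := by
    rw [Subgroup.map_eq_bot_iff, QuotientGroup.ker_mk']
    exact inf_le_left
  have claim : ∀ A : Subgroup G, SN A ⊤ → A ⊓ s ≤ T → A.map π ⊓ s.map π ≤ T.map π := by
    rintro A hA hAT y ⟨⟨a, ha, rfl⟩, ⟨u, hu, eu⟩⟩
    have hua : a⁻¹ * u ∈ R := by
      rw [← QuotientGroup.eq]
      exact eu.symm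
    have huJ : u ∈ A ⊔ R := by
      have e : u = a * (a⁻¹ * u) := by group
      rw [e]
      exact mul_mem ((le_sup_left : A ≤ _) ha) ((le_sup_right : R ≤ _) hua)
    have hN := lemmaN S hA (sn_of_normal hR) (by rw [Subgroup.normalizer_eq_top_iff.2 hR]; exact le_top)
    have hu2 : u ∈ (A ⊔ R) ⊓ s := ⟨huJ, hu⟩
    rw [hN] at hu2
    have hu3 := Subgroup.mem_map_of_mem π hu2
    rw [Subgroup.map_sup, hRkill, sup_bot_eq] at hu3
    rw [← eu]
    exact Subgroup.map_mono hAT hu3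
  have hxm : π x ∈ (A₁.map π ⊔ A₂.map π) ⊓ s.map π := by
    refine ⟨by rw [hsup]; trivial, Subgroup.mem_map_of_mem π hx⟩
  rw [key] at hxm
  have hxT : π x ∈ T.map π :=
    (sup_le (claim A₁ h₁ le_sup_left) (claim A₂ h₂ le_sup_right)) hxm
  obtain ⟨t, ht, et⟩ := hxT
  have hr : t⁻¹ * x ∈ R := by
    rw [← QuotientGroup.eq]
    exact et
  refine ⟨t, ht, t⁻¹ * x, ⟨hr, s.mul_mem (s.inv_mem (hTS ht)) hx⟩, by group⟩


/-! ### The case of a nontrivial normal `p`-subgroup -/

theorem comm_mem_aux {A D : Subgroup G} (hD : D.Normal) (hN : D ≤ Subgroup.normalizer (A : Set G))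
    {a y : G} (ha : a ∈ A) (hy : y ∈ D) : a * y * a⁻¹ * y⁻¹ ∈ D ⊓ A := by
  refine ⟨D.mul_mem (hD.conj_mem y hy a) (D.inv_mem hy), ?_⟩
  have := (Subgroup.mem_normalizer_iff.1 (hN hy) a⁻¹).1 (A.inv_mem ha)
  have e : a * y * a⁻¹ * y⁻¹ = a * (y * a⁻¹ * y⁻¹) := by group
  rw [e]
  exact A.mul_mem ha this

theorem le_normalizer_aux [Finite G] {A B D : Subgroup G} (hD : D.Normal)
    (hN : D ≤ Subgroup.normalizer (A : Set G)) :
    A ≤ Subgroup.normalizer (((D ⊓ A) ⊔ (D ⊓ B) : Subgroup G) : Set G) := by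
  intro a ha
  refine Cfsg.Agent.Lib.Core.CoprimeMap.mem_normalizer_of_forall_conj_mem ?_
  have hle : (D ⊓ A) ⊔ (D ⊓ B) ≤ ((D ⊓ A) ⊔ (D ⊓ B)).comap (MulAut.conj a).toMonoidHom := by
    refine sup_le ?_ ?_
    · rintro x ⟨hx1, hx2⟩
      apply (le_sup_left : D ⊓ A ≤ (D ⊓ A) ⊔ (D ⊓ B))
      exact ⟨hD.conj_mem x hx1 a, A.mul_mem (A.mul_mem ha hx2) (A.inv_mem ha)⟩
    · rintro y ⟨hy1, hy2⟩
      have h1 := comm_mem_aux hD hN ha hy1
      have e : (MulAut.conj a).toMonoidHom y = (a * y * a⁻¹ * y⁻¹) * y := by simp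
      rw [Subgroup.mem_comap, e]
      exact ((D ⊓ A) ⊔ (D ⊓ B)).mul_mem ((le_sup_left : D ⊓ A ≤ (D ⊓ A) ⊔ (D ⊓ B)) h1)
        ((le_sup_right : D ⊓ B ≤ (D ⊓ A) ⊔ (D ⊓ B)) ⟨hy1, hy2⟩)
  intro v hv
  exact hle hv

/-- Transfer: central elements of `S` die under homomorphisms from `S` to abelian `p`-groups. -/
theorem central_mem_ker {Q : Type*} [CommGroup Q] [Finite G] [Fact p.Prime] (hQ : IsPGroup p Q)
    (S : Sylow p G) (ϕ : (S : Subgroup G) →* Q) {A₁ A₂ : Subgroup G} (htop : A₁ ⊔ A₂ = ⊤)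
    (hp₁ : OP p A₁ = A₁) (hp₂ : OP p A₂ = A₂) {r : G} (hr : r ∈ (S : Subgroup G))
    (hc : ∀ g : G, g * r = r * g) : ϕ ⟨r, hr⟩ = 1 := by
  have hcomm : ∀ (k : ℕ) (g₀ : G), g₀⁻¹ * r ^ k * g₀ = r ^ k := by
    intro k g₀
    have : Commute g₀⁻¹ (r ^ k) := (show Commute g₀⁻¹ r from hc _).pow_right k
    rw [this.eq, mul_assoc, inv_mul_cancel, mul_one]
  have hV := MonoidHom.transfer_eq_pow ϕ r (fun k g₀ _ => hcomm k g₀)
  have hker₁ : A₁ ≤ (ϕ.transfer).ker := by
    have := OP_le_ker hQ ϕ.transfer A₁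
    rwa [hp₁] at this
  have hker₂ : A₂ ≤ (ϕ.transfer).ker := by
    have := OP_le_ker hQ ϕ.transfer A₂
    rwa [hp₂] at this
  have hker : r ∈ (ϕ.transfer).ker := by
    have : A₁ ⊔ A₂ ≤ (ϕ.transfer).ker := sup_le hker₁ hker₂
    rw [htop] at this
    exact this trivial
  rw [MonoidHom.mem_ker, hV] at hker
  have e : (⟨r ^ (S : Subgroup G).index, MonoidHom.transfer_eq_pow_aux r (fun k g₀ _ => hcomm k g₀)⟩ : (S : Subgroup G))
      = (⟨r, hr⟩ : (S : Subgroup G)) ^ (S : Subgroup G).index := rfl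
  rw [e, map_pow] at hker
  obtain ⟨k, hk⟩ := hQ (ϕ ⟨r, hr⟩)
  have h1 := orderOf_dvd_of_pow_eq_one hker
  have h2 := orderOf_dvd_of_pow_eq_one hk
  have hcop : Nat.Coprime (p ^ k) (S : Subgroup G).index :=
    Nat.Coprime.pow_left k ((Fact.out : p.Prime).coprime_iff_not_dvd.2 S.not_dvd_index)
  have h3 := Nat.Coprime.eq_one_of_dvd (hcop.coprime_dvd_left h2) h1
  exact orderOf_eq_one_iff.1 h3

theorem caseA [Finite G] [Fact p.Prime]
    (IH : ∀ (H : Type u) [Group H] [Finite H], Nat.card H < Nat.card G → SJ p H)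
    (S : Sylow p G) {A₁ A₂ D : Subgroup G} (h₁ : SN A₁ ⊤) (h₂ : SN A₂ ⊤) (htop : A₁ ⊔ A₂ = ⊤)
    (hp₁ : OP p A₁ = A₁) (hp₂ : OP p A₂ = A₂) (hD : D.Normal) (hDp : IsPGroup p D)
    (hDne : D ≠ ⊥) :
    (S : Subgroup G) ≤ (A₁ ⊓ (S : Subgroup G)) ⊔ (A₂ ⊓ (S : Subgroup G)) := by
  classical
  set s := (S : Subgroup G) with hs
  set T := (A₁ ⊓ s) ⊔ (A₂ ⊓ s) with hT
  have hTS : T ≤ s := sup_le inf_le_right inf_le_right
  have hDs : D ≤ s := (le_pCore hD hDp).trans (pCore_le_sylow S)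
  have hN₁ := normal_psub_normalizes h₁ hp₁ hD hDp
  have hN₂ := normal_psub_normalizes h₂ hp₂ hD hDp
  have hD₀T : (D ⊓ A₁) ⊔ (D ⊓ A₂) ≤ T :=
    sup_le (fun x hx => (le_sup_left : A₁ ⊓ s ≤ T) ⟨hx.2, hDs hx.1⟩)
      (fun x hx => (le_sup_right : A₂ ⊓ s ≤ T) ⟨hx.2, hDs hx.1⟩)
  have hnorm₁ := le_normalizer_aux (B := A₂) hD hN₁
  have hnorm₂ := le_normalizer_aux (B := A₁) hD hN₂
  rw [sup_comm] at hnorm₂
  have hD₀n : ((D ⊓ A₁) ⊔ (D ⊓ A₂)).Normal := by
    rw [← Subgroup.normalizer_eq_top_iff, eq_top_iff, ← htop]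
    exact sup_le hnorm₁ hnorm₂
  by_cases hD₀ : (D ⊓ A₁) ⊔ (D ⊓ A₂) = ⊥
  · -- `D` is central
    have hbot₁ : D ⊓ A₁ = ⊥ := le_bot_iff.1 (hD₀ ▸ le_sup_left)
    have hbot₂ : D ⊓ A₂ = ⊥ := le_bot_iff.1 (hD₀ ▸ le_sup_right)
    have hcen : ∀ y ∈ D, ∀ g : G, g * y = y * g := by
      intro y hy g
      have hle : A₁ ⊔ A₂ ≤ Subgroup.centralizer {y} := by
        refine sup_le ?_ ?_
        · intro a ha
          rw [Subgroup.mem_centralizer_singleton_iff]
          have := comm_mem_aux hD hN₁ ha hy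
          rw [hbot₁, Subgroup.mem_bot] at this
          have h2 : a * y * a⁻¹ = y := by
            rw [mul_inv_eq_one] at this; exact this
          rw [mul_inv_eq_iff_eq_mul] at h2
          exact h2
        · intro a ha
          rw [Subgroup.mem_centralizer_singleton_iff]
          have := comm_mem_aux hD hN₂ ha hy
          rw [hbot₂, Subgroup.mem_bot] at this
          have h2 : a * y * a⁻¹ = y := by
            rw [mul_inv_eq_one] at this; exact this
          rw [mul_inv_eq_iff_eq_mul] at h2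
          exact h2
      rw [htop] at hle
      exact Subgroup.mem_centralizer_singleton_iff.1 (hle trivial)
    have hdec : ∀ x ∈ s, ∃ t ∈ T, ∃ r ∈ D ⊓ s, x = t * r := fun x hx =>
      lemmaQ IH S h₁ h₂ htop hD hDne hx
    -- `T` is normal in `S`, with abelian quotient
    have hTn : (T.subgroupOf s).Normal := by
      constructor
      rintro ⟨y, hy⟩ hyT ⟨x, hx⟩
      obtain ⟨t, ht, r, hr, rfl⟩ := hdec x hx
      rw [Subgroup.mem_subgroupOf] at hyT ⊢
      have e : (t * r) * y * (t * r)⁻¹ = t * y * t⁻¹ := by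
        have := hcen r hr.1 y
        have e2 : r * y = y * r := (hcen r hr.1 y).symm
        calc (t * r) * y * (t * r)⁻¹ = t * (r * y) * r⁻¹ * t⁻¹ := by group
          _ = t * (y * r) * r⁻¹ * t⁻¹ := by rw [e2]
          _ = t * y * t⁻¹ := by group
      change (t * r) * y * (t * r)⁻¹ ∈ T
      rw [e]
      exact T.mul_mem (T.mul_mem ht hyT) (T.inv_mem ht)
    have hrep : ∀ a : s, ∃ r : G, ∃ hr : r ∈ s, (∀ g : G, g * r = r * g) ∧
        (QuotientGroup.mk a : s ⧸ T.subgroupOf s) = QuotientGroup.mk ⟨r, hr⟩ := by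
      rintro ⟨x, hx⟩
      obtain ⟨t, ht, r, hr, rfl⟩ := hdec x hx
      refine ⟨r, hr.2, hcen r hr.1, ?_⟩
      rw [QuotientGroup.eq, Subgroup.mem_subgroupOf]
      change (t * r)⁻¹ * r ∈ T
      have e : (t * r)⁻¹ * r = t⁻¹ := by
        rw [hcen r hr.1 t]; group
      rw [e]
      exact T.inv_mem ht
    have hQcomm : ∀ a b : s ⧸ T.subgroupOf s, a * b = b * a := by
      intro a b
      induction a using QuotientGroup.induction_on with
      | H a =>
        induction b using QuotientGroup.induction_on with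
        | H b =>
          obtain ⟨r₁, hr₁, hc₁, e₁⟩ := hrep a
          obtain ⟨r₂, hr₂, hc₂, e₂⟩ := hrep b
          rw [e₁, e₂, ← QuotientGroup.mk_mul, ← QuotientGroup.mk_mul]
          congr 1
          exact Subtype.ext (hc₁ r₂).symm
    letI inst : CommGroup (s ⧸ T.subgroupOf s) :=
      { (QuotientGroup.Quotient.group (T.subgroupOf s)) with mul_comm := hQcomm }
    have hQp : IsPGroup p (s ⧸ T.subgroupOf s) := S.isPGroup'.to_quotient _
    intro x hx
    by_contra hxT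
    obtain ⟨t, ht, r, hr, rfl⟩ := hdec x hx
    have hrT : r ∉ T := fun h => hxT (T.mul_mem ht h)
    have := central_mem_ker hQp S (QuotientGroup.mk' (T.subgroupOf s)) htop hp₁ hp₂ hr.2 (hcen r hr.1)
    rw [QuotientGroup.mk'_apply, QuotientGroup.eq_one_iff, Subgroup.mem_subgroupOf] at this
    exact hrT this
  · intro x hx
    obtain ⟨t, ht, r, hr, rfl⟩ := lemmaQ IH S h₁ h₂ htop hD₀n hD₀ hx
    exact T.mul_mem ht (hD₀T hr.1)

theorem caseB [Finite G] [Fact p.Prime]
    (IH : ∀ (H : Type u) [Group H] [Finite H], Nat.card H < Nat.card G → SJ p H)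
    (S : Sylow p G) {A₁ A₂ : Subgroup G} (h₁ : SN A₁ ⊤) (h₂ : SN A₂ ⊤) (htop : A₁ ⊔ A₂ = ⊤)
    (hE : pPrimeCore p G ≠ ⊥) :
    (S : Subgroup G) ≤ (A₁ ⊓ (S : Subgroup G)) ⊔ (A₂ ⊓ (S : Subgroup G)) := by
  intro x hx
  obtain ⟨t, ht, r, hr, rfl⟩ := lemmaQ IH S h₁ h₂ htop inferInstance hE hx
  have hr1 : r = 1 := by
    have := inf_eq_bot_of_isPGroup_of_coprime (A := (S : Subgroup G)) (B := pPrimeCore p G) S.isPGroup' pPrimeCore_coprime
    have h2 : r ∈ (S : Subgroup G) ⊓ pPrimeCore p G := ⟨hr.2, hr.1⟩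
    rwa [this, Subgroup.mem_bot] at h2
  rw [hr1, mul_one]
  exact ht


/-! ### The case of a minimal subnormal nonabelian subgroup -/

theorem comm_bot_iff {A L : Subgroup G} : ⁅A, L⁆ = ⊥ ↔ ∀ a ∈ A, ∀ l ∈ L, a * l = l * a := by
  rw [← le_bot_iff, Subgroup.commutator_le]
  refine forall₂_congr fun a _ => forall₂_congr fun l _ => ?_
  rw [Subgroup.mem_bot, commutatorElement_eq_one_iff_mul_comm]

theorem comm_bot_of_chain {L X T : Subgroup G} (hperf : ⁅L, L⁆ = L)
    (hLX : L ≤ Subgroup.normalizer (X : Set G)) (hinf : L ⊓ X = ⊥) (hLT : SN L T) :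
    ∀ W : Subgroup G, W ≤ X → W ≤ T → ⁅W, L⁆ = ⊥ := by
  induction hLT with
  | refl =>
    intro W hWX hWT
    have : W = ⊥ := le_bot_iff.1 (hinf ▸ le_inf hWT hWX)
    rw [this, Subgroup.commutator_bot_left]
  | @tail Y Z h1 h2 ih =>
    intro W hWX hWZ
    have hLY : L ≤ Y := SN.le h1
    have hW1 : ⁅W, L⁆ ≤ X := by
      rw [Subgroup.commutator_le]
      intro w hw l hl
      rw [commutatorElement_def]
      have := (Subgroup.mem_normalizer_iff.1 (hLX hl) w⁻¹).1 (X.inv_mem (hWX hw))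
      have e : w * l * w⁻¹ * l⁻¹ = w * (l * w⁻¹ * l⁻¹) := by group
      rw [e]
      exact X.mul_mem (hWX hw) this
    have hW2 : ⁅W, L⁆ ≤ Y := by
      rw [Subgroup.commutator_le]
      intro w hw l hl
      rw [commutatorElement_def]
      have := (Subgroup.mem_normalizer_iff.1 (h2.2 (hWZ hw)) l).1 (hLY hl)
      exact Y.mul_mem this (Y.inv_mem (hLY hl))
    have h3 := ih _ hW1 hW2
    have h4 : ⁅⁅L, W⁆, L⁆ = ⊥ := by rw [Subgroup.commutator_comm L W]; exact h3
    have h5 := Subgroup.commutator_commutator_eq_bot_of_rotate h4 h3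
    rw [hperf, Subgroup.commutator_comm] at h5
    exact h5

theorem dichotomy [Finite G] {L A : Subgroup G} (hLsn : SN L ⊤) (hperf : ⁅L, L⁆ = L)
    (hsimple : ∀ N : Subgroup G, N ≤ L → L ≤ Subgroup.normalizer (N : Set G) → N = ⊥ ∨ N = L)
    (hA : SN A ⊤) : L ≤ A ∨ ⁅A, L⁆ = ⊥ := by
  induction hA using Relation.ReflTransGen.head_induction_on with
  | refl => exact Or.inl le_top
  | @head A B h1 h2 ih =>
    rcases ih with h | h
    · have hLn : L ≤ Subgroup.normalizer (((L ⊓ A : Subgroup G)) : Set G) :=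
        (le_inf Subgroup.le_normalizer (h.trans h1.2)).trans Subgroup.inf_normalizer_le_normalizer_inf
      rcases hsimple (L ⊓ A) inf_le_left hLn with h3 | h3
      · right
        exact comm_bot_of_chain hperf (h.trans h1.2) h3 (hLsn.restrict h le_top) A le_rfl h1.1
      · left
        exact inf_eq_left.1 h3
    · right
      exact le_bot_iff.1 (h ▸ Subgroup.commutator_mono h1.1 le_rfl)

theorem dichotomy_conj [Finite G] {L A : Subgroup G} (hLsn : SN L ⊤) (hperf : ⁅L, L⁆ = L)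
    (hsimple : ∀ N : Subgroup G, N ≤ L → L ≤ Subgroup.normalizer (N : Set G) → N = ⊥ ∨ N = L)
    (hA : SN A ⊤) (g : G) :
    MulAut.conj g • L ≤ A ∨ ∀ a ∈ A, ∀ l ∈ MulAut.conj g • L, a * l = l * a := by
  rcases dichotomy hLsn hperf hsimple (sn_conj hA g⁻¹) with h | h
  · left
    have := conj_mono (g := g) h
    rwa [conj_conj_inv] at this
  · right
    rw [comm_bot_iff] at h
    intro a ha l hl
    have h1 := h (g⁻¹ * a * g) (by
      rw [mem_conj]
      have e : g⁻¹⁻¹ * (g⁻¹ * a * g) * g⁻¹ = a := by group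
      rw [e]; exact ha) (g⁻¹ * l * g) (mem_conj.1 hl)
    have e1 : g⁻¹ * a * g * (g⁻¹ * l * g) = g⁻¹ * (a * l) * g := by group
    have e2 : g⁻¹ * l * g * (g⁻¹ * a * g) = g⁻¹ * (l * a) * g := by group
    rw [e1, e2] at h1
    simpa using h1

theorem mem_normalizer_biSup [Finite G] {ι : Type*} {B : ι → Subgroup G} {x : G}
    (h : ∀ i, x ∈ Subgroup.normalizer (B i : Set G)) (F : Finset ι) :
    x ∈ Subgroup.normalizer ((⨆ i ∈ F, B i : Subgroup G) : Set G) := by
  classical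
  induction F using Finset.induction_on with
  | empty =>
    have : (⨆ i ∈ (∅ : Finset ι), B i) = ⊥ := by simp
    rw [this, Subgroup.normalizer_eq_top_iff.2 Subgroup.normal_bot]
    trivial
  | insert a F ha ih =>
    rw [Finset.iSup_insert]
    exact mem_normalizer_sup (h a) ih

theorem caseC [Finite G] [Fact p.Prime]
    (IH : ∀ (H : Type u) [Group H] [Finite H], Nat.card H < Nat.card G → SJ p H)
    (S : Sylow p G) {A₁ A₂ : Subgroup G} (h₁ : SN A₁ ⊤) (h₂ : SN A₂ ⊤) (htop : A₁ ⊔ A₂ = ⊤)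
    (hD : pCore p G = ⊥) (hE : pPrimeCore p G = ⊥) :
    (S : Subgroup G) ≤ (A₁ ⊓ (S : Subgroup G)) ⊔ (A₂ ⊓ (S : Subgroup G)) := by
  classical
  set s := (S : Subgroup G) with hs
  set T := (A₁ ⊓ s) ⊔ (A₂ ⊓ s) with hT
  have hTS : T ≤ s := sup_le inf_le_right inf_le_right
  by_cases hG : (⊤ : Subgroup G) = ⊥
  · intro x _
    have : x ∈ (⊥ : Subgroup G) := hG ▸ Subgroup.mem_top x
    rw [Subgroup.mem_bot] at this
    rw [this]
    exact T.one_mem
  -- minimal nontrivial subnormal subgroup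
  obtain ⟨L, hL⟩ : ∃ L, Minimal (· ∈ {L : Subgroup G | L ≠ ⊥ ∧ SN L ⊤}) L :=
    Set.Finite.exists_minimal (Set.toFinite _) ⟨⊤, hG, SN.refl _⟩
  obtain ⟨⟨hLne, hLsn⟩, hLmin⟩ := hL
  have hsimple : ∀ N : Subgroup G, N ≤ L → L ≤ Subgroup.normalizer (N : Set G) → N = ⊥ ∨ N = L := by
    intro N hNL hLN
    by_cases hN : N = ⊥
    · exact Or.inl hN
    · right
      exact le_antisymm hNL (hLmin ⟨hN, (SN.of_le_normalizer hNL hLN).trans hLsn⟩ hNL)
  have hperf : ⁅L, L⁆ = L := by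
    have hcl : ⁅L, L⁆ ≤ L := by
      rw [Subgroup.commutator_le]
      intro a ha b hb
      rw [commutatorElement_def]
      exact L.mul_mem (L.mul_mem (L.mul_mem ha hb) (L.inv_mem ha)) (L.inv_mem hb)
    have hn : L ≤ Subgroup.normalizer ((⁅L, L⁆ : Subgroup G) : Set G) := by
      intro l hl
      refine Cfsg.Agent.Lib.Core.CoprimeMap.mem_normalizer_of_forall_conj_mem ?_
      have hle : ⁅L, L⁆ ≤ ⁅L, L⁆.comap (MulAut.conj l).toMonoidHom := by
        rw [Subgroup.commutator_le]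
        intro a ha b hb
        rw [Subgroup.mem_comap]
        have e : (MulAut.conj l).toMonoidHom ⁅a, b⁆ = ⁅l * a * l⁻¹, l * b * l⁻¹⁆ := by
          simp [commutatorElement_def]
          group
        rw [e]
        exact Subgroup.commutator_mem_commutator (L.mul_mem (L.mul_mem hl ha) (L.inv_mem hl))
          (L.mul_mem (L.mul_mem hl hb) (L.inv_mem hl))
      intro v hv
      exact hle hv
    rcases hsimple _ hcl hn with h | h
    · exfalso
      -- `L` is abelian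
      have hab := comm_bot_iff.1 h
      have hn2 : L ≤ Subgroup.normalizer (((L ⊓ s : Subgroup G)) : Set G) := by
        intro l hl
        refine Cfsg.Agent.Lib.Core.CoprimeMap.mem_normalizer_of_forall_conj_mem ?_
        intro v hv
        have e : l * v * l⁻¹ = v := by
          rw [hab l hl v hv.1]; group
        rw [e]; exact hv
      have hLsn' := isSubnormal_iff_SN_top.2 hLsn
      rcases hsimple _ inf_le_left hn2 with h3 | h3
      · -- `p'`-group
        have hc := card_inf_sylow S hLsn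
        rw [h3, Subgroup.card_bot] at hc
        have h4 : (Nat.card L).factorization p = 0 := by
          by_contra hne
          have : 1 < p ^ (Nat.card L).factorization p :=
            Nat.one_lt_pow hne (Fact.out : p.Prime).one_lt
          omega
        have h5 : ¬ p ∣ Nat.card L := by
          intro hdvd
          have := (Fact.out : p.Prime).factorization_pos_of_dvd Nat.card_pos.ne' hdvd
          omega
        have h6 : (Nat.card L).Coprime p :=
          (((Fact.out : p.Prime).coprime_iff_not_dvd).2 h5).symm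
        have h7 := le_pPrimeCore_of_isSubnormal hLsn' h6
        rw [hE] at h7
        exact hLne (le_bot_iff.1 h7)
      · have hLs : L ≤ s := inf_eq_left.1 h3
        have hpL : IsPGroup p L := S.isPGroup'.to_le hLs
        have h7 := le_pCore_of_isSubnormal hLsn' hpL
        rw [hD] at h7
        exact hLne (le_bot_iff.1 h7)
    · exact h
  have hT' : ∀ g : G, (MulAut.conj g • L) ⊓ s ≤ T := by
    intro g
    rcases dichotomy_conj hLsn hperf hsimple h₁ g with h | hc₁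
    · exact (inf_le_inf_right _ h).trans le_sup_left
    rcases dichotomy_conj hLsn hperf hsimple h₂ g with h | hc₂
    · exact (inf_le_inf_right _ h).trans le_sup_right
    exfalso
    -- central
    have hcen : ∀ l ∈ MulAut.conj g • L, ∀ y : G, y * l = l * y := by
      intro l hl y
      have hle : A₁ ⊔ A₂ ≤ Subgroup.centralizer {l} := by
        refine sup_le ?_ ?_
        · intro a ha
          rw [Subgroup.mem_centralizer_singleton_iff]
          exact hc₁ a ha l hl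
        · intro a ha
          rw [Subgroup.mem_centralizer_singleton_iff]
          exact hc₂ a ha l hl
      rw [htop] at hle
      exact Subgroup.mem_centralizer_singleton_iff.1 (hle trivial)
    have : ⁅L, L⁆ = ⊥ := by
      rw [comm_bot_iff]
      intro a ha b hb
      have h1 := hcen (g * b * g⁻¹) (conj_mem_conj hb) (g * a * g⁻¹)
      have e1 : g * a * g⁻¹ * (g * b * g⁻¹) = g * (a * b) * g⁻¹ := by group
      have e2 : g * b * g⁻¹ * (g * a * g⁻¹) = g * (b * a) * g⁻¹ := by group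
      rw [e1, e2] at h1
      simpa using h1
    exact hLne (hperf ▸ this)
  have hnorm : ∀ g h : G, MulAut.conj h • L ≤ Subgroup.normalizer ((MulAut.conj g • L : Subgroup G) : Set G) := by
    intro g h
    rcases dichotomy_conj hLsn hperf hsimple (sn_conj hLsn h) g with h1 | h1
    · have hc : Nat.card (MulAut.conj g • L : Subgroup G) = Nat.card (MulAut.conj h • L : Subgroup G) := by
        rw [card_conj, card_conj]
      have : MulAut.conj g • L = MulAut.conj h • L :=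
        Subgroup.eq_of_le_of_card_ge h1 hc.ge
      rw [this]
      exact Subgroup.le_normalizer
    · intro a ha
      refine Cfsg.Agent.Lib.Core.CoprimeMap.mem_normalizer_of_forall_conj_mem ?_
      intro v hv
      have e : a * v * a⁻¹ = v := by
        rw [h1 a ha v hv]; group
      rw [e]; exact hv
  let B : G → Subgroup G := fun g => MulAut.conj g • L
  have hBsn : ∀ g, SN (B g) ⊤ := fun g => sn_conj hLsn g
  have hfam : ∀ F : Finset G, (⨆ g ∈ F, B g) ⊓ s ≤ T := by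
    intro F
    induction F using Finset.induction_on with
    | empty => simp
    | insert a F ha ih =>
      rw [Finset.iSup_insert]
      have hn3 : B a ≤ Subgroup.normalizer ((⨆ g ∈ F, B g : Subgroup G) : Set G) := by
        intro x hx
        exact mem_normalizer_biSup (fun i => hnorm i a hx) F
      rw [lemmaN S (hBsn a) (sn_biSup hBsn F) hn3]
      exact sup_le (hT' a) ih
  haveI : Fintype G := Fintype.ofFinite G
  have hR := hfam Finset.univ
  simp only [Finset.mem_univ, iSup_pos] at hR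
  have hRn : (⨆ g, B g).Normal := by
    rw [← Subgroup.normalizer_eq_top_iff, eq_top_iff]
    intro h _
    refine mem_normalizer_iSup' fun g v hv => ?_
    refine (le_iSup B (h * g)) ?_
    have hv' := mem_conj.1 hv
    change _ ∈ MulAut.conj (h * g) • L
    rw [mem_conj]
    have e : (h * g)⁻¹ * (h * v * h⁻¹) * (h * g) = g⁻¹ * v * g := by group
    rw [e]; exact hv'
  have hRne : (⨆ g, B g) ≠ ⊥ := by
    intro h0
    have : B 1 ≤ ⨆ g, B g := le_iSup B 1
    rw [h0] at this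
    have h1 : L ≤ ⊥ := by simpa [B] using this
    exact hLne (le_bot_iff.1 h1)
  intro x hx
  obtain ⟨t, ht, r, hr, rfl⟩ := lemmaQ IH S h₁ h₂ htop hRn hRne hx
  exact T.mul_mem ht (hR hr)

theorem final [Finite G] [Fact p.Prime]
    (IH : ∀ (H : Type u) [Group H] [Finite H], Nat.card H < Nat.card G → SJ p H)
    (S : Sylow p G) {A₁ A₂ : Subgroup G} (h₁ : SN A₁ ⊤) (h₂ : SN A₂ ⊤) (htop : A₁ ⊔ A₂ = ⊤)
    (hp₁ : OP p A₁ = A₁) (hp₂ : OP p A₂ = A₂) :
    (S : Subgroup G) ≤ (A₁ ⊓ (S : Subgroup G)) ⊔ (A₂ ⊓ (S : Subgroup G)) := by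
  by_cases hD : pCore p G = ⊥
  · by_cases hE : pPrimeCore p G = ⊥
    · exact caseC IH S h₁ h₂ htop hD hE
    · exact caseB IH S h₁ h₂ htop hE
  · exact caseA IH S h₁ h₂ htop hp₁ hp₂ inferInstance pCore_isPGroup hD

/-- The inner induction on `|A₁| + |A₂|`. -/
theorem inner [Finite G] [Fact p.Prime]
    (IH : ∀ (H : Type u) [Group H] [Finite H], Nat.card H < Nat.card G → SJ p H)
    (S : Sylow p G) : ∀ (n : ℕ) (A₁ A₂ : Subgroup G), Nat.card A₁ + Nat.card A₂ = n →
      SN A₁ ⊤ → SN A₂ ⊤ →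
      (A₁ ⊔ A₂) ⊓ (S : Subgroup G) = (A₁ ⊓ (S : Subgroup G)) ⊔ (A₂ ⊓ (S : Subgroup G)) := by
  intro n
  induction n using Nat.strong_induction_on with
  | _ n ih =>
    intro A₁ A₂ hn h₁ h₂
    by_cases htop : A₁ ⊔ A₂ = ⊤
    · set s := (S : Subgroup G) with hs
      set T := (A₁ ⊓ s) ⊔ (A₂ ⊓ s) with hT
      have hTS : T ≤ s := sup_le inf_le_right inf_le_right
      suffices hsuff : s ≤ T by
        rw [htop, top_inf_eq]
        exact le_antisymm hsuff hTS
      by_cases hA₁ : A₁ = ⊤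
      · subst hA₁
        intro x hx
        exact (le_sup_left : ⊤ ⊓ s ≤ T) ⟨trivial, hx⟩
      by_cases hA₂ : A₂ = ⊤
      · subst hA₂
        intro x hx
        exact (le_sup_right : ⊤ ⊓ s ≤ T) ⟨trivial, hx⟩
      by_cases hne₂ : A₁ ⊔ OP p A₂ = ⊤
      · by_cases hne₁ : OP p A₁ ⊔ A₂ = ⊤
        · by_cases hp₂ : OP p A₂ = A₂
          · by_cases hp₁ : OP p A₁ = A₁
            · exact final IH S h₁ h₂ htop hp₁ hp₂
            · -- shrink `A₁`
              have hlt : Nat.card (OP p A₁ : Subgroup G) < Nat.card A₁ := by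
                refine lt_of_le_of_ne (Subgroup.card_le_of_le (OP_le A₁)) ?_
                intro hc
                exact hp₁ (Subgroup.eq_of_le_of_card_ge (OP_le A₁) hc.ge)
              have := ih _ (by omega) (OP p A₁) A₂ rfl (sn_OP h₁) h₂
              rw [hne₁, top_inf_eq] at this
              exact this.le.trans
                (sup_le ((inf_le_inf_right _ (OP_le A₁)).trans le_sup_left) le_sup_right)
          · -- shrink `A₂`
            have hlt : Nat.card (OP p A₂ : Subgroup G) < Nat.card A₂ := by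
              refine lt_of_le_of_ne (Subgroup.card_le_of_le (OP_le A₂)) ?_
              intro hc
              exact hp₂ (Subgroup.eq_of_le_of_card_ge (OP_le A₂) hc.ge)
            have := ih _ (by omega) A₁ (OP p A₂) rfl h₁ (sn_OP h₂)
            rw [hne₂, top_inf_eq] at this
            exact this.le.trans
              (sup_le le_sup_left ((inf_le_inf_right _ (OP_le A₂)).trans le_sup_right))
        · have := reduce IH S h₂ h₁ (by rw [sup_comm]; exact htop) hA₂ (by rw [sup_comm]; exact hne₁)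
          rw [sup_comm] at this
          exact this
      · exact reduce IH S h₁ h₂ htop hA₁ hne₂
    · exact join_of_proper IH S h₁ h₂ htop

theorem main (p : ℕ) [Fact p.Prime] : ∀ (n : ℕ) (H : Type u) [Group H] [Finite H],
    Nat.card H = n → SJ p H := by
  intro n
  induction n using Nat.strong_induction_on with
  | _ n ih =>
    intro H _ _ hn S A₁ A₂ h₁ h₂
    refine inner (fun K _ _ hK => ih (Nat.card K) (hn ▸ hK) K rfl) S _ A₁ A₂ rfl
      (isSubnormal_iff_SN_top.1 h₁) (isSubnormal_iff_SN_top.1 h₂)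


/-- Let G be a finite group, p a prime, S a Sylow p-subgroup of G and A₁, A₂ subnormal subgroups of G. Then the join of S ∩ A₁ and S ∩ A₂ is a Sylow p-subgroup of the join of A₁ and A₂; equivalently ⟨A₁, A₂⟩ ∩ S = ⟨A₁ ∩ S, A₂ ∩ S⟩. -/
theorem result {G : Type*} [Group G] [Finite G] {p : ℕ} [Fact p.Prime] (S : Sylow p G) (A₁ A₂ : Subgroup G)
    (h₁ : A₁.IsSubnormal) (h₂ : A₂.IsSubnormal) :
    (A₁ ⊔ A₂) ⊓ (S : Subgroup G) = (A₁ ⊓ (S : Subgroup G)) ⊔ (A₂ ⊓ (S : Subgroup G)) := by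
  exact main p _ G rfl S A₁ A₂ h₁ h₂

end Cfsg.Agent.S3028
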