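import Cfsg.Statements.S3040
import Cfsg.Agent.Lib.FPS3.Main
import Cfsg.Agent.S0205

set_option autoImplicit false
open Cfsg

namespace Cfsg.Agent.S3040

open Cfsg.Agent.Lib.FPS3.Basic Cfsg.Agent.Lib.FPS3.Main

theorem perm3_facts : ∀ a b : Equiv.Perm (Fin 3), a ^ 3 = 1 → a ≠ 1 → b ^ 2 = 1 → b ≠ 1 →
    b * a * b⁻¹ = a⁻¹ ∧ ∀ c, c = 1 ∨ c = a ∨ c = a * a ∨ c = b ∨ c = a * b ∨ c = a * a * b := by
  decide

theorem f3_of_sig {G : Type*} [Group G] [Finite G] (h3 : ¬ 3 ∣ Nat.card G)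
    (Sig : Subgroup (MulAut G)) (e : ↥Sig ≃* Equiv.Perm (Fin 3))
    (hfpf : ∀ g : G, (∀ σ ∈ Sig, σ g = g) → g = 1) {σ : MulAut G} (hσ : σ ∈ Sig)
    (ho : orderOf σ = 3) : F3 (σ.toMonoidHom) := by
  classical
  let s : Sig := ⟨σ, hσ⟩
  have hs3 : s ^ 3 = 1 := by
    apply Subtype.ext
    show σ ^ 3 = 1
    rw [← ho]; exact pow_orderOf_eq_one σ
  have hs1 : s ≠ 1 := by
    intro h
    have h1 : σ = 1 := congrArg Subtype.val h
    rw [h1, orderOf_one] at ho
    omega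
  let a := e s
  have ha3 : a ^ 3 = 1 := by
    show e s ^ 3 = 1
    rw [← map_pow, hs3, map_one]
  have ha1 : a ≠ 1 := fun h => hs1 (e.injective (by rw [map_one]; exact h))
  let b : Equiv.Perm (Fin 3) := Equiv.swap 0 1
  have hb2 : b ^ 2 = 1 := by decide
  have hb1 : b ≠ 1 := by decide
  obtain ⟨hrel, hall⟩ := perm3_facts a b ha3 ha1 hb2 hb1
  let t : Sig := e.symm b
  have het : e t = b := e.apply_symm_apply b
  let τ : MulAut G := t
  have hrel' : t * s * t⁻¹ = s⁻¹ := by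
    apply e.injective
    simp only [map_mul, map_inv]
    rw [het]
    exact hrel
  have hrel2 : τ * σ * τ⁻¹ = σ⁻¹ := congrArg Subtype.val hrel'
  have ht2 : t ^ 2 = 1 := by
    apply e.injective
    rw [map_pow, het, hb2, map_one]
  have hτ2 : τ ^ 2 = 1 := congrArg Subtype.val ht2
  have hτ : ∀ x, τ (τ x) = x := by
    intro x
    have h1 : (τ ^ 2) x = x := by rw [hτ2]; rfl
    rwa [pow_two] at h1
  have hσ3 : ∀ x, σ (σ (σ x)) = x := by
    intro x
    have h1 : σ ^ 3 = 1 := by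
      rw [← ho]; exact pow_orderOf_eq_one σ
    have h2 : (σ ^ 3) x = x := by rw [h1]; rfl
    rw [pow_succ, pow_two] at h2
    exact h2
  have hτσ : ∀ y, σ (τ (σ y)) = τ y := by
    intro y
    have h1 : τ * σ = σ⁻¹ * τ := by
      rw [← hrel2]; group
    have h2 := congrArg (fun f : MulAut G => f y) h1
    have h3 : τ (σ y) = σ⁻¹ (τ y) := h2
    rw [h3]
    exact σ.apply_symm_apply _
  refine ⟨hσ3, h3, ?_⟩
  intro g hg hd
  let C : Subgroup G := MonoidHom.eqLocus σ.toMonoidHom (MonoidHom.id G)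
  have hCmem : ∀ x, x ∈ C ↔ σ x = x := fun x => Iff.rfl
  have hτC : ∀ x ∈ C, τ x ∈ C := by
    intro x hx
    rw [hCmem] at hx ⊢
    have h1 := hτσ x
    rwa [hx] at h1
  haveI := Fintype.ofFinite C
  let f : Function.End C := fun x => ⟨τ x, hτC x x.2⟩
  have hf : f ^ (2 ^ 1) = 1 := by
    funext x
    exact Subtype.ext (hτ x)
  haveI : Fact (Nat.Prime 2) := ⟨Nat.prime_two⟩
  have h1 := Equiv.Perm.card_fixedPoints_modEq (f := f) (p := 2) (n := 1) hf
  have h2 : 2 ∣ Fintype.card C := by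
    rw [← Nat.card_eq_fintype_card]
    exact hd.trans (Subgroup.orderOf_dvd_natCard C hg)
  have h4 : 2 ∣ Fintype.card (Function.fixedPoints f) := (Nat.ModEq.dvd_iff h1 (dvd_refl 2)).mp h2
  have h5 : (⟨1, one_mem C⟩ : C) ∈ Function.fixedPoints f := by
    apply Subtype.ext
    show τ 1 = 1
    simp
  obtain ⟨y, hy⟩ : ∃ y : Function.fixedPoints f, y ≠ ⟨⟨1, one_mem C⟩, h5⟩ := by
    by_contra hne
    push Not at hne
    have h6 : Fintype.card (Function.fixedPoints f) = 1 :=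
      Fintype.card_eq_one_iff.mpr ⟨⟨⟨1, one_mem C⟩, h5⟩, hne⟩
    omega
  have hy1 : ((y : C) : G) ≠ 1 := fun h => hy (Subtype.ext (Subtype.ext h))
  have hyσ : σ ((y : C) : G) = (y : C) := (y : C).2
  have hyτ : τ ((y : C) : G) = (y : C) := congrArg Subtype.val y.2
  apply hy1
  apply hfpf
  intro u hu
  have hfixs : ∀ x : Sig, (x : MulAut G) ((y : C) : G) = (y : C) → ∀ x' : Sig,
      (x' : MulAut G) ((y : C) : G) = (y : C) → ((x * x' : Sig) : MulAut G) ((y : C) : G) = (y : C) := by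
    intro x hx x' hx'
    show (x : MulAut G) ((x' : MulAut G) ((y : C) : G)) = (y : C)
    rw [hx', hx]
  have hS : (s : MulAut G) ((y : C) : G) = (y : C) := hyσ
  have hT : (t : MulAut G) ((y : C) : G) = (y : C) := hyτ
  have hU : ∀ w : Sig, e ⟨u, hu⟩ = e w → (w : MulAut G) ((y : C) : G) = (y : C) →
      u ((y : C) : G) = (y : C) := by
    intro w hw h9
    have h7 : (⟨u, hu⟩ : Sig) = w := e.injective hw
    have h8 : u = (w : MulAut G) := congrArg Subtype.val h7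
    rw [h8]; exact h9
  rcases hall (e ⟨u, hu⟩) with h | h | h | h | h | h
  · exact hU 1 (by rw [h, map_one]) rfl
  · exact hU s h hS
  · exact hU (s * s) (by rw [h, map_mul]) (hfixs s hS s hS)
  · exact hU t (by rw [h, het]) hT
  · exact hU (s * t) (by rw [h, map_mul, het]) (hfixs s hS t hT)
  · exact hU (s * s * t) (by rw [h, map_mul, map_mul, het]) (hfixs _ (hfixs s hS s hS) t hT)

theorem exists_order_three : ∃ c : Equiv.Perm (Fin 3), orderOf c = 3 :=
  ⟨Equiv.swap 0 1 * Equiv.swap 1 2, orderOf_eq_prime (by decide) (by decide)⟩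

universe u in
/-- The statement, in a fixed universe. -/
theorem wrap {G : Type u} [Group G] [Finite G] (h3 : ¬ 3 ∣ Nat.card G)
    (Sig : Subgroup (MulAut G)) (e : ↥Sig ≃* Equiv.Perm (Fin 3)) (hfpf : ∀ g : G, (∀ σ ∈ Sig, σ g = g) → g = 1) :
    Group.IsSolvable G ∧ ¬ 2 ∣ (Cfsg.pPrimePCore 2 G).index ∧ ∀ σ ∈ Sig, orderOf σ = 3 →
      Cfsg.pPrimePCore 2 G ⊔ Subgroup.closure {g : G | σ g = g} = ⊤ := by
  have hFT : ∀ (H : Type u) [Group H] [Finite H], Odd (Nat.card H) → Group.IsSolvable H :=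
    fun H _ _ h => Cfsg.Agent.S0205.result h
  obtain ⟨c, hco⟩ := exists_order_three
  obtain ⟨σ₀, hσ₀, hσ₀e⟩ : ∃ σ₀ : MulAut G, σ₀ ∈ Sig ∧ σ₀ = ((e.symm c : Sig) : MulAut G) :=
    ⟨_, (e.symm c).2, rfl⟩
  have ho : orderOf σ₀ = 3 := by
    rw [hσ₀e, Subgroup.orderOf_coe, MulEquiv.orderOf_eq, hco]
  have hF := f3_of_sig h3 Sig e hfpf hσ₀ ho
  have A : Group.IsSolvable G := main_solvable hFT hF
  have B := main_index hFT hF
  refine ⟨A, B, ?_⟩
  intro σ hσ hoσ
  have C := main_sup hFT (f3_of_sig h3 Sig e hfpf hσ hoσ)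
  exact C

/-- Let G be a finite group of even order coprime to 3, and let Σ be a group of automorphisms of G isomorphic to the symmetric group of degree 3 that is fixed-point-free (only the identity of G is fixed by every element of Σ). Then G is solvable, O_{2′,2}(G) (the preimage in G of O₂(G/O(G))) has odd index in G, and G = O_{2′,2}(G) C_G(σ) for every element σ of Σ of order 3; that is, O₂(G/O(G)) is a Sylow 2-subgroup of G/O(G) and G/O(G) = O₂(G/O(G)) C_{G/O(G)}(σ). -/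
theorem result {G : Type*} [Group G] [Finite G] (heven : 2 ∣ Nat.card G) (h3 : ¬ 3 ∣ Nat.card G)
    (Sig : Subgroup (MulAut G)) (hS3 : Nonempty (↥Sig ≃* Equiv.Perm (Fin 3))) (hfpf : ∀ g : G, (∀ σ ∈ Sig, σ g = g) → g = 1) :
    Group.IsSolvable G ∧ ¬ 2 ∣ (Cfsg.pPrimePCore 2 G).index ∧ ∀ σ ∈ Sig, orderOf σ = 3 →
      Cfsg.pPrimePCore 2 G ⊔ Subgroup.closure {g : G | σ g = g} = ⊤ := by
  obtain ⟨e⟩ := hS3
  exact wrap h3 Sig e hfpf

end Cfsg.Agent.S3040
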