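import Cfsg.Statements.S3043
import Cfsg.Agent.Lib.TIInv.CaseB2
import Cfsg.Agent.Lib.TIInv.CaseA2

set_option autoImplicit false
open Cfsg

namespace Cfsg.Agent.S3043

open Cfsg.Agent.Lib.TIInv in
/-- The hypotheses translated. -/
theorem hyp_of {G : Type*} [Group G] [Finite G] (M : Subgroup G) (hM1 : M ≠ ⊥)
    (hTI : ∀ g : G, M ⊓ M.map (MulAut.conj g).toMonoidHom ≠ ⊥ → M.map (MulAut.conj g).toMonoidHom = M)
    (z : G) (hz : orderOf z = 2) (hzN : z ∈ Subgroup.normalizer (M : Set G))
    (hfac : M ⊔ (Subgroup.normalizer (M : Set G) ⊓ Subgroup.centralizer ({z} : Set G)) = Subgroup.normalizer (M : Set G))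
    (hodd : ∀ x ∈ M, x ≠ 1 → Odd (Nat.card ↥(Subgroup.centralizer ({x} : Set G)))) : Hyp M z := by
  have hz1 : z ≠ 1 := by
    rintro rfl
    simp at hz
  have hz2 : z * z = 1 := by
    have := pow_orderOf_eq_one z
    rwa [hz, pow_two] at this
  refine ⟨hM1, ?_, hz2, hz1, hzN, ?_, hodd⟩
  · intro g x hx hx1 hgx
    have hne : M ⊓ M.map (MulAut.conj g).toMonoidHom ≠ ⊥ := by
      intro hc
      have h1 : g * x * g⁻¹ ∈ M ⊓ M.map (MulAut.conj g).toMonoidHom :=
        Subgroup.mem_inf.mpr ⟨hgx, ⟨x, hx, rfl⟩⟩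
      rw [hc, Subgroup.mem_bot] at h1
      apply hx1
      have : x = g⁻¹ * (g * x * g⁻¹) * g := by group
      rw [this, h1]
      group
    have heq := hTI g hne
    rw [Subgroup.mem_normalizer_iff]
    intro y
    constructor
    · intro hy
      rw [← SetLike.mem_coe, ← heq]
      exact ⟨y, hy, rfl⟩
    · intro hy
      have hy' : g * y * g⁻¹ ∈ M.map (MulAut.conj g).toMonoidHom := by
        rw [heq]
        exact hy
      obtain ⟨y', hy'M, e⟩ := hy'
      have e' : g * y' * g⁻¹ = g * y * g⁻¹ := e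
      have e2 : y' = y := by
        have := congrArg (fun w => g⁻¹ * w * g) e'
        simpa [mul_assoc] using this
      rw [← e2]
      exact hy'M
  · intro y hy
    have hy0 : y ∈ M ⊔ (Subgroup.normalizer (M : Set G) ⊓ Subgroup.centralizer ({z} : Set G)) := by
      rw [hfac]
      exact hy
    -- the product decomposition
    have key : ∀ y ∈ M ⊔ (Subgroup.normalizer (M : Set G) ⊓ Subgroup.centralizer ({z} : Set G)),
        ∃ m ∈ M, ∃ c ∈ Subgroup.normalizer (M : Set G), c * z = z * c ∧ y = m * c := by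
      intro y hy
      rw [Subgroup.sup_eq_closure] at hy
      induction hy using Subgroup.closure_induction with
      | mem x hx =>
        rcases hx with hx | hx
        · exact ⟨x, hx, 1, one_mem _, by simp, by simp⟩
        · have hx' := Subgroup.mem_inf.mp hx
          exact ⟨1, one_mem _, x, hx'.1, Subgroup.mem_centralizer_singleton_iff.mp hx'.2, by simp⟩
      | one => exact ⟨1, one_mem _, 1, one_mem _, by simp, by simp⟩
      | mul a b _ _ ha hb =>
        obtain ⟨m, hm, c, hc, hcz, rfl⟩ := ha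
        obtain ⟨m', hm', c', hc', hcz', rfl⟩ := hb
        refine ⟨m * (c * m' * c⁻¹), mul_mem hm ((Subgroup.mem_normalizer_iff.mp hc m').mp hm'),
          c * c', mul_mem hc hc', ?_, by group⟩
        calc c * c' * z = c * (c' * z) := by group
          _ = c * (z * c') := by rw [hcz']
          _ = (c * z) * c' := by group
          _ = (z * c) * c' := by rw [hcz]
          _ = z * (c * c') := by group
      | inv a _ ha =>
        obtain ⟨m, hm, c, hc, hcz, rfl⟩ := ha
        refine ⟨c⁻¹ * m⁻¹ * c⁻¹⁻¹, (Subgroup.mem_normalizer_iff.mp (inv_mem hc) m⁻¹).mp (inv_mem hm),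
          c⁻¹, inv_mem hc, ?_, by group⟩
        rw [inv_mul_eq_iff_eq_mul, ← mul_assoc, hcz]
        group
    exact key y hy0

/-- Let M be a nontrivial subgroup of a finite group G meeting each of its other conjugates trivially, with N_G(M) = M · C_{N_G(M)}(z) for some involution z ∈ N_G(M), and with C_G(x) of odd order for every nontrivial x ∈ M. Then one of the following holds: M is normal in G; the number of involutions of G is at most |G : M|; G is isomorphic to PGL₂(F) or to PSL₂(F) for a finite field F with |F| = |M|, M is an elementary abelian p-group for the characteristic p of F, and |F| ≡ 1 (mod 4) in the PSL₂ case; G is isomorphic to PSL₂(F) with |F| = 2^e, e > 1, and M is cyclic of order 2^e + 1; or for some d ≥ 1, G has an elementary abelian normal subgroup of order 2^{2d} complemented by N_G(M), and N_G(M) is dihedral of order 2(2^d + 1). -/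
theorem result {G : Type*} [Group G] [Finite G] (M : Subgroup G) (hM1 : M ≠ ⊥)
    (hTI : ∀ g : G, M ⊓ M.map (MulAut.conj g).toMonoidHom ≠ ⊥ → M.map (MulAut.conj g).toMonoidHom = M)
    (z : G) (hz : orderOf z = 2) (hzN : z ∈ Subgroup.normalizer (M : Set G))
    (hfac : M ⊔ (Subgroup.normalizer (M : Set G) ⊓ Subgroup.centralizer ({z} : Set G)) = Subgroup.normalizer (M : Set G))
    (hodd : ∀ x ∈ M, x ≠ 1 → Odd (Nat.card ↥(Subgroup.centralizer ({x} : Set G)))) :
    M.Normal ∨
    Nat.card {g : G // orderOf g = 2} ≤ M.index ∨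
    (∃ (F : Type) (_ : Field F) (_ : Fintype F) (p : ℕ) (_ : Fact p.Prime) (_ : CharP F p), Fintype.card F = Nat.card M ∧ Cfsg.IsElementaryAbelian p M ∧
        (Nonempty (G ≃* (GL (Fin 2) F ⧸ Subgroup.center (GL (Fin 2) F))) ∨
         (Fintype.card F % 4 = 1 ∧ Nonempty (G ≃* Matrix.ProjectiveSpecialLinearGroup (Fin 2) F)))) ∨
    (∃ (F : Type) (_ : Field F) (_ : Fintype F) (e : ℕ), 1 < e ∧ Fintype.card F = 2 ^ e ∧ IsCyclic ↥M ∧ Nat.card M = 2 ^ e + 1 ∧
        Nonempty (G ≃* Matrix.ProjectiveSpecialLinearGroup (Fin 2) F)) ∨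
    (∃ (d : ℕ) (E : Subgroup G), 1 ≤ d ∧ E.Normal ∧ Cfsg.IsElementaryAbelian 2 E ∧ Nat.card E = 2 ^ (2 * d) ∧
        E ⊓ Subgroup.normalizer (M : Set G) = ⊥ ∧ E ⊔ Subgroup.normalizer (M : Set G) = ⊤ ∧
        Nonempty (↥(Subgroup.normalizer (M : Set G)) ≃* DihedralGroup (2 ^ d + 1))) := by
  classical
  have H : Cfsg.Agent.Lib.TIInv.Hyp M z := hyp_of M hM1 hTI z hz hzN hfac hodd
  by_cases hnorm : M.Normal
  · exact Or.inl hnorm
  by_cases hidx : Nat.card {g : G // orderOf g = 2} ≤ M.index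
  · exact Or.inr (Or.inl hidx)
  have S : Cfsg.Agent.Lib.TIInv.Star M := Cfsg.Agent.Lib.TIInv.star_of_card H (not_le.mp hidx)
  have hN0 : Subgroup.normalizer (M : Set G) ≠ ⊤ := by
    intro h
    exact hnorm (Subgroup.normalizer_eq_top_iff.mp h)
  have hm1 : 1 < Nat.card M := by
    have h1 : Nontrivial M := (Subgroup.nontrivial_iff_ne_bot M).mpr hM1
    exact Finite.one_lt_card_iff_nontrivial.mpr h1
  by_cases hc : ∃ c ∈ Subgroup.normalizer (M : Set G), c * z = z * c ∧ c ≠ 1 ∧ c ≠ z
  · -- the branch with large `C₀`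
    have hB : ∀ h k, h * z = z * h → h ∉ Subgroup.normalizer (M : Set G) → k * z = z * k →
        k ∉ Subgroup.normalizer (M : Set G) → h * k ∈ Subgroup.normalizer (M : Set G) := by
      rcases Cfsg.Agent.Lib.TIInv.branch H S with hC | hB
      · exfalso
        obtain ⟨c, h1, h2, h3, h4⟩ := hc
        rcases hC c h1 h2 with h5 | h5
        · exact h3 h5
        · exact h4 h5
      · exact hB
    exact Or.inr (Or.inr (Or.inl (Cfsg.Agent.Lib.TIInv.caseB H S hB hN0 hc)))
  · have hC : ∀ c ∈ Subgroup.normalizer (M : Set G), c * z = z * c → c = 1 ∨ c = z := by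
      intro c h1 h2
      by_contra h3
      push Not at h3
      exact hc ⟨c, h1, h2, h3.1, h3.2⟩
    obtain ⟨d, hd, hq, hm, hG, hY, hI⟩ := Cfsg.Agent.Lib.TIInv.A_cases H S hC hN0 hm1
    rcases hm with hm | hm
    · obtain ⟨E, h1, h2, h3, h4, h5, h6⟩ := Cfsg.Agent.Lib.TIInv.caseA1 H hC S hd hq hm hG hI
      exact Or.inr (Or.inr (Or.inr (Or.inr ⟨d, E, hd, h1, h2, h3, h4, h5, h6⟩)))
    · exact Or.inr (Or.inr (Or.inr (Or.inl (Cfsg.Agent.Lib.TIInv.caseA2 H S hC hd hq hm hG hI))))

end Cfsg.Agent.S3043
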