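import Cfsg.Statements.S3060
import Cfsg.Agent.Lib.PLocal.ZJ
import Cfsg.Agent.Lib.PGroups.DStar
import Cfsg.Agent.Lib.HSubgroup.Basic

set_option autoImplicit false
open Cfsg

namespace Cfsg.Agent.S3060

open Subgroup Cfsg Cfsg.Agent.Lib.Core.Basic Cfsg.Agent.Lib.PLocal.ZJ Cfsg.Agent.Lib.PLocal.AlperinG
open scoped commutatorElement

section
variable {G : Type*} [Group G]

/-- The family in `G`-language. -/
def Fam (X A : Subgroup G) : Prop :=
  A ≤ X ∧ IsMulCommutative A ∧ ∀ x ∈ X, ⁅⁅A ⊔ zpowers x, A ⊔ zpowers x⁆, A ⊔ zpowers x⁆ = ⊥ →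
    ∀ a ∈ A, a * x = x * a

theorem fam_of_mem {X : Subgroup G} {A' : Subgroup X} (h : A' ∈ dStarFamily X) :
    Fam X (A'.map X.subtype) := by
  refine ⟨Subgroup.map_subtype_le _, ?_, ?_⟩
  · refine ⟨⟨?_⟩⟩
    rintro ⟨_, a, ha, rfl⟩ ⟨_, b, hb, rfl⟩
    apply Subtype.ext
    show (a : G) * b = b * a
    have := Cfsg.Agent.Lib.PGroups.DStar.comm_of h.1 ha hb
    exact congrArg Subtype.val this
  · rintro x hx hcl _ ⟨a, ha, rfl⟩
    have h1 : (A' ⊔ zpowers (⟨x, hx⟩ : X)).map X.subtype = A'.map X.subtype ⊔ zpowers x := by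
      rw [Subgroup.map_sup, MonoidHom.map_zpowers]
      rfl
    have h2 : ⁅⁅A' ⊔ zpowers (⟨x, hx⟩ : X), A' ⊔ zpowers (⟨x, hx⟩ : X)⁆, A' ⊔ zpowers (⟨x, hx⟩ : X)⁆ = ⊥ := by
      apply (Subgroup.map_eq_bot_iff_of_injective _ X.subtype_injective).mp
      rw [Subgroup.map_commutator, Subgroup.map_commutator, h1]
      exact hcl
    have h3 := h.2 _ h2 a ha
    exact congrArg Subtype.val h3

theorem mem_of_fam {X A : Subgroup G} (h : Fam X A) : A.subgroupOf X ∈ dStarFamily X := by
  have hmap : (A.subgroupOf X).map X.subtype = A := by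
    rw [subgroupOf_map_subtype, inf_of_le_left h.1]
  refine ⟨?_, ?_⟩
  · refine ⟨⟨?_⟩⟩
    rintro ⟨a, ha⟩ ⟨b, hb⟩
    apply Subtype.ext
    apply Subtype.ext
    have := Cfsg.Agent.Lib.PGroups.DStar.comm_of h.2.1 (mem_subgroupOf.1 ha) (mem_subgroupOf.1 hb)
    exact this
  · intro x hcl a ha
    have h1 : (A.subgroupOf X ⊔ zpowers x).map X.subtype = A ⊔ zpowers (x : G) := by
      rw [Subgroup.map_sup, MonoidHom.map_zpowers, hmap]
      rfl
    have h2 : ⁅⁅A ⊔ zpowers (x : G), A ⊔ zpowers (x : G)⁆, A ⊔ zpowers (x : G)⁆ = ⊥ := by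
      rw [← h1, ← Subgroup.map_commutator, ← Subgroup.map_commutator, hcl, Subgroup.map_bot]
    have h3 := h.2.2 x x.2 h2 a (mem_subgroupOf.1 ha)
    apply Subtype.ext
    exact h3

theorem le_dStarOf {X A : Subgroup G} (h : Fam X A) : A ≤ dStarOf X := by
  have hmap : (A.subgroupOf X).map X.subtype = A := by
    rw [subgroupOf_map_subtype, inf_of_le_left h.1]
  rw [← hmap]
  exact Subgroup.map_mono (le_sSup (mem_of_fam h))

theorem dStarOf_fam {p : ℕ} [Fact p.Prime] [Finite G] {X : Subgroup G} (hX : IsPGroup p X) :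
    Fam X (dStarOf X) :=
  fam_of_mem (Cfsg.Agent.Lib.PGroups.DStar.dStar_mem_family hX)

theorem fam_mono {X Y A : Subgroup G} (hXY : X ≤ Y) (h : Fam Y A) (hA : A ≤ X) : Fam X A :=
  ⟨hA, h.2.1, fun x hx hcl a ha => h.2.2 x (hXY hx) hcl a ha⟩

theorem fam_conj {X A : Subgroup G} (h : Fam X A) {n : G} (hn : n ∈ normalizer (X : Set G)) :
    Fam X (A.map (MulAut.conj n).toMonoidHom) := by
  refine ⟨?_, ?_, ?_⟩
  · rintro _ ⟨a, ha, rfl⟩
    exact (mem_normalizer_iff.1 hn a).1 (h.1 ha)
  · refine ⟨⟨?_⟩⟩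
    rintro ⟨_, a, ha, rfl⟩ ⟨_, b, hb, rfl⟩
    apply Subtype.ext
    show n * a * n⁻¹ * (n * b * n⁻¹) = n * b * n⁻¹ * (n * a * n⁻¹)
    have := Cfsg.Agent.Lib.PGroups.DStar.comm_of h.2.1 ha hb
    calc n * a * n⁻¹ * (n * b * n⁻¹) = n * (a * b) * n⁻¹ := by group
      _ = n * (b * a) * n⁻¹ := by rw [this]
      _ = _ := by group
  · rintro x hx hcl _ ⟨a, ha, rfl⟩
    set x' : G := n⁻¹ * x * n with hx'
    have hx'X : x' ∈ X := by
      have h1 := (mem_normalizer_iff.1 (inv_mem hn) x).1 hx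
      simpa [hx'] using h1
    have hcx : (MulAut.conj n).toMonoidHom x' = x := by
      simp [hx', MulAut.conj_apply, mul_assoc]
    have h1 : (A ⊔ zpowers x').map (MulAut.conj n).toMonoidHom
        = A.map (MulAut.conj n).toMonoidHom ⊔ zpowers x := by
      rw [Subgroup.map_sup, MonoidHom.map_zpowers, hcx]
    have h2 : ⁅⁅A ⊔ zpowers x', A ⊔ zpowers x'⁆, A ⊔ zpowers x'⁆ = ⊥ := by
      apply (Subgroup.map_eq_bot_iff_of_injective _
        (show Function.Injective (MulAut.conj n).toMonoidHom from (MulAut.conj n).injective)).mp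
      rw [Subgroup.map_commutator, Subgroup.map_commutator, h1]
      exact hcl
    have h3 := h.2.2 x' hx'X h2 a ha
    show n * a * n⁻¹ * x = x * (n * a * n⁻¹)
    calc n * a * n⁻¹ * x = n * (a * x') * n⁻¹ := by rw [hx']; group
      _ = n * (x' * a) * n⁻¹ := by rw [h3]
      _ = _ := by rw [hx']; group

theorem dStarOf_conj {p : ℕ} [Fact p.Prime] [Finite G] {X : Subgroup G} (hX : IsPGroup p X)
    {n : G} (hn : n ∈ normalizer (X : Set G)) {e : G} (he : e ∈ dStarOf X) :
    n * e * n⁻¹ ∈ dStarOf X :=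
  le_dStarOf (fam_conj (dStarOf_fam hX) hn) ⟨e, he, rfl⟩

variable [Finite G] {p : ℕ} [Fact p.Prime]

/-- The D*-theorem; in fact no assumption on `p` is needed. -/
theorem dstar_main
    (hc : centralizer (pCore p G : Set G) ≤ pCore p G)
    (hst : ∀ (P : Subgroup G) [P.Normal], IsPGroup p P → IsPStableOn p P) (S : Sylow p G) :
    (dStarOf (S : Subgroup G)).Normal := by
  classical
  set Dd : Subgroup G := dStarOf (S : Subgroup G) with hDd
  set N : Subgroup G := Dd.normalCore with hN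
  have hNZ : N ≤ Dd := normalCore_le _
  have hNn : N.Normal := normalCore_normal _
  have hDfam : Fam (S : Subgroup G) Dd := dStarOf_fam S.isPGroup'
  have hDS : Dd ≤ S := hDfam.1
  have hNS : N ≤ S := hNZ.trans hDS
  by_contra hnormal
  have hNlt : N < Dd := by
    refine lt_of_le_of_ne hNZ ?_
    intro heq
    apply hnormal
    rw [← heq]
    exact normalCore_normal _
  have hSZ : (S : Subgroup G) ≤ normalizer (Dd : Set G) := by
    intro s hs
    exact Cfsg.Agent.Lib.HSubgroup.Basic.mem_normalizer_of_conj_le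
      (fun x hx => dStarOf_conj S.isPGroup' (le_normalizer hs) hx)
  obtain ⟨y, hyZ, hyN, hyK⟩ := exists_central_mod (p := p) (S : Subgroup G) S.isPGroup' N Dd hSZ hDS hNlt
  have hyS : y ∈ (S : Subgroup G) := hDS hyZ
  set Q : Subgroup G := pCore p G with hQ
  have hQS : Q ≤ (S : Subgroup G) := pCore_le_sylow S
  have hyKQ : y ∈ sectionKernel Q N := by
    rw [mem_sectionKernel_iff] at hyK ⊢
    exact fun x hx => hyK x (hQS hx)
  have hDcomm : ∀ {u v : G}, u ∈ Dd → v ∈ Dd → u * v = v * u := fun hu hv =>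
    Cfsg.Agent.Lib.PGroups.DStar.comm_of hDfam.2.1 hu hv
  -- `y ∈ Q`
  have hyQ : y ∈ Q := by
    have h0 : ⁅⁅Q, zpowers y⁆, zpowers y⁆ = ⊥ := by
      have h1 : ⁅Q, zpowers y⁆ ≤ N := by
        rw [commutator_le]
        intro q hq t ht
        have htK : t ∈ sectionKernel Q N := (zpowers_le.2 hyKQ) ht
        rw [mem_sectionKernel_iff] at htK
        rw [← commutatorElement_inv]
        exact inv_mem (htK q hq)
      rw [eq_bot_iff, commutator_le]
      intro x hx t ht
      obtain ⟨k, rfl⟩ := mem_zpowers_iff.1 ht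
      rw [mem_bot, commutatorElement_eq_one_iff_mul_comm]
      exact ((show Commute x y from hDcomm (hNZ (h1 hx)) hyZ).zpow_right k).eq
    have h1 := hst Q (pCore_isPGroup) y h0
    let K : Subgroup G := (pCore p (G ⧸ centralizer (Q : Set G))).comap
      (QuotientGroup.mk' (centralizer (Q : Set G)))
    have hK : K.Normal := Subgroup.Normal.comap inferInstance _
    have hKp : IsPGroup p K := by
      rintro ⟨x, hx⟩
      obtain ⟨n, hn⟩ := (pCore_isPGroup : IsPGroup p (pCore p (G ⧸ centralizer (Q : Set G)))) ⟨_, hx⟩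
      have h2 : (QuotientGroup.mk' (centralizer (Q : Set G)) x) ^ p ^ n = 1 := congrArg Subtype.val hn
      rw [← map_pow, QuotientGroup.mk'_apply, QuotientGroup.eq_one_iff] at h2
      have h3 : x ^ p ^ n ∈ Q := hc h2
      obtain ⟨m, hm⟩ := (pCore_isPGroup : IsPGroup p Q) ⟨_, h3⟩
      have h4 : (x ^ p ^ n) ^ p ^ m = 1 := congrArg Subtype.val hm
      refine ⟨n + m, ?_⟩
      apply Subtype.ext
      show x ^ p ^ (n + m) = 1
      rw [pow_add, pow_mul]
      exact h4
    exact (le_pCore hK hKp) h1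
  -- the subgroup `R`
  have hNQ : N ≤ Q := le_pCore (normalCore_normal _) (S.isPGroup'.to_le hNS)
  set R : Subgroup G := normalClosure ((N : Set G) ∪ {y}) with hR
  have hRn : R.Normal := normalClosure_normal
  have hRQ : R ≤ Q := by
    apply normalClosure_le_normal
    rintro x (hx | hx)
    · exact hNQ hx
    · rw [Set.mem_singleton_iff] at hx
      rw [hx]
      exact hyQ
  have hRS : R ≤ (S : Subgroup G) := hRQ.trans hQS
  have hyR : y ∈ R := subset_normalClosure (Or.inr rfl)
  have hRp : IsPGroup p R := (pCore_isPGroup : IsPGroup p Q).to_le hRQ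
  have hstR := hst R hRp
  set C : Subgroup G := centralizer (R : Set G) with hC
  have hCn : C.Normal := normal_centralizer
  let K : Subgroup G := (pCore p (G ⧸ C)).comap (QuotientGroup.mk' C)
  have hKn : K.Normal := Subgroup.Normal.comap inferInstance _
  have hDK : Dd ≤ K := by
    intro a ha
    exact hstR a (commutator_zpowers_eq_bot hDfam.2.1 (hRS.trans hSZ) ha)
  set T : Subgroup G := (S : Subgroup G) ⊓ K with hT
  have hTp : IsPGroup p T := S.isPGroup'.to_le inf_le_left
  have hDT : Fam T Dd := fam_mono inf_le_left hDfam (le_inf hDS hDK)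
  set E : Subgroup G := dStarOf T with hE
  have hEfam : Fam T E := dStarOf_fam hTp
  have hDE : Dd ≤ E := le_dStarOf hDT
  -- factorization
  have hfactor : ∀ g : G, ∃ c ∈ C, ∃ n ∈ normalizer (T : Set G), g = c * n := by
    intro g
    obtain ⟨k, hk, m, hm, rfl⟩ := exists_frattini_normal S K g
    obtain ⟨c, hc', t, ht, rfl, htK⟩ := exists_mul_of_mem_comap_pCore S C hk
    have htT : t ∈ T := ⟨ht, htK⟩
    exact ⟨c, hc', t * m, mul_mem (le_normalizer htT) hm, by rw [mul_assoc]⟩
  have hconj : ∀ g : G, g * y * g⁻¹ ∈ E := by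
    intro g
    obtain ⟨c, hc', n, hn, hgi⟩ := hfactor g⁻¹
    have hg : g = n⁻¹ * c⁻¹ := by
      have : g = (g⁻¹)⁻¹ := by group
      rw [this, hgi]
      group
    have hcy : c⁻¹ * y * c = y := by
      have := mem_centralizer_iff.1 hc' y hyR
      rw [mul_assoc, this]
      group
    have e2 : g * y * g⁻¹ = n⁻¹ * y * n⁻¹⁻¹ := by
      rw [hg]
      calc n⁻¹ * c⁻¹ * y * (n⁻¹ * c⁻¹)⁻¹ = n⁻¹ * (c⁻¹ * y * c) * n := by group
        _ = _ := by rw [hcy, inv_inv]
    rw [e2]
    exact dStarOf_conj hTp (inv_mem hn) (hDE hyZ)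
  have hRE : R ≤ E := by
    rw [hR, normalClosure, closure_le]
    intro x hx
    obtain ⟨s, hs, hsx⟩ := Group.mem_conjugatesOfSet_iff.1 hx
    obtain ⟨g, rfl⟩ := isConj_iff.1 hsx
    rcases hs with hs | hs
    · exact hDE (hNZ (hNn.conj_mem s hs g))
    · rw [Set.mem_singleton_iff] at hs
      rw [hs]
      exact hconj g
  have hES : Fam (S : Subgroup G) E := by
    refine ⟨hEfam.1.trans inf_le_left, hEfam.2.1, ?_⟩
    intro x hx hcl a ha
    have hR2 : ⁅⁅R, zpowers x⁆, zpowers x⁆ = ⊥ := by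
      rw [eq_bot_iff, ← hcl]
      exact Subgroup.commutator_mono (Subgroup.commutator_mono (hRE.trans le_sup_left) le_sup_right) le_sup_right
    have hxK : x ∈ K := hstR x hR2
    exact hEfam.2.2 x ⟨hx, hxK⟩ hcl a ha
  have hED : E ≤ Dd := le_dStarOf hES
  exact hyN (normal_le_normalCore.2 (hRE.trans hED) hyR)

end

/-- The D*-Theorem. For a finite p-group S let D*(S) be the subgroup generated by the abelian subgroups A of S such that every x ∈ S with ⟨A, x⟩ of nilpotency class at most two centralizes A. Let p be an odd prime and H a finite p-stable group with Sylow p-subgroup S. Here H is p-stable in the following sense: the largest normal p-subgroup O_p(H) contains its centralizer in H, and for every normal p-subgroup P of H, every element acting quadratically on P has image in O_p(H/C_H(P)). Then D*(S) is a normal subgroup of H. -/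
theorem result {G : Type*} [Group G] [Finite G] {p : ℕ} [Fact p.Prime] (hp : p ≠ 2)
    (hc : Subgroup.centralizer (Cfsg.pCore p G : Set G) ≤ Cfsg.pCore p G)
    (hst : ∀ (P : Subgroup G) [P.Normal], IsPGroup p P → Cfsg.IsPStableOn p P) (S : Sylow p G) :
    (Cfsg.dStarOf (S : Subgroup G)).Normal := by
  exact dstar_main hc hst S

end Cfsg.Agent.S3060
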