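import Cfsg.Statements.S3070
import Cfsg.Agent.Lib.Transfer.JMain
import Cfsg.Agent.Lib.Transfer.Cor3

set_option autoImplicit false
open Cfsg
open scoped commutatorElement

namespace Cfsg.Agent.S3070

/-- Let p ≥ 5 be a prime, S a Sylow p-subgroup of the finite group G and J(S) the subgroup generated by the abelian subgroups of S of largest order. Then G has a normal p-complement if and only if N_G(J(S))/C_G(J(S)) is a p-group (every element of N_G(J(S)) of order prime to p centralizes J(S)). -/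
theorem result {G : Type*} [Group G] [Finite G] {p : ℕ} [Fact p.Prime]
    (hp : 5 ≤ p) (S : Sylow p G) :
    Cfsg.HasNormalPComplement p G ↔
      ∀ g ∈ Subgroup.normalizer (Cfsg.thompsonSubgroupAOf (S : Subgroup G) : Set G), (orderOf g).Coprime p →
        g ∈ Subgroup.centralizer (Cfsg.thompsonSubgroupAOf (S : Subgroup G) : Set G) := by
  classical
  have hJ : thompsonSubgroupAOf (S : Subgroup G) = Cfsg.Agent.Lib.PLocal.Thompson.jOf 0 (S : Subgroup G) :=
    Cfsg.Agent.Lib.PLocal.Thompson.thompsonSubgroupAOf_eq _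
  rw [hJ]
  set J := Cfsg.Agent.Lib.PLocal.Thompson.jOf 0 (S : Subgroup G) with hJdef
  have hJS : J ≤ (S : Subgroup G) := Cfsg.Agent.Lib.PLocal.Thompson.jOf_le 0 _
  constructor
  · intro h g hg hgc
    obtain ⟨R, hRn, hRc, hRq⟩ := Cfsg.Agent.Lib.Transfer.Basic.hasNormalPComplement_iff_exists.1 h
    obtain ⟨k, hk⟩ := hRq (QuotientGroup.mk' R g)
    rw [← map_pow, QuotientGroup.mk'_apply, QuotientGroup.eq_one_iff] at hk
    have hgR : g ∈ R := Cfsg.Agent.Lib.PLocal.ThompsonComplement.mem_of_pow_mem_of_coprime hgc hk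
    rw [Subgroup.mem_centralizer_iff]
    intro j hj
    have h1 : ⁅g, j⁆ ∈ J := by
      rw [commutatorElement_def]
      exact mul_mem ((Subgroup.mem_normalizer_iff.1 hg j).1 hj) (inv_mem hj)
    have h2 : ⁅g, j⁆ ∈ R := by
      have e : ⁅g, j⁆ = g * (j * g⁻¹ * j⁻¹) := by
        rw [commutatorElement_def]
        group
      rw [e]
      exact mul_mem hgR (hRn.conj_mem _ (inv_mem hgR) j)
    obtain ⟨m, hm⟩ := S.isPGroup' ⟨_, hJS h1⟩
    have h3 : ⁅g, j⁆ ^ p ^ m = 1 := congrArg Subtype.val hm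
    have h4 := Cfsg.Agent.Lib.PLocal.ThompsonReduction.eq_one_of_mem_of_coprime hRc h2 h3
    exact (commutatorElement_eq_one_iff_mul_comm.1 h4).symm
  · intro h
    refine Cfsg.Agent.Lib.Transfer.JMain.pc_of_normalizer_j hp S ?_
    refine Cfsg.Agent.Lib.Transfer.Cor3.hasNormalPComplement_normalizer_of_selfCentralizing S J hJS
      (Subgroup.le_normalizer.trans ((Cfsg.Agent.Lib.PLocal.ThompsonFunctor.pFunctor_jOf (e := 0) (p := p)
        (Or.inl rfl)).normalizer_le _ S.isPGroup')) ?_ h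
    rintro t ⟨htS, htC⟩
    obtain ⟨A, hA⟩ := Cfsg.Agent.Lib.PLocal.Thompson.exists_isMaxIn 0 (S : Subgroup G)
    exact hA.le_jOf (Cfsg.Agent.Lib.PLocal.Thompson.mem_all_of_centralizer htS (by simp) htC hA)

end Cfsg.Agent.S3070
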