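import Cfsg.Statements.S3071
import Cfsg.Agent.Lib.ConjFam.StrongCtlOn
import Cfsg.Agent.Lib.ZJ.QdControl
import Cfsg.Agent.Lib.PLocal.AlperinG
import Cfsg.Agent.Lib.ZJStrong.LocalControl

set_option autoImplicit false
open Cfsg

namespace Cfsg.Agent.S3071

universe u

section helpers

open Cfsg.Agent.Lib.ZJ.QdSection Cfsg.Agent.Lib.ZJ.QdControl Cfsg.Agent.Lib.ConjFam.StrongCtlOn
  Cfsg.Agent.Lib.ConjFam.StrongCtl Cfsg.Agent.Lib.ConjFam.Basic Cfsg.Agent.Lib.PLocal.Alperin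
  Cfsg.Agent.Lib.PLocal.AlperinG Cfsg.Agent.Lib.ZJ.Main

variable {p : ℕ} [hpf : Fact p.Prime]

/-- The upper left block. -/
def bl (M : qd p) : Matrix (Fin 2) (Fin 2) (ZMod p) := !![mat M 0 0, mat M 0 1; mat M 1 0, mat M 1 1]

lemma bl_det (M : qd p) : (bl M).det = 1 := by
  obtain ⟨h1, h2, h3⟩ := (mem_qd_iff _).1 M.2
  have hdet := (M : Matrix.SpecialLinearGroup (Fin 3) (ZMod p)).2
  rw [Matrix.det_fin_three, h1, h2, h3] at hdet
  rw [bl, Matrix.det_fin_two_of]
  linear_combination hdet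

lemma bl_mul (M N : qd p) : bl (M * N) = bl M * bl N := by
  obtain ⟨h1, h2, h3⟩ := (mem_qd_iff _).1 N.2
  have e0 : ∀ i, mat (M * N) i 0 = mat M i 0 * mat N 0 0 + mat M i 1 * mat N 1 0 := by
    intro i
    rw [mat_mul, Matrix.mul_apply, Fin.sum_univ_three]
    have h1' : mat N 2 0 = 0 := h1
    rw [h1', mul_zero, add_zero]
  have e1 : ∀ i, mat (M * N) i 1 = mat M i 0 * mat N 0 1 + mat M i 1 * mat N 1 1 := by
    intro i
    rw [mat_mul, Matrix.mul_apply, Fin.sum_univ_three]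
    have h2' : mat N 2 1 = 0 := h2
    rw [h2', mul_zero, add_zero]
  ext i j
  fin_cases i <;> fin_cases j <;>
    simp [bl, Matrix.mul_apply, Fin.sum_univ_two, e0, e1]

/-- The projection of `qd p` onto `SL₂(p)`. -/
def toSL2 : qd p →* Matrix.SpecialLinearGroup (Fin 2) (ZMod p) where
  toFun M := ⟨bl M, bl_det M⟩
  map_one' := by
    apply Subtype.ext
    ext i j
    fin_cases i <;> fin_cases j <;> simp [bl, mat]
  map_mul' := by
    intro M N
    exact Subtype.ext (bl_mul M N)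

lemma toSL2_surjective : Function.Surjective (toSL2 (p := p)) := by
  intro A
  refine ⟨blk A, ?_⟩
  apply Subtype.ext
  change bl (blk A) = _
  rw [bl, mat_blkHom]
  ext i j
  fin_cases i <;> fin_cases j <;> simp

lemma not_involves_of_free {G : Type u} [Group G] (N : Subgroup G)
    (hfree : ¬ ∃ (H K : Subgroup G) (hK : (K.subgroupOf H).Normal), H ≤ N ∧
        Nonempty ((H ⧸ K.subgroupOf H) ≃* Matrix.SpecialLinearGroup (Fin 2) (ZMod p))) :
    ¬ Involves (qd p) ↥N := by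
  intro h
  obtain ⟨K₀, f, hf⟩ := involves_iff.1 h
  let H : Subgroup G := K₀.map N.subtype
  let φ : K₀ ≃* H := K₀.equivMapOfInjective N.subtype N.subtype_injective
  let h₂ : H →* Matrix.SpecialLinearGroup (Fin 2) (ZMod p) :=
    (toSL2.comp f).comp φ.symm.toMonoidHom
  have hs : Function.Surjective h₂ :=
    (toSL2_surjective.comp hf).comp φ.symm.surjective
  have hR : (h₂.ker.map H.subtype).subgroupOf H = h₂.ker := by
    rw [Subgroup.subgroupOf, Subgroup.comap_map_eq_self_of_injective H.subtype_injective]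
  have hN : ((h₂.ker.map H.subtype).subgroupOf H).Normal := by rw [hR]; infer_instance
  refine hfree ⟨H, h₂.ker.map H.subtype, hN, Subgroup.map_subtype_le _, ⟨?_⟩⟩
  exact (QuotientGroup.quotientMulEquivOfEq hR).trans (QuotientGroup.quotientKerEquivOfSurjective h₂ hs)

lemma not_involves_conj {G : Type u} [Group G] (A : Subgroup G) (z : G)
    (h : ¬ Involves (qd p) ↥(Subgroup.normalizer (A : Set G))) :
    ¬ Involves (qd p) ↥(Subgroup.normalizer ((cj z A : Subgroup G) : Set G)) := by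
  intro h'
  rw [← cj_normalizer] at h'
  exact h (involves_of_surjective h' _
    ((MulAut.conj z).toMonoidHom.subgroupMap_surjective (Subgroup.normalizer (A : Set G))))

/-- A central element lies in `Z(J(R))`. -/
lemma mem_WZJ_of_central {G : Type u} [Group G] [Finite G] (R : Subgroup G) {z : G} (hz : z ∈ R)
    (hc : ∀ s ∈ R, s * z = z * s) : z ∈ Wf WZJ R := by
  rw [Wf_WZJ, Cfsg.Agent.Lib.PLocal.Thompson.centerThompsonAOf_eq, ← Cfsg.Agent.Lib.PLocal.ZJ.Z₀_zero_eq,
    Cfsg.Agent.Lib.PLocal.ZJ.Z₀, Subgroup.mem_sInf]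
  intro A hA
  exact hA.mem_of_commute hz (pow_zero z) (fun a ha => hc a (hA.1 ha))

/-- A good subgroup contains the centre of the Sylow subgroup. -/
lemma center_le_of_good {G : Type u} [Group G] [Finite G] {P : Sylow p G} {D : Subgroup G} (h : Good P D) :
    (P : Subgroup G) ⊓ Subgroup.centralizer ((P : Subgroup G) : Set G) ≤ D := by
  classical
  rintro z ⟨hzP, hzC⟩
  have hzD : z ∈ Subgroup.centralizer (D : Set G) :=
    Subgroup.mem_centralizer_iff.2 fun d hd => Subgroup.mem_centralizer_iff.1 hzC d (h.le hd)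
  have hz2 := h.cent hzD
  obtain ⟨h1, h2, h3, h4, h5⟩ := h.dir
  rw [← h5] at hz2
  set K := (pPrimeCore p ↥(Subgroup.normalizer (D : Set G))).map (Subgroup.normalizer (D : Set G)).subtype with hK
  have hdec : ∃ k ∈ K, ∃ d ∈ D, z = k * d := by
    clear hzP hzC hzD
    rw [Subgroup.sup_eq_closure] at hz2
    induction hz2 using Subgroup.closure_induction with
    | mem x hx =>
      rcases hx with hx | hx
      · exact ⟨x, hx, 1, D.one_mem, by simp⟩
      · exact ⟨1, K.one_mem, x, hx, by simp⟩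
    | one => exact ⟨1, K.one_mem, 1, D.one_mem, by simp⟩
    | mul x y _ _ hx hy =>
      obtain ⟨k₁, hk₁, d₁, hd₁, rfl⟩ := hx
      obtain ⟨k₂, hk₂, d₂, hd₂, rfl⟩ := hy
      refine ⟨k₁ * k₂, K.mul_mem hk₁ hk₂, d₁ * d₂, D.mul_mem hd₁ hd₂, ?_⟩
      calc k₁ * d₁ * (k₂ * d₂) = k₁ * (d₁ * k₂) * d₂ := by group
        _ = k₁ * (k₂ * d₁) * d₂ := by rw [h3 k₂ hk₂ d₁ hd₁]
        _ = _ := by group
    | inv x _ hx =>
      obtain ⟨k, hk, d, hd, rfl⟩ := hx
      refine ⟨k⁻¹, K.inv_mem hk, d⁻¹, D.inv_mem hd, ?_⟩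
      rw [mul_inv_rev]
      have := h3 k⁻¹ (K.inv_mem hk) d⁻¹ (D.inv_mem hd)
      exact this.symm
  obtain ⟨k, hk, d, hd, rfl⟩ := hdec
  have hkP : k ∈ (P : Subgroup G) := by
    have : k = (k * d) * d⁻¹ := by group
    rw [this]
    exact Subgroup.mul_mem _ hzP (Subgroup.inv_mem _ (h.le hd))
  obtain ⟨k', hk', rfl⟩ := hk
  obtain ⟨n, hn⟩ := P.isPGroup' ⟨_, hkP⟩
  have hn' : ((k' : ↥(Subgroup.normalizer (D : Set G))) : G) ^ p ^ n = 1 := congrArg Subtype.val hn
  have h6 : k' ^ p ^ n = 1 := Subtype.ext hn'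
  have h7 := orderOf_dvd_of_pow_eq_one h6
  have h8 : orderOf k' ∣ Nat.card (pPrimeCore p ↥(Subgroup.normalizer (D : Set G))) :=
    Subgroup.orderOf_dvd_natCard _ hk'
  have h9 := Nat.eq_one_of_dvd_coprimes
    ((Cfsg.Agent.Lib.Core.Basic.pPrimeCore_coprime (p := p)).pow_right n) h8 h7
  have h10 : k' = 1 := orderOf_eq_one_iff.1 h9
  rw [h10]
  simpa using hd

/-- Control of strong fusion on subgroups containing `Z(S)`. -/
theorem control_on {G : Type u} [Group G] [Finite G] (hp : p ≠ 2) (S : Sylow p G)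
    (hfree : ∀ P : Subgroup G, (S : Subgroup G) ⊓ Subgroup.centralizer ((S : Subgroup G) : Set G) ≤ P →
      P ≤ S → ¬ ∃ (H K : Subgroup G) (hK : (K.subgroupOf H).Normal), H ≤ Subgroup.normalizer (P : Set G) ∧
        Nonempty ((H ⧸ K.subgroupOf H) ≃* Matrix.SpecialLinearGroup (Fin 2) (ZMod p)))
    (Q : Subgroup G) (hQ1 : (S : Subgroup G) ⊓ Subgroup.centralizer ((S : Subgroup G) : Set G) ≤ Q)
    (hQ2 : Q ≤ S) (g : G) (hg : cj g Q ≤ S) :
    ∃ n ∈ Subgroup.normalizer (centerThompsonAOf (S : Subgroup G) : Set G),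
      ∀ a ∈ Q, n * a * n⁻¹ = g * a * g⁻¹ := by
  classical
  have hW : IsConjugacyFunctor p (inducedFunctor (G := G) WZJ) :=
    Cfsg.Agent.Lib.TransferCtl.Basic.inducedFunctor_isConjugacyFunctor isCharP_WZJ
  set Z : Subgroup G := (S : Subgroup G) ⊓ Subgroup.centralizer ((S : Subgroup G) : Set G) with hZ
  let 𝒜 : Set (Subgroup G) := {A | Z ≤ A}
  let 𝓣 : Set (Subgroup G) := {T | T ≠ ⊥ ∧ T ≤ (S : Subgroup G) ∧
    (¬ p ∣ ((S : Subgroup G) ⊓ Subgroup.normalizer (T : Set G)).relIndex (Subgroup.normalizer (T : Set G))) ∧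
    ∃ (A : Subgroup G) (z : G), Z ≤ A ∧ A ≤ (S : Subgroup G) ∧ T = cj z A}
  have hmain := family_strong_local_global_on (S := S) (𝓦 := {inducedFunctor (G := G) WZJ})
    (by rintro _ rfl; exact hW) 𝒜 𝓣 (fun T hT => ⟨hT.1, hT.2.1, hT.2.2.1⟩) ?_ ?_ ?_ ?_ Q hQ1 hQ2 g hg
  · obtain ⟨n, hn, hna⟩ := exists_of_CCS hmain
    refine ⟨n, ?_, fun a ha => hna a ha⟩
    have e : inducedFunctor (G := G) WZJ (S : Subgroup G) = centerThompsonAOf (S : Subgroup G) :=
      Wf_WZJ _
    rwa [e] at hn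
  · intro Q' hQ'
    intro z hz
    refine ⟨hz.1, Subgroup.centralizer_le_normalizer _ ?_⟩
    exact Subgroup.mem_centralizer_iff.2 fun d hd => Subgroup.mem_centralizer_iff.1 hz.2 d (hQ' hd)
  · rintro _ rfl T _ z hz
    refine mem_WZJ_of_central _ ⟨hz.1, Subgroup.centralizer_le_normalizer _ ?_⟩ ?_
    · exact Subgroup.mem_centralizer_iff.2 fun d hd => Subgroup.mem_centralizer_iff.1 hz.2 d (‹T ∈ 𝓣›.2.1 hd)
    · intro s hs
      exact Subgroup.mem_centralizer_iff.1 hz.2 s hs.1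
  · intro A hA hAS hne
    obtain ⟨z, h1, h2, h3⟩ := exists_fully_normalized S A hAS
    refine ⟨z, ⟨?_, h1, h2, A, z, hA, hAS, rfl⟩, h3⟩
    intro hb
    apply hne
    rw [Subgroup.map_eq_bot_iff_of_injective _ (MulEquiv.injective _)] at hb
    exact hb
  · rintro T ⟨-, -, -, A, z, hA, hAS, rfl⟩
    rw [family_singleton_iff]
    set M : Subgroup G := Subgroup.normalizer ((cj z A : Subgroup G) : Set G) with hM
    have hinv : ¬ Involves (qd p) ↥M :=
      not_involves_conj A z (not_involves_of_free _ (hfree A hA hAS))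
    have hcsf : CSFg WZJ p ↥M := csf_of_not_involves hp hinv
    obtain ⟨S₁⟩ : Nonempty (Sylow p M) := inferInstance
    have hS := Cfsg.Agent.Lib.ZJStrong.LocalControl.sylowIn_map M S₁
    refine ⟨(S₁ : Subgroup M).map M.subtype, hS.le, hS.isP, ?_, ?_⟩
    · rw [Subgroup.relIndex]
      have h1 : ((S₁ : Subgroup M).map M.subtype).subgroupOf M = S₁ :=
        Subgroup.comap_map_eq_self_of_injective M.subtype_injective _
      rw [h1]
      exact S₁.not_dvd_index
    · intro B h hh hB hhB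
      have hcl : Subgroup.closure B ≤ (S₁ : Subgroup M).map M.subtype :=
        (Subgroup.closure_le _).2 hB
      have hcj : Cfsg.Agent.Lib.ZJ.Reduction.cj h (Subgroup.closure B) ≤ (S₁ : Subgroup M).map M.subtype := by
        rw [Cfsg.Agent.Lib.ZJ.Reduction.cj, MonoidHom.map_closure, Subgroup.closure_le]
        rintro _ ⟨a, ha, rfl⟩
        exact hhB ⟨a, ha, rfl⟩
      obtain ⟨n, hn, hna⟩ := good_of_csf isCharP_WZJ hS hcsf hcl hh hcj
      exact ⟨n, hn, fun a ha => hna a (Subgroup.subset_closure ha)⟩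

/-- Along a chain of good steps. -/
theorem chain_control {G : Type u} [Group G] [Finite G] (hp : p ≠ 2) (S : Sylow p G)
    (hfree : ∀ P : Subgroup G, (S : Subgroup G) ⊓ Subgroup.centralizer ((S : Subgroup G) : Set G) ≤ P →
      P ≤ S → ¬ ∃ (H K : Subgroup G) (hK : (K.subgroupOf H).Normal), H ≤ Subgroup.normalizer (P : Set G) ∧
        Nonempty ((H ⧸ K.subgroupOf H) ≃* Matrix.SpecialLinearGroup (Fin 2) (ZMod p)))
    (L : List (Subgroup G × G)) :
    ∀ A : Set G, ChainOK (StG S) DomG A L →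
      ∃ n ∈ Subgroup.normalizer (centerThompsonAOf (S : Subgroup G) : Set G),
        ∀ a ∈ A, n * a * n⁻¹ = ((L.map Prod.snd).prod)⁻¹ * a * (L.map Prod.snd).prod := by
  induction L with
  | nil =>
    intro A _
    exact ⟨1, Subgroup.one_mem _, fun a _ => by simp⟩
  | cons c L ih =>
    rintro A ⟨hst, hsub, hrest⟩
    obtain ⟨n', hn', hna⟩ := ih _ hrest
    have hinv : (c.2)⁻¹ ∈ Subgroup.normalizer (c.1 : Set G) := Subgroup.inv_mem _ hst.2
    obtain ⟨m, hm, hma⟩ := control_on hp S hfree c.1 (center_le_of_good hst.1) hst.1.le (c.2)⁻¹ (by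
      rw [mem_normalizer_iff_cj.1 hinv]
      exact hst.1.le)
    refine ⟨n' * m, Subgroup.mul_mem _ hn' hm, fun a ha => ?_⟩
    have h1 := hma a (hsub ha)
    have h2 := hna (c.2⁻¹ * a * c.2) ⟨a, ha, rfl⟩
    rw [inv_inv] at h1
    calc n' * m * a * (n' * m)⁻¹ = n' * (m * a * m⁻¹) * n'⁻¹ := by group
      _ = n' * (c.2⁻¹ * a * c.2) * n'⁻¹ := by rw [h1]
      _ = _ := by rw [h2]; simp only [List.map_cons, List.prod_cons]; group

end helpers


/-- Let p be an odd prime and S a Sylow p-subgroup of the finite group G such that, for every subgroup P with Z(S) ≤ P ≤ S, the normalizer N_G(P) has no section isomorphic to SL₂(p). Let J(S) be the subgroup generated by the abelian subgroups of S of largest order. Then two elements of S are conjugate in G if and only if they are conjugate in N_G(Z(J(S))). -/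
theorem result {G : Type*} [Group G] [Finite G] {p : ℕ} [Fact p.Prime]
    (hp : p ≠ 2) (S : Sylow p G)
    (hfree : ∀ P : Subgroup G, (S : Subgroup G) ⊓ Subgroup.centralizer ((S : Subgroup G) : Set G) ≤ P → P ≤ S →
      ¬ ∃ (H K : Subgroup G) (hK : (K.subgroupOf H).Normal), H ≤ Subgroup.normalizer (P : Set G) ∧
        Nonempty ((H ⧸ K.subgroupOf H) ≃* Matrix.SpecialLinearGroup (Fin 2) (ZMod p))) :
    ∀ x ∈ S, ∀ y ∈ S, (∃ g : G, g * x * g⁻¹ = y) ↔
      ∃ n ∈ Subgroup.normalizer (Cfsg.centerThompsonAOf (S : Subgroup G) : Set G), n * x * n⁻¹ = y := by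
  classical
  intro x hx y hy
  constructor
  · rintro ⟨g, rfl⟩
    have hA : ({x} : Set G) ⊆ ((S : Subgroup G) : Set G) := by
      rintro _ rfl
      exact hx
    have hAg : Cfsg.Agent.Lib.PLocal.Alperin.conjSet g⁻¹ ({x} : Set G) ⊆ ((S : Subgroup G) : Set G) := by
      rintro _ ⟨a, rfl, rfl⟩
      rw [inv_inv]
      exact hy
    obtain ⟨g', ⟨L, hL, rfl⟩, hgg⟩ := Cfsg.Agent.Lib.PLocal.AlperinG.gr_main (P := S) hA hAg
    obtain ⟨n, hn, hna⟩ := chain_control hp S hfree L _ hL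
    refine ⟨n, hn, ?_⟩
    rw [hna x rfl, ← hgg x rfl, inv_inv]
  · rintro ⟨n, -, h⟩
    exact ⟨n, h⟩

end Cfsg.Agent.S3071
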