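import Cfsg.Statements.S3073
import Cfsg.Agent.Lib.StrongSec.Thompson

set_option autoImplicit false
universe u
open Cfsg

namespace Cfsg.Agent.S3073

/-- For an odd prime p, every finite p-group S has a characteristic subgroup K with C_S(K) ≤ K such that, whenever S is (isomorphic to) a Sylow p-subgroup of a finite group G, G has a normal p-complement if and only if N_G(K)/C_G(K) is a p-group, i.e. every element of N_G(K) of order prime to p centralizes K (K transported into G along the isomorphism). -/
theorem result (p : ℕ) [Fact p.Prime] (hp : p ≠ 2)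
    (S : Type u) [Group S] [Finite S] (hS : IsPGroup p S) :
    ∃ K : Subgroup S, K.Characteristic ∧ Subgroup.centralizer (K : Set S) ≤ K ∧
      ∀ (G : Type u) [Group G] [Finite G] (P : Sylow p G) (e : ↥(P : Subgroup G) ≃* S),
        Cfsg.HasNormalPComplement p G ↔
          ∀ g ∈ Subgroup.normalizer (((K.comap (e : ↥(P : Subgroup G) →* S)).map (P : Subgroup G).subtype : Subgroup G) : Set G),
            (orderOf g).Coprime p →
              g ∈ Subgroup.centralizer (((K.comap (e : ↥(P : Subgroup G) →* S)).map (P : Subgroup G).subtype : Subgroup G) : Set G) := by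
  classical
  refine ⟨kInfLower S, ?_, ?_, ?_⟩
  · constructor
    intro φ
    have h1 := Cfsg.Agent.Lib.KInf.Chain.map_kInfLower_equiv (φ : S ≃* S)
    have h2 := Cfsg.Agent.Lib.KInf.Chain.map_kInfLower_equiv (φ.symm : S ≃* S)
    ext x
    constructor
    · intro hx
      rw [Subgroup.mem_comap] at hx
      have hx' : φ x ∈ kInfLower S := hx
      rw [← h2]
      exact ⟨φ x, hx', by simp⟩
    · intro hx
      rw [Subgroup.mem_comap]
      rw [← h1]
      exact ⟨x, hx, rfl⟩
  · exact Cfsg.Agent.Lib.StrongSec.Thompson.centralizer_kInfLower_le hS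
  · intro G _ _ P e
    have hK : (((kInfLower S).comap (e : ↥(P : Subgroup G) →* S)).map (P : Subgroup G).subtype : Subgroup G) =
        inducedFunctor kInfLower (P : Subgroup G) := by
      unfold inducedFunctor
      congr 1
      have h1 := Cfsg.Agent.Lib.KInf.Chain.map_kInfLower_equiv e.symm
      rw [← h1]
      ext x
      constructor
      · intro hx
        exact ⟨e x, hx, by simp⟩
      · rintro ⟨y, hy, rfl⟩
        simpa using hy
    rw [hK]
    constructor
    · intro hpc g hg hgc
      obtain ⟨N, hNn, hNc, hNq⟩ := Cfsg.Agent.Lib.Transfer.Basic.hasNormalPComplement_iff_exists.1 hpc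
      have hgN : g ∈ N := by
        obtain ⟨k, hk⟩ := hNq (QuotientGroup.mk' N g)
        have h1 : (QuotientGroup.mk' N g) ^ p ^ k = 1 := hk
        have h2 : orderOf (QuotientGroup.mk' N g) ∣ p ^ k := orderOf_dvd_of_pow_eq_one h1
        have h3 : orderOf (QuotientGroup.mk' N g) ∣ orderOf g := orderOf_map_dvd _ _
        have h4 := Nat.eq_one_of_dvd_coprimes (hgc.pow_right k) h3 h2
        exact (QuotientGroup.eq_one_iff g).1 (orderOf_eq_one_iff.1 h4)
      refine Subgroup.mem_centralizer_iff.2 ?_
      intro k hk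
      have hkp : IsPGroup p ↥(inducedFunctor kInfLower (P : Subgroup G)) :=
        P.isPGroup'.to_le (Cfsg.Agent.Lib.TransferCtl.Basic.inducedFunctor_le _)
      set K' := inducedFunctor kInfLower (P : Subgroup G) with hK'
      have hc1 : k * g * k⁻¹ * g⁻¹ ∈ N :=
        N.mul_mem (hNn.conj_mem g hgN k) (N.inv_mem hgN)
      have hc2 : k * g * k⁻¹ * g⁻¹ ∈ K' := by
        have h3 : g * k⁻¹ * g⁻¹ ∈ K' :=
          (Subgroup.mem_normalizer_iff.1 hg _).1 (K'.inv_mem hk)
        have h4 := K'.mul_mem hk h3
        simpa [mul_assoc] using h4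
      obtain ⟨n, hn⟩ := hkp ⟨_, hc2⟩
      have hn' : (k * g * k⁻¹ * g⁻¹) ^ p ^ n = 1 := congrArg Subtype.val hn
      have h5 : orderOf (k * g * k⁻¹ * g⁻¹) ∣ p ^ n := orderOf_dvd_of_pow_eq_one hn'
      have h6 : orderOf (k * g * k⁻¹ * g⁻¹) ∣ Nat.card N := Subgroup.orderOf_dvd_natCard N hc1
      have h7 := Nat.eq_one_of_dvd_coprimes (hNc.pow_right n) h6 h5
      have h8 : k * g * k⁻¹ * g⁻¹ = 1 := orderOf_eq_one_iff.1 h7
      have h9 : k * g * k⁻¹ = g := by
        have := congrArg (· * g) h8
        simpa [mul_assoc] using this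
      calc k * g = k * g * k⁻¹ * k := by group
        _ = g * k := by rw [h9]
    · exact Cfsg.Agent.Lib.StrongSec.Thompson.pc_of_centralizes_kInfLower hp P

end Cfsg.Agent.S3073
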