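import Cfsg.Statements.S3078
import Cfsg.Agent.S0651

set_option autoImplicit false
set_option linter.style.haveILetI false
open Cfsg

namespace Cfsg.Agent.S3078

open Subgroup Cfsg.Agent.S0650
open scoped commutatorElement

section Aux

variable {S : Type*} [Group S]

lemma card_le_of_hom {X Y Q : Type*} [Group X] [Group Y] [Group Q] [Finite X] [Finite Y]
    (h : X →* Q) (g : Y →* Q) (hr : h.range ≤ g.range) (hk : Nat.card h.ker = Nat.card g.ker) :
    Nat.card X ≤ Nat.card Y := by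
  have h1 := Subgroup.card_mul_index h.ker
  have h2 := Subgroup.card_mul_index g.ker
  rw [Subgroup.index_ker] at h1 h2
  haveI : Finite g.range := Finite.of_surjective g.rangeRestrict g.rangeRestrict_surjective
  rw [← h1, ← h2, hk]
  exact Nat.mul_le_mul_left _ (Subgroup.card_le_of_le hr)

lemma mem_omegaOne_of_comm {p : ℕ} {H : Subgroup S} (hH : IsMulCommutative H) {x : S} :
    x ∈ omegaOne p H ↔ x ∈ H ∧ x ^ p = 1 := by
  constructor
  · intro hx
    induction hx using closure_induction with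
    | mem y hy => exact hy
    | one => exact ⟨one_mem _, one_pow _⟩
    | mul u v _ _ hu hv =>
      refine ⟨mul_mem hu.1 hv.1, ?_⟩
      have hc : Commute u v := A_comm hH hu.1 hv.1
      rw [hc.mul_pow, hu.2, hv.2, one_mul]
    | inv u _ hu => exact ⟨inv_mem hu.1, by rw [inv_pow, hu.2, inv_one]⟩
  · intro hx
    exact subset_closure hx

lemma omegaOne_le {p : ℕ} {H : Subgroup S} : omegaOne p H ≤ H :=
  (closure_le _).2 fun _ hx => hx.1

variable {A B : Subgroup S} {b : S}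

/-- `d b a` has order dividing `p` if `a` has. -/
lemma d_pow_eq_one {p : ℕ} [Fact p.Prime] (hp : p ≠ 2) (hA : IsMulCommutative A)
    (hbN : b ∈ normalizer ((normalizer (A : Set S) : Subgroup S) : Set S)) {a : S} (ha : a ∈ A)
    (hap : a ^ p = 1) : (d b a) ^ p = 1 := by
  set x := b⁻¹ * a⁻¹ * b with hx
  have hxAb : x ∈ Ab A b := x_mem_Ab ha
  have hxpow : x ^ p = 1 := by
    have hx' : x = b⁻¹ * a⁻¹ * (b⁻¹)⁻¹ := by rw [hx, inv_inv]
    rw [hx', conj_pow, inv_pow, hap]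
    simp
  have hz : ⁅x, a⁆ ∈ Y A b := by
    rw [← commutatorElement_inv]
    exact inv_mem (comm_mem_Y hbN ha hxAb)
  have hz1 : Commute ⁅x, a⁆ a := Y_commute_A hA hz ha
  have hz2 : Commute ⁅x, a⁆ x := Y_commute_Ab hA hz hxAb
  have hzp : ⁅x, a⁆ ^ p = 1 := by
    rw [← Cfsg.Agent.Lib.PGroups.ClassTwo.comm_pow_right_of_comm hz1, hap]
    simp
  have hda : d b a = a * x := d_eq a
  rw [hda, Cfsg.Agent.Lib.PGroups.ClassTwo.mul_pow_of_comm hz1 hz2, hap, hxpow, one_mul, one_mul]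
  have hodd : Odd p := (Nat.Prime.eq_two_or_odd' Fact.out).resolve_left hp
  have hchoose : p ∣ p.choose 2 := by
    obtain ⟨m, hm⟩ := hodd
    rw [Nat.choose_two_right, hm]
    have : (2 * m + 1) * (2 * m + 1 - 1) / 2 = (2 * m + 1) * m := by
      have : 2 * m + 1 - 1 = 2 * m := by omega
      rw [this]
      rw [show (2 * m + 1) * (2 * m) = 2 * ((2 * m + 1) * m) by ring]
      exact Nat.mul_div_cancel_left _ (by norm_num)
    rw [this]
    exact Dvd.intro _ rfl
  obtain ⟨k, hk⟩ := hchoose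
  rw [hk, pow_mul, hzp, one_pow]

variable [hBn : B.Normal]

include hBn in
lemma d_mem_Y_iff (hBA : ⁅B, B⁆ ≤ A) (hb : b ∈ B) {a : S} (ha : a ∈ A) :
    d b a ∈ Y A b ↔ a ∈ Y A b := by
  constructor
  · intro h
    have hd : d b a ∈ Ab A b := (Subgroup.mem_inf.mp h).2
    have haAb : a ∈ Ab A b := by
      have : a = d b a * (b⁻¹ * a⁻¹ * b)⁻¹ := by rw [d_eq]; group
      rw [this]
      exact mul_mem hd (inv_mem (x_mem_Ab ha))
    exact Subgroup.mem_inf.mpr ⟨ha, haAb⟩
  · intro h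
    rw [d_eq]
    exact mul_mem h (Y_conj_inv (B := B) hBA hb (inv_mem h))

/-- The rank comparison. -/
theorem card_omega_le [Finite S] {p : ℕ} [Fact p.Prime] (hp : p ≠ 2)
    (hA : IsMulCommutative A)
    (hbN : b ∈ normalizer ((normalizer (A : Set S) : Subgroup S) : Set S))
    (hBA : ⁅B, B⁆ ≤ A) (hb : b ∈ B) (hAst : IsMulCommutative (Ast A b)) :
    Nat.card (omegaOne p A) ≤ Nat.card (omegaOne p (Ast A b)) := by
  classical
  let Y' : Subgroup (Ast A b) := (Y A b).subgroupOf (Ast A b)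
  haveI hY' : Y'.Normal := ⟨fun n hn g => by
    have h1 : g * n * g⁻¹ = n := by
      rw [mul_comm' g n]
      group
    rw [h1]
    exact hn⟩
  let φ : A →* (Ast A b ⧸ Y') := MonoidHom.mk'
    (fun a => (QuotientGroup.mk (⟨d b a, d_mem_Ast a.2⟩ : Ast A b) : Ast A b ⧸ Y')) (by
      rintro ⟨a, ha⟩ ⟨a', ha'⟩
      symm
      rw [← QuotientGroup.mk_mul, QuotientGroup.eq]
      show (d b a * d b a')⁻¹ * d b (a * a') ∈ Y A b
      rw [d_mul hA hbN ha ha']
      have hz : ⁅a'⁻¹, b⁻¹ * a⁻¹ * b⁆ ∈ Y A b := comm_mem_Y hbN (inv_mem ha') (x_mem_Ab ha)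
      have e : (⁅a'⁻¹, b⁻¹ * a⁻¹ * b⁆ * d b (a * a'))⁻¹ * d b (a * a') = (d b (a * a'))⁻¹ * ⁅a'⁻¹, b⁻¹ * a⁻¹ * b⁆⁻¹ * d b (a * a') := by
        group
      rw [e, (Y_commute_d (b := b) hA (inv_mem hz) (mul_mem ha ha')).symm.inv_left.eq]
      simpa using inv_mem hz)
  let E₀ : Subgroup A := (omegaOne p A).subgroupOf A
  let T₀ : Subgroup (Ast A b) := (omegaOne p (Ast A b)).subgroupOf (Ast A b)
  have hE : Nat.card (omegaOne p A) = Nat.card E₀ :=
    Nat.card_congr (subgroupOfEquivOfLe omegaOne_le).symm.toEquiv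
  have hT : Nat.card (omegaOne p (Ast A b)) = Nat.card T₀ :=
    Nat.card_congr (subgroupOfEquivOfLe omegaOne_le).symm.toEquiv
  rw [hE, hT]
  let h : E₀ →* (Ast A b ⧸ Y') := φ.comp E₀.subtype
  let g : T₀ →* (Ast A b ⧸ Y') := (QuotientGroup.mk' Y').comp T₀.subtype
  refine card_le_of_hom h g ?_ ?_
  · rintro _ ⟨⟨⟨a, ha⟩, huE⟩, rfl⟩
    have hu : a ∈ omegaOne p A := mem_subgroupOf.1 huE
    have hap : a ^ p = 1 := ((mem_omegaOne_of_comm hA).1 hu).2
    have hmem : (⟨d b a, d_mem_Ast ha⟩ : Ast A b) ∈ T₀ := by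
      refine mem_subgroupOf.2 ((mem_omegaOne_of_comm hAst).2 ⟨d_mem_Ast ha, ?_⟩)
      exact d_pow_eq_one hp hA hbN ha hap
    exact ⟨⟨_, hmem⟩, rfl⟩
  · -- both kernels are `Ω₁(A) ∩ Y`
    let K : Subgroup S := omegaOne p A ⊓ Y A b
    have h1 : (h.ker.map E₀.subtype).map A.subtype = K := by
      ext x
      constructor
      · rintro ⟨_, ⟨⟨⟨a, ha⟩, huE⟩, hu, rfl⟩, rfl⟩
        refine ⟨mem_subgroupOf.1 huE, ?_⟩
        have h3 : (QuotientGroup.mk (⟨d b a, d_mem_Ast ha⟩ : Ast A b) : Ast A b ⧸ Y') = 1 := hu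
        rw [QuotientGroup.eq_one_iff] at h3
        exact (d_mem_Y_iff (B := B) hBA hb ha).1 (mem_subgroupOf.1 h3)
      · rintro ⟨hx1, hx2⟩
        have hxA : x ∈ A := omegaOne_le hx1
        refine ⟨⟨x, hxA⟩, ⟨⟨⟨x, hxA⟩, mem_subgroupOf.2 hx1⟩, ?_, rfl⟩, rfl⟩
        show (QuotientGroup.mk (⟨d b x, d_mem_Ast hxA⟩ : Ast A b) : Ast A b ⧸ Y') = 1
        rw [QuotientGroup.eq_one_iff]
        exact mem_subgroupOf.2 ((d_mem_Y_iff (B := B) hBA hb hxA).2 hx2)
    have h2 : (g.ker.map T₀.subtype).map (Ast A b).subtype = K := by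
      ext x
      constructor
      · rintro ⟨_, ⟨⟨⟨a, ha⟩, huE⟩, hu, rfl⟩, rfl⟩
        have h3 : (QuotientGroup.mk (⟨a, ha⟩ : Ast A b) : Ast A b ⧸ Y') = 1 := hu
        rw [QuotientGroup.eq_one_iff] at h3
        have h4 : a ∈ Y A b := mem_subgroupOf.1 h3
        have h5 := (mem_omegaOne_of_comm hAst).1 (mem_subgroupOf.1 huE)
        refine ⟨(mem_omegaOne_of_comm hA).2 ⟨(Subgroup.mem_inf.mp h4).1, h5.2⟩, h4⟩
      · rintro ⟨hx1, hx2⟩
        have hxA := (mem_omegaOne_of_comm hA).1 hx1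
        have hxT : x ∈ Ast A b := Y_le_Ast hx2
        refine ⟨⟨x, hxT⟩, ⟨⟨⟨x, hxT⟩, mem_subgroupOf.2
          ((mem_omegaOne_of_comm hAst).2 ⟨hxT, hxA.2⟩)⟩, ?_, rfl⟩, rfl⟩
        show (QuotientGroup.mk (⟨x, hxT⟩ : Ast A b) : Ast A b ⧸ Y') = 1
        rw [QuotientGroup.eq_one_iff]
        exact mem_subgroupOf.2 hx2
    have c1 : Nat.card K = Nat.card h.ker := by
      rw [← h1, Subgroup.card_map_of_injective A.subtype_injective,
        Subgroup.card_map_of_injective E₀.subtype_injective]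
    have c2 : Nat.card K = Nat.card g.ker := by
      rw [← h2, Subgroup.card_map_of_injective (Ast A b).subtype_injective,
        Subgroup.card_map_of_injective T₀.subtype_injective]
    rw [← c1, c2]

end Aux

/-- A replacement Theorem for abelian subgroups of p-groups, p odd. Let G be a finite p-group with p odd, A an abelian subgroup of G, and B a subgroup of nilpotency class at most 2 with [B, B] ≤ A, such that A normalizes B but B does not normalize A. Then there is an abelian subgroup A* of G of the same order as A with A ∩ B strictly contained in A* ∩ B, A* contained in N_G(A) and in the normal closure of A, the exponent of A* dividing the exponent of A, and with the subgroup generated by the elements of order dividing p in A of order at most that of the corresponding subgroup of A* (the rank of A is at most the rank of A*). -/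
theorem result {G : Type*} [Group G] [Finite G] {p : ℕ} [Fact p.Prime] (hp : p ≠ 2) (hG : IsPGroup p G) (A B : Subgroup G) (hA : IsMulCommutative A) (hB2 : ⁅⁅B, B⁆, B⁆ = ⊥) (hBA : ⁅B, B⁆ ≤ A) (hAB : A ≤ Subgroup.normalizer (B : Set G)) (hBnA : ¬ B ≤ Subgroup.normalizer (A : Set G)) : ∃ Astar : Subgroup G, IsMulCommutative Astar ∧ Nat.card Astar = Nat.card A ∧ A ⊓ B < Astar ⊓ B ∧ Astar ≤ Subgroup.normalizer (A : Set G) ∧ Astar ≤ Subgroup.normalClosure (A : Set G) ∧ Monoid.exponent Astar ∣ Monoid.exponent A ∧ Nat.card (Cfsg.omegaOne p A) ≤ Nat.card (Cfsg.omegaOne p Astar) := by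
  classical
  set S₀ : Subgroup G := A ⊔ B with hS₀
  have hAS : A ≤ S₀ := le_sup_left
  have hBS : B ≤ S₀ := le_sup_right
  let A' : Subgroup S₀ := A.subgroupOf S₀
  let B' : Subgroup S₀ := B.subgroupOf S₀
  haveI hB' : B'.Normal := normal_subgroupOf_sup_of_le_normalizer hAB
  have hS' : IsPGroup p S₀ := hG.to_subgroup S₀
  have hA' : IsMulCommutative A' := by
    refine ⟨⟨?_⟩⟩
    rintro ⟨x, hx⟩ ⟨y, hy⟩
    apply Subtype.ext
    apply Subtype.ext
    exact A_comm hA (mem_subgroupOf.1 hx) (mem_subgroupOf.1 hy)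
  have hmB : B'.map S₀.subtype = B := by rw [subgroupOf_map_subtype, inf_of_le_left hBS]
  have hmA : A'.map S₀.subtype = A := by rw [subgroupOf_map_subtype, inf_of_le_left hAS]
  have hB'A' : ⁅B', B'⁆ ≤ A' := by
    intro x hx
    refine mem_subgroupOf.2 (hBA ?_)
    have h1 : (⁅B', B'⁆).map S₀.subtype = ⁅B, B⁆ := by
      rw [map_commutator, hmB]
    rw [← h1]
    exact ⟨x, hx, rfl⟩
  have hnot : ¬ B' ≤ normalizer (A' : Set S₀) := by
    intro hle
    apply hBnA
    intro y hy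
    have hy' : (⟨y, hBS hy⟩ : S₀) ∈ normalizer (A' : Set S₀) := hle (mem_subgroupOf.2 hy)
    apply mem_normalizer_of_conj_mem
    intro x hx
    have h2 := (mem_normalizer_iff.mp hy' ⟨x, hAS hx⟩).mp (mem_subgroupOf.2 hx)
    exact mem_subgroupOf.1 h2
  obtain ⟨b, hb, hbN, hbA⟩ := Cfsg.Agent.S0651.exists_b hS' B' A' hnot
  have hB2' : p = 2 → IsMulCommutative B' := fun h => absurd h hp
  obtain ⟨hcard, hcomm, -, hlt, -, -, hleN, -, -, hexp⟩ :=
    Cfsg.Agent.S0650.result hS' B' hB2' A' hA' hB'A' hnot b hb hbN hbA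
  have hAstA : IsMulCommutative (Ast A' b) := hcomm
  refine ⟨(Ast A' b).map S₀.subtype, ?_, ?_, ?_, ?_, ?_, ?_, ?_⟩
  · refine ⟨⟨?_⟩⟩
    rintro ⟨_, x, hx, rfl⟩ ⟨_, y, hy, rfl⟩
    apply Subtype.ext
    have h := A_comm hAstA hx hy
    have h' : (x : G) * y = y * x := congrArg Subtype.val h
    exact h'
  · rw [Subgroup.card_map_of_injective S₀.subtype_injective]
    have : Nat.card (Ast A' b) = Nat.card A' := hcard
    rw [this]
    exact Nat.card_congr (subgroupOfEquivOfLe hAS).toEquiv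
  · have hle : A ⊓ B ≤ (Ast A' b).map S₀.subtype ⊓ B := by
      rintro x ⟨hx1, hx2⟩
      have hxS : x ∈ S₀ := hAS hx1
      have h1 : (⟨x, hxS⟩ : S₀) ∈ A' ⊓ B' := ⟨mem_subgroupOf.2 hx1, mem_subgroupOf.2 hx2⟩
      have h2 := hlt.le h1
      exact ⟨⟨⟨x, hxS⟩, h2.1, rfl⟩, hx2⟩
    refine lt_of_le_of_ne hle ?_
    intro heq
    obtain ⟨x, hx1, hx2⟩ := SetLike.exists_of_lt hlt
    apply hx2
    have h3 : (x : G) ∈ (Ast A' b).map S₀.subtype ⊓ B :=
      ⟨⟨x, hx1.1, rfl⟩, mem_subgroupOf.1 hx1.2⟩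
    rw [← heq] at h3
    exact ⟨mem_subgroupOf.2 h3.1, mem_subgroupOf.2 h3.2⟩
  · rintro _ ⟨u, hu, rfl⟩
    have hu' := hleN hu
    apply mem_normalizer_of_conj_mem
    intro x hx
    have h2 := (mem_normalizer_iff.mp hu' ⟨x, hAS hx⟩).mp (mem_subgroupOf.2 hx)
    exact mem_subgroupOf.1 h2
  · rintro _ ⟨u, hu, rfl⟩
    obtain ⟨y, hy, a, ha, rfl⟩ := (mem_Ast_iff hA' hbN).mp hu
    have hAn : A ≤ normalClosure (A : Set G) := subset_normalClosure
    have hy1 : ((y : S₀) : G) ∈ A := mem_subgroupOf.1 (Subgroup.mem_inf.mp hy).1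
    have ha1 : ((a : S₀) : G) ∈ A := mem_subgroupOf.1 ha
    have e : ((y * d b a : S₀) : G) = (y : G) * ((a : G) * ((b : G)⁻¹ * (a : G)⁻¹ * (b : G))) := by
      rw [d_eq]
      simp
    show ((y * d b a : S₀) : G) ∈ _
    rw [e]
    refine mul_mem (hAn hy1) (mul_mem (hAn ha1) ?_)
    have h5 : (b : G)⁻¹ * (a : G)⁻¹ * (b : G) = (b : G)⁻¹ * (a : G)⁻¹ * ((b : G)⁻¹)⁻¹ := by
      rw [inv_inv]
    rw [h5]
    exact normalClosure_normal.conj_mem _ (inv_mem (hAn ha1)) _
  · apply Monoid.exponent_dvd_of_forall_pow_eq_one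
    rintro ⟨_, u, hu, rfl⟩
    apply Subtype.ext
    have h6 : Monoid.exponent (Ast A' b) ∣ Monoid.exponent A' := hexp hp
    have h7 : Monoid.exponent A' ∣ Monoid.exponent A := by
      apply Monoid.exponent_dvd_of_forall_pow_eq_one
      rintro ⟨x, hx⟩
      apply Subtype.ext
      apply Subtype.ext
      have := Monoid.pow_exponent_eq_one (⟨(x : G), mem_subgroupOf.1 hx⟩ : A)
      simpa using congrArg Subtype.val this
    obtain ⟨k, hk⟩ := h6.trans h7
    have h8 := Monoid.pow_exponent_eq_one (⟨u, hu⟩ : Ast A' b)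
    have h9 : u ^ Monoid.exponent (Ast A' b) = 1 := congrArg Subtype.val h8
    show ((u : G)) ^ Monoid.exponent A = 1
    rw [hk, pow_mul, ← Subgroup.coe_pow, h9]
    simp
  · have hmap : ∀ U : Subgroup S₀, (omegaOne p U).map S₀.subtype = omegaOne p (U.map S₀.subtype) := by
      intro U
      rw [omegaOne, omegaOne, MonoidHom.map_closure]
      congr 1
      ext x
      constructor
      · rintro ⟨y, ⟨hy1, hy2⟩, rfl⟩
        refine ⟨⟨y, hy1, rfl⟩, ?_⟩
        have := congrArg Subtype.val hy2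
        simpa using this
      · rintro ⟨⟨y, hy1, rfl⟩, hy2⟩
        refine ⟨y, ⟨hy1, ?_⟩, rfl⟩
        apply Subtype.ext
        simpa using hy2
    have h1 := hmap A'
    have h2 := hmap (Ast A' b)
    rw [hmA] at h1
    rw [← h1, ← h2, Subgroup.card_map_of_injective S₀.subtype_injective,
      Subgroup.card_map_of_injective S₀.subtype_injective]
    exact card_omega_le (B := B') hp hA' hbN hB'A' hb hAstA

end Cfsg.Agent.S3078
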