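import Cfsg.Statements.S3210
import Cfsg.Agent.Lib.InvolChar.SL2Pair
import Cfsg.Agent.Lib.OddOrder.TypeP
import Cfsg.Agent.Lib.Classical.SLBasic

set_option autoImplicit false
open Cfsg

namespace Cfsg.Agent.S3210

open Subgroup Cfsg.Agent.Lib.InvolChar.SL2Pair

/-- Connectivity of the non-commuting graph transported by conjugation. -/
theorem conn {G : Type*} [Group G] (T A B : G → Prop) (m : G)
    (hAB : ∀ u v, A u → B v → u * v = v * u)
    (hspl : ∀ t, T t → A (m * t * m⁻¹) ∨ B (m * t * m⁻¹))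
    (hex : ∀ t, T t → ∃ r, T r ∧ r * t ≠ t * r)
    (hce : ∀ t s, T t → T s → t * s = s * t → ∀ r, T r → r * t ≠ t * r → r * s ≠ s * r) :
    ∀ t s, T t → T s → A (m * t * m⁻¹) → A (m * s * m⁻¹) := by
  have step : ∀ u v, T u → T v → u * v ≠ v * u → A (m * u * m⁻¹) → A (m * v * m⁻¹) := by
    intro u v hu hv huv hA
    rcases hspl v hv with h | h
    · exact h
    · exfalso
      have h1 := hAB _ _ hA h
      apply huv
      have h2 : m * (u * v) * m⁻¹ = m * (v * u) * m⁻¹ := by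
        calc m * (u * v) * m⁻¹ = m * u * m⁻¹ * (m * v * m⁻¹) := by group
          _ = m * v * m⁻¹ * (m * u * m⁻¹) := h1
          _ = m * (v * u) * m⁻¹ := by group
      exact mul_left_cancel (mul_right_cancel h2)
  intro t s ht hs hA
  by_cases hts : t * s = s * t
  · obtain ⟨r, hr, hrt⟩ := hex t ht
    have hrs := hce t s ht hs hts r hr hrt
    exact step r s hr hs hrs (step t r ht hr (Ne.symm hrt) hA)
  · exact step t s ht hs hts hA

theorem card_sl_eq (F : Type*) [Field F] [Fintype F] :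
    Nat.card (Matrix.SpecialLinearGroup (Fin 2) F) =
      Fintype.card F * (Fintype.card F ^ 2 - 1) := by
  have h1 := Cfsg.Agent.Lib.Classical.SLBasic.card_gl_eq_mul_card_sl (ι := Fin 2) (F := F)
  rw [Matrix.card_GL_field] at h1
  simp only [Fin.prod_univ_two, Fin.val_zero, Fin.val_one, pow_zero, pow_one] at h1
  have hq : 2 ≤ Fintype.card F := Fintype.one_lt_card
  obtain ⟨q, hq'⟩ : ∃ q, Fintype.card F = q + 2 := ⟨Fintype.card F - 2, by omega⟩
  rw [hq'] at h1 ⊢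
  have h2 : (q + 2) - 1 = q + 1 := by omega
  rw [h2] at h1
  have h3 : (q + 2) ^ 2 - (q + 2) = (q + 1) * (q + 2) := by
    apply Nat.sub_eq_of_eq_add
    ring
  rw [h3] at h1
  have h4 : q + 1 ≠ 0 := by omega
  apply Nat.eq_of_mul_eq_mul_left (Nat.pos_of_ne_zero h4)
  rw [← h1]
  ring

/-- `|SL₂(F)|` determines `|F|`. -/
theorem card_eq_of_card_sl_eq {F₁ F₂ : Type*} [Field F₁] [Fintype F₁] [Field F₂] [Fintype F₂]
    (h : Nat.card (Matrix.SpecialLinearGroup (Fin 2) F₁) = Nat.card (Matrix.SpecialLinearGroup (Fin 2) F₂)) :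
    Fintype.card F₁ = Fintype.card F₂ := by
  have hk1 := card_sl_eq F₁
  have hk2 := card_sl_eq F₂
  rw [hk1, hk2] at h
  have hmono : ∀ a b : ℕ, 2 ≤ a → a < b → a * (a ^ 2 - 1) < b * (b ^ 2 - 1) := by
    intro a b ha hab
    have h1 : a ^ 2 - 1 < b ^ 2 - 1 := by
      have h2 : a ^ 2 < b ^ 2 := Nat.pow_lt_pow_left hab (by norm_num)
      have h3 : 1 ≤ a ^ 2 := Nat.one_le_pow _ _ (by omega)
      omega
    calc a * (a ^ 2 - 1) ≤ b * (a ^ 2 - 1) := Nat.mul_le_mul_right _ hab.le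
      _ < b * (b ^ 2 - 1) := Nat.mul_lt_mul_of_pos_left h1 (by omega)
  have h1q : 2 ≤ Fintype.card F₁ := Fintype.one_lt_card
  have h2q : 2 ≤ Fintype.card F₂ := Fintype.one_lt_card
  rcases lt_trichotomy (Fintype.card F₁) (Fintype.card F₂) with hlt | heq | hgt
  · exact absurd h (hmono _ _ h1q hlt).ne
  · exact heq
  · exact absurd h.symm (hmono _ _ h2q hgt).ne

theorem map_conj_eq {G : Type*} [Group G] (n : G) (P P' : Subgroup G)
    (h1 : ∀ x ∈ P, n * x * n⁻¹ ∈ P') (h2 : ∀ x ∈ P', n⁻¹ * x * n ∈ P) :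
    P.map (MulAut.conj n).toMonoidHom = P' := by
  apply le_antisymm
  · rintro _ ⟨x, hx, rfl⟩
    exact h1 x hx
  · intro x hx
    refine ⟨n⁻¹ * x * n, h2 x hx, ?_⟩
    change n * (n⁻¹ * x * n) * n⁻¹ = x
    group

/-- Let G be a finite group with subgroups L₁ ≅ SL₂(q₁) and L₂ ≅ SL₂(q₂), q₁ and q₂ odd prime powers, which commute elementwise and meet in ⟨j⟩ for an involution j, and suppose L₁L₂ has index 2 in C_G(j). Then every element n of C_G(j) outside L₁L₂ either normalizes both L₁ and L₂, or conjugates L₁ onto L₂; in the second case q₁ = q₂ and there is an element n′ of C_G(j) outside L₁L₂ conjugating L₁ onto L₂ with n′² ∈ ⟨j⟩. -/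
theorem result {G : Type*} [Group G] [Finite G]
    {F₁ : Type*} [Field F₁] [Fintype F₁] {F₂ : Type*} [Field F₂] [Fintype F₂]
    (hF₁ : Odd (Fintype.card F₁)) (hF₂ : Odd (Fintype.card F₂)) (L₁ L₂ : Subgroup G)
    (e₁ : ↥L₁ ≃* Matrix.SpecialLinearGroup (Fin 2) F₁) (e₂ : ↥L₂ ≃* Matrix.SpecialLinearGroup (Fin 2) F₂)
    (hc : ∀ x ∈ L₁, ∀ y ∈ L₂, x * y = y * x) (j : G) (hj : orderOf j = 2) (hm : L₁ ⊓ L₂ = Subgroup.zpowers j)
    (hle : L₁ ⊔ L₂ ≤ Subgroup.centralizer ({j} : Set G)) (hi : (L₁ ⊔ L₂).relIndex (Subgroup.centralizer ({j} : Set G)) = 2) (n : G) (hn : n ∈ Subgroup.centralizer ({j} : Set G)) (hn' : n ∉ L₁ ⊔ L₂) :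
    (L₁.map (MulAut.conj n).toMonoidHom = L₁ ∧ L₂.map (MulAut.conj n).toMonoidHom = L₂) ∨
      (L₁.map (MulAut.conj n).toMonoidHom = L₂ ∧ Fintype.card F₁ = Fintype.card F₂ ∧
        ∃ n' ∈ Subgroup.centralizer ({j} : Set G), n' ∉ L₁ ⊔ L₂ ∧ L₁.map (MulAut.conj n').toMonoidHom = L₂ ∧ n' ^ 2 ∈ Subgroup.zpowers j) := by
  classical
  have hjm : j ∈ L₁ ⊓ L₂ := by rw [hm]; exact mem_zpowers j
  have S₁ : Sys L₁ e₁ j := Sys.mk' e₁ (Nat.odd_iff.mp hF₁) hjm.1 hj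
  have S₂ : Sys L₂ e₂ j := Sys.mk' e₂ (Nat.odd_iff.mp hF₂) hjm.2 hj
  have hjj : j * j = 1 := by
    rw [← pow_two, ← hj]; exact pow_orderOf_eq_one j
  have hj1 : j ≠ 1 := by
    rintro rfl
    simp at hj
  have hinf : ∀ u ∈ L₁, u ∈ L₂ → u = 1 ∨ u = j := by
    intro u hu1 hu2
    have h1 : u ∈ zpowers j := by rw [← hm]; exact ⟨hu1, hu2⟩
    obtain ⟨i, rfl⟩ := mem_zpowers_iff.1 h1
    rcases Int.even_or_odd' i with ⟨c, rfl | rfl⟩
    · left
      rw [zpow_mul, zpow_two, hjj, one_zpow]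
    · right
      rw [zpow_add, zpow_mul, zpow_two, hjj, one_zpow, one_mul, zpow_one]
  set L := L₁ ⊔ L₂ with hL
  set C := Subgroup.centralizer ({j} : Set G) with hC
  have hL₁ : L₁ ≤ L := le_sup_left
  have hL₂ : L₂ ≤ L := le_sup_right
  -- `L` is normal in `C`
  have hidx : (L.subgroupOf C).index = 2 := hi
  haveI hnorm : (L.subgroupOf C).Normal := Subgroup.normal_of_index_eq_two hidx
  have hnL : ∀ m ∈ C, ∀ t ∈ L, m * t * m⁻¹ ∈ L := by
    intro m hm t ht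
    have h1 : (⟨t, hle ht⟩ : C) ∈ L.subgroupOf C := ht
    exact hnorm.conj_mem _ h1 ⟨m, hm⟩
  have hn2 : n * n ∈ L := by
    have h1 := Subgroup.mul_self_mem_of_index_two hidx (⟨n, hn⟩ : C)
    exact h1
  have hCj : ∀ m ∈ C, m * j * m⁻¹ = j := by
    intro m hm
    have h1 := Subgroup.mem_centralizer_iff.1 hm j rfl
    rw [← h1]
    group
  -- elements with square `j`
  let T₁ : G → Prop := fun t => t ∈ L₁ ∧ t * t = j
  let T₂ : G → Prop := fun t => t ∈ L₂ ∧ t * t = j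
  have hsplit : ∀ t ∈ L, t * t = j → T₁ t ∨ T₂ t := by
    intro t ht ht2
    obtain ⟨l₁, hl₁, l₂, hl₂, rfl⟩ := Cfsg.Agent.Lib.OddOrder.TypeP.mem_sup_of_commute L₁ L₂ hc t ht
    have hcl : l₁ * l₂ = l₂ * l₁ := hc _ hl₁ _ hl₂
    have h1 : (l₁ * l₁) * (l₂ * l₂) = j := by
      rw [← ht2]
      calc l₁ * l₁ * (l₂ * l₂) = l₁ * (l₁ * l₂) * l₂ := by group
        _ = l₁ * (l₂ * l₁) * l₂ := by rw [hcl]
        _ = l₁ * l₂ * (l₁ * l₂) := by group
    have h2 : l₁ * l₁ = j * (l₂ * l₂)⁻¹ := by rw [← h1]; group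
    rcases hinf (l₁ * l₁) (mul_mem hl₁ hl₁) (by
      rw [h2]; exact mul_mem hjm.2 (inv_mem (mul_mem hl₂ hl₂))) with h3 | h3
    · right
      rw [h3, one_mul] at h1
      refine ⟨?_, ht2⟩
      rcases S₁.inv_eq hl₁ h3 with rfl | rfl
      · rwa [one_mul]
      · exact mul_mem hjm.2 hl₂
    · left
      rw [h3] at h1
      have h4 : l₂ * l₂ = 1 := by
        have h5 : j * (l₂ * l₂) = j * 1 := by rw [h1, mul_one]
        exact mul_left_cancel h5
      refine ⟨?_, ht2⟩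
      rcases S₂.inv_eq hl₂ h4 with rfl | rfl
      · rwa [mul_one]
      · exact mul_mem hl₁ hjm.1
  have hdisj : ∀ t, T₁ t → T₂ t → False := by
    rintro t ⟨h1, h2⟩ ⟨h3, -⟩
    rcases hinf t h1 h3 with rfl | rfl
    · rw [one_mul] at h2; exact hj1 h2.symm
    · rw [hjj] at h2; exact hj1 h2.symm
  have hT12 : ∀ u v, T₁ u → T₂ v → u * v = v * u := fun u v hu hv => hc u hu.1 v hv.1
  have hT21 : ∀ u v, T₂ u → T₁ v → u * v = v * u := fun u v hu hv => (hc v hv.1 u hu.1).symm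
  have hconj : ∀ m ∈ C, ∀ t, T₁ t ∨ T₂ t → T₁ (m * t * m⁻¹) ∨ T₂ (m * t * m⁻¹) := by
    intro m hm t ht
    apply hsplit
    · apply hnL m hm
      rcases ht with ht | ht
      · exact hL₁ ht.1
      · exact hL₂ ht.1
    · have h1 : t * t = j := by
        rcases ht with ht | ht <;> exact ht.2
      calc m * t * m⁻¹ * (m * t * m⁻¹) = m * (t * t) * m⁻¹ := by group
        _ = j := by rw [h1, hCj m hm]
  obtain ⟨τ₁, hτ₁, hτ₁2⟩ := S₁.exists_four
  obtain ⟨τ₂, hτ₂, hτ₂2⟩ := S₂.exists_four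
  have hTτ₁ : T₁ τ₁ := ⟨hτ₁, hτ₁2⟩
  have hTτ₂ : T₂ τ₂ := ⟨hτ₂, hτ₂2⟩
  have hex₁ : ∀ t, T₁ t → ∃ r, T₁ r ∧ r * t ≠ t * r := by
    rintro t ⟨h1, h2⟩
    obtain ⟨r, hr, hr2, hrt⟩ := S₁.exists_noncomm h1 h2
    exact ⟨r, ⟨hr, hr2⟩, hrt⟩
  have hex₂ : ∀ t, T₂ t → ∃ r, T₂ r ∧ r * t ≠ t * r := by
    rintro t ⟨h1, h2⟩
    obtain ⟨r, hr, hr2, hrt⟩ := S₂.exists_noncomm h1 h2
    exact ⟨r, ⟨hr, hr2⟩, hrt⟩
  have hjcen : ∀ r ∈ L, r * j = j * r := by
    intro r hr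
    exact (Subgroup.mem_centralizer_iff.1 (hle hr) j rfl).symm
  have hce₁ : ∀ t s, T₁ t → T₁ s → t * s = s * t → ∀ r, T₁ r → r * t ≠ t * r → r * s ≠ s * r := by
    rintro t s ⟨ht, ht2⟩ ⟨hs, hs2⟩ hts r hr hrt hrs
    apply hrt
    rcases S₁.comm_eq ht hs ht2 hs2 hts with rfl | rfl
    · exact hrs
    · have hrL : r ∈ L := hL₁ hr.1
      have h1 : r * (j * t) = (j * t) * r := hrs
      have h2 : j * (r * t) = j * (t * r) := by
        calc j * (r * t) = (j * r) * t := by group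
          _ = (r * j) * t := by rw [hjcen r hrL]
          _ = r * (j * t) := by group
          _ = (j * t) * r := h1
          _ = j * (t * r) := by group
      exact mul_left_cancel h2
  have hce₂ : ∀ t s, T₂ t → T₂ s → t * s = s * t → ∀ r, T₂ r → r * t ≠ t * r → r * s ≠ s * r := by
    rintro t s ⟨ht, ht2⟩ ⟨hs, hs2⟩ hts r hr hrt hrs
    apply hrt
    rcases S₂.comm_eq ht hs ht2 hs2 hts with rfl | rfl
    · exact hrs
    · have hrL : r ∈ L := hL₂ hr.1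
      have h1 : r * (j * t) = (j * t) * r := hrs
      have h2 : j * (r * t) = j * (t * r) := by
        calc j * (r * t) = (j * r) * t := by group
          _ = (r * j) * t := by rw [hjcen r hrL]
          _ = r * (j * t) := by group
          _ = (j * t) * r := h1
          _ = j * (t * r) := by group
      exact mul_left_cancel h2
  -- dichotomies
  have hD₁ : ∀ m ∈ C, (∀ t, T₁ t → T₁ (m * t * m⁻¹)) ∨ (∀ t, T₁ t → T₂ (m * t * m⁻¹)) := by
    intro m hm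
    have hspl : ∀ t, T₁ t → T₁ (m * t * m⁻¹) ∨ T₂ (m * t * m⁻¹) :=
      fun t ht => hconj m hm t (Or.inl ht)
    have hspl' : ∀ t, T₁ t → T₂ (m * t * m⁻¹) ∨ T₁ (m * t * m⁻¹) :=
      fun t ht => (hspl t ht).symm
    rcases hspl τ₁ hTτ₁ with h | h
    · left
      intro t ht
      exact conn T₁ T₁ T₂ m hT12 hspl hex₁ hce₁ τ₁ t hTτ₁ ht h
    · right
      intro t ht
      exact conn T₁ T₂ T₁ m hT21 hspl' hex₁ hce₁ τ₁ t hTτ₁ ht h
  have hD₂ : ∀ m ∈ C, (∀ t, T₂ t → T₂ (m * t * m⁻¹)) ∨ (∀ t, T₂ t → T₁ (m * t * m⁻¹)) := by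
    intro m hm
    have hspl : ∀ t, T₂ t → T₁ (m * t * m⁻¹) ∨ T₂ (m * t * m⁻¹) :=
      fun t ht => hconj m hm t (Or.inr ht)
    have hspl' : ∀ t, T₂ t → T₂ (m * t * m⁻¹) ∨ T₁ (m * t * m⁻¹) :=
      fun t ht => (hspl t ht).symm
    rcases hspl' τ₂ hTτ₂ with h | h
    · left
      intro t ht
      exact conn T₂ T₂ T₁ m hT21 hspl' hex₂ hce₂ τ₂ t hTτ₂ ht h
    · right
      intro t ht
      exact conn T₂ T₁ T₂ m hT12 hspl hex₂ hce₂ τ₂ t hTτ₂ ht h
  have hninv : n⁻¹ ∈ C := inv_mem hn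
  have hnn : ∀ t : G, n⁻¹ * (n * t * n⁻¹) * n⁻¹⁻¹ = t := by intro t; group
  -- centralizers
  have hC₁ : ∀ x ∈ L, (∀ t, T₂ t → x * t = t * x) → x ∈ L₁ := by
    intro x hx hcx
    obtain ⟨l₁, hl₁, l₂, hl₂, rfl⟩ := Cfsg.Agent.Lib.OddOrder.TypeP.mem_sup_of_commute L₁ L₂ hc x hx
    have h1 : ∀ t ∈ L₂, t * t = j → l₂ * t = t * l₂ := by
      intro t ht ht2
      have h2 := hcx t ⟨ht, ht2⟩
      have h3 : l₁ * (l₂ * t) = l₁ * (t * l₂) := by
        calc l₁ * (l₂ * t) = l₁ * l₂ * t := by group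
          _ = t * (l₁ * l₂) := h2
          _ = (t * l₁) * l₂ := by group
          _ = (l₁ * t) * l₂ := by rw [hc l₁ hl₁ t ht]
          _ = l₁ * (t * l₂) := by group
      exact mul_left_cancel h3
    rcases S₂.center hl₂ h1 with rfl | rfl
    · rwa [mul_one]
    · exact mul_mem hl₁ hjm.1
  have hC₂ : ∀ x ∈ L, (∀ t, T₁ t → x * t = t * x) → x ∈ L₂ := by
    intro x hx hcx
    obtain ⟨l₁, hl₁, l₂, hl₂, rfl⟩ := Cfsg.Agent.Lib.OddOrder.TypeP.mem_sup_of_commute L₁ L₂ hc x hx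
    have h1 : ∀ t ∈ L₁, t * t = j → l₁ * t = t * l₁ := by
      intro t ht ht2
      have h2 := hcx t ⟨ht, ht2⟩
      have h3 : (l₁ * t) * l₂ = (t * l₁) * l₂ := by
        calc (l₁ * t) * l₂ = l₁ * (t * l₂) := by group
          _ = l₁ * (l₂ * t) := by rw [hc t ht l₂ hl₂]
          _ = l₁ * l₂ * t := by group
          _ = t * (l₁ * l₂) := h2
          _ = (t * l₁) * l₂ := by group
      exact mul_right_cancel h3
    rcases S₁.center hl₁ h1 with rfl | rfl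
    · rwa [one_mul]
    · exact mul_mem hjm.2 hl₂
  -- the general transport step
  have key : ∀ m ∈ C, ∀ (P P' : Subgroup G) (TQ TQ' : G → Prop), P ≤ L →
      (∀ x ∈ P, ∀ t, TQ t → x * t = t * x) →
      (∀ x ∈ L, (∀ t, TQ' t → x * t = t * x) → x ∈ P') →
      (∀ t, TQ' t → TQ (m⁻¹ * t * m)) → ∀ x ∈ P, m * x * m⁻¹ ∈ P' := by
    intro m hm P P' TQ TQ' hPL hcomm hP' hT x hx
    apply hP' _ (hnL m hm x (hPL hx))
    intro t ht
    have h1 := hcomm x hx _ (hT t ht)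
    have h2 : m * (x * (m⁻¹ * t * m)) * m⁻¹ = m * ((m⁻¹ * t * m) * x) * m⁻¹ := by rw [h1]
    calc m * x * m⁻¹ * t = m * (x * (m⁻¹ * t * m)) * m⁻¹ := by group
      _ = m * ((m⁻¹ * t * m) * x) * m⁻¹ := h2
      _ = t * (m * x * m⁻¹) := by group
  have hcomm₁ : ∀ x ∈ L₁, ∀ t, T₂ t → x * t = t * x := fun x hx t ht => hc x hx t ht.1
  have hcomm₂ : ∀ x ∈ L₂, ∀ t, T₁ t → x * t = t * x := fun x hx t ht => (hc t ht.1 x hx).symm
  have hinvinv : ∀ t : G, n⁻¹⁻¹ * t * n⁻¹ = n * t * n⁻¹ := by intro t; group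
  rcases hD₁ n hn with hfix | hswap
  · -- `n` fixes `T₁`
    left
    have h₂ : ∀ t, T₂ t → T₂ (n * t * n⁻¹) := by
      rcases hD₂ n hn with h | hbad
      · exact h
      · exfalso
        rcases hD₁ n⁻¹ hninv with h3 | h3
        · have h4 := h3 _ (hbad τ₂ hTτ₂)
          rw [hnn] at h4
          exact hdisj τ₂ h4 hTτ₂
        · have h4 := h3 _ (hfix τ₁ hTτ₁)
          rw [hnn] at h4
          exact hdisj τ₁ hTτ₁ h4
    have h₃ : ∀ t, T₁ t → T₁ (n⁻¹ * t * n) := by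
      rcases hD₁ n⁻¹ hninv with h3 | h3
      · intro t ht
        have := h3 t ht
        simpa using this
      · exfalso
        have h4 := h3 _ (hfix τ₁ hTτ₁)
        rw [hnn] at h4
        exact hdisj τ₁ hTτ₁ h4
    have h₄ : ∀ t, T₂ t → T₂ (n⁻¹ * t * n) := by
      rcases hD₂ n⁻¹ hninv with h3 | h3
      · intro t ht
        have := h3 t ht
        simpa using this
      · exfalso
        have h4 := h3 _ (h₂ τ₂ hTτ₂)
        rw [hnn] at h4
        exact hdisj τ₂ h4 hTτ₂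
    constructor
    · apply map_conj_eq
      · exact key n hn L₁ L₁ T₂ T₂ hL₁ hcomm₁ hC₁ h₄
      · intro x hx
        have := key n⁻¹ hninv L₁ L₁ T₂ T₂ hL₁ hcomm₁ hC₁ (by
          intro t ht
          have := h₂ t ht
          simpa using this) x hx
        simpa using this
    · apply map_conj_eq
      · exact key n hn L₂ L₂ T₁ T₁ hL₂ hcomm₂ hC₂ h₃
      · intro x hx
        have := key n⁻¹ hninv L₂ L₂ T₁ T₁ hL₂ hcomm₂ hC₂ (by
          intro t ht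
          have := hfix t ht
          simpa using this) x hx
        simpa using this
  · -- `n` swaps
    right
    have h₂ : ∀ t, T₂ t → T₁ (n * t * n⁻¹) := by
      rcases hD₂ n hn with hbad | h
      · exfalso
        rcases hD₂ n⁻¹ hninv with h3 | h3
        · have h4 := h3 _ (hswap τ₁ hTτ₁)
          rw [hnn] at h4
          exact hdisj τ₁ hTτ₁ h4
        · have h4 := h3 _ (hbad τ₂ hTτ₂)
          rw [hnn] at h4
          exact hdisj τ₂ h4 hTτ₂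
      · exact h
    have h₃ : ∀ t, T₂ t → T₁ (n⁻¹ * t * n) := by
      rcases hD₂ n⁻¹ hninv with h3 | h3
      · exfalso
        have h4 := h3 _ (hswap τ₁ hTτ₁)
        rw [hnn] at h4
        exact hdisj τ₁ hTτ₁ h4
      · intro t ht
        have := h3 t ht
        simpa using this
    have h₄ : ∀ t, T₁ t → T₂ (n⁻¹ * t * n) := by
      rcases hD₁ n⁻¹ hninv with h3 | h3
      · exfalso
        have h4 := h3 _ (h₂ τ₂ hTτ₂)
        rw [hnn] at h4
        exact hdisj τ₂ h4 hTτ₂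
      · intro t ht
        have := h3 t ht
        simpa using this
    -- `L₁ → L₂`
    have hm12 : ∀ x ∈ L₁, n * x * n⁻¹ ∈ L₂ :=
      key n hn L₁ L₂ T₂ T₁ hL₁ hcomm₁ hC₂ h₄
    have hm21 : ∀ x ∈ L₂, n * x * n⁻¹ ∈ L₁ :=
      key n hn L₂ L₁ T₁ T₂ hL₂ hcomm₂ hC₁ h₃
    have hm12' : ∀ x ∈ L₂, n⁻¹ * x * n ∈ L₁ := by
      intro x hx
      have := key n⁻¹ hninv L₂ L₁ T₁ T₂ hL₂ hcomm₂ hC₁ (by
        intro t ht
        have := h₂ t ht
        simpa using this) x hx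
      simpa using this
    have hmap : L₁.map (MulAut.conj n).toMonoidHom = L₂ := map_conj_eq n L₁ L₂ hm12 hm12'
    refine ⟨hmap, ?_, ?_⟩
    · apply card_eq_of_card_sl_eq
      rw [← Nat.card_congr e₁.toEquiv, ← Nat.card_congr e₂.toEquiv, ← hmap]
      exact Nat.card_congr (Subgroup.equivMapOfInjective L₁ _ (MulAut.conj n).injective).toEquiv
    · obtain ⟨l₁, hl₁, l₂, hl₂, hll⟩ :=
        Cfsg.Agent.Lib.OddOrder.TypeP.mem_sup_of_commute L₁ L₂ hc (n * n) hn2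
      set n₀ := n * l₁⁻¹ with hn₀
      have hl₁C : l₁ ∈ C := hle (hL₁ hl₁)
      refine ⟨n₀, C.mul_mem hn (C.inv_mem hl₁C), ?_, ?_, ?_⟩
      · intro h
        apply hn'
        have h1 : n = n₀ * l₁ := by rw [hn₀]; group
        rw [h1]
        exact mul_mem h (hL₁ hl₁)
      · apply map_conj_eq
        · intro x hx
          have h1 := hm12 (l₁⁻¹ * x * l₁) (mul_mem (mul_mem (inv_mem hl₁) hx) hl₁)
          have h2 : n₀ * x * n₀⁻¹ = n * (l₁⁻¹ * x * l₁) * n⁻¹ := by rw [hn₀]; group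
          rw [h2]; exact h1
        · intro x hx
          have h1 := hm12' x hx
          have h2 : n₀⁻¹ * x * n₀ = l₁ * (n⁻¹ * x * n) * l₁⁻¹ := by rw [hn₀]; group
          rw [h2]
          exact mul_mem (mul_mem hl₁ h1) (inv_mem hl₁)
      · -- the square
        set φ := n * l₁ * n⁻¹ with hφ
        set ψ := n * l₂ * n⁻¹ with hψ
        have hφm : φ ∈ L₂ := hm12 l₁ hl₁
        have hψm : ψ ∈ L₁ := hm21 l₂ hl₂
        have hcl : l₁ * l₂ = l₂ * l₁ := hc _ hl₁ _ hl₂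
        have hsq : n₀ ^ 2 = φ⁻¹ * l₂ := by
          rw [pow_two, hn₀, hφ]
          calc n * l₁⁻¹ * (n * l₁⁻¹) = n * l₁⁻¹ * n⁻¹ * (n * n) * l₁⁻¹ := by group
            _ = n * l₁⁻¹ * n⁻¹ * (l₁ * l₂) * l₁⁻¹ := by rw [hll]
            _ = n * l₁⁻¹ * n⁻¹ * (l₂ * l₁) * l₁⁻¹ := by rw [hcl]
            _ = (n * l₁ * n⁻¹)⁻¹ * l₂ := by group
        have hphipsi : φ * ψ = l₁ * l₂ := by
          rw [hll.symm.symm, hφ, hψ]
          calc n * l₁ * n⁻¹ * (n * l₂ * n⁻¹) = n * (l₁ * l₂) * n⁻¹ := by group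
            _ = n * (n * n) * n⁻¹ := by rw [hll]
            _ = n * n := by group
        have hmemL₁ : φ⁻¹ * l₂ ∈ L₁ := by
          have h1 : ψ = φ⁻¹ * (l₁ * l₂) := by rw [← hphipsi]; group
          have h2 : φ⁻¹ * l₁ = l₁ * φ⁻¹ := (hc _ hl₁ _ (inv_mem hφm)).symm
          have h3 : φ⁻¹ * l₂ = l₁⁻¹ * ψ := by
            rw [h1]
            calc φ⁻¹ * l₂ = l₁⁻¹ * (l₁ * φ⁻¹) * l₂ := by group
              _ = l₁⁻¹ * (φ⁻¹ * l₁) * l₂ := by rw [h2]
              _ = l₁⁻¹ * (φ⁻¹ * (l₁ * l₂)) := by group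
          rw [h3]
          exact mul_mem (inv_mem hl₁) hψm
        rw [hsq, ← hm]
        exact Subgroup.mem_inf.2 ⟨hmemL₁, L₂.mul_mem (L₂.inv_mem hφm) hl₂⟩

end Cfsg.Agent.S3210
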