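import Cfsg.Statements.S3179
import Cfsg.Agent.S0280
import Cfsg.Agent.S3210
import Cfsg.Agent.Lib.InvolChar.SzEmbed
import Cfsg.Agent.Lib.GL2.SL2
import Cfsg.Agent.Lib.Classical.SLBasic

set_option autoImplicit false
open Cfsg

namespace Cfsg.Agent.S3179

open scoped Matrix MatrixGroups

/-- `GL₅(2)`. -/
abbrev G5 := GL (Fin 5) (ZMod 2)

lemma card_G5 : Nat.card G5 = 9999360 := by
  rw [Matrix.card_GL_field]
  simp [Fin.prod_univ_succ, ZMod.card]

/-- first block -/
def matA : Matrix (Fin 5) (Fin 5) (ZMod 2) :=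
  !![0,1,0,0,0; 1,1,0,0,0; 0,0,1,0,0; 0,0,0,1,0; 0,0,0,0,1]

/-- second block -/
def matB : Matrix (Fin 5) (Fin 5) (ZMod 2) :=
  !![1,0,0,0,0; 0,1,0,0,0; 0,0,0,1,0; 0,0,1,1,0; 0,0,0,0,1]

lemma matA3 : matA * (matA * matA) = 1 := by decide +kernel
lemma matA3' : (matA * matA) * matA = 1 := by decide +kernel
lemma matB3 : matB * (matB * matB) = 1 := by decide +kernel
lemma matB3' : (matB * matB) * matB = 1 := by decide +kernel

/-- first element -/
def ua : G5 := ⟨matA, matA * matA, matA3, matA3'⟩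
/-- second element -/
def ub : G5 := ⟨matB, matB * matB, matB3, matB3'⟩

lemma ua_comm : Commute ua ub := by
  apply Units.ext
  change matA * matB = matB * matA
  decide +kernel

lemma ua3 : ua ^ 3 = 1 := by
  rw [pow_three]
  apply Units.ext
  exact matA3

lemma ub3 : ub ^ 3 = 1 := by
  rw [pow_three]
  apply Units.ext
  exact matB3

lemma ua_ne_one : ua ≠ 1 := by
  intro h
  have h1 : matA = 1 := congrArg Units.val h
  revert h1
  decide +kernel

lemma ua_ne_sq : ua ≠ ua * ua := by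
  intro h
  have h1 : matA = matA * matA := congrArg Units.val h
  revert h1
  decide +kernel

lemma ub_ne_one : ub ≠ 1 := by
  intro h
  have h1 : matB = 1 := congrArg Units.val h
  revert h1
  decide +kernel

lemma ub_ne_a : ub ≠ ua := by
  intro h
  have h1 : matB = matA := congrArg Units.val h
  revert h1
  decide +kernel

lemma ub_ne_sq : ub ≠ ua * ua := by
  intro h
  have h1 : matB = matA * matA := congrArg Units.val h
  revert h1
  decide +kernel

lemma sq_ne_one : ua * ua ≠ 1 := by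
  intro h
  have h1 : matA * matA = 1 := congrArg Units.val h
  revert h1
  decide +kernel

/-- `GL₅(2)` has no element of order `9`. -/
theorem no_order_nine (g : G5) (h9 : g ^ 9 = 1) (h3 : g ^ 3 ≠ 1) : False := by
  classical
  have hp : Fact (Nat.Prime 3) := ⟨by norm_num⟩
  have hord : orderOf g = 9 := by
    have h1 : orderOf g ∣ 3 ^ 2 := orderOf_dvd_of_pow_eq_one (by norm_num [h9])
    obtain ⟨k, hk, hk'⟩ := (Nat.dvd_prime_pow Nat.prime_three).mp h1
    interval_cases k
    · exfalso; apply h3; rw [pow_zero] at hk'; rw [← orderOf_dvd_iff_pow_eq_one, hk']; norm_num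
    · exfalso; apply h3; rw [pow_one] at hk'; rw [← orderOf_dvd_iff_pow_eq_one, hk']
    · rw [hk']; norm_num
  -- the subgroup generated by `a` and `b`
  let K : Subgroup G5 := Subgroup.closure {ua, ub}
  have hK : ∀ x ∈ K, x ^ 3 = 1 := by
    have h : ∀ x ∈ K, ∃ i j : ℕ, x = ua ^ i * ub ^ j := by
      intro x hx
      induction hx using Subgroup.closure_induction with
      | mem x hx =>
        rcases hx with rfl | hx
        · exact ⟨1, 0, by simp⟩
        · rw [Set.mem_singleton_iff] at hx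
          exact ⟨0, 1, by simp [hx]⟩
      | one => exact ⟨0, 0, by simp⟩
      | mul x y _ _ hx hy =>
        obtain ⟨i, j, rfl⟩ := hx
        obtain ⟨k, l, rfl⟩ := hy
        refine ⟨i + k, j + l, ?_⟩
        have : Commute (ub ^ j) (ua ^ k) := (ua_comm.symm.pow_pow j k)
        rw [pow_add, pow_add, mul_assoc, ← mul_assoc (ub ^ j), this.eq]
        group
      | inv x _ hx =>
        obtain ⟨i, j, rfl⟩ := hx
        refine ⟨2 * i, 2 * j, ?_⟩
        have h1 : (ua ^ i * ub ^ j)⁻¹ = (ub ^ j)⁻¹ * (ua ^ i)⁻¹ := mul_inv_rev _ _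
        have h2 : (ua ^ i)⁻¹ = ua ^ (2 * i) := by
          apply inv_eq_of_mul_eq_one_left
          rw [← pow_add, show 2 * i + i = 3 * i by ring, pow_mul, ua3, one_pow]
        have h3 : (ub ^ j)⁻¹ = ub ^ (2 * j) := by
          apply inv_eq_of_mul_eq_one_left
          rw [← pow_add, show 2 * j + j = 3 * j by ring, pow_mul, ub3, one_pow]
        rw [h1, h2, h3]
        exact (ua_comm.symm.pow_pow _ _).eq
    intro x hx
    obtain ⟨i, j, rfl⟩ := h x hx
    rw [(ua_comm.pow_pow i j).mul_pow, ← pow_mul, ← pow_mul, mul_comm i, mul_comm j, pow_mul, pow_mul,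
      ua3, ub3, one_pow, one_pow, one_mul]
  have hKp : IsPGroup 3 K := fun x => ⟨1, by
    apply Subtype.ext
    simpa using hK x x.2⟩
  have hgp : IsPGroup 3 (Subgroup.zpowers g) := by
    intro x
    refine ⟨2, ?_⟩
    obtain ⟨k, hk⟩ := Subgroup.mem_zpowers_iff.mp x.2
    apply Subtype.ext
    simp only [Subgroup.coe_pow, Subgroup.coe_one]
    rw [← hk, ← zpow_natCast, ← zpow_mul, mul_comm, zpow_mul, zpow_natCast]
    simp [h9]
  obtain ⟨S₁, hS₁⟩ := hgp.exists_le_sylow
  obtain ⟨S₂, hS₂⟩ := hKp.exists_le_sylow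
  have hcard1 : Nat.card S₁ = 9 := by
    obtain ⟨k, hk⟩ := IsPGroup.iff_card.mp S₁.isPGroup'
    have h1 : Nat.card S₁ ∣ 9999360 := by
      rw [← card_G5]; exact Subgroup.card_subgroup_dvd_card _
    have h2 : 9 ∣ Nat.card S₁ := by
      have := Subgroup.card_dvd_of_le hS₁
      rwa [Nat.card_zpowers, hord] at this
    rw [hk] at h1 h2 ⊢
    have hk2 : k = 2 := by
      have h3 : k ≤ 2 := by
        by_contra hlt
        push Not at hlt
        have : 3 ^ 3 ∣ 9999360 := (pow_dvd_pow 3 hlt).trans h1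
        norm_num at this
      have h4 : 2 ≤ k := by
        have : 3 ^ 2 ∣ 3 ^ k := by simpa using h2
        exact (Nat.pow_dvd_pow_iff_le_right (by norm_num)).mp this
      omega
    subst hk2
    norm_num
  have heq : Subgroup.zpowers g = S₁ := by
    apply Subgroup.eq_of_le_of_card_ge hS₁
    rw [hcard1, Nat.card_zpowers, hord]
  have hcyc₁ : IsCyclic S₁ := by
    rw [← heq]; infer_instance
  have hcyc₂ : IsCyclic S₂ := isCyclic_of_surjective (Sylow.equiv S₁ S₂) (Sylow.equiv S₁ S₂).surjective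
  have hfin : Fintype (S₂ : Subgroup G5) := Fintype.ofFinite _
  have hle := IsCyclic.card_pow_eq_one_le (α := (S₂ : Subgroup G5)) (n := 3) (by norm_num)
  have hA : ua ∈ (S₂ : Subgroup G5) := hS₂ (Subgroup.subset_closure (by simp))
  have hB : ub ∈ (S₂ : Subgroup G5) := hS₂ (Subgroup.subset_closure (by simp))
  let sa : (S₂ : Subgroup G5) := ⟨ua, hA⟩
  let sb : (S₂ : Subgroup G5) := ⟨ub, hB⟩
  have hsub : ({1, sa, sa * sa, sb} : Finset (S₂ : Subgroup G5)) ⊆
      Finset.univ.filter (fun x : (S₂ : Subgroup G5) => x ^ 3 = 1) := by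
    intro x hx
    simp only [Finset.mem_insert, Finset.mem_singleton] at hx
    simp only [Finset.mem_filter, Finset.mem_univ, true_and]
    have ha3 : sa ^ 3 = 1 := Subtype.ext ua3
    have hb3 : sb ^ 3 = 1 := Subtype.ext ub3
    rcases hx with rfl | rfl | rfl | rfl
    · simp
    · exact ha3
    · rw [← pow_two, ← pow_mul, mul_comm, pow_mul, ha3, one_pow]
    · exact hb3
  have hcard4 : ({1, sa, sa * sa, sb} : Finset (S₂ : Subgroup G5)).card = 4 := by
    rw [Finset.card_insert_of_notMem, Finset.card_insert_of_notMem, Finset.card_insert_of_notMem,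
      Finset.card_singleton]
    · simp only [Finset.mem_singleton]
      intro h
      exact ub_ne_sq (congrArg Subtype.val h).symm
    · simp only [Finset.mem_insert, Finset.mem_singleton, not_or]
      refine ⟨fun h => ua_ne_sq (congrArg Subtype.val h), fun h => ub_ne_a (congrArg Subtype.val h).symm⟩
    · simp only [Finset.mem_insert, Finset.mem_singleton, not_or]
      refine ⟨fun h => ua_ne_one (congrArg Subtype.val h).symm,
        fun h => sq_ne_one (congrArg Subtype.val h).symm,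
        fun h => ub_ne_one (congrArg Subtype.val h).symm⟩
  have h6 := Finset.card_le_card hsub
  rw [hcard4] at h6
  have h7 : 4 ≤ 3 := h6.trans hle
  omega


/-- characteristic two from the order -/
lemma charP_two {F : Type*} [Field F] [Fintype F] {n : ℕ} (hn : n ≠ 0)
    (hF : Fintype.card F = 2 ^ n) : CharP F 2 := by
  obtain ⟨p, hp⟩ := CharP.exists F
  obtain ⟨k, hprime, hcard⟩ := FiniteField.card F p
  have h1 : p ∣ 2 ^ n := by
    rw [← hF, hcard]
    exact dvd_pow_self p k.ne_zero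
  have h2 : p ∣ 2 := hprime.dvd_of_dvd_pow h1
  have h3 : p = 2 := (Nat.prime_dvd_prime_iff_eq hprime Nat.prime_two).mp h2
  subst h3
  exact hp

/-- an order nine element of `SL₂(8)`. -/
lemma exists_sl2_order_nine {F : Type*} [Field F] [Fintype F] (hF : Fintype.card F = 8) :
    ∃ g : Matrix.SpecialLinearGroup (Fin 2) F, g ^ 9 = 1 ∧ g ^ 3 ≠ 1 := by
  classical
  have hch : CharP F 2 := charP_two (n := 3) (by norm_num) (by rw [hF]; norm_num)
  have h2 : (2 : F) = 0 := CharTwo.two_eq_zero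
  -- a root of the cubic
  obtain ⟨t, ht⟩ : ∃ t : F, t ^ 3 + t + 1 = 0 := by
    obtain ⟨x, hx⟩ : ∃ x : F, x ≠ 0 ∧ x ≠ 1 := by
      by_contra hcon
      push Not at hcon
      have hsub : (Finset.univ : Finset F) ⊆ {0, 1} := by
        intro x _
        by_cases h0 : x = 0
        · simp [h0]
        · simp [hcon x h0]
      have := Finset.card_le_card hsub
      rw [Finset.card_univ, hF] at this
      have h3 : ({0, 1} : Finset F).card ≤ 2 := Finset.card_le_two
      omega
    have h8 : x ^ 8 = x := by rw [← hF]; exact FiniteField.pow_card x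
    have h7 : x ^ 7 = 1 := by
      apply mul_left_cancel₀ hx.1
      rw [← pow_succ', h8, mul_one]
    have hprod : (x + 1) * ((x ^ 3 + x + 1) * (x ^ 3 + x ^ 2 + 1)) = 0 := by
      grind
    have hx1 : x + 1 ≠ 0 := by
      intro h
      apply hx.2
      have : x = -1 := eq_neg_of_add_eq_zero_left h
      rw [this, CharTwo.neg_eq]
    rcases mul_eq_zero.mp ((mul_eq_zero.mp hprod).resolve_left hx1) with h | h
    · exact ⟨x, h⟩
    · exact ⟨x + 1, by grind⟩
  open Cfsg.Agent.Lib.GL2.SL2 in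
  have hg : ∀ i j, ((comp t : Matrix.SpecialLinearGroup (Fin 2) F) : Matrix (Fin 2) (Fin 2) F) i j =
      (!![0, 1; 1, t] : Matrix (Fin 2) (Fin 2) F) i j := by
    intro i j
    fin_cases i <;> fin_cases j <;> simp [CharTwo.neg_eq]
  set g : Matrix.SpecialLinearGroup (Fin 2) F := Cfsg.Agent.Lib.GL2.SL2.comp t with hgdef
  have h00 : ((g * g * g : Matrix.SpecialLinearGroup (Fin 2) F) : Matrix (Fin 2) (Fin 2) F) 0 0 = t := by
    simp only [Cfsg.Agent.Lib.GL2.SL2.mul_entries, hg]
    simp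
  have h01 : ((g * g * g : Matrix.SpecialLinearGroup (Fin 2) F) : Matrix (Fin 2) (Fin 2) F) 0 1 = t ^ 2 + 1 := by
    simp only [Cfsg.Agent.Lib.GL2.SL2.mul_entries, hg]
    simp
    grind
  have h10 : ((g * g * g : Matrix.SpecialLinearGroup (Fin 2) F) : Matrix (Fin 2) (Fin 2) F) 1 0 = t ^ 2 + 1 := by
    simp only [Cfsg.Agent.Lib.GL2.SL2.mul_entries, hg]
    simp
    grind
  have h11 : ((g * g * g : Matrix.SpecialLinearGroup (Fin 2) F) : Matrix (Fin 2) (Fin 2) F) 1 1 = t + 1 := by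
    simp only [Cfsg.Agent.Lib.GL2.SL2.mul_entries, hg]
    simp
    grind
  refine ⟨g, ?_, ?_⟩
  · have e : g ^ 9 = (g * g * g) * (g * g * g) * (g * g * g) := by
      simp only [pow_succ, pow_zero, one_mul, mul_assoc]
    rw [e]
    apply Cfsg.Agent.Lib.GL2.SL2.ext_sl <;>
      simp only [Cfsg.Agent.Lib.GL2.SL2.mul_entries (g * g * g * (g * g * g)), Cfsg.Agent.Lib.GL2.SL2.mul_entries (g * g * g), h00, h01, h10, h11] <;> simp <;> grind
  · rw [pow_three']
    intro h
    rw [h] at h01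
    simp at h01
    have h3 : t = 1 := by grind
    rw [h3] at ht
    grind


/-- The order of `PSL₂` in characteristic two. -/
lemma card_psl2 {F : Type*} [Field F] [Fintype F] {n : ℕ} (hn : 2 ≤ n)
    (hF : Fintype.card F = 2 ^ n) :
    Nat.card (Matrix.ProjectiveSpecialLinearGroup (Fin 2) F) = 2 ^ n * ((2 ^ n) ^ 2 - 1) ∧
    Nat.card (Subgroup.center (Matrix.SpecialLinearGroup (Fin 2) F)) = 1 := by
  have h1 := Cfsg.Agent.S3210.card_sl_eq F
  have h2 := Cfsg.Agent.Lib.Classical.SLBasic.card_sl_eq_mul_card_psl (ι := Fin 2) (F := F)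
  have h3 := Cfsg.Agent.Lib.Classical.SLBasic.card_center_sl (ι := Fin 2) (F := F)
  have h4 : Nat.gcd (Fintype.card F - 1) (Fintype.card (Fin 2)) = 1 := by
    rw [hF, Fintype.card_fin]
    apply Nat.Coprime.symm
    rw [Nat.Prime.coprime_iff_not_dvd Nat.prime_two]
    obtain ⟨k, rfl⟩ : ∃ k, n = k + 1 := ⟨n - 1, by omega⟩
    have : 1 ≤ 2 ^ k := Nat.one_le_two_pow
    rw [pow_succ]
    omega
  rw [h4] at h3
  rw [h1, h3, mul_one, hF] at h2
  exact ⟨h2.symm, h3⟩


/-- The conjugacy: `L₂(8)` is not a section of `GL₅(2)`. -/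
lemma not_L28 {H : Subgroup (GL (Fin 5) (ZMod 2))} {K : Subgroup ↥H} [K.Normal]
    {F : Type} [Field F] [Fintype F] (hF : Fintype.card F = 8)
    (e : ↥H ⧸ K ≃* Matrix.ProjectiveSpecialLinearGroup (Fin 2) F) : False := by
  have hc := (card_psl2 (F := F) (n := 3) (by norm_num) (by rw [hF]; norm_num)).2
  have hbot : Subgroup.center (Matrix.SpecialLinearGroup (Fin 2) F) = ⊥ :=
    Subgroup.eq_bot_of_card_eq _ hc
  obtain ⟨g, hg9, hg3⟩ := exists_sl2_order_nine hF
  let y : Matrix.ProjectiveSpecialLinearGroup (Fin 2) F := QuotientGroup.mk g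
  have hy9 : y ^ 9 = 1 := by
    rw [← QuotientGroup.mk_pow, hg9]; rfl
  have hy3 : y ^ 3 ≠ 1 := by
    intro h
    rw [← QuotientGroup.mk_pow, QuotientGroup.eq_one_iff, hbot, Subgroup.mem_bot] at h
    exact hg3 h
  obtain ⟨h, hh⟩ := QuotientGroup.mk_surjective (e.symm y)
  have hx9 : (QuotientGroup.mk h : ↥H ⧸ K) ^ 9 = 1 := by
    rw [hh, ← map_pow, hy9, map_one]
  have hx3 : (QuotientGroup.mk h : ↥H ⧸ K) ^ 3 ≠ 1 := by
    rw [hh, ← map_pow]
    intro h1
    exact hy3 (e.symm.injective (by rw [h1, map_one]))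
  have hord : orderOf (QuotientGroup.mk h : ↥H ⧸ K) = 9 := by
    have h1 : orderOf (QuotientGroup.mk h : ↥H ⧸ K) ∣ 3 ^ 2 :=
      orderOf_dvd_of_pow_eq_one (by norm_num [hx9])
    obtain ⟨k, hk, hk'⟩ := (Nat.dvd_prime_pow Nat.prime_three).mp h1
    interval_cases k
    · exfalso; apply hx3; rw [pow_zero] at hk'; rw [← orderOf_dvd_iff_pow_eq_one, hk']; norm_num
    · exfalso; apply hx3; rw [pow_one] at hk'; rw [← orderOf_dvd_iff_pow_eq_one, hk']
    · rw [hk']; norm_num
  have hd : 9 ∣ orderOf h := by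
    rw [← hord]
    exact orderOf_map_dvd (QuotientGroup.mk' K) h
  have hne : orderOf h ≠ 0 := (orderOf_pos h).ne'
  have hord' : orderOf (h ^ (orderOf h / 9)) = 9 := orderOf_pow_orderOf_div hne hd
  have hordG : orderOf ((h ^ (orderOf h / 9) : H) : GL (Fin 5) (ZMod 2)) = 9 := by
    rw [Subgroup.orderOf_coe, hord']
  apply no_order_nine ((h ^ (orderOf h / 9) : H) : GL (Fin 5) (ZMod 2))
  · have h4 := pow_orderOf_eq_one ((h ^ (orderOf h / 9) : H) : GL (Fin 5) (ZMod 2))
    rwa [hordG] at h4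
  · intro h3
    have := orderOf_dvd_of_pow_eq_one h3
    rw [hordG] at this
    norm_num at this

theorem result {H : Subgroup (GL (Fin 5) (ZMod 2))}
    {K : Subgroup ↥H} [K.Normal]
    (hX : (∃ (n : ℕ) (F : Type) (_ : Field F) (_ : Fintype F), 2 ≤ n ∧ Fintype.card F = 2 ^ n ∧
        Nonempty (↥H ⧸ K ≃* Matrix.ProjectiveSpecialLinearGroup (Fin 2) F)) ∨
      (∃ (m : ℕ) (F : Type) (_ : Field F) (_ : Fintype F), 1 ≤ m ∧ Fintype.card F = 2 ^ (2 * m + 1) ∧
        Nonempty (↥H ⧸ K ≃* ↥(Cfsg.Lie.Sz F (2 ^ (m + 1))))) ∨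
      (∃ (n : ℕ) (F : Type) (_ : Field F) (_ : Fintype F), 2 ≤ n ∧ Fintype.card F = 4 ^ n ∧
        Nonempty (↥H ⧸ K ≃* Cfsg.PSU 3 F (2 ^ n)))) :
    ∃ (F : Type) (_ : Field F) (_ : Fintype F), Fintype.card F = 4 ∧
      Nonempty (↥H ⧸ K ≃* Matrix.ProjectiveSpecialLinearGroup (Fin 2) F) := by
  have hN : Nat.card (↥H ⧸ K) ∣ 9999360 := by
    rw [← card_G5]
    exact (Subgroup.card_quotient_dvd_card K).trans (Subgroup.card_subgroup_dvd_card H)
  rcases hX with ⟨n, F, _, _, hn, hF, ⟨e⟩⟩ | ⟨m, F, _, _, hm, hF, ⟨e⟩⟩ | ⟨n, F, _, _, hn, hF, ⟨e⟩⟩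
  · have hc := card_psl2 hn hF
    rw [Nat.card_congr e.toEquiv, hc.1] at hN
    have hn10 : n ≤ 10 := by
      by_contra hlt
      push Not at hlt
      have : 2 ^ 11 ∣ 9999360 := (pow_dvd_pow 2 hlt).trans ((dvd_mul_right _ _).trans hN)
      norm_num at this
    interval_cases n
    · exact ⟨F, inferInstance, inferInstance, by rw [hF]; norm_num, ⟨e⟩⟩
    · exact (not_L28 (by rw [hF]; norm_num) e).elim
    all_goals (exfalso; norm_num at hN)
  · have hc := Cfsg.Agent.Lib.Suzuki.Stab.ctx_of_card hm hF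
    have hd := Cfsg.Agent.Lib.InvolChar.SzEmbed.card_dvd hc
    rw [← Nat.card_congr e.toEquiv] at hd
    have hd' := hd.trans hN
    have hm2 : m ≤ 2 := by
      by_contra hlt
      push Not at hlt
      have h1 : (2 : ℕ) ^ 14 ∣ (2 ^ (2 * m + 1)) ^ 2 := by
        rw [← pow_mul]
        exact pow_dvd_pow 2 (by omega)
      have h2 := h1.trans (dvd_of_mul_right_dvd (dvd_of_mul_right_dvd hd'))
      norm_num at h2
    interval_cases m <;> (exfalso; norm_num at hd')
  · have hF' : Fintype.card F = (2 ^ n) ^ 2 := by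
      rw [hF, ← pow_mul, mul_comm n 2, pow_mul]; norm_num
    have h1 := Cfsg.Agent.S0280.result hF' 3 (by norm_num)
    rw [← Nat.card_congr e.toEquiv] at h1
    simp [Finset.prod_range_succ] at h1
    have hpos : 0 < 2 ^ n + 1 := by positivity
    have hgd : Nat.gcd 3 (2 ^ n + 1) ∣ 3 := Nat.gcd_dvd_left _ _
    have h2 : Nat.gcd 3 (2 ^ n + 1) * Nat.card (↥H ⧸ K) =
        (2 ^ n) ^ 3 * (((2 ^ n) ^ 2 - 1) * ((2 ^ n) ^ 3 + 1)) := by
      apply Nat.eq_of_mul_eq_mul_left hpos
      rw [mul_left_comm, h1]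
      ring
    have hn3 : n ≤ 3 := by
      by_contra hlt
      push Not at hlt
      have h3 : (2 : ℕ) ^ 12 ∣ (2 ^ n) ^ 3 := by
        rw [← pow_mul]
        exact pow_dvd_pow 2 (by omega)
      have h4 : (2 : ℕ) ^ 12 ∣ 3 * 9999360 := by
        apply h3.trans
        apply (dvd_mul_right _ (((2 ^ n) ^ 2 - 1) * ((2 ^ n) ^ 3 + 1))).trans
        rw [← h2]
        exact mul_dvd_mul hgd hN
      norm_num at h4
    interval_cases n
    · norm_num at h1
      have h3 : Nat.card (↥H ⧸ K) = 62400 := by omega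
      rw [h3] at hN
      norm_num at hN
    · norm_num at h1
      have h3 : Nat.card (↥H ⧸ K) = 5515776 := by omega
      rw [h3] at hN
      norm_num at hN

end Cfsg.Agent.S3179
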