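import Cfsg.Statements.S3282
import Cfsg.Agent.Lib.BSW.CaseI
import Cfsg.Agent.Lib.BSW.CaseIIc
import Cfsg.Agent.Lib.BSW.K2

set_option autoImplicit false
open Cfsg

namespace Cfsg.Agent.S3282

open Cfsg.Agent.Lib.BSW Cfsg.Agent.Lib.BSW.Setup Cfsg.Agent.Lib.BSW.Group Cfsg.Agent.Lib.BSW.Data


/-- The abstract form of the Brauer–Suzuki–Wall Theorem. Let G be a finite group with an involution t and an abelian subgroup K of H = C_G(t) containing t, such that H = K⟨s⟩ for an involution s ∉ K with C_K(s) = ⟨t⟩ and s inverting every element of K, K ∩ K^g = 1 for every g outside H, and all involutions of G conjugate. Then G has a subgroup Q, of order q say, with |G| = q(q+1)(q−1)/2, C_G(x) = Q for every non-identity x ∈ Q, N_G(Q) = QD for an abelian subgroup D of order (q−1)/2 meeting Q trivially, and for every nontrivial subgroup X of D, N_G(X) = N_G(D) = D⟨u⟩ for some involution u ∉ D inverting D. -/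
theorem result {G : Type*} [Group G] [Finite G] (t : G) (ht : orderOf t = 2)
    (K : Subgroup G) (hKab : IsMulCommutative ↥K) (hKH : K ≤ Subgroup.centralizer ({t} : Set G)) (htK : t ∈ K)
    (s : G) (hs : orderOf s = 2) (hsH : s ∈ Subgroup.centralizer ({t} : Set G)) (hsK : s ∉ K)
    (hH : K ⊔ Subgroup.zpowers s = Subgroup.centralizer ({t} : Set G)) (hCK : K ⊓ Subgroup.centralizer ({s} : Set G) = Subgroup.zpowers t)
    (hinv : ∀ x ∈ K, s * x * s⁻¹ = x⁻¹)
    (hTI : ∀ g : G, g ∉ Subgroup.centralizer ({t} : Set G) → K ⊓ K.map (MulAut.conj g).toMonoidHom = ⊥)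
    (hconj : ∀ x y : G, orderOf x = 2 → orderOf y = 2 → IsConj x y) :
    ∃ Q D : Subgroup G, 2 * Nat.card G = Nat.card ↥Q * (Nat.card ↥Q + 1) * (Nat.card ↥Q - 1) ∧
      (∀ x ∈ Q, x ≠ 1 → Subgroup.centralizer ({x} : Set G) = Q) ∧
      IsMulCommutative ↥D ∧ 2 * Nat.card ↥D + 1 = Nat.card ↥Q ∧ Q ⊓ D = ⊥ ∧
      Subgroup.normalizer (Q : Set G) = Q ⊔ D ∧
      ∀ X : Subgroup G, X ≤ D → X ≠ ⊥ →
        Subgroup.normalizer (X : Set G) = Subgroup.normalizer (D : Set G) ∧
        ∃ u : G, orderOf u = 2 ∧ u ∉ D ∧ (∀ d ∈ D, u * d * u⁻¹ = d⁻¹) ∧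
          Subgroup.normalizer (D : Set G) = D ⊔ Subgroup.zpowers u := by
  classical
  have hsq : s * s = 1 := by
    have := pow_orderOf_eq_one s
    rwa [hs, sq] at this
  have hsi : s⁻¹ = s := inv_eq_of_mul_eq_one_left hsq
  have htt : t * t = 1 := by
    have := pow_orderOf_eq_one t
    rwa [ht, sq] at this
  have hcomm : ∀ a ∈ K, ∀ b ∈ K, a * b = b * a := fun a ha b hb =>
    congrArg Subtype.val (hKab.is_comm.comm ⟨a, ha⟩ ⟨b, hb⟩)
  have hsc : ∀ x ∈ K, s * x * s = x⁻¹ := fun x hx => by
    have := hinv x hx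
    rwa [hsi] at this
  let S : Subgroup G :=
    { carrier := {g | g ∈ K ∨ ∃ x ∈ K, g = s * x}
      mul_mem' := by
        rintro a b (ha | ⟨x, hx, rfl⟩) (hb | ⟨y, hy, rfl⟩)
        · exact Or.inl (K.mul_mem ha hb)
        · refine Or.inr ⟨a⁻¹ * y, K.mul_mem (K.inv_mem ha) hy, ?_⟩
          have h1 := hsc a ha
          calc a * (s * y) = s * (s * a * s) * y := by
                calc a * (s * y) = (s * s) * a * (s * y) := by rw [hsq, one_mul]
                  _ = _ := by group
            _ = s * (a⁻¹ * y) := by rw [h1]; group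
        · exact Or.inr ⟨x * b, K.mul_mem hx hb, by group⟩
        · refine Or.inl ?_
          have h1 := hsc x hx
          have : s * x * (s * y) = (s * x * s) * y := by group
          rw [this, h1]
          exact K.mul_mem (K.inv_mem hx) hy
      one_mem' := Or.inl K.one_mem
      inv_mem' := by
        rintro a (ha | ⟨x, hx, rfl⟩)
        · exact Or.inl (K.inv_mem ha)
        · refine Or.inr ⟨x, hx, ?_⟩
          have h1 := hsc x hx
          have h2 : (s * x)⁻¹ = x⁻¹ * s := by rw [mul_inv_rev, hsi]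
          rw [h2, ← h1]
          calc s * x * s * s = s * x * (s * s) := by group
            _ = s * x := by rw [hsq, mul_one] }
  have hSsup : K ⊔ Subgroup.zpowers s ≤ S := by
    apply sup_le
    · exact fun a ha => Or.inl ha
    · rw [Subgroup.zpowers_le]
      exact Or.inr ⟨1, K.one_mem, by simp⟩
  have hyp : Hyp t s K :=
    { ht := ht
      hs := hs
      hcomm := hcomm
      hKt := fun a ha => Subgroup.mem_centralizer_singleton_iff.mp (hKH ha)
      htK := htK
      hst := Subgroup.mem_centralizer_singleton_iff.mp hsH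
      hsK := hsK
      hH := fun g hg => by
        have h1 : g ∈ Subgroup.centralizer ({t} : Set G) :=
          Subgroup.mem_centralizer_singleton_iff.mpr hg
        rw [← hH] at h1
        exact hSsup h1
      hinv := hinv
      hK2 := fun x hx h2 => by
        have hxi : x⁻¹ = x := inv_eq_of_mul_eq_one_left h2
        have h3 : x ∈ Subgroup.centralizer ({s} : Set G) := by
          rw [Subgroup.mem_centralizer_singleton_iff]
          have h4 := hinv x hx
          rw [hxi, hsi] at h4
          calc x * s = (s * x * s) * s := by rw [h4]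
            _ = s * x * (s * s) := by group
            _ = s * x := by rw [hsq, mul_one]
        have h5 : x ∈ K ⊓ Subgroup.centralizer ({s} : Set G) := ⟨hx, h3⟩
        rw [hCK] at h5
        obtain ⟨i, rfl⟩ := Subgroup.mem_zpowers_iff.mp h5
        rcases Int.even_or_odd i with ⟨j, rfl⟩ | ⟨j, rfl⟩
        · left
          have e : t ^ (j + j) = (t ^ (2 : ℤ)) ^ j := by rw [← zpow_mul, two_mul]
          rw [e, zpow_two, htt, one_zpow]
        · right
          have e : t ^ (2 * j + 1) = (t ^ (2 : ℤ)) ^ j * t := by rw [← zpow_mul, zpow_add_one]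
          rw [e, zpow_two, htt, one_zpow, one_mul]
      hTI := fun x hx hx1 g hg => by
        by_contra hc
        have h1 := hTI g (fun h0 => hc (Subgroup.mem_centralizer_singleton_iff.mp h0))
        have h2 : g * x * g⁻¹ ∈ K ⊓ K.map (MulAut.conj g).toMonoidHom :=
          ⟨hg, ⟨x, hx, by simp [MulAut.conj_apply]⟩⟩
        rw [h1, Subgroup.mem_bot] at h2
        exact conj_ne_one g hx1 h2
      hconj := fun x hx => hconj t x ht hx }
  have hk0 : 0 < Nat.card K := Nat.card_pos
  have hk2 := even_card_K hyp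
  change Concl G
  by_cases hk : Nat.card K = 2
  · exact K2.main hyp hk
  · have hk4 : 4 ≤ Nat.card K := by omega
    obtain ⟨d, w, H⟩ := exists_CD hyp hk4
    rcases H.hd with hd | hd
    · exact CaseI.main hyp H hd
    · exact CaseIIc.main hyp H hd hk4

end Cfsg.Agent.S3282
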