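import Cfsg.Statements.S3285
import Cfsg.Agent.Lib.CJ2Am.MEq
import Cfsg.Agent.Lib.CJ2Am.Five
import Cfsg.Agent.Lib.CJ2Am.FourAut
import Cfsg.Agent.S0205

set_option autoImplicit false
open Cfsg

namespace Cfsg.Agent.S3285

/-- Let G be a finite non-solvable group with no normal subgroup of index 2, and J an involution lying in the centre of a Sylow 2-subgroup of G whose centralizer is the internal direct product of ⟨J⟩ with a subgroup isomorphic to the alternating group of degree m. Then either m = 4 and G is isomorphic to the automorphism group PΓL(2, 8) of PSL(2, 8), or m = 5 and G is isomorphic to the first Janko group. -/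
theorem result {G : Type*} [Group G] [Finite G] (hns : ¬ Group.IsSolvable G) (h2 : ∀ N : Subgroup G, N.Normal → N.index ≠ 2)
    (J : G) (hJ : Cfsg.IsTwoCentralInvolution J) (m : ℕ) (T : Subgroup G)
    (hT : Nonempty (↥T ≃* ↥(alternatingGroup (Fin m))))
    (hd : Cfsg.IsInternalDirectProduct (Subgroup.zpowers J) T (Subgroup.centralizer ({J} : Set G))) :
    (m = 4 ∧ ∃ (F : Type) (_ : Field F) (_ : Fintype F), Fintype.card F = 8 ∧
        Nonempty (G ≃* MulAut (Matrix.ProjectiveSpecialLinearGroup (Fin 2) F))) ∨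
      (m = 5 ∧ Cfsg.Spor.IsoJ1 G) := by
  classical
  obtain ⟨hJ2, P, hJP, hJc⟩ := id hJ
  obtain ⟨φ⟩ := hT
  have hnn_of : ∀ (hcomm : ∀ x ∈ (P : Subgroup G), ∀ y ∈ (P : Subgroup G), x * y = y * x),
      ¬ (P : Subgroup G).Normal := by
    intro hcomm hn
    apply hns
    haveI := hn
    have hodd : Odd (Nat.card (G ⧸ (P : Subgroup G))) := by
      have h1 : ¬ 2 ∣ (P : Subgroup G).index := P.not_dvd_index
      exact Nat.not_even_iff_odd.mp (fun h => h1 h.two_dvd)
    haveI : Group.IsSolvable (G ⧸ (P : Subgroup G)) := Cfsg.Agent.S0205.result hodd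
    haveI : Group.IsSolvable (P : Subgroup G) := Group.isSolvable_of_comm (fun a b =>
      Subtype.ext (hcomm a a.2 b b.2))
    exact Group.isSolvable_of_ker_le_range (P : Subgroup G).subtype
      (QuotientGroup.mk' (P : Subgroup G)) (by simp)
  rcases Cfsg.Agent.Lib.CJ2Am.m_eq_four_or_five h2 J hJ m T ⟨φ⟩ hd with rfl | rfl
  · left
    have hS : Cfsg.Agent.Lib.CJ2Am.Setup J T φ P :=
      ⟨hJ2, hJP, hJc, hd, Cfsg.Agent.Lib.CJ2Am.afacts_four,
        Or.inl Cfsg.Agent.Lib.CJ2Am.card_four, h2⟩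
    exact ⟨rfl, Cfsg.Agent.Lib.CJ2Am.four_final hS (hnn_of (fun x hx y hy => hS.comm hx hy))⟩
  · right
    have hS : Cfsg.Agent.Lib.CJ2Am.Setup J T φ P :=
      ⟨hJ2, hJP, hJc, hd, Cfsg.Agent.Lib.CJ2Am.afacts_five,
        Or.inr Cfsg.Agent.Lib.CJ2Am.card_five, h2⟩
    exact ⟨rfl, Cfsg.Agent.Lib.CJ2Am.five_final hS (hnn_of (fun x hx y hy => hS.comm hx hy))⟩

end Cfsg.Agent.S3285
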