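import Cfsg.Statements.S3335
import Mathlib

set_option autoImplicit false

open Cfsg

namespace Cfsg.Agent.S3335

section Abstract

variable {G : Type*} [Group G]

/-- The defining relations of the Carmichael presentation for the elements `x 0, …, x m`. -/
structure Rels (x : ℕ → G) (m : ℕ) : Prop where
  h0 : x 0 ^ 3 = 1
  h2 : ∀ i, 1 ≤ i → i ≤ m → x i * x i = 1
  h3 : ∀ i, i + 1 ≤ m → (x i * x (i + 1)) ^ 3 = 1
  h4 : ∀ i j, i + 2 ≤ j → j ≤ m → (x i * x j) ^ 2 = 1

/-- products of the generators -/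
def uu (x : ℕ → G) (m : ℕ) : ℕ → G
  | 0 => 1
  | d + 1 => x (m - d) * uu x m d

/-- `u x m k = x k * x (k + 1) * ⋯ * x m`. -/
def u (x : ℕ → G) (m k : ℕ) : G := uu x m (m + 1 - k)

variable {x : ℕ → G} {m : ℕ}

lemma u_top : u x m (m + 1) = 1 := by simp [u, uu]

lemma u_succ {k : ℕ} (hk : k ≤ m) : u x m k = x k * u x m (k + 1) := by
  unfold u
  have h1 : m + 1 - k = (m + 1 - (k + 1)) + 1 := by omega
  rw [h1, uu]
  have h2 : m - (m + 1 - (k + 1)) = k := by omega
  rw [h2]

lemma inv_x (R : Rels x m) {i : ℕ} (h1 : 1 ≤ i) (hm : i ≤ m) : (x i)⁻¹ = x i :=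
  inv_eq_of_mul_eq_one_left (R.h2 i h1 hm)

lemma conj_x (R : Rels x m) {j k : ℕ} (hjk : j + 2 ≤ k) (hk : k ≤ m) :
    x k * x j * x k = (x j)⁻¹ := by
  have h := R.h4 j k hjk hk
  rw [pow_two] at h
  apply eq_inv_of_mul_eq_one_right
  rw [← h]
  group

lemma conj_u (R : Rels x m) (j : ℕ) : ∀ d k, k + d = m + 1 → j + 2 ≤ k →
    (u x m k)⁻¹ * x j * u x m k = x j ∨ (u x m k)⁻¹ * x j * u x m k = (x j)⁻¹ := by
  intro d
  induction d with
  | zero =>
    intro k hk _
    have : k = m + 1 := by omega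
    subst this
    left
    simp [u_top]
  | succ d ih =>
    intro k hk hjk
    have hkm : k ≤ m := by omega
    have hs := u_succ (x := x) hkm
    have e : (u x m k)⁻¹ * x j * u x m k = (u x m (k + 1))⁻¹ * (x k * x j * x k) * u x m (k + 1) := by
      rw [hs, mul_inv_rev, inv_x R (by omega) hkm]
      simp only [mul_assoc]
    rw [e, conj_x R hjk hkm]
    have einv : (u x m (k + 1))⁻¹ * (x j)⁻¹ * u x m (k + 1) =
        ((u x m (k + 1))⁻¹ * x j * u x m (k + 1))⁻¹ := by group
    rw [einv]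
    rcases ih (k + 1) (by omega) (by omega) with h | h
    · right
      rw [h]
    · left
      rw [h, inv_inv]

lemma comm_u (R : Rels x m) {j k : ℕ} (hj1 : 1 ≤ j) (hjk : j + 2 ≤ k) (hk : k ≤ m + 1) :
    x j * u x m k = u x m k * x j := by
  have hjm : j ≤ m := by omega
  have h := conj_u R j (m + 1 - k) k (by omega) hjk
  rw [inv_x R hj1 hjm, or_self] at h
  calc x j * u x m k = u x m k * ((u x m k)⁻¹ * x j * u x m k) := by group
    _ = u x m k * x j := by rw [h]

lemma comm_x (R : Rels x m) {j k : ℕ} (hk1 : 1 ≤ k) (hkj : k + 2 ≤ j) (hj : j ≤ m) :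
    x j * x k = x k * x j := by
  have h := conj_x R hkj hj
  rw [inv_x R hk1 (by omega)] at h
  calc x j * x k = (x j * x k * x j) * x j := by
        rw [mul_assoc (x j * x k), R.h2 j (by omega) hj, mul_one]
    _ = x k * x j := by rw [h]

lemma braid (R : Rels x m) {i : ℕ} (hi : 1 ≤ i) (hm : i + 1 ≤ m) :
    x (i + 1) * x i * x (i + 1) = x i * x (i + 1) * x i := by
  have h := R.h3 i hm
  have h1 : (x i * x (i + 1) * x i) * (x (i + 1) * x i * x (i + 1)) = 1 := by
    rw [← h, pow_three]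
    group
  have h2 := eq_inv_of_mul_eq_one_left h1
  rw [h2]
  simp only [mul_inv_rev, inv_x R hi (by omega), inv_x R (by omega : 1 ≤ i + 1) hm, mul_assoc]

lemma shift (R : Rels x m) {j : ℕ} (hjm : j ≤ m) : ∀ d k, k + d + 1 = j → 1 ≤ k →
    x j * u x m k = u x m k * x (j - 1) := by
  intro d
  induction d with
  | zero =>
    intro k hk hk1
    obtain rfl : j = k + 1 := by omega
    rw [Nat.add_sub_cancel]
    have h1 := u_succ (x := x) (m := m) (k := k) (by omega)
    have h2 := u_succ (x := x) (m := m) (k := k + 1) (by omega)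
    rw [h1, h2]
    have hbraid := braid R hk1 hjm
    have hc := comm_u R hk1 (k := k + 1 + 1) (by omega) (by omega)
    calc x (k + 1) * (x k * (x (k + 1) * u x m (k + 1 + 1)))
        = (x (k + 1) * x k * x (k + 1)) * u x m (k + 1 + 1) := by simp only [mul_assoc]
      _ = x k * x (k + 1) * (x k * u x m (k + 1 + 1)) := by rw [hbraid]; simp only [mul_assoc]
      _ = x k * (x (k + 1) * u x m (k + 1 + 1)) * x k := by rw [hc]; simp only [mul_assoc]
  | succ d ih =>
    intro k hk hk1
    rw [u_succ (x := x) (m := m) (k := k) (by omega), ← mul_assoc, comm_x R hk1 (by omega) hjm,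
      mul_assoc, ih (k + 1) (by omega) (by omega), mul_assoc]

/-- The subgroup generated by all but the last generator. -/
def HH (x : ℕ → G) (m : ℕ) : Subgroup G := Subgroup.closure (x '' {j | j < m})

lemma mem_HH {j : ℕ} (hj : j < m) : x j ∈ HH x m := Subgroup.subset_closure ⟨j, hj, rfl⟩

/-- Coset representatives. -/
def Rep (x : ℕ → G) (m : ℕ) (c : G) : Prop :=
  (∃ k, k ≤ m + 1 ∧ c = u x m k) ∨ c = x 0 * u x m 0

lemma three_inv {a : G} (h : a ^ 3 = 1) : a⁻¹ * a⁻¹ * a⁻¹ = 1 := by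
  have : a⁻¹ * a⁻¹ * a⁻¹ = (a ^ 3)⁻¹ := by group
  rw [this, h, inv_one]

lemma comm0 (R : Rels x m) {j : ℕ} (hj : 2 ≤ j) (hjm : j ≤ m) : x j * x 0 = (x 0)⁻¹ * x j := by
  have h := conj_x R (j := 0) (k := j) (by omega) hjm
  calc x j * x 0 = (x j * x 0 * x j) * x j := by
        rw [mul_assoc (x j * x 0), R.h2 j (by omega) hjm, mul_one]
    _ = (x 0)⁻¹ * x j := by rw [h]

lemma rel01 (R : Rels x m) (hm : 1 ≤ m) : x 1 * x 0 * x 1 = (x 0)⁻¹ * x 1 * (x 0)⁻¹ := by
  have h := R.h3 0 hm
  have h1 : x 0 * (x 1 * x 0 * x 1) * x 0 * x 1 = 1 := by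
    rw [← h, pow_three]
    group
  have hi : (x 1)⁻¹ = x 1 := inv_x R (le_refl 1) hm
  have h2 : x 1 * x 0 * x 1 = (x 0)⁻¹ * (x 0 * (x 1 * x 0 * x 1) * x 0 * x 1) * (x 1)⁻¹ * (x 0)⁻¹ := by
    group
  rw [h2, h1, hi]
  group

lemma conj_mem (R : Rels x m) {j k : ℕ} (hjk : j + 2 ≤ k) (hk : k ≤ m + 1) :
    (u x m k)⁻¹ * (x j * u x m k) ∈ HH x m := by
  rw [← mul_assoc]
  have hjm : x j ∈ HH x m := mem_HH (by omega)
  rcases conj_u R j (m + 1 - k) k (by omega) hjk with h | h
  · rw [h]
    exact hjm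
  · rw [h]
    exact (HH x m).inv_mem hjm

theorem table (R : Rels x m) {j : ℕ} (hj : j ≤ m) {c : G} (hc : Rep x m c) :
    ∃ c', Rep x m c' ∧ c'⁻¹ * (x j * c) ∈ HH x m := by
  have h00 : u x m 0 = x 0 * u x m 1 := u_succ (by omega)
  have hx3 : x 0 ^ 3 = 1 := R.h0
  rcases hc with ⟨k, hk, rfl⟩ | rfl
  · rcases Nat.eq_zero_or_pos j with rfl | hj0
    · rcases (by omega : k = 0 ∨ k = 1 ∨ 2 ≤ k) with rfl | rfl | hk2
      · exact ⟨x 0 * u x m 0, Or.inr rfl, by simp [one_mem]⟩
      · refine ⟨u x m 0, Or.inl ⟨0, by omega, rfl⟩, ?_⟩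
        rw [← h00, inv_mul_cancel]
        exact one_mem _
      · exact ⟨u x m k, Or.inl ⟨k, hk, rfl⟩, conj_mem R (by omega) hk⟩
    · rcases (by omega : j + 2 ≤ k ∨ k = j + 1 ∨ k = j ∨ (1 ≤ k ∧ k < j) ∨ k = 0) with
        hk2 | rfl | rfl | ⟨hk1, hkj⟩ | rfl
      · exact ⟨u x m k, Or.inl ⟨k, hk, rfl⟩, conj_mem R hk2 hk⟩
      · refine ⟨u x m j, Or.inl ⟨j, by omega, rfl⟩, ?_⟩
        rw [← u_succ hj, inv_mul_cancel]
        exact one_mem _
      · refine ⟨u x m (k + 1), Or.inl ⟨k + 1, by omega, rfl⟩, ?_⟩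
        have e : (u x m (k + 1))⁻¹ * (x k * u x m k) =
            (u x m (k + 1))⁻¹ * ((x k * x k) * u x m (k + 1)) := by
          rw [u_succ hj]
          simp only [mul_assoc]
        rw [e, R.h2 k hj0 hj, one_mul, inv_mul_cancel]
        exact one_mem _
      · refine ⟨u x m k, Or.inl ⟨k, hk, rfl⟩, ?_⟩
        rw [shift R hj (j - k - 1) k (by omega) hk1, ← mul_assoc, inv_mul_cancel, one_mul]
        exact mem_HH (by omega)
      · refine ⟨x 0 * u x m 0, Or.inr rfl, ?_⟩
        rw [h00]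
        rcases (by omega : j = 1 ∨ 2 ≤ j) with rfl | hj2
        · have h11 : u x m 1 = x 1 * u x m 2 := u_succ hj
          have hi : (x 1)⁻¹ = x 1 := inv_x R (le_refl 1) hj
          have hr := rel01 R hj
          have e : (x 0 * (x 0 * u x m 1))⁻¹ * (x 1 * (x 0 * u x m 1)) =
              (u x m 2)⁻¹ * (x 0)⁻¹ * u x m 2 := by
            calc (x 0 * (x 0 * u x m 1))⁻¹ * (x 1 * (x 0 * u x m 1))
                = (x 0 * (x 0 * (x 1 * u x m 2)))⁻¹ * ((x 1 * x 0 * x 1) * u x m 2) := by
                  rw [h11]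
                  simp only [mul_assoc]
              _ = (x 0 * (x 0 * (x 1 * u x m 2)))⁻¹ * (((x 0)⁻¹ * x 1 * (x 0)⁻¹) * u x m 2) := by
                  rw [hr]
              _ = (u x m 2)⁻¹ * (x 1)⁻¹ * ((x 0)⁻¹ * (x 0)⁻¹ * (x 0)⁻¹) * x 1 * (x 0)⁻¹ * u x m 2 := by
                  group
              _ = (u x m 2)⁻¹ * (x 0)⁻¹ * u x m 2 := by
                  rw [three_inv hx3]
                  group
          rw [e]
          have h3 := conj_mem R (j := 0) (k := 2) (by omega) (by omega)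
          have h4 := (HH x m).inv_mem h3
          have e2 : ((u x m 2)⁻¹ * (x 0 * u x m 2))⁻¹ = (u x m 2)⁻¹ * (x 0)⁻¹ * u x m 2 := by group
          rwa [e2] at h4
        · have hc := comm0 R hj2 hj
          have hs := shift R hj (j - 2) 1 (by omega) (le_refl 1)
          have e : (x 0 * (x 0 * u x m 1))⁻¹ * (x j * (x 0 * u x m 1)) =
              (u x m 1)⁻¹ * ((x 0)⁻¹ * (x 0)⁻¹ * (x 0)⁻¹) * u x m 1 * x (j - 1) := by
            rw [← mul_assoc (x j), hc, mul_assoc, hs]
            group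
          rw [e, three_inv hx3, mul_one, inv_mul_cancel, one_mul]
          exact mem_HH (by omega)
  · rcases (by omega : j = 0 ∨ j = 1 ∨ 2 ≤ j) with rfl | rfl | hj2
    · refine ⟨u x m 1, Or.inl ⟨1, by omega, rfl⟩, ?_⟩
      have e : (u x m 1)⁻¹ * (x 0 * (x 0 * u x m 0)) = (u x m 1)⁻¹ * x 0 ^ 3 * u x m 1 := by
        rw [h00, pow_three]
        simp only [mul_assoc]
      rw [e, hx3, mul_one, inv_mul_cancel]
      exact one_mem _
    · refine ⟨u x m 0, Or.inl ⟨0, by omega, rfl⟩, ?_⟩
      have h11 : u x m 1 = x 1 * u x m 2 := u_succ hj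
      have hr := rel01 R hj
      have e0 : x 0 * x 0 = (x 0)⁻¹ := by
        apply eq_inv_of_mul_eq_one_left
        rw [← hx3, pow_three, mul_assoc]
      have e : (u x m 0)⁻¹ * (x 1 * (x 0 * u x m 0)) = (u x m 2)⁻¹ * x 0 * u x m 2 := by
        calc (u x m 0)⁻¹ * (x 1 * (x 0 * u x m 0))
            = (x 0 * (x 1 * u x m 2))⁻¹ * (x 1 * (x 0 * (x 0 * (x 1 * u x m 2)))) := by
              rw [h00, h11]
          _ = (u x m 2)⁻¹ * (x 1)⁻¹ * ((x 0)⁻¹ * x 1 * (x 0 * x 0)) * x 1 * u x m 2 := by group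
          _ = (u x m 2)⁻¹ * (x 1)⁻¹ * (x 1 * x 0 * x 1) * x 1 * u x m 2 := by rw [e0, hr]
          _ = (u x m 2)⁻¹ * x 0 * (x 1 * x 1) * u x m 2 := by group
          _ = (u x m 2)⁻¹ * x 0 * u x m 2 := by rw [R.h2 1 (le_refl 1) hj, mul_one]
      rw [e, mul_assoc]
      exact conj_mem R (by omega) (by omega)
    · refine ⟨u x m 0, Or.inl ⟨0, by omega, rfl⟩, ?_⟩
      have hc := comm0 R hj2 hj
      have hs := shift R hj (j - 2) 1 (by omega) (le_refl 1)
      have e : (u x m 0)⁻¹ * (x j * (x 0 * u x m 0)) =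
          (u x m 1)⁻¹ * ((x 0)⁻¹ * (x 0)⁻¹ * (x 0)⁻¹) * u x m 1 * x (j - 1) := by
        have e1 : x j * (x 0 * (x 0 * u x m 1)) = (x 0)⁻¹ * ((x 0)⁻¹ * (x j * u x m 1)) := by
          calc x j * (x 0 * (x 0 * u x m 1)) = (x j * x 0) * (x 0 * u x m 1) := by
                simp only [mul_assoc]
            _ = (x 0)⁻¹ * (x j * (x 0 * u x m 1)) := by rw [hc]; simp only [mul_assoc]
            _ = (x 0)⁻¹ * ((x j * x 0) * u x m 1) := by simp only [mul_assoc]
            _ = (x 0)⁻¹ * ((x 0)⁻¹ * (x j * u x m 1)) := by rw [hc]; simp only [mul_assoc]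
        rw [h00, e1, hs]
        group
      rw [e, three_inv hx3, mul_one, inv_mul_cancel, one_mul]
      exact mem_HH (by omega)

theorem covers (R : Rels x m) (hgen : Subgroup.closure (x '' {j | j ≤ m}) = ⊤) (g : G) :
    ∃ c, Rep x m c ∧ c⁻¹ * g ∈ HH x m := by
  have hstep : ∀ j, j ≤ m → ∀ y, (∃ c, Rep x m c ∧ c⁻¹ * y ∈ HH x m) →
      ∃ c, Rep x m c ∧ c⁻¹ * (x j * y) ∈ HH x m := by
    rintro j hj y ⟨c, hc, hcy⟩
    obtain ⟨c', hc', hm⟩ := table R hj hc
    refine ⟨c', hc', ?_⟩
    have e : c'⁻¹ * (x j * y) = c'⁻¹ * (x j * c) * (c⁻¹ * y) := by group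
    rw [e]
    exact mul_mem hm hcy
  have hg : g ∈ Subgroup.closure (x '' {j | j ≤ m}) := by rw [hgen]; trivial
  induction hg using Subgroup.closure_induction_left with
  | one =>
    exact ⟨u x m (m + 1), Or.inl ⟨m + 1, le_refl _, rfl⟩, by simp [u_top, one_mem]⟩
  | mul_left a ha y hy ih =>
    obtain ⟨j, hj, rfl⟩ := ha
    exact hstep j hj y ih
  | inv_mul_cancel a ha y hy ih =>
    obtain ⟨j, hj, rfl⟩ := ha
    rcases Nat.eq_zero_or_pos j with rfl | hj0
    · have e : (x 0)⁻¹ = x 0 * x 0 := by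
        symm
        apply eq_inv_of_mul_eq_one_left
        rw [← R.h0, pow_three, mul_assoc]
      rw [e, mul_assoc]
      exact hstep 0 hj _ (hstep 0 hj y ih)
    · rw [inv_x R hj0 hj]
      exact hstep j hj y ih

/-- The counting consequence of the coset enumeration. -/
theorem card_le (R : Rels x m) (hgen : Subgroup.closure (x '' {j | j ≤ m}) = ⊤)
    [Finite (HH x m)] : Finite G ∧ Nat.card G ≤ (m + 3) * Nat.card (HH x m) := by
  let rep : Fin (m + 3) → G := fun i => if i.val ≤ m + 1 then u x m i.val else x 0 * u x m 0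
  let f : Fin (m + 3) × HH x m → G := fun p => rep p.1 * (p.2 : G)
  have hf : Function.Surjective f := by
    intro g
    obtain ⟨c, hc, hm⟩ := covers R hgen g
    rcases hc with ⟨k, hk, rfl⟩ | rfl
    · refine ⟨(⟨k, by omega⟩, ⟨_, hm⟩), ?_⟩
      simp [f, rep, hk]
    · refine ⟨(⟨m + 2, by omega⟩, ⟨_, hm⟩), ?_⟩
      simp [f, rep]
      group
  have h1 : Finite G := Finite.of_surjective f hf
  refine ⟨h1, ?_⟩
  have h2 := Nat.card_le_card_of_surjective f hf
  rwa [Nat.card_prod, Nat.card_fin] at h2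

end Abstract

section Pres

/-- The relators of the presentation on `r` generators. -/
def Rl (r : ℕ) : Set (FreeGroup (Fin r)) :=
  {g : FreeGroup (Fin r) | ∃ i : Fin r, i.val = 0 ∧ g = FreeGroup.of i ^ 3} ∪
  {g | ∃ i : Fin r, 1 ≤ i.val ∧ g = FreeGroup.of i ^ 2} ∪
  {g | ∃ i j : Fin r, j.val = i.val + 1 ∧ g = (FreeGroup.of i * FreeGroup.of j) ^ 3} ∪
  {g | ∃ i j : Fin r, i.val + 1 < j.val ∧ g = (FreeGroup.of i * FreeGroup.of j) ^ 2}

/-- The group presented. -/
abbrev P (r : ℕ) := PresentedGroup (Rl r)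

/-- The natural-number indexed generators. -/
noncomputable def gen (r : ℕ) (i : ℕ) : P r :=
  if h : i < r then PresentedGroup.of ⟨i, h⟩ else 1

lemma gen_of {r i : ℕ} (h : i < r) : gen r i = PresentedGroup.of ⟨i, h⟩ := dif_pos h

lemma rels_gen (r : ℕ) : Rels (gen (r + 1)) r where
  h0 := by
    rw [gen_of (by omega)]
    exact PresentedGroup.one_of_mem (rels := Rl (r + 1)) (Or.inl (Or.inl (Or.inl ⟨⟨0, by omega⟩, rfl, rfl⟩)))
  h2 := by
    intro i h1 hi
    rw [gen_of (by omega), ← pow_two]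
    exact PresentedGroup.one_of_mem (rels := Rl (r + 1)) (Or.inl (Or.inl (Or.inr ⟨⟨i, by omega⟩, h1, rfl⟩)))
  h3 := by
    intro i hi
    rw [gen_of (by omega), gen_of (by omega)]
    exact PresentedGroup.one_of_mem (rels := Rl (r + 1))
      (Or.inl (Or.inr ⟨⟨i, by omega⟩, ⟨i + 1, by omega⟩, rfl, rfl⟩))
  h4 := by
    intro i j hij hj
    rw [gen_of (by omega), gen_of (by omega)]
    exact PresentedGroup.one_of_mem (rels := Rl (r + 1))
      (Or.inr ⟨⟨i, by omega⟩, ⟨j, by omega⟩, by simp; omega, rfl⟩)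

lemma gen_closure (r : ℕ) : Subgroup.closure (gen (r + 1) '' {j | j ≤ r}) = ⊤ := by
  rw [eq_top_iff, ← PresentedGroup.closure_range_of]
  apply Subgroup.closure_mono
  rintro _ ⟨i, rfl⟩
  exact ⟨i.val, by have := i.2; simp; omega, gen_of i.2⟩

/-- Homomorphisms out of the presented group from elements satisfying the relations. -/
theorem exists_lift {K : Type*} [Group K] (r : ℕ) (y : ℕ → K)
    (h0 : 0 < r → y 0 ^ 3 = 1) (h2 : ∀ i, 1 ≤ i → i < r → y i * y i = 1)
    (h3 : ∀ i, i + 1 < r → (y i * y (i + 1)) ^ 3 = 1)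
    (h4 : ∀ i j, i + 2 ≤ j → j < r → (y i * y j) ^ 2 = 1) :
    ∃ φ : P r →* K, ∀ i, i < r → φ (gen r i) = y i := by
  have hrel : ∀ g ∈ Rl r, FreeGroup.lift (fun i : Fin r => y i.val) g = 1 := by
    rintro g (((⟨i, hi, rfl⟩ | ⟨i, hi, rfl⟩) | ⟨i, j, hij, rfl⟩) | ⟨i, j, hij, rfl⟩)
    · simp only [map_pow, FreeGroup.lift_apply_of]
      rw [hi]
      exact h0 (by have := i.2; omega)
    · simp only [map_pow, FreeGroup.lift_apply_of]
      rw [pow_two]
      exact h2 _ hi i.2
    · simp only [map_pow, map_mul, FreeGroup.lift_apply_of]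
      rw [hij]
      exact h3 _ (by have := j.2; omega)
    · simp only [map_pow, map_mul, FreeGroup.lift_apply_of]
      exact h4 _ _ (by omega) j.2
  refine ⟨PresentedGroup.toGroup hrel, fun i hi => ?_⟩
  rw [gen_of hi, PresentedGroup.toGroup.of]

theorem finite_and_card (r : ℕ) : Finite (P r) ∧ Nat.factorial (r + 2) ≥ 2 * Nat.card (P r) := by
  induction r with
  | zero =>
    have hsub : Subsingleton (P 0) := by
      have h := PresentedGroup.closure_range_of (Rl 0)
      have h2 : Set.range (PresentedGroup.of : Fin 0 → P 0) = ∅ := Set.range_eq_empty _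
      rw [h2, Subgroup.closure_empty] at h
      refine ⟨fun a b => ?_⟩
      have ha : a ∈ (⊥ : Subgroup (P 0)) := h ▸ Subgroup.mem_top a
      have hb : b ∈ (⊥ : Subgroup (P 0)) := h ▸ Subgroup.mem_top b
      rw [Subgroup.mem_bot] at ha hb
      rw [ha, hb]
    refine ⟨inferInstance, ?_⟩
    rw [Nat.card_of_subsingleton (1 : P 0)]
    decide
  | succ r ih =>
    obtain ⟨hfin, hcard⟩ := ih
    obtain ⟨φ, hφ⟩ := exists_lift r (gen (r + 1))
      (fun _ => (rels_gen r).h0)
      (fun i h1 hi => (rels_gen r).h2 i h1 (by omega))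
      (fun i hi => (rels_gen r).h3 i (by omega))
      (fun i j hij hj => (rels_gen r).h4 i j hij (by omega))
    have hle : HH (gen (r + 1)) r ≤ φ.range := by
      rw [HH, Subgroup.closure_le]
      rintro _ ⟨j, hj, rfl⟩
      exact ⟨gen r j, hφ j hj⟩
    have hrange : Finite φ.range := Finite.of_surjective _ φ.rangeRestrict_surjective
    have hfinH : Finite (HH (gen (r + 1)) r) :=
      Finite.of_injective _ (Subgroup.inclusion_injective hle)
    obtain ⟨h1, h2⟩ := card_le (rels_gen r) (gen_closure r)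
    refine ⟨h1, ?_⟩
    have h3 : Nat.card (HH (gen (r + 1)) r) ≤ Nat.card (P r) :=
      (Nat.card_le_card_of_injective _ (Subgroup.inclusion_injective hle)).trans
        (Nat.card_le_card_of_surjective _ φ.rangeRestrict_surjective)
    have h4 : Nat.factorial (r + 1 + 2) = (r + 3) * Nat.factorial (r + 2) := by
      rw [Nat.factorial_succ (r + 2)]
    rw [h4]
    calc 2 * Nat.card (P (r + 1)) ≤ 2 * ((r + 3) * Nat.card (P r)) := by
          apply Nat.mul_le_mul_left
          exact h2.trans (Nat.mul_le_mul_left _ h3)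
      _ = (r + 3) * (2 * Nat.card (P r)) := by ring
      _ ≤ (r + 3) * Nat.factorial (r + 2) := Nat.mul_le_mul_left _ hcard

end Pres

section PermPart

open Equiv

variable {N : ℕ} [NeZero N]

/-- points -/
def pt (N : ℕ) [NeZero N] (a : ℕ) : Fin N := Fin.ofNat N a

lemma pt_ne {a b : ℕ} (ha : a < N) (hb : b < N) (h : a ≠ b) : pt N a ≠ pt N b := by
  intro he
  have := congrArg Fin.val he
  simp only [pt, Fin.val_ofNat, Nat.mod_eq_of_lt ha, Nat.mod_eq_of_lt hb] at this
  exact h this

/-- The permutations of the presentation. -/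
def X (N : ℕ) [NeZero N] : ℕ → Perm (Fin N)
  | 0 => swap (pt N 0) (pt N 1) * swap (pt N 1) (pt N 2)
  | i + 1 => swap (pt N 0) (pt N 1) * swap (pt N (i + 2)) (pt N (i + 3))

lemma swap_three {α : Type*} [DecidableEq α] [Fintype α] {a b c : α} (hab : a ≠ b) (hac : a ≠ c) (hbc : b ≠ c) :
    (swap a b * swap b c) ^ 3 = 1 := by
  rw [swap_comm a b]
  have h := Equiv.Perm.isThreeCycle_swap_mul_swap_same hab.symm hbc hac
  rw [← h.orderOf]
  exact pow_orderOf_eq_one _

lemma swap_comm' {α : Type*} [DecidableEq α] {a b c d : α} (hac : a ≠ c) (had : a ≠ d)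
    (hbc : b ≠ c) (hbd : b ≠ d) : swap a b * swap c d = swap c d * swap a b := by
  ext x
  simp only [Perm.coe_mul, Function.comp_apply, swap_apply_def]
  grind

lemma swap_two {α : Type*} [DecidableEq α] {a b c d : α} (hac : a ≠ c) (had : a ≠ d)
    (hbc : b ≠ c) (hbd : b ≠ d) : (swap a b * swap c d) ^ 2 = 1 := by
  rw [pow_two, mul_assoc, ← mul_assoc (swap c d), ← swap_comm' hac had hbc hbd, mul_assoc,
    swap_mul_self, mul_one, swap_mul_self]

lemma swap_conj {α : Type*} [DecidableEq α] {a b c : α} (hab : a ≠ b) (hac : a ≠ c) (hbc : b ≠ c) :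
    swap a b * swap b c * swap a b = swap a c := by
  ext x
  simp only [Perm.coe_mul, Function.comp_apply, swap_apply_def]
  grind

lemma mul_swap_aux {a b c : Perm (Fin N)} (hab : a * b = b * a) (ha : a * a = 1) :
    a * b * (a * c) = b * c := by
  rw [hab, mul_assoc, ← mul_assoc a a, ha, one_mul]

lemma X_h0 (hN : 3 ≤ N) : X N 0 ^ 3 = 1 :=
  swap_three (pt_ne (by omega) (by omega) (by omega)) (pt_ne (by omega) (by omega) (by omega))
    (pt_ne (by omega) (by omega) (by omega))

lemma X_h2 {i : ℕ} (h1 : 1 ≤ i) (hi : i + 2 < N) : X N i * X N i = 1 := by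
  obtain ⟨i, rfl⟩ : ∃ j, i = j + 1 := ⟨i - 1, by omega⟩
  rw [← pow_two]
  exact swap_two (pt_ne (by omega) (by omega) (by omega)) (pt_ne (by omega) (by omega) (by omega))
    (pt_ne (by omega) (by omega) (by omega)) (pt_ne (by omega) (by omega) (by omega))

lemma X_h3 {i : ℕ} (hi : i + 3 < N) : (X N i * X N (i + 1)) ^ 3 = 1 := by
  rcases i with _ | i
  · have e : X N 0 * X N (0 + 1) = swap (pt N 0) (pt N 2) * swap (pt N 2) (pt N 3) := by
      change swap (pt N 0) (pt N 1) * swap (pt N 1) (pt N 2) *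
        (swap (pt N 0) (pt N 1) * swap (pt N (0 + 2)) (pt N (0 + 3))) = _
      rw [← mul_assoc, swap_conj (pt_ne (by omega) (by omega) (by omega))
        (pt_ne (by omega) (by omega) (by omega)) (pt_ne (by omega) (by omega) (by omega))]
    rw [e]
    exact swap_three (pt_ne (by omega) (by omega) (by omega))
      (pt_ne (by omega) (by omega) (by omega)) (pt_ne (by omega) (by omega) (by omega))
  · have e : X N (i + 1) * X N (i + 1 + 1) =
        swap (pt N (i + 2)) (pt N (i + 3)) * swap (pt N (i + 3)) (pt N (i + 4)) := by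
      change swap (pt N 0) (pt N 1) * swap (pt N (i + 2)) (pt N (i + 3)) *
        (swap (pt N 0) (pt N 1) * swap (pt N (i + 3)) (pt N (i + 4))) = _
      exact mul_swap_aux (swap_comm' (pt_ne (by omega) (by omega) (by omega))
        (pt_ne (by omega) (by omega) (by omega)) (pt_ne (by omega) (by omega) (by omega))
        (pt_ne (by omega) (by omega) (by omega))) (swap_mul_self _ _)
    rw [e]
    exact swap_three (pt_ne (by omega) (by omega) (by omega))
      (pt_ne (by omega) (by omega) (by omega)) (pt_ne (by omega) (by omega) (by omega))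

lemma X_h4 {i j : ℕ} (hij : i + 2 ≤ j) (hj : j + 2 < N) : (X N i * X N j) ^ 2 = 1 := by
  obtain ⟨j, rfl⟩ : ∃ k, j = k + 1 := ⟨j - 1, by omega⟩
  rcases i with _ | i
  · have e : X N 0 * X N (j + 1) = swap (pt N 0) (pt N 2) * swap (pt N (j + 2)) (pt N (j + 3)) := by
      change swap (pt N 0) (pt N 1) * swap (pt N 1) (pt N 2) *
        (swap (pt N 0) (pt N 1) * swap (pt N (j + 2)) (pt N (j + 3))) = _
      rw [← mul_assoc, swap_conj (pt_ne (by omega) (by omega) (by omega))
        (pt_ne (by omega) (by omega) (by omega)) (pt_ne (by omega) (by omega) (by omega))]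
    rw [e]
    exact swap_two (pt_ne (by omega) (by omega) (by omega)) (pt_ne (by omega) (by omega) (by omega))
      (pt_ne (by omega) (by omega) (by omega)) (pt_ne (by omega) (by omega) (by omega))
  · have e : X N (i + 1) * X N (j + 1) =
        swap (pt N (i + 2)) (pt N (i + 3)) * swap (pt N (j + 2)) (pt N (j + 3)) := by
      change swap (pt N 0) (pt N 1) * swap (pt N (i + 2)) (pt N (i + 3)) *
        (swap (pt N 0) (pt N 1) * swap (pt N (j + 2)) (pt N (j + 3))) = _
      exact mul_swap_aux (swap_comm' (pt_ne (by omega) (by omega) (by omega))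
        (pt_ne (by omega) (by omega) (by omega)) (pt_ne (by omega) (by omega) (by omega))
        (pt_ne (by omega) (by omega) (by omega))) (swap_mul_self _ _)
    rw [e]
    exact swap_two (pt_ne (by omega) (by omega) (by omega)) (pt_ne (by omega) (by omega) (by omega))
      (pt_ne (by omega) (by omega) (by omega)) (pt_ne (by omega) (by omega) (by omega))

lemma X_sign {i : ℕ} (hi : i + 2 < N) : X N i ∈ alternatingGroup (Fin N) := by
  rw [Equiv.Perm.mem_alternatingGroup]
  rcases i with _ | i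
  · change Perm.sign (swap (pt N 0) (pt N 1) * swap (pt N 1) (pt N 2)) = 1
    rw [Perm.sign_mul, Perm.sign_swap (pt_ne (by omega) (by omega) (by omega)),
      Perm.sign_swap (pt_ne (by omega) (by omega) (by omega))]
    rfl
  · change Perm.sign (swap (pt N 0) (pt N 1) * swap (pt N (i + 2)) (pt N (i + 3))) = 1
    rw [Perm.sign_mul, Perm.sign_swap (pt_ne (by omega) (by omega) (by omega)),
      Perm.sign_swap (pt_ne (by omega) (by omega) (by omega))]
    rfl

/-- The subgroups generated by initial segments. -/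
def J (N : ℕ) [NeZero N] (s : ℕ) : Subgroup (Perm (Fin N)) := Subgroup.closure (X N '' {i | i < s})

lemma J_mono {s t : ℕ} (h : s ≤ t) : J N s ≤ J N t :=
  Subgroup.closure_mono (Set.image_mono fun _ hi => lt_of_lt_of_le hi h)

lemma X_mem {i s : ℕ} (h : i < s) : X N i ∈ J N s := Subgroup.subset_closure ⟨i, h, rfl⟩

lemma orbit_J : ∀ s, s + 3 ≤ N → ∀ a, a ≤ s + 2 → ∃ g ∈ J N (s + 1), g (pt N (s + 2)) = pt N a := by
  intro s
  induction s with
  | zero =>
    intro hN a ha
    have h01 : pt N 0 ≠ pt N 1 := pt_ne (by omega) (by omega) (by omega)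
    have h02 : pt N 0 ≠ pt N 2 := pt_ne (by omega) (by omega) (by omega)
    have h12 : pt N 1 ≠ pt N 2 := pt_ne (by omega) (by omega) (by omega)
    have hx2 : X N 0 (pt N 2) = pt N 0 := by
      change swap (pt N 0) (pt N 1) (swap (pt N 1) (pt N 2) (pt N 2)) = _
      rw [swap_apply_right, swap_apply_right]
    have hx0 : X N 0 (pt N 0) = pt N 1 := by
      change swap (pt N 0) (pt N 1) (swap (pt N 1) (pt N 2) (pt N 0)) = _
      rw [swap_apply_of_ne_of_ne h01 h02, swap_apply_left]
    rcases (by omega : a = 0 ∨ a = 1 ∨ a = 2) with rfl | rfl | rfl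
    · exact ⟨X N 0, X_mem (by omega), hx2⟩
    · refine ⟨X N 0 * X N 0, mul_mem (X_mem (by omega)) (X_mem (by omega)), ?_⟩
      rw [Perm.mul_apply, hx2, hx0]
    · exact ⟨1, one_mem _, rfl⟩
  | succ s ih =>
    intro hN a ha
    rcases (by omega : a = s + 3 ∨ a ≤ s + 2) with rfl | ha'
    · exact ⟨1, one_mem _, rfl⟩
    · obtain ⟨g, hg, hga⟩ := ih (by omega) a ha'
      refine ⟨g * X N (s + 1), mul_mem (J_mono (by omega) hg) (X_mem (by omega)), ?_⟩
      rw [Perm.mul_apply]
      have e : X N (s + 1) (pt N (s + 3)) = pt N (s + 2) := by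
        change swap (pt N 0) (pt N 1) (swap (pt N (s + 2)) (pt N (s + 3)) (pt N (s + 3))) = _
        rw [swap_apply_right, swap_apply_of_ne_of_ne (pt_ne (by omega) (by omega) (by omega))
          (pt_ne (by omega) (by omega) (by omega))]
      have e' : s + 1 + 2 = s + 3 := rfl
      rw [e', e, hga]

lemma fix_J {s : ℕ} (hN : s + 3 ≤ N) {g : Perm (Fin N)} (hg : g ∈ J N s) :
    g (pt N (s + 2)) = pt N (s + 2) := by
  have hle : J N s ≤ MulAction.stabilizer (Perm (Fin N)) (pt N (s + 2)) := by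
    rw [J, Subgroup.closure_le]
    rintro _ ⟨i, hi, rfl⟩
    rw [SetLike.mem_coe, MulAction.mem_stabilizer_iff, Perm.smul_def]
    have hi' : i < s := hi
    rcases i with _ | i
    · change swap (pt N 0) (pt N 1) (swap (pt N 1) (pt N 2) (pt N (s + 2))) = _
      rw [swap_apply_of_ne_of_ne (pt_ne (by omega) (by omega) (by omega))
        (pt_ne (by omega) (by omega) (by omega)), swap_apply_of_ne_of_ne
        (pt_ne (by omega) (by omega) (by omega)) (pt_ne (by omega) (by omega) (by omega))]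
    · change swap (pt N 0) (pt N 1) (swap (pt N (i + 2)) (pt N (i + 3)) (pt N (s + 2))) = _
      rw [swap_apply_of_ne_of_ne (pt_ne (by omega) (by omega) (by omega))
        (pt_ne (by omega) (by omega) (by omega)), swap_apply_of_ne_of_ne
        (pt_ne (by omega) (by omega) (by omega)) (pt_ne (by omega) (by omega) (by omega))]
  have := hle hg
  rwa [MulAction.mem_stabilizer_iff, Perm.smul_def] at this

lemma card_J : ∀ s, s + 2 ≤ N → Nat.factorial (s + 2) ≤ 2 * Nat.card (J N s) := by
  intro s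
  induction s with
  | zero =>
    intro _
    have h : J N 0 = ⊥ := by
      rw [J]
      simp
    rw [h, Subgroup.card_bot]
    decide
  | succ s ih =>
    intro hN
    have hih := ih (by omega)
    have horb := orbit_J (N := N) s (by omega)
    choose! g hg hga using horb
    let f : Fin (s + 3) × J N s → J N (s + 1) := fun p =>
      ⟨g p.1.val * (p.2 : Perm (Fin N)), mul_mem (hg _ (by have := p.1.2; omega))
        (J_mono (by omega) p.2.2)⟩
    have hf : Function.Injective f := by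
      rintro ⟨a, h⟩ ⟨b, h'⟩ he
      have he' : g a.val * (h : Perm (Fin N)) = g b.val * (h' : Perm (Fin N)) := congrArg Subtype.val he
      have h1 := congrArg (fun σ : Perm (Fin N) => σ (pt N (s + 2))) he'
      simp only [Perm.mul_apply, fix_J (by omega) h.2, fix_J (by omega) h'.2] at h1
      rw [hga _ (by have := a.2; omega), hga _ (by have := b.2; omega)] at h1
      have hab : a = b := by
        have h2 := congrArg Fin.val h1
        simp only [pt, Fin.val_ofNat] at h2
        rw [Nat.mod_eq_of_lt (by have := a.2; omega), Nat.mod_eq_of_lt (by have := b.2; omega)] at h2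
        exact Fin.ext h2
      subst hab
      have h3 : (h : Perm (Fin N)) = h' := mul_left_cancel he'
      rw [Subtype.ext h3]
    have h2 := Nat.card_le_card_of_injective f hf
    rw [Nat.card_prod, Nat.card_fin] at h2
    have h4 : Nat.factorial (s + 1 + 2) = (s + 3) * Nat.factorial (s + 2) := by
      rw [Nat.factorial_succ (s + 2)]
    rw [h4]
    calc (s + 3) * Nat.factorial (s + 2) ≤ (s + 3) * (2 * Nat.card (J N s)) :=
          Nat.mul_le_mul_left _ hih
      _ = 2 * ((s + 3) * Nat.card (J N s)) := by ring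
      _ ≤ 2 * Nat.card (J N (s + 1)) := Nat.mul_le_mul_left _ h2

end PermPart

theorem main (r : ℕ) : Nonempty (P r ≃* alternatingGroup (Fin (r + 2))) := by
  obtain ⟨φ, hφ⟩ := exists_lift r (X (r + 2))
    (fun h => X_h0 (by omega))
    (fun i h1 hi => X_h2 h1 (by omega))
    (fun i hi => X_h3 (by omega))
    (fun i j hij hj => X_h4 hij (by omega))
  obtain ⟨hfin, hcard⟩ := finite_and_card r
  have hle : φ.range ≤ alternatingGroup (Fin (r + 2)) := by
    have htop : (alternatingGroup (Fin (r + 2))).comap φ = ⊤ := by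
      rw [eq_top_iff, ← PresentedGroup.closure_range_of, Subgroup.closure_le]
      rintro _ ⟨i, rfl⟩
      change φ (PresentedGroup.of i) ∈ alternatingGroup (Fin (r + 2))
      rw [← gen_of i.2, hφ i.val i.2]
      exact X_sign (by have := i.2; omega)
    rintro _ ⟨g, rfl⟩
    have hg : g ∈ (alternatingGroup (Fin (r + 2))).comap φ := by rw [htop]; trivial
    exact hg
  have hJ : J (r + 2) r ≤ φ.range := by
    rw [J, Subgroup.closure_le]
    rintro _ ⟨i, hi, rfl⟩
    exact ⟨gen r i, hφ i hi⟩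
  have h2 := two_mul_nat_card_alternatingGroup (α := Fin (r + 2))
  rw [Nat.card_eq_fintype_card (α := Equiv.Perm (Fin (r + 2))), Fintype.card_perm, Fintype.card_fin] at h2
  have h3 := card_J (N := r + 2) r (by omega)
  have h4 : Nat.card (J (r + 2) r) ≤ Nat.card φ.range := Subgroup.card_le_of_le hJ
  have hrange : φ.range = alternatingGroup (Fin (r + 2)) :=
    Subgroup.eq_of_le_of_card_ge hle (by omega)
  let ψ : P r →* alternatingGroup (Fin (r + 2)) := φ.codRestrict _ (fun g => hle ⟨g, rfl⟩)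
  have hs : Function.Surjective ψ := by
    rintro ⟨y, hy⟩
    rw [← hrange] at hy
    obtain ⟨g, rfl⟩ := hy
    exact ⟨g, rfl⟩
  have hb : Function.Bijective ψ := hs.bijective_of_nat_card_le (by omega)
  exact ⟨MulEquiv.ofBijective ψ hb⟩

/-- A presentation of the alternating group of degree n ≥ 3 on generators x_1, …, x_{n−2} (indexed here by 0, …, n−3): the first generator cubes to 1, every other generator squares to 1, the product of two consecutive generators has order dividing 3, and the product of two generators at distance at least 2 has order dividing 2. The group so presented is isomorphic to the alternating group of degree n. -/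
theorem result (n : ℕ) (hn : 3 ≤ n) :
    Nonempty (PresentedGroup
      ({g : FreeGroup (Fin (n - 2)) | ∃ i : Fin (n - 2), i.val = 0 ∧ g = FreeGroup.of i ^ 3} ∪
       {g | ∃ i : Fin (n - 2), 1 ≤ i.val ∧ g = FreeGroup.of i ^ 2} ∪
       {g | ∃ i j : Fin (n - 2), j.val = i.val + 1 ∧ g = (FreeGroup.of i * FreeGroup.of j) ^ 3} ∪
       {g | ∃ i j : Fin (n - 2), i.val + 1 < j.val ∧ g = (FreeGroup.of i * FreeGroup.of j) ^ 2})
      ≃* alternatingGroup (Fin n)) := by
  obtain ⟨r, rfl⟩ : ∃ r, n = r + 2 := ⟨n - 2, by omega⟩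
  exact main r

end Cfsg.Agent.S3335
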