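import Cfsg.Statements.S3430
import Cfsg.Agent.Lib.Zsig.Basic
import Mathlib

set_option autoImplicit false

open Cfsg

namespace Cfsg.Agent.S3430

open Cfsg.Agent.Lib.Zsig.Basic Polynomial

/-! ### Lower bounds for the totient -/

lemma le_totient_sq_of_odd : ∀ n : ℕ, Odd n → n ≤ n.totient ^ 2 := by
  intro n
  induction n using Nat.recOnPosPrimePosCoprime with
  | prime_pow p k hp hk =>
    intro hodd
    obtain ⟨j, rfl⟩ : ∃ j, k = j + 1 := ⟨k - 1, by omega⟩
    have hpodd : Odd p := by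
      have := (Nat.odd_pow_iff (by omega)).1 hodd
      exact this
    have hp3 : 3 ≤ p := by
      have := hp.two_le
      rcases hpodd with ⟨c, hc⟩
      omega
    rw [Nat.totient_prime_pow_succ hp, mul_pow, pow_succ]
    have h1 : p ^ j ≤ (p ^ j) ^ 2 := Nat.le_self_pow (by norm_num) _
    have h2 : p ≤ (p - 1) ^ 2 := by
      obtain ⟨c, rfl⟩ : ∃ c, p = c + 3 := ⟨p - 3, by omega⟩
      have : c + 3 - 1 = c + 2 := by omega
      rw [this]
      nlinarith
    exact Nat.mul_le_mul h1 h2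
  | zero => intro h; exact absurd h (by decide)
  | one => intro _; simp
  | coprime a b ha hb hab iha ihb =>
    intro hodd
    have hoa : Odd a := (Nat.odd_mul.1 hodd).1
    have hob : Odd b := (Nat.odd_mul.1 hodd).2
    rw [Nat.totient_mul hab, mul_pow]
    exact Nat.mul_le_mul (iha hoa) (ihb hob)

lemma le_two_mul_totient_sq {n : ℕ} (hn : 0 < n) : n ≤ 2 * n.totient ^ 2 := by
  obtain ⟨k, m, hm, rfl⟩ := Nat.exists_eq_two_pow_mul_odd hn.ne'
  rcases k with _ | k
  · simp only [pow_zero, one_mul]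
    have := le_totient_sq_of_odd m hm
    omega
  · have hcop : Nat.Coprime (2 ^ (k + 1)) m := Nat.Coprime.pow_left _ (Nat.coprime_two_left.2 hm)
    rw [Nat.totient_mul hcop, Nat.totient_prime_pow_succ Nat.prime_two, mul_pow]
    have h1 := le_totient_sq_of_odd m hm
    have h2 : 2 ^ k ≤ (2 ^ k * (2 - 1)) ^ 2 := by
      simp only [Nat.add_one_sub_one, mul_one]
      exact Nat.le_self_pow (by norm_num) _
    calc 2 ^ (k + 1) * m = 2 * (2 ^ k * m) := by ring
      _ ≤ 2 * ((2 ^ k * (2 - 1)) ^ 2 * m.totient ^ 2) :=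
        Nat.mul_le_mul_left _ (Nat.mul_le_mul h2 h1)

/-! ### Lower bound for cyclotomic values -/

lemma Phi_one (z : ℕ) (hz : 1 ≤ z) : Phi 1 z = z - 1 := by
  unfold Phi
  rw [cyclotomic_one]
  simp only [eval_sub, eval_X, eval_one]
  omega

lemma Phi_lower_aux {m y : ℕ} (hm : 0 < m) (hy : 1 < y) : (y - 1) ^ m.totient ≤ Phi m y := by
  rcases Nat.lt_or_ge 1 m with h | h
  · exact (Phi_gt h (by omega)).le
  · have : m = 1 := by omega
    subst this
    rw [Phi_one y (by omega)]
    simp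

lemma Phi_lower {q n : ℕ} (hq : 2 ≤ q) (hn : 3 ≤ n) : q ^ (n.totient / 2) ≤ Phi n q := by
  rcases Nat.eq_two_pow_or_exists_odd_prime_and_dvd n with ⟨k, rfl⟩ | ⟨r, hr, hrn, hodd⟩
  · obtain ⟨j, rfl⟩ : ∃ j, k = j + 1 := by
      rcases k with _ | k
      · norm_num at hn
      · exact ⟨k, rfl⟩
    have hΦv : Phi (2 ^ (j + 1)) q = 1 + q ^ 2 ^ j := by
      unfold Phi
      rw [cyclotomic_prime_pow_eq_geom_sum Nat.prime_two]
      simp only [Finset.sum_range_succ, Finset.range_one, Finset.sum_singleton, pow_zero, pow_one,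
        eval_add, eval_one, eval_pow, eval_X]
      norm_cast
    rw [hΦv, Nat.totient_prime_pow_succ Nat.prime_two]
    have : 2 ^ j * (2 - 1) / 2 ≤ 2 ^ j := by
      simp only [Nat.add_one_sub_one, mul_one]
      exact Nat.div_le_self _ _
    calc q ^ (2 ^ j * (2 - 1) / 2) ≤ q ^ 2 ^ j := Nat.pow_le_pow_right (by omega) this
      _ ≤ 1 + q ^ 2 ^ j := by omega
  · have hr3 : 3 ≤ r := by
      have := hr.two_le
      rcases hodd with ⟨c, hc⟩
      omega
    obtain ⟨k, m, hm, hnm⟩ := Nat.exists_eq_pow_mul_and_not_dvd (by omega : n ≠ 0) r hr.ne_one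
    obtain ⟨j, rfl⟩ : ∃ j, k = j + 1 := by
      rcases k with _ | k
      · simp only [pow_zero, one_mul] at hnm
        exact absurd (hnm ▸ hrn) hm
      · exact ⟨k, rfl⟩
    have hm0 : 0 < m := by
      rcases Nat.eq_zero_or_pos m with h | h
      · rw [h] at hm
        exact absurd (dvd_zero r) hm
      · exact h
    set y := q ^ (r ^ j) with hy
    have hy2 : 2 ≤ y := by
      calc 2 ≤ q := hq
        _ = q ^ 1 := (pow_one q).symm
        _ ≤ q ^ (r ^ j) := Nat.pow_le_pow_right (by omega) (Nat.one_le_pow _ _ hr.pos)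
    have h1 : Phi n q = Phi (m * r) y := by
      rw [hnm, Phi_iter hr hm]
    have h2 := Phi_expand_not_div (z := y) hr hm
    rw [← h1] at h2
    have h3 : (y ^ r - 1) ^ m.totient ≤ Phi m (y ^ r) :=
      Phi_lower_aux hm0 (Nat.one_lt_pow hr.ne_zero (by omega))
    have h4 : Phi m y ≤ (y + 1) ^ m.totient := Phi_le hy2
    have h5 : y ^ (r - 2) * (y + 1) ≤ y ^ r - 1 := by
      obtain ⟨s, rfl⟩ : ∃ s, r = s + 2 := ⟨r - 2, by omega⟩
      simp only [Nat.add_sub_cancel]
      have h6 : 1 ≤ y ^ s := Nat.one_le_pow _ _ (by omega)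
      have h7 : 1 ≤ s := by omega
      have h8 : y ^ (s + 2) = y ^ s * y * y := by ring
      have h9 : y ^ s * (y + 1) = y ^ s * y + y ^ s := by ring
      have h10 : 2 * (y ^ s * y) ≤ y ^ s * y * y := by nlinarith [Nat.mul_le_mul_left (y ^ s * y) hy2]
      have h11 : 2 * y ^ s ≤ y ^ s * y := by nlinarith [Nat.mul_le_mul_left (y ^ s) hy2]
      rw [h8, h9]
      omega
    have h6 : (y ^ (r - 2)) ^ m.totient * (y + 1) ^ m.totient ≤ Phi n q * (y + 1) ^ m.totient := by
      rw [← mul_pow]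
      calc (y ^ (r - 2) * (y + 1)) ^ m.totient ≤ (y ^ r - 1) ^ m.totient := Nat.pow_le_pow_left h5 _
        _ ≤ Phi m (y ^ r) := h3
        _ = Phi n q * Phi m y := h2.symm
        _ ≤ Phi n q * (y + 1) ^ m.totient := Nat.mul_le_mul_left _ h4
    have h7 : (y ^ (r - 2)) ^ m.totient ≤ Phi n q :=
      Nat.le_of_mul_le_mul_right h6 (pow_pos (by omega) _)
    refine le_trans ?_ h7
    rw [hy, ← pow_mul, ← pow_mul]
    apply Nat.pow_le_pow_right (by omega)
    have hcop : Nat.Coprime (r ^ (j + 1)) m :=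
      Nat.Coprime.pow_left _ ((Nat.Prime.coprime_iff_not_dvd hr).2 hm)
    rw [hnm, Nat.totient_mul hcop, Nat.totient_prime_pow_succ hr]
    apply Nat.div_le_of_le_mul
    have h8 : r - 1 ≤ 2 * (r - 2) := by omega
    calc r ^ j * (r - 1) * m.totient ≤ r ^ j * (2 * (r - 2)) * m.totient :=
          Nat.mul_le_mul_right _ (Nat.mul_le_mul_left _ h8)
      _ = 2 * (r ^ j * ((r - 2) * m.totient)) := by ring

/-! ### Structure of the cyclotomic value when there are no large primitive primes -/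

/-- A prime dividing both `n` and `Φ n a` divides `Φ n a` only once (`n ≥ 3`). -/
lemma not_sq_dvd_Phi {r n a : ℕ} [hr : Fact r.Prime] (ha : 2 ≤ a) (hn : 3 ≤ n) (hrd : r ∣ Phi n a)
    (hrn : r ∣ n) : ¬ r ^ 2 ∣ Phi n a := by
  have hrp : r.Prime := hr.out
  have hdvd : Phi n a ∣ a ^ n - 1 := Phi_dvd (by omega) (by omega)
  obtain ⟨k, m, hk, hrm, hnm, hmr, hpow⟩ := struct_of_dvd hrd hrn (by omega)
  have hm0 : 0 < m := by
    rcases Nat.eq_zero_or_pos m with h | h
    · rw [h] at hrm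
      exact absurd (dvd_zero r) hrm
    · exact h
  intro hsq
  rcases hrp.eq_two_or_odd' with h2 | hodd
  · -- `r = 2`
    have hm1 : m = 1 := by
      rw [h2] at hmr
      exact Nat.dvd_one.1 hmr
    rw [hm1, mul_one] at hnm
    rw [h2] at hnm hsq
    obtain ⟨j, hj⟩ : ∃ j, k = j + 1 := ⟨k - 1, by omega⟩
    have hj1 : 1 ≤ j := by
      rcases Nat.eq_zero_or_pos j with h0 | h0
      · rw [hj, h0] at hnm
        omega
      · exact h0
    have hΦv : Phi n a = 1 + a ^ 2 ^ j := by
      unfold Phi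
      rw [hnm, hj, cyclotomic_prime_pow_eq_geom_sum Nat.prime_two]
      simp only [Finset.sum_range_succ, Finset.range_one, Finset.sum_singleton, pow_zero, pow_one,
        eval_add, eval_one, eval_pow, eval_X]
      norm_cast
    have hodda : Odd a := by
      have h3 : 2 ∣ a ^ n - 1 := (h2 ▸ hrd).trans hdvd
      by_contra hc
      rw [Nat.not_odd_iff_even] at hc
      have h4 : 2 ∣ a ^ n := (hc.pow_of_ne_zero (by omega : n ≠ 0)).two_dvd
      have h5 : 1 ≤ a ^ n := Nat.one_le_pow _ _ (by omega)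
      omega
    obtain ⟨i, hi⟩ : ∃ i, j = i + 1 := ⟨j - 1, by omega⟩
    have h7 : a ^ 2 ^ j = (a ^ 2 ^ i) ^ 2 := by
      rw [hi, pow_succ, pow_mul]
    have hoddb : Odd (a ^ 2 ^ i) := hodda.pow
    obtain ⟨c, hc⟩ := hoddb
    rw [hΦv, h7, hc] at hsq
    have h8 : (2 * c + 1) ^ 2 + 1 = 4 * (c ^ 2 + c) + 2 := by ring
    rw [add_comm, h8] at hsq
    omega
  · -- `r` odd
    obtain ⟨j, hj⟩ : ∃ j, k = j + 1 := ⟨k - 1, by omega⟩
    set d := r ^ j * m with hd
    have hnd : n = d * r := by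
      rw [hnm, hj, hd]
      ring
    have hd0 : 0 < d := Nat.mul_pos (pow_pos hrp.pos _) hm0
    have hdprop : d ∈ n.properDivisors := by
      rw [Nat.mem_properDivisors]
      refine ⟨⟨r, hnd⟩, ?_⟩
      rw [hnd]
      have := hrp.two_le
      nlinarith
    have hmul := mul_Phi_dvd (a := a) (by omega) hdprop
    set b := a ^ d with hb
    have hb1 : 1 < b := Nat.one_lt_pow hd0.ne' (by omega)
    have hrb : r ∣ b - 1 := by
      rw [← ZMod.natCast_eq_zero_iff, Nat.cast_sub hb1.le, hb, hd]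
      simp only [Nat.cast_pow, Nat.cast_one]
      rw [mul_comm, pow_mul, hpow, one_pow, sub_self]
    have hnotb : ¬ r ∣ b := by
      intro h
      have h1 : r ∣ 1 := by
        have h2 : r ∣ b - (b - 1) := Nat.dvd_sub h hrb
        have h3 : b - (b - 1) = 1 := by omega
        rwa [h3] at h2
      exact hrp.one_lt.ne' (Nat.dvd_one.1 h1)
    have hLTE := padicValNat.pow_sub_pow hodd hb1 hrb hnotb hrp.ne_zero
    rw [one_pow, padicValNat_self] at hLTE
    have hbr : b ^ r = a ^ n := by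
      rw [hb, ← pow_mul, ← hnd]
    rw [hbr] at hLTE
    have han : a ^ n - 1 ≠ 0 := by
      have : 1 < a ^ n := Nat.one_lt_pow (by omega) (by omega)
      omega
    have h1 : r ^ padicValNat r (b - 1) ∣ b - 1 := pow_padicValNat_dvd
    have h2 : r ^ padicValNat r (b - 1) * r ^ 2 ∣ a ^ n - 1 := (mul_dvd_mul h1 hsq).trans hmul
    rw [← pow_add, padicValNat_dvd_iff_le han, hLTE] at h2
    omega

/-- Two primes dividing both `n` and `Φ n a` coincide. -/
lemma nonprim_unique {r d n a : ℕ} (hrp : r.Prime) (hd : d.Prime) (hn : 0 < n)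
    (hrd : r ∣ Phi n a) (hrn : r ∣ n) (hdd : d ∣ Phi n a) (hdn : d ∣ n) : d = r := by
  by_contra hne
  have : Fact r.Prime := ⟨hrp⟩
  have : Fact d.Prime := ⟨hd⟩
  obtain ⟨k, m, hk, hrm, hnm, hmr, _⟩ := struct_of_dvd hrd hrn hn
  obtain ⟨k', m', hk', hdm', hnm', hmr', _⟩ := struct_of_dvd hdd hdn hn
  have hm0 : 0 < m := by
    rcases Nat.eq_zero_or_pos m with h | h
    · rw [h] at hrm
      exact absurd (dvd_zero r) hrm
    · exact h
  have h1 : d ∣ m := by
    rw [hnm] at hdn
    rcases (Nat.Prime.dvd_mul hd).1 hdn with h | h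
    · exact absurd ((Nat.prime_dvd_prime_iff_eq hd hrp).1 (hd.dvd_of_dvd_pow h)) hne
    · exact h
  have h2 : r ∣ m' := by
    rw [hnm'] at hrn
    rcases (Nat.Prime.dvd_mul hrp).1 hrn with h | h
    · exact absurd ((Nat.prime_dvd_prime_iff_eq hrp hd).1 (hrp.dvd_of_dvd_pow h)).symm hne
    · exact h
  have hm'0 : 0 < m' := by
    rcases Nat.eq_zero_or_pos m' with h | h
    · rw [h] at hdm'
      exact absurd (dvd_zero d) hdm'
    · exact h
  have h3 : d ≤ m := Nat.le_of_dvd hm0 h1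
  have h4 : r ≤ m' := Nat.le_of_dvd hm'0 h2
  have h5 : m ≤ r - 1 := Nat.le_of_dvd (by have := hrp.two_le; omega) hmr
  have h6 : m' ≤ d - 1 := Nat.le_of_dvd (by have := hd.two_le; omega) hmr'
  have := hrp.two_le
  have := hd.two_le
  omega

/-- Upper bound for `Φ n q` if there is no large primitive prime. -/
theorem Phi_le_of_no_good {q n : ℕ} (hq : 2 ≤ q) (hn : 3 ≤ n)
    (hno : ∀ p : ℕ, p.Prime → p ∣ q ^ n - 1 → (∀ i : ℕ, 1 ≤ i → i < n → ¬ p ∣ q ^ i - 1) →
      ¬ (n + 1 < p ∨ p ^ 2 ∣ q ^ n - 1)) : Phi n q ≤ n * (n + 1) := by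
  have hdvd : Phi n q ∣ q ^ n - 1 := Phi_dvd (by omega) (by omega)
  have hqn : 1 < q ^ n := Nat.one_lt_pow (by omega) (by omega)
  have hΦ0 : Phi n q ≠ 0 := by
    intro h
    rw [h, zero_dvd_iff] at hdvd
    omega
  have hnp : ∀ s : ℕ, s.Prime → s ∣ Phi n q → ¬ s ∣ n → s = n + 1 ∧ ¬ s ^ 2 ∣ Phi n q := by
    intro s hs hsd hsn
    have : Fact s.Prime := ⟨hs⟩
    have hprim := primitive_of_not_dvd (a := q) (by omega) hsd hsn
    have h1 := hno s hs (hsd.trans hdvd) (fun i h1 h2 => hprim i (by omega) h2)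
    push Not at h1
    have hne : NeZero (n : ZMod s) := ⟨by rwa [Ne, ZMod.natCast_eq_zero_iff]⟩
    have h2 : IsPrimitiveRoot (q : ZMod s) n := isRoot_cyclotomic_iff.1 (isRoot_of_dvd hsd)
    have hq0 : (q : ZMod s) ≠ 0 := by
      intro h0
      have := h2.pow_eq_one
      rw [h0, zero_pow (by omega)] at this
      exact zero_ne_one this
    have h3 : n ∣ s - 1 := by
      rw [h2.eq_orderOf]
      exact ZMod.orderOf_dvd_card_sub_one hq0
    have h4 : n ≤ s - 1 := Nat.le_of_dvd (by have := hs.two_le; omega) h3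
    refine ⟨by omega, fun h => h1.2 (h.trans hdvd)⟩
  have hsf : Squarefree (Phi n q) := by
    rw [Nat.squarefree_iff_prime_squarefree]
    intro s hs hss
    rw [← pow_two] at hss
    have hsd : s ∣ Phi n q := (dvd_pow_self s (by norm_num)).trans hss
    by_cases hsn : s ∣ n
    · have : Fact s.Prime := ⟨hs⟩
      exact not_sq_dvd_Phi hq hn hsd hsn hss
    · exact (hnp s hs hsd hsn).2 hss
  have hprod := Nat.prod_primeFactors_of_squarefree hsf
  rw [← hprod, ← Finset.prod_filter_mul_prod_filter_not (Phi n q).primeFactors (· ∣ n)]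
  apply Nat.mul_le_mul
  · by_cases hne : ((Phi n q).primeFactors.filter (· ∣ n)).Nonempty
    · obtain ⟨s, hs⟩ := hne
      have hs' := Finset.mem_filter.1 hs
      have hsp := Nat.prime_of_mem_primeFactors hs'.1
      have hsd := Nat.dvd_of_mem_primeFactors hs'.1
      have hsub : (Phi n q).primeFactors.filter (· ∣ n) ⊆ {s} := by
        intro t ht
        have ht' := Finset.mem_filter.1 ht
        rw [Finset.mem_singleton]
        exact nonprim_unique hsp (Nat.prime_of_mem_primeFactors ht'.1) (by omega) hsd hs'.2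
          (Nat.dvd_of_mem_primeFactors ht'.1) ht'.2
      have h1 := Finset.prod_le_prod_of_subset_of_one_le' (f := fun p : ℕ => p) hsub (by
        intro i hi _
        rw [Finset.mem_singleton] at hi
        rw [hi]
        exact hsp.one_lt.le)
      simp only [Finset.prod_singleton] at h1
      exact h1.trans (Nat.le_of_dvd (by omega) hs'.2)
    · rw [Finset.not_nonempty_iff_eq_empty] at hne
      rw [hne, Finset.prod_empty]
      omega
  · have hsub : (Phi n q).primeFactors.filter (fun s => ¬ s ∣ n) ⊆ {n + 1} := by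
      intro t ht
      have ht' := Finset.mem_filter.1 ht
      rw [Finset.mem_singleton]
      exact (hnp t (Nat.prime_of_mem_primeFactors ht'.1) (Nat.dvd_of_mem_primeFactors ht'.1) ht'.2).1
    have h1 := Finset.prod_le_prod_of_subset_of_one_le' (f := fun p : ℕ => p) hsub (by
      intro i hi _
      rw [Finset.mem_singleton] at hi
      omega)
    simpa using h1

/-! ### Numerics -/

lemma pow_bound_aux : ∀ u : ℕ, 25 ≤ u → 4 * (2 * u + 1) ^ 4 + 2 * (2 * u + 1) ^ 2 < 2 ^ u := by
  intro u hu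
  induction u, hu using Nat.le_induction with
  | base => norm_num
  | succ u hu ih =>
    have hp2 : 2 ^ (u + 1) = 2 * 2 ^ u := by ring
    rw [hp2]
    obtain ⟨v, rfl⟩ : ∃ v, u = v + 25 := ⟨u - 25, by omega⟩
    have : 4 * (2 * (v + 25 + 1) + 1) ^ 4 + 2 * (2 * (v + 25 + 1) + 1) ^ 2 ≤
        2 * (4 * (2 * (v + 25) + 1) ^ 4 + 2 * (2 * (v + 25) + 1) ^ 2) := by
      ring_nf
      nlinarith [pow_nonneg (Nat.zero_le v) 4, pow_nonneg (Nat.zero_le v) 3,
        pow_nonneg (Nat.zero_le v) 2]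
    omega

lemma pow_bound {t : ℕ} (ht : 50 ≤ t) : 4 * t ^ 4 + 2 * t ^ 2 < 2 ^ (t / 2) := by
  have h1 := pow_bound_aux (t / 2) (by omega)
  have h2 : t ≤ 2 * (t / 2) + 1 := by omega
  have h3 : t ^ 4 ≤ (2 * (t / 2) + 1) ^ 4 := Nat.pow_le_pow_left h2 _
  have h4 : t ^ 2 ≤ (2 * (t / 2) + 1) ^ 2 := Nat.pow_le_pow_left h2 _
  omega

lemma pow_bound2 : ∀ t : ℕ, 19 ≤ t → 4 * t ^ 4 + 2 * t ^ 2 ≤ 2 ^ t := by
  intro u hu
  induction u, hu using Nat.le_induction with
  | base => norm_num
  | succ u hu ih =>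
    have hp2 : 2 ^ (u + 1) = 2 * 2 ^ u := by ring
    rw [hp2]
    obtain ⟨v, rfl⟩ : ∃ v, u = v + 19 := ⟨u - 19, by omega⟩
    have : 4 * (v + 19 + 1) ^ 4 + 2 * (v + 19 + 1) ^ 2 ≤
        2 * (4 * (v + 19) ^ 4 + 2 * (v + 19) ^ 2) := by
      ring_nf
      nlinarith [pow_nonneg (Nat.zero_le v) 4, pow_nonneg (Nat.zero_le v) 3,
        pow_nonneg (Nat.zero_le v) 2]
    omega

/-- The primes below `300`. -/
def primesP : List ℕ :=
  [2, 3, 5, 7, 11, 13, 17, 19, 23, 29, 31, 37, 41, 43, 47, 53, 59, 61, 67, 71, 73, 79, 83, 89, 97,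
   101, 103, 107, 109, 113, 127, 131, 137, 139, 149, 151, 157, 163, 167, 173, 179, 181, 191, 193,
   197, 199, 211, 223, 227, 229, 233, 239, 241, 251, 257, 263, 269, 271, 277, 281, 283, 293]

/-- Candidates for numbers coprime to `n`. -/
def cands (n : ℕ) : List ℕ := if n < 300 then List.range n else primesP

/-- A lower bound for the totient. -/
def lb (n : ℕ) : ℕ := ((cands n).filter (fun a => Nat.gcd n a == 1)).length

lemma lb_le (n : ℕ) : lb n ≤ n.totient := by
  have hnd : (cands n).Nodup := by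
    unfold cands
    split_ifs
    · exact List.nodup_range
    · decide +kernel
  have hlt : ∀ a ∈ cands n, a < n := by
    intro a ha
    unfold cands at ha
    split_ifs at ha with h
    · exact List.mem_range.1 ha
    · have : ∀ a ∈ primesP, a < 300 := by decide +kernel
      have := this a ha
      omega
  have hnd2 := hnd.filter (fun a => Nat.gcd n a == 1)
  unfold lb
  rw [← List.toFinset_card_of_nodup hnd2, Nat.totient_eq_card_coprime]
  apply Finset.card_le_card
  intro a ha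
  rw [List.mem_toFinset, List.mem_filter] at ha
  rw [Finset.mem_filter, Finset.mem_range]
  exact ⟨hlt a ha.1, by simpa [Nat.Coprime] using ha.2⟩

/-- Trial division by primes up to `71`. -/
def primeish (m : ℕ) : Bool :=
  [2, 3, 5, 7, 11, 13, 17, 19, 23, 29, 31, 37, 41, 43, 47, 53, 59, 61, 67, 71].all
    (fun d => m % d != 0 || m == d)

lemma primeish_of_prime {m : ℕ} (hm : m.Prime) : primeish m = true := by
  unfold primeish
  rw [List.all_eq_true]
  intro d hd
  have hd' : d ≠ 1 := by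
    intro h
    rw [h] at hd
    revert hd
    decide
  by_cases h : m % d = 0
  · have h1 : d ∣ m := Nat.dvd_of_mod_eq_zero h
    have h2 := (Nat.dvd_prime hm).1 h1
    simp [h2.resolve_left hd']
  · simp [h]

/-- The list of exceptional degrees for `q = 2`. -/
def L2 : List ℕ := [4, 6, 10, 12, 16, 18, 22, 28, 30, 36, 40, 42, 46, 60, 66, 70, 72, 78]

/-- The list of exceptional pairs for `q ≥ 3`. -/
def Lq : List (ℕ × ℕ) := [(3, 4), (3, 6), (3, 10), (3, 12), (3, 16), (3, 18), (3, 30), (4, 4), (4, 6),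
  (4, 10), (4, 12), (5, 4), (5, 6), (6, 6), (7, 6)]

/-- The check for `q = 2`. -/
def chk2 (n : ℕ) : Bool :=
  !(primeish (n + 1)) || n < 3 || L2.contains n || decide (n * (n + 1) < 2 ^ (lb n / 2))

/-- The check for `q ≥ 3`. -/
def chk3 (n : ℕ) : Bool :=
  !(primeish (n + 1)) || n < 3 || decide (n * (n + 1) ≤ 2 ^ lb n) || (List.range' 3 n).all
    (fun q => Lq.contains (q, n) || decide (n * (n + 1) ≤ (q - 1) ^ lb n))

lemma all_chk2 : (List.range 4803).all chk2 = true := by decide +kernel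

lemma all_chk3 : (List.range 649).all chk3 = true := by decide +kernel

lemma mem_L2 {n : ℕ} (hn : 3 ≤ n) (hp : (n + 1).Prime) (hle : Phi n 2 ≤ n * (n + 1)) : n ∈ L2 := by
  have ht1 := le_two_mul_totient_sq (n := n) (by omega)
  have hlow := Phi_lower (q := 2) (le_refl 2) hn
  set t := n.totient with ht
  have ht50 : t < 50 := by
    by_contra hc
    have h1 := pow_bound (t := t) (by omega)
    have h2 : n * (n + 1) ≤ (2 * t ^ 2) * (2 * t ^ 2 + 1) :=
      Nat.mul_le_mul ht1 (by omega)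
    have h3 : (2 * t ^ 2) * (2 * t ^ 2 + 1) = 4 * t ^ 4 + 2 * t ^ 2 := by ring
    omega
  have hnlt : n < 4803 := by
    have : t ^ 2 ≤ 49 ^ 2 := Nat.pow_le_pow_left (by omega) 2
    omega
  have hc : chk2 n = true := List.all_eq_true.1 all_chk2 n (List.mem_range.2 hnlt)
  unfold chk2 at hc
  rw [primeish_of_prime hp] at hc
  simp only [Bool.not_true, Bool.false_or, Bool.or_eq_true, decide_eq_true_eq, List.contains_iff_mem] at hc
  rcases hc with (h | h) | h
  · have : n < 3 := by simpa using h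
    omega
  · exact h
  · exfalso
    have h2 : 2 ^ (lb n / 2) ≤ 2 ^ (t / 2) :=
      Nat.pow_le_pow_right (by norm_num) (Nat.div_le_div_right (lb_le n))
    omega

lemma mem_Lq {q n : ℕ} (hq : 3 ≤ q) (hn : 3 ≤ n) (hp : (n + 1).Prime) (hle : Phi n q ≤ n * (n + 1)) :
    (q, n) ∈ Lq := by
  have ht1 := le_two_mul_totient_sq (n := n) (by omega)
  have hlow := Phi_gt (a := q) (n := n) (by omega) (by omega)
  set t := n.totient with ht
  have hpow : 2 ^ t ≤ (q - 1) ^ t := Nat.pow_le_pow_left (by omega) _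
  have ht19 : t < 19 := by
    by_contra hc
    have h1 := pow_bound2 t (by omega)
    have h2 : n * (n + 1) ≤ (2 * t ^ 2) * (2 * t ^ 2 + 1) :=
      Nat.mul_le_mul ht1 (by omega)
    have h3 : (2 * t ^ 2) * (2 * t ^ 2 + 1) = 4 * t ^ 4 + 2 * t ^ 2 := by ring
    omega
  have hnlt : n < 649 := by
    have : t ^ 2 ≤ 18 ^ 2 := Nat.pow_le_pow_left (by omega) 2
    omega
  have ht2 : 2 ≤ t := by
    by_contra hc
    have hc1 : t ≤ 1 := by omega
    have h3 : Even t := Nat.totient_even (by omega)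
    have h4 : t = 0 := by
      rcases h3 with ⟨c, hc⟩
      omega
    have h5 : 0 < t := Nat.totient_pos.2 (by omega)
    omega
  have hq2 : (q - 1) ^ 2 ≤ (q - 1) ^ t := Nat.pow_le_pow_right (by omega) ht2
  have hqlt : q - 1 ≤ n := by
    by_contra hc
    have h1 : n + 1 ≤ q - 1 := by omega
    have h2 : (n + 1) * (n + 1) ≤ (q - 1) ^ 2 := by
      rw [pow_two]
      exact Nat.mul_le_mul h1 h1
    have h3 : n * (n + 1) < (n + 1) * (n + 1) := by nlinarith
    omega
  have hc : chk3 n = true := List.all_eq_true.1 all_chk3 n (List.mem_range.2 hnlt)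
  unfold chk3 at hc
  rw [primeish_of_prime hp] at hc
  simp only [Bool.not_true, Bool.false_or, Bool.or_eq_true, decide_eq_true_eq] at hc
  rcases hc with (h | h) | h
  · have : n < 3 := by simpa using h
    omega
  · exfalso
    have h2 : 2 ^ lb n ≤ 2 ^ t := Nat.pow_le_pow_right (by norm_num) (lb_le n)
    omega
  · have h1 := List.all_eq_true.1 h q (List.mem_range'_1.2 ⟨hq, by omega⟩)
    simp only [Bool.or_eq_true, decide_eq_true_eq, List.contains_iff_mem] at h1
    rcases h1 with h1 | h1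
    · exact h1
    · exfalso
      have h2 : (q - 1) ^ lb n ≤ (q - 1) ^ t := Nat.pow_le_pow_right (by omega) (lb_le n)
      omega

/-! ### The main theorem -/

lemma witness {q n p : ℕ} (hno : ∀ p : ℕ, p.Prime → p ∣ q ^ n - 1 →
      (∀ i : ℕ, 1 ≤ i → i < n → ¬ p ∣ q ^ i - 1) → ¬ (n + 1 < p ∨ p ^ 2 ∣ q ^ n - 1))
    (hp : p.Prime) (h1 : (q ^ n - 1) % p = 0) (h2 : ∀ i < n, 1 ≤ i → (q ^ i - 1) % p ≠ 0)
    (h3 : n + 1 < p) : False :=
  hno p hp (Nat.dvd_of_mod_eq_zero h1)
    (fun i hi1 hi2 hd => h2 i hi2 hi1 (Nat.mod_eq_zero_of_dvd hd)) (Or.inl h3)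

/-- Let q, n ≥ 2 be integers. Unless (n = 2 and q + 1 = 2^s·3^t for some s ≥ 0 and t ≤ 1), or (q = 2 and n ∈ {4, 6, 10, 12, 18}), or (q = 3 and n ∈ {4, 6}), or (q, n) = (5, 6), there is a prime p dividing q^n − 1 but no q^i − 1 with 1 ≤ i < n (a primitive prime divisor), such that p > n + 1 or p² divides q^n − 1. -/
theorem result (q n : ℕ) (hq : 2 ≤ q) (hn : 2 ≤ n)
    (h1 : ¬ (n = 2 ∧ ∃ s t : ℕ, t ≤ 1 ∧ q + 1 = 2 ^ s * 3 ^ t))
    (h2 : ¬ (q = 2 ∧ (n = 4 ∨ n = 6 ∨ n = 10 ∨ n = 12 ∨ n = 18)))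
    (h3 : ¬ (q = 3 ∧ (n = 4 ∨ n = 6))) (h4 : ¬ (q = 5 ∧ n = 6)) :
    ∃ p : ℕ, p.Prime ∧ p ∣ q ^ n - 1 ∧ (∀ i : ℕ, 1 ≤ i → i < n → ¬ p ∣ q ^ i - 1) ∧ (n + 1 < p ∨ p ^ 2 ∣ q ^ n - 1) := by
  by_contra hfail
  have hno : ∀ p : ℕ, p.Prime → p ∣ q ^ n - 1 → (∀ i : ℕ, 1 ≤ i → i < n → ¬ p ∣ q ^ i - 1) →
      ¬ (n + 1 < p ∨ p ^ 2 ∣ q ^ n - 1) := fun p hp h1 h2 h3 => hfail ⟨p, hp, h1, h2, h3⟩
  rcases Nat.eq_or_lt_of_le hn with rfl | hn3
  · -- the case `n = 2`
    apply h1
    refine ⟨rfl, ?_⟩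
    have hfac : q ^ 2 - 1 = (q + 1) * (q - 1) := by
      obtain ⟨b, rfl⟩ : ∃ b, q = b + 1 := ⟨q - 1, by omega⟩
      simp only [Nat.add_sub_cancel]
      have : (b + 1) ^ 2 = (b + 1 + 1) * b + 1 := by ring
      omega
    have hprim : ∀ p : ℕ, p.Prime → p ∣ q + 1 → p ≠ 2 →
        ∀ i : ℕ, 1 ≤ i → i < 2 → ¬ p ∣ q ^ i - 1 := by
      intro p hp hpd hp2 i hi1 hi2 hd
      have hi : i = 1 := by omega
      rw [hi, pow_one] at hd
      have h5 : p ∣ (q + 1) - (q - 1) := Nat.dvd_sub hpd hd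
      have h6 : (q + 1) - (q - 1) = 2 := by omega
      rw [h6] at h5
      exact hp2 ((Nat.prime_dvd_prime_iff_eq hp Nat.prime_two).1 h5)
    have hfactors : ∀ p : ℕ, p.Prime → p ∣ q + 1 → p = 2 ∨ p = 3 := by
      intro p hp hpd
      by_contra hc
      push Not at hc
      have hp5 : 3 < p := by
        have := hp.two_le
        omega
      exact hno p hp (by rw [hfac]; exact hpd.trans (dvd_mul_right _ _)) (hprim p hp hpd hc.1)
        (Or.inl hp5)
    obtain ⟨s, m, hm, hqm⟩ := Nat.exists_eq_pow_mul_and_not_dvd (by omega : q + 1 ≠ 0) 2 (by norm_num)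
    have hm0 : m ≠ 0 := by
      rintro rfl
      exact hm (dvd_zero 2)
    obtain ⟨t, m', hm', hmm⟩ := Nat.exists_eq_pow_mul_and_not_dvd hm0 3 (by norm_num)
    have hm'1 : m' = 1 := by
      by_contra hne
      have hpr := Nat.minFac_prime hne
      have hd : m'.minFac ∣ m' := Nat.minFac_dvd _
      have hdq : m'.minFac ∣ q + 1 := by
        rw [hqm, hmm]
        exact (hd.trans (dvd_mul_left _ _)).trans (dvd_mul_left _ _)
      rcases hfactors _ hpr hdq with h | h
      · apply hm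
        rw [hmm]
        rw [h] at hd
        exact hd.trans (dvd_mul_left _ _)
      · apply hm'
        rwa [h] at hd
    subst hm'1
    rw [mul_one] at hmm
    refine ⟨s, t, ?_, by rw [hqm, hmm]⟩
    by_contra ht
    have h9 : 3 ^ 2 ∣ q + 1 := by
      rw [hqm, hmm]
      exact (pow_dvd_pow 3 (by omega)).trans (dvd_mul_left _ _)
    have h3' : 3 ∣ q + 1 := (dvd_pow_self 3 (by norm_num)).trans h9
    exact hno 3 (by norm_num) (by rw [hfac]; exact h3'.trans (dvd_mul_right _ _))
      (hprim 3 (by norm_num) h3' (by norm_num))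
      (Or.inr (by rw [hfac]; exact h9.trans (dvd_mul_right _ _)))
  · -- the case `n ≥ 3`
    have hn3' : 3 ≤ n := hn3
    by_cases hnp : (n + 1).Prime
    · have hle := Phi_le_of_no_good hq hn3' hno
      rcases Nat.eq_or_lt_of_le hq with rfl | hq3
      · have hm := mem_L2 hn3' hnp hle
        have hm' : n = 4 ∨ n = 6 ∨ n = 10 ∨ n = 12 ∨ n = 16 ∨ n = 18 ∨ n = 22 ∨ n = 28 ∨ n = 30 ∨
            n = 36 ∨ n = 40 ∨ n = 42 ∨ n = 46 ∨ n = 60 ∨ n = 66 ∨ n = 70 ∨ n = 72 ∨ n = 78 := by
          simpa [L2] using hm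
        rcases hm' with rfl | rfl | rfl | rfl | rfl | rfl | rfl | rfl | rfl | rfl | rfl | rfl | rfl |
          rfl | rfl | rfl | rfl | rfl
        · exact h2 ⟨rfl, by simp⟩
        · exact h2 ⟨rfl, by simp⟩
        · exact h2 ⟨rfl, by simp⟩
        · exact h2 ⟨rfl, by simp⟩
        · exact witness (p := 257) hno (by norm_num) (by norm_num) (by decide +kernel) (by norm_num)
        · exact h2 ⟨rfl, by simp⟩
        · exact witness (p := 683) hno (by norm_num) (by norm_num) (by decide +kernel) (by norm_num)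
        · exact witness (p := 113) hno (by norm_num) (by norm_num) (by decide +kernel) (by norm_num)
        · exact witness (p := 331) hno (by norm_num) (by norm_num) (by decide +kernel) (by norm_num)
        · exact witness (p := 109) hno (by norm_num) (by norm_num) (by decide +kernel) (by norm_num)
        · exact witness (p := 61681) hno (by norm_num) (by norm_num) (by decide +kernel) (by norm_num)
        · exact witness (p := 5419) hno (by norm_num) (by norm_num) (by decide +kernel) (by norm_num)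
        · exact witness (p := 2796203) hno (by norm_num) (by norm_num) (by decide +kernel) (by norm_num)
        · exact witness (p := 1321) hno (by norm_num) (by norm_num) (by decide +kernel) (by norm_num)
        · exact witness (p := 20857) hno (by norm_num) (by norm_num) (by decide +kernel) (by norm_num)
        · exact witness (p := 281) hno (by norm_num) (by norm_num) (by decide +kernel) (by norm_num)
        · exact witness (p := 433) hno (by norm_num) (by norm_num) (by decide +kernel) (by norm_num)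
        · exact witness (p := 22366891) hno (by norm_num) (by norm_num) (by decide +kernel) (by norm_num)
      · have hm := mem_Lq hq3 hn3' hnp hle
        have hm' : (q = 3 ∧ n = 4) ∨ (q = 3 ∧ n = 6) ∨ (q = 3 ∧ n = 10) ∨ (q = 3 ∧ n = 12) ∨
            (q = 3 ∧ n = 16) ∨ (q = 3 ∧ n = 18) ∨ (q = 3 ∧ n = 30) ∨ (q = 4 ∧ n = 4) ∨
            (q = 4 ∧ n = 6) ∨ (q = 4 ∧ n = 10) ∨ (q = 4 ∧ n = 12) ∨ (q = 5 ∧ n = 4) ∨
            (q = 5 ∧ n = 6) ∨ (q = 6 ∧ n = 6) ∨ (q = 7 ∧ n = 6) := by
          simpa [Lq] using hm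
        rcases hm' with ⟨rfl, rfl⟩ | ⟨rfl, rfl⟩ | ⟨rfl, rfl⟩ | ⟨rfl, rfl⟩ | ⟨rfl, rfl⟩ | ⟨rfl, rfl⟩ |
          ⟨rfl, rfl⟩ | ⟨rfl, rfl⟩ | ⟨rfl, rfl⟩ | ⟨rfl, rfl⟩ | ⟨rfl, rfl⟩ | ⟨rfl, rfl⟩ | ⟨rfl, rfl⟩ |
          ⟨rfl, rfl⟩ | ⟨rfl, rfl⟩
        · exact h3 ⟨rfl, by simp⟩
        · exact h3 ⟨rfl, by simp⟩
        · exact witness (p := 61) hno (by norm_num) (by norm_num) (by decide +kernel) (by norm_num)
        · exact witness (p := 73) hno (by norm_num) (by norm_num) (by decide +kernel) (by norm_num)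
        · exact witness (p := 193) hno (by norm_num) (by norm_num) (by decide +kernel) (by norm_num)
        · exact witness (p := 37) hno (by norm_num) (by norm_num) (by decide +kernel) (by norm_num)
        · exact witness (p := 271) hno (by norm_num) (by norm_num) (by decide +kernel) (by norm_num)
        · exact witness (p := 17) hno (by norm_num) (by norm_num) (by decide +kernel) (by norm_num)
        · exact witness (p := 13) hno (by norm_num) (by norm_num) (by decide +kernel) (by norm_num)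
        · exact witness (p := 41) hno (by norm_num) (by norm_num) (by decide +kernel) (by norm_num)
        · exact witness (p := 241) hno (by norm_num) (by norm_num) (by decide +kernel) (by norm_num)
        · exact witness (p := 13) hno (by norm_num) (by norm_num) (by decide +kernel) (by norm_num)
        · exact h4 ⟨rfl, rfl⟩
        · exact witness (p := 31) hno (by norm_num) (by norm_num) (by decide +kernel) (by norm_num)
        · exact witness (p := 43) hno (by norm_num) (by norm_num) (by decide +kernel) (by norm_num)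
    · -- `n + 1` is composite: Zsigmondy suffices
      have h6 : ¬ (q = 2 ∧ n = 6) := fun h => h2 ⟨h.1, by simp [h.2]⟩
      obtain ⟨p, hp, hpd, hprim⟩ := zsigmondy q n (by omega) (by omega) h6 (by omega)
      have hne : p ≠ n + 1 := fun h => hnp (h ▸ hp)
      have : Fact p.Prime := ⟨hp⟩
      have hpow : (q : ZMod p) ^ n = 1 := pow_eq_one_of_dvd (by omega) hpd
      have hq0 : (q : ZMod p) ≠ 0 := by
        intro h0
        rw [h0, zero_pow (by omega)] at hpow
        exact zero_ne_one hpow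
      have hord : orderOf (q : ZMod p) = n := by
        have hd : orderOf (q : ZMod p) ∣ n := orderOf_dvd_of_pow_eq_one hpow
        have hpos : 0 < orderOf (q : ZMod p) := Nat.pos_of_dvd_of_pos hd (by omega)
        by_contra hlt
        have hlt' : orderOf (q : ZMod p) < n := lt_of_le_of_ne (Nat.le_of_dvd (by omega) hd) hlt
        apply hprim _ hpos hlt'
        rw [← ZMod.natCast_eq_zero_iff, Nat.cast_sub (Nat.one_le_pow _ _ (by omega))]
        simp [pow_orderOf_eq_one]
      have hdvd : n ∣ p - 1 := by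
        rw [← hord]
        exact ZMod.orderOf_dvd_card_sub_one hq0
      have hle : n ≤ p - 1 := Nat.le_of_dvd (by have := hp.two_le; omega) hdvd
      refine hno p hp hpd (fun i hi1 hi2 => hprim i (by omega) hi2) (Or.inl ?_)
      omega

end Cfsg.Agent.S3430
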