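import Cfsg.Statements.S3433
import Cfsg.Agent.Lib.Ord5.Bottom

set_option autoImplicit false
open Cfsg

namespace Cfsg.Agent.S3433

open Cfsg.Agent.Lib.Ord5.Basic Cfsg.Agent.Lib.Ord5.Bottom

/-- A finite group whose set of element orders is exactly {1, 2, 3, 4, 5} is isomorphic to the alternating group of degree 6, or has a normal elementary abelian 2-subgroup with quotient isomorphic to the alternating group of degree 5. -/
theorem result {G : Type*} [Group G] [Finite G] (h : Set.range (orderOf : G → ℕ) = {k : ℕ | 1 ≤ k ∧ k ≤ 5}) :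
    Nonempty (G ≃* ↥(alternatingGroup (Fin 6))) ∨
      ∃ (N : Subgroup G) (_ : N.Normal), Cfsg.IsElementaryAbelian 2 N ∧ Nonempty (G ⧸ N ≃* ↥(alternatingGroup (Fin 5))) := by
  have hS : IsO G := IsO.of_finite (fun g => by
    have h1 : orderOf g ∈ Set.range (orderOf : G → ℕ) := ⟨g, rfl⟩
    rw [h] at h1
    exact h1.2)
  have hdvd : ∀ k : ℕ, 1 ≤ k → k ≤ 5 → k ∣ Nat.card G := by
    intro k h1 h2
    have h3 : k ∈ Set.range (orderOf : G → ℕ) := by
      rw [h]
      exact ⟨h1, h2⟩
    obtain ⟨g, rfl⟩ := h3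
    exact orderOf_dvd_natCard g
  obtain ⟨R, hRn, hRs, hcases⟩ := Cfsg.Agent.Lib.Ord5.Top.exists_radical_quot hS (hdvd 2 (by norm_num) (by norm_num))
    (hdvd 3 (by norm_num) (by norm_num)) (hdvd 5 (by norm_num) (by norm_num))
  rcases hcases with ⟨⟨e⟩⟩ | ⟨⟨e⟩⟩
  · -- the case of `A₅`
    right
    let ρ : G →* alternatingGroup (Fin 5) := e.toMonoidHom.comp (QuotientGroup.mk' R)
    have hρ : Function.Surjective ρ := e.surjective.comp (QuotientGroup.mk'_surjective R)
    have hker : ρ.ker = R := by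
      ext x
      simp only [MonoidHom.mem_ker, ρ, MonoidHom.coe_comp, Function.comp_apply,
        MulEquiv.coe_toMonoidHom, EmbeddingLike.map_eq_one_iff]
      exact QuotientGroup.eq_one_iff x
    have hRker : Group.IsSolvable ρ.ker := by
      rw [hker]
      exact hRs
    have h2 := a5_case hS ρ hρ hRker
    rw [hker] at h2
    obtain ⟨u, hu⟩ := hρ u₀
    obtain ⟨y, hy⟩ := hρ s₀
    have hyo : orderOf y = 3 := hS.orderOf_lift ρ (Or.inl rfl) (by rw [hy]; exact a5_s_order)
    have hu2 : u * u ∈ R := by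
      rw [← hker, MonoidHom.mem_ker, map_mul, hu]
      exact a5_u
    have huy : u * y * u⁻¹ * y ∈ R := by
      rw [← hker, MonoidHom.mem_ker, map_mul, map_mul, map_mul, map_inv, hu, hy]
      exact a5_us
    have hel : ∀ d ∈ R, d * d = 1 := fun d hd =>
      Cfsg.Agent.Lib.Ord5.E1.main hS R h2 (Or.inl rfl) hyo hu2 huy hd
    have hRel : ∀ d : R, d * d = 1 := fun d => Subtype.ext (hel d d.2)
    refine ⟨R, hRn, ⟨⟨⟨Cfsg.Agent.Lib.Ord5.Module.comm_of_exp_two hRel⟩⟩, ?_⟩, ⟨e⟩⟩
    intro a ha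
    rw [pow_two]
    exact hel a ha
  · -- the case of `A₆`
    left
    let ρ : G →* alternatingGroup (Fin 6) := e.toMonoidHom.comp (QuotientGroup.mk' R)
    have hρ : Function.Surjective ρ := e.surjective.comp (QuotientGroup.mk'_surjective R)
    have hker : ρ.ker = R := by
      ext x
      simp only [MonoidHom.mem_ker, ρ, MonoidHom.coe_comp, Function.comp_apply,
        MulEquiv.coe_toMonoidHom, EmbeddingLike.map_eq_one_iff]
      exact QuotientGroup.eq_one_iff x
    have hRker : Group.IsSolvable ρ.ker := by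
      rw [hker]
      exact hRs
    have h2 := a6_case hS ρ hρ hRker
    exact ⟨MulEquiv.ofBijective ρ ⟨(MonoidHom.ker_eq_bot_iff _).1 h2, hρ⟩⟩

end Cfsg.Agent.S3433
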