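import Cfsg.Statements.S3494
import Mathlib

set_option autoImplicit false
open Cfsg

namespace Cfsg.Agent.S3494

open MulAction
open scoped Pointwise

variable {G : Type*} [Group G] {Ω : Type*} [MulAction G Ω]

/-- The kernel of `G_α` on the orbit `G_α ω`. -/
def kerSub (α ω : Ω) : Subgroup G where
  carrier := {h | h • α = α ∧ ∀ k : G, k • α = α → h • k • ω = k • ω}
  one_mem' := ⟨one_smul _ _, fun k _ => one_smul _ _⟩
  mul_mem' := by
    rintro a b ⟨ha, ha'⟩ ⟨hb, hb'⟩
    refine ⟨by rw [mul_smul, hb, ha], fun k hk => ?_⟩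
    rw [mul_smul, hb' k hk, ha' k hk]
  inv_mem' := by
    rintro a ⟨ha, ha'⟩
    refine ⟨by rw [inv_smul_eq_iff, ha], fun k hk => ?_⟩
    rw [inv_smul_eq_iff, ha' k hk]

theorem kerSub_conj {α ω : Ω} {h k : G} (hh : h ∈ kerSub α ω) (hk : k • α = α) :
    k * h * k⁻¹ ∈ kerSub α ω := by
  refine ⟨?_, fun k' hk' => ?_⟩
  · rw [mul_smul, mul_smul, inv_smul_eq_iff.mpr hk.symm, hh.1, hk]
  · rw [mul_smul, mul_smul]
    have h1 : (k⁻¹ * k') • α = α := by
      rw [mul_smul, hk', inv_smul_eq_iff, hk]
    have h2 := hh.2 _ h1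
    rw [mul_smul] at h2
    rw [h2, smul_inv_smul]

/-- The out-neighbourhood of the orbital of `(α, ω)`. -/
def nbr (α ω v : Ω) : Set Ω := {x | ∃ g : G, g • α = v ∧ g • ω = x}

theorem nbr_smul (α ω v : Ω) (t : G) : nbr (G := G) α ω (t • v) = t • nbr (G := G) α ω v := by
  ext x
  rw [Set.mem_smul_set_iff_inv_smul_mem]
  constructor
  · rintro ⟨g, h1, h2⟩
    refine ⟨t⁻¹ * g, ?_, ?_⟩
    · rw [mul_smul, h1, inv_smul_smul]
    · rw [mul_smul, h2]
  · rintro ⟨g, h1, h2⟩
    refine ⟨t * g, ?_, ?_⟩
    · rw [mul_smul, h1]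
    · rw [mul_smul, h2, smul_inv_smul]

/-- The block of points with the same neighbourhood. -/
theorem block_nbr (α ω : Ω) :
    IsBlock G {v | nbr (G := G) α ω v = nbr (G := G) α ω α} := by
  set D := nbr (G := G) α ω α with hD
  rw [isBlock_iff_smul_eq_of_nonempty]
  rintro g ⟨y, ⟨v, hv, rfl⟩, hy⟩
  have hv' : nbr (G := G) α ω v = D := hv
  have hy' : nbr (G := G) α ω (g • v) = D := hy
  have hgD : g • D = D := by
    have h3 := nbr_smul (G := G) α ω v g
    rw [hv', hy'] at h3
    exact h3.symm
  ext w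
  rw [Set.mem_smul_set_iff_inv_smul_mem]
  constructor
  · intro hw
    have h1 : nbr (G := G) α ω (g⁻¹ • w) = D := hw
    show nbr (G := G) α ω w = D
    have h2 : w = g • g⁻¹ • w := by rw [smul_inv_smul]
    rw [h2, nbr_smul, h1, hgD]
  · intro hw
    have h1 : nbr (G := G) α ω w = D := hw
    show nbr (G := G) α ω (g⁻¹ • w) = D
    rw [nbr_smul, h1, inv_smul_eq_iff, hgD]

/-- The key step: the kernel at `α` is contained in the kernel at `ω`. -/
theorem key [Finite Ω] (hprim : IsPreprimitive G Ω)
    (hep : ∀ (α : Ω) (ω : Ω), IsPreprimitive (stabilizer G α) (orbit (stabilizer G α) ω))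
    {α ω : Ω} (hω : ω ≠ α) : kerSub (G := G) α ω ≤ kerSub ω α := by
  intro h hh
  have hhω : h • ω = ω := by
    have := hh.2 1 (one_smul _ _)
    simpa using this
  refine ⟨hhω, fun g hg => ?_⟩
  by_contra hne
  set u := g • α with hu
  have hα : h • α = α := hh.1
  have huα : u ≠ α := by
    intro h1
    apply hne
    rw [h1, hα]
  -- A is transitive on the H-orbit of u
  let H := stabilizer G α
  let N : Subgroup H := (kerSub (G := G) α ω).subgroupOf H
  have hNn : N.Normal := by
    constructor
    rintro ⟨a, ha⟩ haN ⟨k, hk⟩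
    rw [Subgroup.mem_subgroupOf] at haN ⊢
    exact kerSub_conj haN hk
  have hP := hep α u
  let u₀ : orbit H u := ⟨u, mem_orbit_self u⟩
  have htrans : IsPretransitive N (orbit H u) := by
    apply IsQuasiPreprimitive.isPretransitive_of_normal
    intro hfix
    apply hne
    have h1 : u₀ ∈ fixedPoints N (orbit H u) := by rw [hfix]; trivial
    have h2 := h1 ⟨⟨h, hα⟩, Subgroup.mem_subgroupOf.mpr hh⟩
    exact congrArg Subtype.val h2
  -- nbr α ⊆ nbr u
  have hsub : nbr (G := G) α ω α ⊆ nbr (G := G) α ω u := by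
    rintro x ⟨k, hk, rfl⟩
    have hkH : k ∈ H := hk
    let v₀ : orbit H u := ⟨k • u, ⟨⟨k, hkH⟩, rfl⟩⟩
    obtain ⟨⟨⟨a, haH⟩, haN⟩, hau⟩ := htrans.exists_smul_eq u₀ v₀
    have hau' : a • u = k • u := congrArg Subtype.val hau
    have haN' : a ∈ kerSub (G := G) α ω := Subgroup.mem_subgroupOf.mp haN
    have h1 := haN'.2 _ hk
    refine ⟨a⁻¹ * k * g, ?_, ?_⟩
    · rw [mul_smul, mul_smul, ← hu, ← hau', inv_smul_smul]
    · rw [mul_smul, mul_smul, hg, inv_smul_eq_iff, h1]
  -- equal
  have heq : nbr (G := G) α ω α = nbr (G := G) α ω u := by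
    apply Set.eq_of_subset_of_ncard_le hsub _ (Set.toFinite _)
    rw [hu, nbr_smul, Set.ncard_smul_set]
  -- block
  have hb := block_nbr (G := G) α ω
  have hbt := hb.subsingleton_or_eq_univ
  rcases hbt with hs | hs
  · exact huα (hs (show u ∈ _ from heq.symm) (show α ∈ _ from rfl))
  · have h1 : ω ∈ {v | nbr (G := G) α ω v = nbr (G := G) α ω α} := by rw [hs]; trivial
    have h2 : ω ∈ nbr (G := G) α ω ω := by
      rw [show nbr (G := G) α ω ω = nbr (G := G) α ω α from h1]
      exact ⟨1, one_smul _ _, one_smul _ _⟩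
    obtain ⟨g', h3, h4⟩ := h2
    exact hω (smul_left_cancel g' (h3.trans h4.symm)).symm

/-- Manning's Theorem on extremely primitive groups. Let a finite group G act faithfully and primitively on a finite set Ω with non-trivial point stabilizers, and suppose every point stabilizer G_α acts primitively on each of its orbits. Then G_α acts faithfully on each of its orbits other than {α}: an element of G_α fixing every point of one such orbit is the identity. -/
theorem result {G : Type*} [Group G] [Finite G] {Ω : Type*} [Fintype Ω] [MulAction G Ω] [FaithfulSMul G Ω] (hprim : MulAction.IsPreprimitive G Ω) (hH : ∀ α : Ω, MulAction.stabilizer G α ≠ ⊥) (hep : ∀ (α : Ω) (ω : Ω), MulAction.IsPreprimitive (MulAction.stabilizer G α) (MulAction.orbit (MulAction.stabilizer G α) ω))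
    (α ω : Ω) (hω : ω ≠ α) (h : MulAction.stabilizer G α) (hfix : ∀ x ∈ MulAction.orbit (MulAction.stabilizer G α) ω, h • x = x) : h = 1 := by
  have hnon : Nontrivial Ω := ⟨⟨ω, α, hω⟩⟩
  -- the kernels agree
  have heq : kerSub (G := G) α ω = kerSub ω α :=
    le_antisymm (key hprim hep hω) (key hprim hep hω.symm)
  set A := kerSub (G := G) α ω with hA
  have hcoat : IsCoatom (stabilizer G α) := (isCoatom_stabilizer_iff_preprimitive (G := G) (X := Ω) α).mpr hprim
  have hcoat' : IsCoatom (stabilizer G ω) := (isCoatom_stabilizer_iff_preprimitive (G := G) (X := Ω) ω).mpr hprim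
  -- G_ω is not in G_α
  have hnle : ¬ stabilizer G ω ≤ stabilizer G α := by
    intro hle
    have heq' : stabilizer G α = stabilizer G ω :=
      (hcoat'.le_iff.mp hle).resolve_left hcoat.1
    obtain ⟨g, hg⟩ := hprim.exists_smul_eq α ω
    have hgN : g ∈ Subgroup.normalizer ((stabilizer G α : Subgroup G) : Set G) := by
      rw [Subgroup.mem_set_normalizer_iff]
      intro x
      show x ∈ stabilizer G α ↔ g * x * g⁻¹ ∈ stabilizer G α
      constructor
      · intro hx
        rw [heq', mem_stabilizer_iff, mul_smul, mul_smul, ← hg, inv_smul_smul,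
          (show x • α = α from hx)]
      · intro hx
        rw [heq', mem_stabilizer_iff, mul_smul, mul_smul, ← hg, inv_smul_smul] at hx
        exact smul_left_cancel g hx
    have hNtop : Subgroup.normalizer ((stabilizer G α : Subgroup G) : Set G) = ⊤ := by
      apply hcoat.2
      apply lt_of_le_of_ne Subgroup.le_normalizer
      intro he
      rw [← he] at hgN
      exact hω (hg.symm.trans hgN)
    have hn : (stabilizer G α).Normal := Subgroup.normalizer_eq_top_iff.mp hNtop
    apply hH α
    rw [Subgroup.eq_bot_iff_forall]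
    intro s hs
    apply FaithfulSMul.eq_of_smul_eq_smul (α := Ω)
    intro x
    obtain ⟨t, rfl⟩ := hprim.exists_smul_eq α x
    have h3 := hn.conj_mem _ hs t⁻¹
    have h4 : (t⁻¹ * s * t⁻¹⁻¹) • α = α := h3
    rw [inv_inv, mul_smul, mul_smul, inv_smul_eq_iff] at h4
    simpa using h4
  -- A is normalized by G
  have hN1 : stabilizer G α ≤ Subgroup.normalizer (A : Set G) := by
    intro k hk
    rw [Subgroup.mem_set_normalizer_iff]
    intro x
    constructor
    · intro hx
      exact kerSub_conj hx hk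
    · intro hx
      have hk' : k⁻¹ • α = α := by
        rw [inv_smul_eq_iff]; exact (show k • α = α from hk).symm
      have := kerSub_conj hx hk'
      simpa [mul_assoc] using this
  have hN2 : stabilizer G ω ≤ Subgroup.normalizer (A : Set G) := by
    intro k hk
    rw [Subgroup.mem_set_normalizer_iff]
    intro x
    show x ∈ A ↔ k * x * k⁻¹ ∈ A
    rw [heq]
    constructor
    · intro hx
      exact kerSub_conj hx hk
    · intro hx
      have hk' : k⁻¹ • ω = ω := by
        rw [inv_smul_eq_iff]; exact (show k • ω = ω from hk).symm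
      have := kerSub_conj hx hk'
      simpa [mul_assoc] using this
  have hNtop : Subgroup.normalizer (A : Set G) = ⊤ := by
    apply hcoat.2
    apply lt_of_le_of_ne hN1
    intro he
    apply hnle
    rw [he]
    exact hN2
  have hAn : A.Normal := Subgroup.normalizer_eq_top_iff.mp hNtop
  have hhA : (h : G) ∈ A := by
    refine ⟨h.2, fun k hk => ?_⟩
    exact hfix (k • ω) ⟨⟨k, hk⟩, rfl⟩
  -- A acts trivially
  apply Subtype.ext
  apply FaithfulSMul.eq_of_smul_eq_smul (α := Ω)
  intro x
  obtain ⟨t, rfl⟩ := hprim.exists_smul_eq α x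
  have h3 := hAn.conj_mem _ hhA t⁻¹
  have h4 := h3.1
  rw [inv_inv, mul_smul, mul_smul, inv_smul_eq_iff] at h4
  simpa using h4

end Cfsg.Agent.S3494
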