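import Cfsg.Statements.S3495
import Cfsg.Agent.S3494
import Cfsg.Agent.Lib.Perm.Normal
import Mathlib

set_option autoImplicit false
open Cfsg

namespace Cfsg.Agent.S3495

open MulAction

theorem orbits_eq {G : Type*} [Group G] [Finite G] {Ω : Type*} [Fintype Ω] [MulAction G Ω] [FaithfulSMul G Ω] (hprim : MulAction.IsPreprimitive G Ω) (hH : ∀ α : Ω, MulAction.stabilizer G α ≠ ⊥) (hep : ∀ (α : Ω) (ω : Ω), MulAction.IsPreprimitive (MulAction.stabilizer G α) (MulAction.orbit (MulAction.stabilizer G α) ω))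
    (α : Ω) (M : Subgroup G) (hM : M ≠ ⊥) (hMle : M ≤ MulAction.stabilizer G α)
    (hMn : MulAction.stabilizer G α ≤ Subgroup.normalizer (M : Set G)) (ω : Ω) :
    MulAction.orbit M ω = MulAction.orbit (MulAction.stabilizer G α) ω := by
  let H := stabilizer G α
  apply Set.Subset.antisymm
  · rintro _ ⟨⟨m, hm⟩, rfl⟩
    exact ⟨⟨m, hMle hm⟩, rfl⟩
  · rintro _ ⟨⟨k, hk⟩, rfl⟩
    by_cases hω : ω = α
    · subst hω
      have : (fun m : stabilizer G ω => m • ω) ⟨k, hk⟩ = ω := hk
      rw [this]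
      exact mem_orbit_self ω
    · have hP := hep α ω
      let M' : Subgroup H := M.subgroupOf H
      have hM'n : M'.Normal := by
        constructor
        rintro ⟨a, ha⟩ haM ⟨g, hg⟩
        rw [Subgroup.mem_subgroupOf] at haM ⊢
        exact (Subgroup.mem_set_normalizer_iff.mp (hMn hg) a).mp haM
      let u₀ : orbit H ω := ⟨ω, mem_orbit_self ω⟩
      let v₀ : orbit H ω := ⟨k • ω, ⟨⟨k, hk⟩, rfl⟩⟩
      have htrans : IsPretransitive M' (orbit H ω) := by
        apply IsQuasiPreprimitive.isPretransitive_of_normal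
        intro hfix
        apply hM
        rw [Subgroup.eq_bot_iff_forall]
        intro m hm
        have hmH : m ∈ H := hMle hm
        have h1 := Cfsg.Agent.S3494.result hprim hH hep α ω hω ⟨m, hmH⟩ (by
          rintro x hx
          have h2 : (⟨x, hx⟩ : orbit H ω) ∈ fixedPoints M' (orbit H ω) := by rw [hfix]; trivial
          have h3 := h2 ⟨⟨m, hmH⟩, Subgroup.mem_subgroupOf.mpr hm⟩
          exact congrArg Subtype.val h3)
        exact congrArg Subtype.val h1
      obtain ⟨⟨⟨a, haH⟩, haM⟩, hau⟩ := htrans.exists_smul_eq u₀ v₀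
      have hau' : a • ω = k • ω := congrArg Subtype.val hau
      exact ⟨⟨a, Subgroup.mem_subgroupOf.mp haM⟩, hau'⟩

/-- Let a finite group G act faithfully and primitively on a finite set Ω with non-trivial point stabilizers, each acting primitively on every one of its orbits (an extremely primitive group), and suppose G has an elementary abelian normal p-subgroup N acting regularly on Ω (affine type). Then every non-trivial subgroup M of a point stabilizer G_α that is normal in G_α has the same orbits on Ω as G_α, and normalizes no subgroup of N other than 1 and N. -/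
theorem result {G : Type*} [Group G] [Finite G] {Ω : Type*} [Fintype Ω] [MulAction G Ω] [FaithfulSMul G Ω] (hprim : MulAction.IsPreprimitive G Ω) (hH : ∀ α : Ω, MulAction.stabilizer G α ≠ ⊥) (hep : ∀ (α : Ω) (ω : Ω), MulAction.IsPreprimitive (MulAction.stabilizer G α) (MulAction.orbit (MulAction.stabilizer G α) ω))
    (N : Subgroup G) [N.Normal] (hNc : IsMulCommutative N) (p : ℕ) (hp : p.Prime) (hNp : ∀ n ∈ N, n ^ p = 1)
    (hNtr : MulAction.IsPretransitive N Ω) (hNreg : ∀ ω : Ω, MulAction.stabilizer N ω = ⊥) (α : Ω) (M : Subgroup G) (hM : M ≠ ⊥) (hMle : M ≤ MulAction.stabilizer G α)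
    (hMn : MulAction.stabilizer G α ≤ Subgroup.normalizer (M : Set G)) :
    (∀ ω : Ω, MulAction.orbit M ω = MulAction.orbit (MulAction.stabilizer G α) ω) ∧
    (∀ L : Subgroup G, L ≤ N → M ≤ Subgroup.normalizer (L : Set G) → L = ⊥ ∨ L = N) := by
  have horb := orbits_eq hprim hH hep α M hM hMle hMn
  refine ⟨horb, fun L hLN hML => ?_⟩
  -- regularity
  have hreg : ∀ a ∈ N, ∀ b ∈ N, a • α = b • α → a = b := by
    intro a ha b hb hab
    have h1 : (⟨b⁻¹ * a, N.mul_mem (N.inv_mem hb) ha⟩ : N) ∈ stabilizer N α := by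
      rw [mem_stabilizer_iff]
      show (b⁻¹ * a) • α = α
      rw [mul_smul, hab, inv_smul_smul]
    rw [hNreg, Subgroup.mem_bot] at h1
    exact inv_mul_eq_one.mp (congrArg Subtype.val h1) |>.symm
  -- G_α normalizes L
  have hkL : ∀ k : G, k • α = α → ∀ l ∈ L, k * l * k⁻¹ ∈ L := by
    intro k hk l hl
    have h1 : k • l • α ∈ orbit (stabilizer G α) (l • α) := ⟨⟨k, hk⟩, rfl⟩
    rw [← horb] at h1
    obtain ⟨⟨m, hm⟩, hmk⟩ := h1
    have hmk' : m • l • α = k • l • α := hmk
    have hmα : m • α = α := hMle hm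
    have hkα : k⁻¹ • α = α := by rw [inv_smul_eq_iff, hk]
    have hmα' : m⁻¹ • α = α := by rw [inv_smul_eq_iff, hmα]
    have h2 : (m * l * m⁻¹) • α = (k * l * k⁻¹) • α := by
      rw [mul_smul, mul_smul, hmα', mul_smul, mul_smul, hkα, hmk']
    have h3 : m * l * m⁻¹ = k * l * k⁻¹ :=
      hreg _ (‹N.Normal›.conj_mem l (hLN hl) m) _ (‹N.Normal›.conj_mem l (hLN hl) k) h2
    rw [← h3]
    exact (Subgroup.mem_set_normalizer_iff.mp (hML hm) l).mp hl
  -- N normalizes L
  have hnL : ∀ n ∈ N, ∀ l ∈ L, n * l * n⁻¹ ∈ L := by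
    intro n hn l hl
    have h1 : (⟨n, hn⟩ : N) * ⟨l, hLN hl⟩ = ⟨l, hLN hl⟩ * ⟨n, hn⟩ := mul_comm' _ _
    have h2 : n * l = l * n := congrArg Subtype.val h1
    rw [h2, mul_inv_cancel_right]
    exact hl
  -- L normal
  have hLn : L.Normal := by
    constructor
    intro l hl g
    obtain ⟨⟨n, hn⟩, hnα⟩ := hNtr.exists_smul_eq α (g • α)
    have hnα' : n • α = g • α := hnα
    have hk : (n⁻¹ * g) • α = α := by rw [mul_smul, ← hnα', inv_smul_smul]
    have h1 := hkL _ hk l hl
    have h2 := hnL n hn _ h1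
    have h3 : n * ((n⁻¹ * g) * l * (n⁻¹ * g)⁻¹) * n⁻¹ = g * l * g⁻¹ := by group
    rw [h3] at h2
    exact h2
  by_cases hLb : L = ⊥
  · exact Or.inl hLb
  right
  have htr := Cfsg.Agent.Lib.Perm.Normal.isPretransitive_of_normal_of_ne_bot hprim L hLb
  apply le_antisymm hLN
  intro n hn
  obtain ⟨⟨l, hl⟩, hlα⟩ := htr.exists_smul_eq α (n • α)
  have : l = n := hreg l (hLN hl) n hn hlα
  rw [← this]; exact hl

end Cfsg.Agent.S3495
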