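import Cfsg.Statements.S3497
import Cfsg.Agent.S3494
import Cfsg.Agent.Lib.Perm.Normal
import Cfsg.Agent.Lib.Core.Basic
import Mathlib

set_option autoImplicit false
open Cfsg

namespace Cfsg.Agent.S3497

open MulAction
open Cfsg.Agent.Lib.Core.Basic

set_option linter.unusedSectionVars false

section prim

variable {H : Type*} [Group H] {Δ : Type*} [MulAction H Δ] [FaithfulSMul H Δ]

/-- An element centralizing a transitive subgroup and fixing a point is trivial. -/
theorem eq_one_of_centralizer (N : Subgroup H) (htr : IsPretransitive N Δ) {c : H}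
    (hc : c ∈ Subgroup.centralizer (N : Set H)) {x : Δ} (hx : c • x = x) : c = 1 := by
  apply FaithfulSMul.eq_of_smul_eq_smul (α := Δ)
  intro y
  obtain ⟨⟨n, hn⟩, rfl⟩ := htr.exists_smul_eq x y
  show c • n • x = (1 : H) • n • x
  have h1 : n * c = c * n := Subgroup.mem_centralizer_iff.mp hc n hn
  rw [smul_smul, ← h1, mul_smul, hx, one_smul]

/-- A semiregular subgroup containing a transitive one is that subgroup. -/
theorem le_of_transitive_of_semiregular {N C : Subgroup H} (htr : IsPretransitive N Δ) (x : Δ)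
    (hC : ∀ c ∈ C, c • x = x → c = 1) (hNC : N ≤ C) : C ≤ N := by
  intro c hc
  obtain ⟨⟨n, hn⟩, hnc⟩ := htr.exists_smul_eq x (c • x)
  have hnc' : n • x = c • x := hnc
  have h1 : n⁻¹ * c = 1 := by
    apply hC _ (C.mul_mem (C.inv_mem (hNC hn)) hc)
    rw [mul_smul, ← hnc', inv_smul_smul]
  have h2 : n = c := inv_mul_eq_one.mp h1
  rw [← h2]
  exact hn

variable [Finite H]

/-- A primitive group with a non-trivial centre has prime order. -/
theorem prime_of_center (hP : IsPreprimitive H Δ) (hΔ : Nontrivial Δ)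
    (hZ : Subgroup.center H ≠ ⊥) : (Nat.card H).Prime := by
  have htr := Cfsg.Agent.Lib.Perm.Normal.isPretransitive_of_normal_of_ne_bot hP (Subgroup.center H) hZ
  obtain ⟨x⟩ : Nonempty Δ := inferInstance
  have hstab : stabilizer H x = ⊥ := by
    rw [Subgroup.eq_bot_iff_forall]
    intro c hc
    exact eq_one_of_centralizer (Subgroup.center H) htr
      (Subgroup.mem_centralizer_iff.mpr fun z hz => (Subgroup.mem_center_iff.mp hz c).symm) hc
  have hcoat : IsCoatom (stabilizer H x) :=
    (isCoatom_stabilizer_iff_preprimitive (G := H) (X := Δ) x).mpr hP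
  rw [hstab] at hcoat
  have hsimple : IsSimpleGroup H := by
    have hnt : Nontrivial H := by
      rw [← Subgroup.nontrivial_iff]
      exact ⟨⟨⊥, ⊤, hcoat.1⟩⟩
    refine ⟨fun N _ => ?_⟩
    by_cases hN : N = ⊥
    · exact Or.inl hN
    · exact Or.inr (hcoat.2 N (bot_lt_iff_ne_bot.mpr hN))
  have hcyc : IsCyclic H := by
    obtain ⟨g, hg⟩ := exists_ne (1 : H)
    have h1 : Subgroup.zpowers g = ⊤ := hcoat.2 _ (bot_lt_iff_ne_bot.mpr (Subgroup.zpowers_ne_bot.2 hg))
    exact ⟨⟨g, (Subgroup.eq_top_iff' _).1 h1⟩⟩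
  let _ := IsCyclic.commGroup (α := H)
  exact IsSimpleGroup.prime_card

/-- Structure of the Fitting subgroup of a faithful primitive group. -/
theorem fitting_structure [Nonempty Δ] (hP : IsPreprimitive H Δ) (hF : fittingSubgroup H ≠ ⊥) :
    Subgroup.centralizer (fittingSubgroup H : Set H) ≤ fittingSubgroup H ∧
    IsMulCommutative (fittingSubgroup H) ∧
    (∀ x : Δ, ∀ f ∈ fittingSubgroup H, f • x = x → f = 1) ∧
    (∀ p : ℕ, p.Prime → p ∣ Nat.card (fittingSubgroup H) → ∀ x ∈ fittingSubgroup H, x ^ p = 1) := by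
  set F := fittingSubgroup H with hFdef
  have hFn : F.Normal := fittingSubgroup_normal
  have hFnil : Group.IsNilpotent F := fittingSubgroup_isNilpotent
  have hFnt : Nontrivial F := (Subgroup.nontrivial_iff_ne_bot F).mpr hF
  -- the centre of F
  set Z : Subgroup H := (Subgroup.center F).map F.subtype with hZ
  have hZF : Z ≤ F := Subgroup.map_subtype_le _
  have hZmem : ∀ x : H, x ∈ Z ↔ x ∈ F ∧ ∀ y ∈ F, y * x = x * y := by
    intro x
    constructor
    · rintro ⟨⟨f, hf⟩, hfc, rfl⟩
      refine ⟨hf, fun y hy => ?_⟩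
      have := Subgroup.mem_center_iff.mp hfc ⟨y, hy⟩
      exact congrArg Subtype.val this
    · rintro ⟨hx, hc⟩
      refine ⟨⟨x, hx⟩, ?_, rfl⟩
      rw [SetLike.mem_coe, Subgroup.mem_center_iff]
      rintro ⟨y, hy⟩
      exact Subtype.ext (hc y hy)
  have hZn : Z.Normal := by
    constructor
    intro z hz h
    rw [hZmem] at hz ⊢
    refine ⟨hFn.conj_mem z hz.1 h, fun y hy => ?_⟩
    have h1 := hz.2 (h⁻¹ * y * h) (by simpa using hFn.conj_mem y hy h⁻¹)
    have h2 : y = h * (h⁻¹ * y * h) * h⁻¹ := by group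
    calc y * (h * z * h⁻¹) = h * ((h⁻¹ * y * h) * z) * h⁻¹ := by group
      _ = h * (z * (h⁻¹ * y * h)) * h⁻¹ := by rw [h1]
      _ = h * z * h⁻¹ * y := by group
  have hZbot : Z ≠ ⊥ := by
    intro h
    have h1 := (Subgroup.map_eq_bot_iff_of_injective _ F.subtype_injective).mp h
    exact (Group.IsNilpotent.center_ne_bot F) h1
  have htrZ := Cfsg.Agent.Lib.Perm.Normal.isPretransitive_of_normal_of_ne_bot hP Z hZbot
  have hFC : F ≤ Subgroup.centralizer (Z : Set H) := by
    intro f hf
    rw [Subgroup.mem_centralizer_iff]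
    intro z hz
    exact (((hZmem z).mp hz).2 f hf).symm
  have hsemi : ∀ (x : Δ), ∀ c ∈ Subgroup.centralizer (Z : Set H), c • x = x → c = 1 := by
    intro x c hc hx
    exact eq_one_of_centralizer Z htrZ hc hx
  obtain ⟨x₀⟩ : Nonempty Δ := inferInstance
  have hFZ : F ≤ Z :=
    le_of_transitive_of_semiregular htrZ x₀ (fun c hc => hsemi x₀ c (hFC hc)) hZF
  have hFZeq : F = Z := le_antisymm hFZ hZF
  have hsemiF : ∀ (x : Δ), ∀ f ∈ F, f • x = x → f = 1 := fun x f hf => hsemi x f (hFC hf)
  have hcomm : IsMulCommutative F := by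
    constructor
    constructor
    rintro ⟨a, ha⟩ ⟨b, hb⟩
    apply Subtype.ext
    have h1 := Subgroup.mem_centralizer_iff.mp (hFC ha) b (hFZ hb)
    exact h1.symm
  refine ⟨?_, hcomm, hsemiF, ?_⟩
  · rw [hFZeq]
    exact le_of_transitive_of_semiregular htrZ x₀ (hsemi x₀) (by
      intro z hz
      apply Subgroup.mem_centralizer_iff.mpr
      intro y hy
      rw [SetLike.mem_coe, ← hFZeq] at hy
      exact (Subgroup.mem_centralizer_iff.mp (hFC hy) z hz).symm)
  · intro p hp hpF x hx
    have hcomm' : ∀ a ∈ F, ∀ b ∈ F, a * b = b * a := by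
      intro a ha b hb
      exact Subgroup.mem_centralizer_iff.mp (hFC ha) b (hFZ hb) |>.symm
    let E : Subgroup H :=
      { carrier := {x | x ∈ F ∧ x ^ p = 1}
        one_mem' := ⟨F.one_mem, one_pow _⟩
        mul_mem' := by
          rintro a b ⟨ha, ha'⟩ ⟨hb, hb'⟩
          refine ⟨F.mul_mem ha hb, ?_⟩
          have h1 : Commute a b := hcomm' a ha b hb
          rw [h1.mul_pow, ha', hb', one_mul]
        inv_mem' := by
          rintro a ⟨ha, ha'⟩
          exact ⟨F.inv_mem ha, by rw [inv_pow, ha', inv_one]⟩ }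
    have hEn : E.Normal := by
      constructor
      rintro a ⟨ha, ha'⟩ g
      refine ⟨hFn.conj_mem a ha g, ?_⟩
      rw [conj_pow, ha', mul_one, mul_inv_cancel]
    have hEbot : E ≠ ⊥ := by
      have : Fact p.Prime := ⟨hp⟩
      obtain ⟨⟨y, hy⟩, hy2⟩ := exists_prime_orderOf_dvd_card' p hpF
      intro h
      have h1 : y ∈ E := by
        refine ⟨hy, ?_⟩
        have h3 : (⟨y, hy⟩ : F) ^ p = 1 := by rw [← hy2]; exact pow_orderOf_eq_one _
        exact congrArg Subtype.val h3
      rw [h, Subgroup.mem_bot] at h1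
      subst h1
      have h4 : (⟨1, hy⟩ : F) = 1 := rfl
      rw [h4, orderOf_one] at hy2
      exact hp.one_lt.ne hy2
    have htrE := Cfsg.Agent.Lib.Perm.Normal.isPretransitive_of_normal_of_ne_bot hP E hEbot
    have h5 : F ≤ E := le_of_transitive_of_semiregular htrE x₀ (fun c hc => hsemiF x₀ c hc) (fun y hy => hy.1)
    exact (h5 hx).2

end prim

/-- A representation on an `𝔽_p`-space gives a homomorphism to `GL_e(p)`. -/
theorem exists_gl_rep {H V : Type*} [Group H] [AddCommGroup V] [Finite V] (p e : ℕ) [Fact p.Prime]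
    [Module (ZMod p) V] (hcard : Nat.card V = p ^ e) (ρ : H →* AddMonoid.End V) :
    ∃ φ : H →* GL (Fin e) (ZMod p), ∀ h, φ h = 1 ↔ ∀ v, ρ h v = v := by
  have hfin : Module.Finite (ZMod p) V := Module.Finite.of_finite
  have hfr : Module.finrank (ZMod p) V = e := by
    have h1 := Module.natCard_eq_pow_finrank (K := ZMod p) (V := V)
    rw [hcard, Nat.card_zmod] at h1
    exact (Nat.pow_right_injective (Fact.out : p.Prime).two_le h1).symm
  let b : Module.Basis (Fin e) (ZMod p) V := Module.finBasisOfFinrankEq _ _ hfr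
  let ρ' : H →* Module.End (ZMod p) V :=
    { toFun := fun h => (ρ h).toZModLinearMap p
      map_one' := by
        ext v
        simp
        rfl
      map_mul' := by
        intro a b
        ext v
        simp
        rfl }
  have hρ' : ∀ h v, ρ' h v = ρ h v := fun _ _ => rfl
  let ψ := LinearMap.toMatrixAlgEquiv (R := ZMod p) b
  refine ⟨(Units.map (ψ : Module.End (ZMod p) V →* Matrix (Fin e) (Fin e) (ZMod p))).comp ρ'.toHomUnits, ?_⟩
  intro h
  rw [Units.ext_iff]
  simp only [MonoidHom.comp_apply, Units.coe_map, MonoidHom.coe_toHomUnits, Units.val_one]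
  constructor
  · intro h1 v
    have h2 : ρ' h = 1 := by
      apply ψ.injective
      rw [map_one]
      exact h1
    rw [← hρ', h2]
    rfl
  · intro h1
    have h2 : ρ' h = 1 := by
      ext v
      rw [hρ']
      exact h1 v
    show ψ (ρ' h) = 1
    rw [h2, map_one]

/-- A normal abelian subgroup of exponent `p` gives a representation with kernel its centralizer. -/
theorem exists_gl_of_normal {H : Type*} [Group H] (F : Subgroup H) [F.Normal] [Finite F]
    (hcomm : IsMulCommutative F) (p e : ℕ) [Fact p.Prime] (hcard : Nat.card F = p ^ e)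
    (hexp : ∀ x ∈ F, x ^ p = 1) :
    ∃ φ : H →* GL (Fin e) (ZMod p), φ.ker = Subgroup.centralizer (F : Set H) := by
  let _ : CommGroup F := { (inferInstance : Group F) with mul_comm := mul_comm' }
  have hVp : ∀ x : Additive F, p • x = 0 := fun x => by
    apply Additive.toMul.injective
    apply Subtype.ext
    exact hexp _ (Additive.toMul x).2
  let _ : Module (ZMod p) (Additive F) := AddCommGroup.zmodModule hVp
  let ρ : H →* AddMonoid.End (Additive F) :=
    { toFun := fun h => MonoidHom.toAdditive (MulAut.conjNormal h : MulAut F).toMonoidHom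
      map_one' := by
        ext v
        simp
        rfl
      map_mul' := by
        intro a b
        ext v
        simp
        rfl }
  have hρ : ∀ (h : H) (v : Additive F), ((Additive.toMul (ρ h v) : F) : H) = h * (Additive.toMul v : F) * h⁻¹ :=
    fun _ _ => rfl
  obtain ⟨φ, hφ⟩ := exists_gl_rep (V := Additive F) p e hcard ρ
  refine ⟨φ, ?_⟩
  ext h
  rw [MonoidHom.mem_ker, hφ, Subgroup.mem_centralizer_iff]
  constructor
  · intro h1 f hf
    have h2 := h1 (Additive.ofMul ⟨f, hf⟩)
    have h3 := hρ h (Additive.ofMul ⟨f, hf⟩)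
    rw [h2] at h3
    have h4 : f = h * f * h⁻¹ := h3
    rw [eq_mul_inv_iff_mul_eq] at h4
    exact h4
  · intro h1 v
    apply Additive.toMul.injective
    apply Subtype.ext
    rw [hρ]
    have h2 := h1 (Additive.toMul v : F) (Additive.toMul v : F).2
    rw [← h2, mul_inv_cancel_right]

/-- Restrictions on the point stabilizer of an extremely primitive group. Let a finite group G act faithfully and primitively on a finite set Ω with point stabilizers H = G_α whose order is neither 1 nor a prime, each acting primitively on every one of its orbits. Then H has trivial center, the Fitting subgroup F(H) is an elementary abelian p-group for some prime p, and if F(H) ≠ 1 has order p ^ e then p ^ e divides the number of points minus one and H / F(H) embeds in GL_e(p) (there is a homomorphism from H to GL_e(p) with kernel exactly F(H)). -/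
theorem result {G : Type*} [Group G] [Finite G] {Ω : Type*} [Fintype Ω] [MulAction G Ω] [FaithfulSMul G Ω] (hprim : MulAction.IsPreprimitive G Ω) (hep : ∀ (α : Ω) (ω : Ω), MulAction.IsPreprimitive (MulAction.stabilizer G α) (MulAction.orbit (MulAction.stabilizer G α) ω)) (α : Ω)
    (hH1 : MulAction.stabilizer G α ≠ ⊥) (hHp : ¬ (Nat.card (MulAction.stabilizer G α)).Prime) :
    Subgroup.center (MulAction.stabilizer G α) = ⊥ ∧
    IsMulCommutative (Cfsg.fittingSubgroup (MulAction.stabilizer G α)) ∧
    ∃ p e : ℕ, p.Prime ∧ Nat.card (Cfsg.fittingSubgroup (MulAction.stabilizer G α)) = p ^ e ∧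
      (∀ x ∈ Cfsg.fittingSubgroup (MulAction.stabilizer G α), x ^ p = 1) ∧
      (Cfsg.fittingSubgroup (MulAction.stabilizer G α) ≠ ⊥ →
        p ^ e ∣ Fintype.card Ω - 1 ∧
        ∃ φ : MulAction.stabilizer G α →* GL (Fin e) (ZMod p), φ.ker = Cfsg.fittingSubgroup (MulAction.stabilizer G α)) := by
  classical
  let H := stabilizer G α
  -- all stabilizers are nontrivial
  have hHall : ∀ β : Ω, stabilizer G β ≠ ⊥ := by
    intro β hβ
    apply hH1
    rw [Subgroup.eq_bot_iff_forall]
    intro x hx
    obtain ⟨t, rfl⟩ := hprim.exists_smul_eq α β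
    have h1 : t * x * t⁻¹ ∈ stabilizer G (t • α) := by
      rw [mem_stabilizer_iff, mul_smul, mul_smul, inv_smul_smul, (show x • α = α from hx)]
    rw [hβ, Subgroup.mem_bot] at h1
    have h2 : x = t⁻¹ * (t * x * t⁻¹) * t := by group
    rw [h2, h1]; group
  have hmanning := Cfsg.Agent.S3494.result hprim hHall hep α
  -- a second point
  obtain ⟨ω₀, hω₀⟩ : ∃ ω, ω ≠ α := by
    by_contra hcon
    push Not at hcon
    apply hH1
    rw [Subgroup.eq_bot_iff_forall]
    intro x hx
    apply FaithfulSMul.eq_of_smul_eq_smul (α := Ω)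
    intro y
    rw [hcon y, one_smul]
    exact hx
  -- the action on an orbit
  have hfaith : ∀ ω, ω ≠ α → FaithfulSMul H (orbit H ω) := by
    intro ω hω
    refine ⟨fun {h₁ h₂} h => ?_⟩
    have h3 : h₂⁻¹ * h₁ = 1 := by
      apply hmanning ω hω
      intro x hx
      have h4 := h (⟨x, hx⟩ : orbit H ω)
      have h5 : h₁ • x = h₂ • x := congrArg Subtype.val h4
      rw [mul_smul, h5, inv_smul_smul]
    exact (inv_mul_eq_one.mp h3).symm
  have hnontriv : ∀ ω, ω ≠ α → Nontrivial (orbit H ω) := by
    intro ω hω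
    by_contra hcon
    rw [not_nontrivial_iff_subsingleton] at hcon
    apply hH1
    rw [Subgroup.eq_bot_iff_forall]
    intro x hx
    have h1 := hmanning ω hω ⟨x, hx⟩ (by
      intro y hy
      have h2 : (⟨y, hy⟩ : orbit H ω) = (⟨x, hx⟩ : H) • (⟨y, hy⟩ : orbit H ω) :=
        Subsingleton.elim _ _
      exact (congrArg Subtype.val h2).symm)
    exact congrArg Subtype.val h1
  have hpr := hep α ω₀
  have hf0 := hfaith ω₀ hω₀
  have hn0 := hnontriv ω₀ hω₀
  refine ⟨?_, ?_⟩
  · by_contra hZ
    exact hHp (prime_of_center hpr hn0 hZ)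
  by_cases hF : fittingSubgroup H = ⊥
  · have hFe : (fittingSubgroup H : Subgroup H) = ⊥ := hF
    refine ⟨?_, 2, 0, Nat.prime_two, ?_, ?_, fun h => absurd hF h⟩
    · constructor
      constructor
      rintro ⟨a, ha⟩ ⟨b, hb⟩
      rw [hFe, Subgroup.mem_bot] at ha hb
      subst ha; subst hb; rfl
    · rw [hFe]; simp
    · intro x hx
      rw [hFe, Subgroup.mem_bot] at hx
      subst hx; simp
  · have : Nonempty (orbit H ω₀) := ⟨⟨ω₀, mem_orbit_self ω₀⟩⟩
    obtain ⟨hc0, hcomm, -, hexp⟩ := fitting_structure (Δ := orbit H ω₀) hpr hF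
    have hcard1 : Nat.card (fittingSubgroup H) ≠ 1 := by
      intro h
      apply hF
      exact Subgroup.card_eq_one.mp h
    obtain ⟨p, hp, hpF⟩ := Nat.exists_prime_and_dvd hcard1
    have hfp : Fact p.Prime := ⟨hp⟩
    have hexp' := hexp p hp hpF
    have hpg : IsPGroup p (fittingSubgroup H) := by
      intro x
      refine ⟨1, ?_⟩
      apply Subtype.ext
      simpa using hexp' x x.2
    obtain ⟨e, he⟩ := IsPGroup.iff_card.mp hpg
    refine ⟨hcomm, p, e, hp, he, hexp', fun _ => ⟨?_, ?_⟩⟩
    · -- semiregular action on the rest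
      rw [← he]
      let F := fittingSubgroup H
      let _ : MulAction F {x : Ω // x ≠ α} :=
        { smul := fun f x => ⟨(f : H) • (x : Ω), by
            intro h
            apply x.2
            have h1 : (f : H) • α = α := (f : H).2
            exact smul_left_cancel _ (h.trans h1.symm)⟩
          one_smul := fun x => Subtype.ext (one_smul H (x : Ω))
          mul_smul := fun a b x => Subtype.ext (mul_smul (a : H) (b : H) (x : Ω)) }
      have hfree : ∀ x : {x : Ω // x ≠ α}, stabilizer F x = ⊥ := by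
        intro x
        rw [eq_bot_iff]
        intro f hf
        rw [mem_stabilizer_iff] at hf
        have hf' : (f : H) • (x : Ω) = x := congrArg Subtype.val hf
        have : Nonempty (orbit H (x : Ω)) := ⟨⟨x, mem_orbit_self _⟩⟩
        have h0 := hfaith x x.2
        obtain ⟨-, -, hs, -⟩ := fitting_structure (Δ := orbit H (x : Ω)) (hep α x) hF
        have h1 := hs ⟨x, mem_orbit_self _⟩ f f.2 (Subtype.ext hf')
        rw [Subgroup.mem_bot]
        exact Subtype.ext h1
      have e1 := MulAction.selfEquivOrbitsQuotientProd hfree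
      have h2 : Fintype.card Ω - 1 = Nat.card {x : Ω // x ≠ α} := by
        rw [Nat.card_eq_fintype_card, Fintype.card_subtype_compl]
        simp
      rw [h2, Nat.card_congr e1, Nat.card_prod]
      exact dvd_mul_left _ _
    · obtain ⟨φ, hφ⟩ := exists_gl_of_normal (fittingSubgroup H) hcomm p e he hexp'
      refine ⟨φ, ?_⟩
      rw [hφ]
      apply le_antisymm hc0
      intro f hf
      rw [Subgroup.mem_centralizer_iff]
      intro g hg
      exact congrArg Subtype.val (mul_comm' (⟨g, hg⟩ : fittingSubgroup H) ⟨f, hf⟩)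

end Cfsg.Agent.S3497
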