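import Cfsg.Statements.S3496
import Cfsg.Agent.S3494
import Cfsg.Agent.S3495
import Cfsg.Agent.S3497
import Cfsg.Agent.Lib.Perm.Normal
import Cfsg.Agent.Lib.Core.Basic
import Cfsg.Agent.Lib.Solvable.Basic
import Mathlib

set_option autoImplicit false
set_option linter.unusedSectionVars false
open Cfsg

namespace Cfsg.Agent.S3496

open Polynomial

section field
variable {p : ℕ} [Fact p.Prime] {A : Type*} [CommRing A] [IsDomain A] [Algebra (ZMod p) A] [Finite A]

theorem charP_A : CharP A p :=
  charP_of_injective_algebraMap (algebraMap (ZMod p) A).injective p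

/-- If all generators are fixed by the `i`th Frobenius power, then `A` is small. -/
theorem card_le_of_adjoin (S : Set A) (hS : Algebra.adjoin (ZMod p) S = ⊤) (i : ℕ) (hi : 0 < i)
    (hfix : ∀ s ∈ S, s ^ (p ^ i) = s) : Nat.card A ≤ p ^ i := by
  classical
  have hch : CharP A p := charP_A
  have hpp : p.Prime := Fact.out
  have hfixall : ∀ a : A, a ^ (p ^ i) = a := by
    intro a
    have ha : a ∈ Algebra.adjoin (ZMod p) S := by rw [hS]; trivial
    induction ha using Algebra.adjoin_induction with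
    | mem x hx => exact hfix x hx
    | algebraMap r =>
      rw [← map_pow, ZMod.pow_card_pow]
    | add x y _ _ hx hy => rw [add_pow_char_pow, hx, hy]
    | mul x y _ _ hx hy => rw [mul_pow, hx, hy]
  have hn : 1 < p ^ i := Nat.one_lt_pow hi.ne' hpp.one_lt
  set f : A[X] := X ^ (p ^ i) - X with hf
  have hdeg : f.natDegree = p ^ i := by
    rw [hf, natDegree_sub_eq_left_of_natDegree_lt]
    · simp
    · simp [hn]
  have hf0 : f ≠ 0 := by
    intro h
    rw [h] at hdeg
    simp at hdeg
    omega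
  have := Fintype.ofFinite A
  have h1 : (Finset.univ : Finset A) ⊆ f.roots.toFinset := by
    intro a _
    rw [Multiset.mem_toFinset, mem_roots hf0, IsRoot, hf]
    simp [hfixall a]
  have h2 := Finset.card_le_card h1
  have h3 := Multiset.toFinset_card_le f.roots
  have h4 := card_roots' f
  rw [Nat.card_eq_fintype_card, ← Finset.card_univ]
  omega

/-- Frobenius-conjugates are the only roots of the minimal polynomial. -/
theorem exists_frobenius_power (d : ℕ) (hcard : Nat.card A = p ^ d) (τ : A) (q : ℕ) (hq : q.Prime)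
    (hord : orderOf τ = q) (hi : ∀ i, 0 < i → i < d → ¬ q ∣ p ^ i - 1) (x : A)
    (hx : ∀ f : (ZMod p)[X], aeval τ f = 0 → aeval x f = 0) : ∃ j, x = τ ^ (p ^ j) := by
  classical
  have hch : CharP A p := charP_A
  have hpp : p.Prime := Fact.out
  have hfin : Module.Finite (ZMod p) A := Module.Finite.of_finite
  have hfr : Module.finrank (ZMod p) A = d := by
    have h1 := Module.natCard_eq_pow_finrank (K := ZMod p) (V := A)
    rw [hcard, Nat.card_zmod] at h1
    exact (Nat.pow_right_injective hpp.two_le h1).symm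
  have hint : IsIntegral (ZMod p) τ := IsIntegral.of_finite _ _
  set m := minpoly (ZMod p) τ with hm
  have hm0 : m ≠ 0 := minpoly.ne_zero hint
  have hdeg : m.natDegree ≤ d := by
    rw [← hfr]
    exact minpoly.natDegree_le τ
  set g : A[X] := m.map (algebraMap (ZMod p) A) with hg
  have hg0 : g ≠ 0 := (Polynomial.map_ne_zero_iff (algebraMap (ZMod p) A).injective).mpr hm0
  have hgdeg : g.natDegree ≤ d := by
    rw [hg, natDegree_map]; exact hdeg
  have hroot : ∀ y : A, aeval y m = 0 → y ∈ g.roots := by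
    intro y hy
    rw [mem_roots hg0, IsRoot, hg, eval_map_algebraMap]
    exact hy
  have hτroot : aeval τ m = 0 := minpoly.aeval _ _
  -- Frobenius conjugates are roots
  have hconj : ∀ j : ℕ, aeval (τ ^ (p ^ j)) m = 0 := by
    intro j
    have h1 := Polynomial.hom_eval₂ m (algebraMap (ZMod p) A) (iterateFrobenius A p j) τ
    have h2 : (iterateFrobenius A p j).comp (algebraMap (ZMod p) A) = algebraMap (ZMod p) A :=
      RingHom.ext_zmod _ _
    have h5 : iterateFrobenius A p j τ = τ ^ (p ^ j) := iterateFrobenius_def p j τ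
    rw [h2, h5] at h1
    rw [aeval_def, ← h1, ← aeval_def, hτroot, map_zero]
  -- distinctness
  have hpq : q ≠ p := by
    rintro rfl
    have h1 : τ ^ q = 1 := by rw [← hord]; exact pow_orderOf_eq_one τ
    have h2 : (τ - 1) ^ q = 0 := by
      rw [sub_pow_char, h1, one_pow, sub_self]
    have h3 : τ = 1 := sub_eq_zero.mp (pow_eq_zero_iff hq.ne_zero |>.mp h2)
    rw [h3, orderOf_one] at hord
    exact hq.one_lt.ne hord
  have hcop : Nat.Coprime q p := (Nat.coprime_primes hq hpp).mpr hpq
  have hinj : Set.InjOn (fun j => τ ^ (p ^ j)) (Finset.range d : Set ℕ) := by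
    have key : ∀ a b : ℕ, a < b → b < d → τ ^ (p ^ a) ≠ τ ^ (p ^ b) := by
      intro a b hab hb heq
      have hle : p ^ a ≤ p ^ b := Nat.pow_le_pow_right hpp.pos hab.le
      have hτ0 : τ ≠ 0 := by
        rintro rfl
        have h1 : (0 : A) ^ q = 1 := by rw [← hord]; exact pow_orderOf_eq_one _
        rw [zero_pow hq.ne_zero] at h1
        exact zero_ne_one h1
      have h2 : q ∣ p ^ b - p ^ a := by
        rw [← hord]
        apply orderOf_dvd_of_pow_eq_one
        have h1 : τ ^ (p ^ a) * (τ ^ (p ^ b - p ^ a) - 1) = 0 := by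
          rw [mul_sub, ← pow_add, Nat.add_sub_cancel' hle, mul_one, heq, sub_self]
        rcases mul_eq_zero.mp h1 with h0 | h0
        · exact absurd h0 (pow_ne_zero _ hτ0)
        · exact sub_eq_zero.mp h0
      have h3 : p ^ b - p ^ a = p ^ a * (p ^ (b - a) - 1) := by
        rw [Nat.mul_sub, mul_one, ← pow_add, Nat.add_sub_cancel' hab.le]
      rw [h3] at h2
      have h4 : q ∣ p ^ (b - a) - 1 := (hcop.pow_right a).dvd_of_dvd_mul_left h2
      exact hi (b - a) (by omega) (by omega) h4
    intro a ha b hb hab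
    have ha' : a < d := Finset.mem_range.mp ha
    have hb' : b < d := Finset.mem_range.mp hb
    rcases lt_trichotomy a b with h | h | h
    · exact absurd hab (key a b h hb')
    · exact h
    · exact absurd hab.symm (key b a h ha')
  set R : Finset A := (Finset.range d).image (fun j => τ ^ (p ^ j)) with hR
  have hRcard : R.card = d := by
    rw [hR, Finset.card_image_of_injOn hinj, Finset.card_range]
  by_contra hne
  push Not at hne
  have hxnot : x ∉ R := by
    rw [hR, Finset.mem_image]
    rintro ⟨j, -, hj⟩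
    exact hne j hj.symm
  have hsub : insert x R ⊆ g.roots.toFinset := by
    intro y hy
    rw [Multiset.mem_toFinset]
    rw [Finset.mem_insert] at hy
    rcases hy with rfl | hy
    · exact hroot _ (hx m hτroot)
    · rw [hR, Finset.mem_image] at hy
      obtain ⟨j, -, rfl⟩ := hy
      exact hroot _ (hconj j)
  have h1 := Finset.card_le_card hsub
  rw [Finset.card_insert_of_notMem hxnot, hRcard] at h1
  have h3 := Multiset.toFinset_card_le g.roots
  have h4 := card_roots' g
  omega

theorem pow_card_sub_one_domain (a : A) (ha : a ≠ 0) : a ^ (Nat.card A - 1) = 1 := by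
  classical
  have := Fintype.ofFinite A
  letI := Fintype.fieldOfDomain A
  rw [Nat.card_eq_fintype_card]
  exact FiniteField.pow_card_sub_one_eq_one a ha

end field

section module

variable {p : ℕ} [Fact p.Prime] {V : Type*} [AddCommGroup V] [Module (ZMod p) V] [Finite V]

/-- The endomorphism of an `𝔽_p`-space attached to an additive automorphism. -/
noncomputable def toEnd (p : ℕ) [Fact p.Prime] [Module (ZMod p) V] : AddMonoid.End V →* Module.End (ZMod p) V where
  toFun a := AddMonoidHom.toZModLinearMap p a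
  map_one' := by ext v; rfl
  map_mul' a b := by ext v; rfl

theorem toEnd_apply (a : AddMonoid.End V) (v : V) : toEnd p a v = a v := rfl

/-- Everything about an abelian group of automorphisms all of whose orbits span. -/
theorem core_add (d : ℕ) (hcard : Nat.card V = p ^ d) (hd : 0 < d)
    {H : Type*} [Group H] [Finite H] (ρ : H →* AddMonoid.End V) (F : Subgroup H) [hFn : F.Normal] (q : ℕ)
    (hq : q.Prime) (hFexp : ∀ x ∈ F, x ^ q = 1) (hFcomm : ∀ x ∈ F, ∀ y ∈ F, x * y = y * x)
    (hF : F ≠ ⊥) (hinj : ∀ x ∈ F, ρ x = 1 → x = 1)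
    (hspan : ∀ v : V, v ≠ 0 → ∀ L : AddSubgroup V, v ∈ L → (∀ x ∈ F, ∀ l ∈ L, ρ x l ∈ L) → L = ⊤) :
    Nat.card F = q ∧ q ∣ p ^ d - 1 ∧ (∀ i, 0 < i → i < d → ¬ q ∣ p ^ i - 1) ∧
      ∀ g : H, ∀ t ∈ F, ∃ j : ℕ, g * t * g⁻¹ = t ^ (p ^ j) := by
  classical
  have hpp : p.Prime := Fact.out
  let E := Module.End (ZMod p) V
  let τ : H →* E := (toEnd p).comp ρ
  have hτapp : ∀ (x : H) (v : V), τ x v = ρ x v := fun _ _ => rfl
  have hVnt : Nontrivial V := by
    rw [← Finite.one_lt_card_iff_nontrivial, hcard]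
    exact Nat.one_lt_pow hd.ne' hpp.one_lt
  -- the algebra
  let S : Set E := τ '' (F : Set H)
  have hcomm : ∀ a ∈ S, ∀ b ∈ S, a * b = b * a := by
    rintro _ ⟨x, hx, rfl⟩ _ ⟨y, hy, rfl⟩
    rw [← map_mul, ← map_mul, hFcomm x hx y hy]
  let A : Subalgebra (ZMod p) E := Algebra.adjoin (ZMod p) S
  letI : CommRing A := Algebra.adjoinCommRingOfComm (ZMod p) hcomm
  have hmemS : ∀ x ∈ F, τ x ∈ A := fun x hx => Algebra.subset_adjoin ⟨x, hx, rfl⟩
  -- A is transitive on nonzero vectors
  have htrans : ∀ v : V, v ≠ 0 → ∀ u : V, ∃ a : A, (a : E) v = u := by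
    intro v hv u
    let L : AddSubgroup V :=
      { carrier := {w | ∃ a : A, (a : E) v = w}
        zero_mem' := ⟨0, rfl⟩
        add_mem' := by
          rintro _ _ ⟨a, rfl⟩ ⟨b, rfl⟩
          exact ⟨a + b, rfl⟩
        neg_mem' := by
          rintro _ ⟨a, rfl⟩
          exact ⟨-a, rfl⟩ }
    have hL : L = ⊤ := by
      apply hspan v hv L ⟨1, rfl⟩
      rintro x hx _ ⟨a, rfl⟩
      refine ⟨⟨τ x, hmemS x hx⟩ * a, ?_⟩
      rfl
    have : u ∈ L := by rw [hL]; trivial
    exact this
  -- a vanishing element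
  have hvanish : ∀ (a : A) (v : V), v ≠ 0 → (a : E) v = 0 → a = 0 := by
    intro a v hv hav
    apply Subtype.ext
    apply LinearMap.ext
    intro u
    obtain ⟨c, rfl⟩ := htrans v hv u
    have h1 : a * c = c * a := mul_comm a c
    have h2 : ((a * c : A) : E) v = ((c * a : A) : E) v := by rw [h1]
    have h3 : ((a * c : A) : E) v = (a : E) ((c : E) v) := rfl
    have h4 : ((c * a : A) : E) v = (c : E) ((a : E) v) := rfl
    rw [h3, h4, hav, map_zero] at h2
    exact h2
  -- A is a domain
  have hAnt : Nontrivial A := by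
    obtain ⟨v, hv⟩ := exists_ne (0 : V)
    refine ⟨⟨0, 1, fun h => hv ?_⟩⟩
    have h1 := congrArg (fun a : A => (a : E) v) h
    exact h1.symm
  have hnzd : NoZeroDivisors A := by
    constructor
    intro a b hab
    by_cases hb : b = 0
    · exact Or.inr hb
    left
    obtain ⟨v, hv⟩ : ∃ v : V, (b : E) v ≠ 0 := by
      by_contra hcon
      push Not at hcon
      exact hb (Subtype.ext (LinearMap.ext hcon))
    apply hvanish a _ hv
    have h1 : ((a * b : A) : E) v = (a : E) ((b : E) v) := rfl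
    rw [← h1, hab]
    rfl
  have hdom : IsDomain A := NoZeroDivisors.to_isDomain A
  have hEfin : Finite E := Finite.of_injective (fun f : E => (f : V → V)) DFunLike.coe_injective
  have hAfin : Finite A := inferInstance
  -- the cardinality
  obtain ⟨v₀, hv₀⟩ := exists_ne (0 : V)
  have hAcard : Nat.card A = p ^ d := by
    rw [← hcard]
    apply Nat.card_eq_of_bijective (fun a : A => (a : E) v₀)
    constructor
    · intro a b hab
      have h1 : (a - b : A) = 0 := by
        apply hvanish _ v₀ hv₀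
        have h2 : ((a - b : A) : E) v₀ = (a : E) v₀ - (b : E) v₀ := rfl
        rw [h2, sub_eq_zero]
        exact hab
      exact sub_eq_zero.mp h1
    · exact htrans v₀ hv₀
  -- the embedding of F into A
  let τ' : F →* A :=
    { toFun := fun x => ⟨τ x, hmemS x x.2⟩
      map_one' := Subtype.ext (by show τ 1 = 1; exact map_one τ)
      map_mul' := fun x y => Subtype.ext (by show τ ((x : H) * y) = τ x * τ y; exact map_mul τ _ _) }
  have hτ'val : ∀ x : F, ((τ' x : A) : E) = τ x := fun _ => rfl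
  have hτ'inj : Function.Injective τ' := by
    rw [injective_iff_map_eq_one]
    intro x hx
    have h1 : τ x = 1 := congrArg Subtype.val hx
    apply Subtype.ext
    apply hinj x x.2
    apply DFunLike.ext
    intro v
    exact congrArg (fun f : E => f v) h1
  have hFcyc : IsCyclic F := isCyclic_of_subgroup_isDomain τ' hτ'inj
  -- F has order q
  have hFnt : Nontrivial F := (Subgroup.nontrivial_iff_ne_bot F).mpr hF
  obtain ⟨t₀, ht₀⟩ := IsCyclic.exists_generator (α := F)
  have hord₀ : orderOf t₀ = Nat.card F := orderOf_eq_card_of_forall_mem_zpowers ht₀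
  have hFq : Nat.card F = q := by
    have h1 : t₀ ^ q = 1 := Subtype.ext (hFexp _ t₀.2)
    have h2 := orderOf_dvd_of_pow_eq_one h1
    rw [hord₀] at h2
    rcases (Nat.dvd_prime hq).mp h2 with h3 | h3
    · exfalso
      have := Finite.one_lt_card (α := F)
      omega
    · exact h3
  -- elements of F have order q
  have hordF : ∀ t : F, t ≠ 1 → orderOf (τ' t) = q := by
    intro t ht
    rw [orderOf_injective τ' hτ'inj]
    have h1 : t ^ q = 1 := Subtype.ext (hFexp _ t.2)
    have h2 := orderOf_dvd_of_pow_eq_one h1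
    rcases (Nat.dvd_prime hq).mp h2 with h3 | h3
    · exact absurd (orderOf_eq_one_iff.mp h3) ht
    · exact h3
  have ht₀1 : t₀ ≠ 1 := by
    intro h
    rw [h, orderOf_one, hFq] at hord₀
    exact hq.one_lt.ne hord₀
  have hτ₀ := hordF t₀ ht₀1
  have hτ₀0 : τ' t₀ ≠ 0 := by
    intro h
    have h1 := pow_orderOf_eq_one (τ' t₀)
    rw [hτ₀, h, zero_pow hq.ne_zero] at h1
    exact zero_ne_one h1
  -- q divides p^d-1
  have hdvd : q ∣ p ^ d - 1 := by
    have h1 := pow_card_sub_one_domain (τ' t₀) hτ₀0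
    rw [hAcard] at h1
    have h2 := orderOf_dvd_of_pow_eq_one h1
    rwa [hτ₀] at h2
  -- primitivity
  have hprim : ∀ i, 0 < i → i < d → ¬ q ∣ p ^ i - 1 := by
    intro i hi hid hdiv
    have hle : Nat.card A ≤ p ^ i := by
      apply card_le_of_adjoin (p := p) (Subtype.val ⁻¹' S) (Algebra.adjoin_adjoin_coe_preimage) i hi
      rintro ⟨_, ha⟩ ⟨x, hx, rfl⟩
      have hx' : (⟨x, hx⟩ : F) ^ (p ^ i) = ⟨x, hx⟩ := by
        obtain ⟨m, hm⟩ := hdiv
        have h0 : 1 ≤ p ^ i := Nat.one_le_pow _ _ hpp.pos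
        have h1 : p ^ i = q * m + 1 := by omega
        have h2 : (⟨x, hx⟩ : F) ^ q = 1 := Subtype.ext (hFexp x hx)
        rw [h1, pow_succ, pow_mul, h2, one_pow, one_mul]
      have h3 := congrArg τ' hx'
      rw [map_pow] at h3
      exact h3
    rw [hAcard] at hle
    have := Nat.pow_lt_pow_right hpp.one_lt hid
    omega
  refine ⟨hFq, hdvd, hprim, ?_⟩
  intro g t ht
  by_cases ht1 : t = 1
  · subst ht1
    exact ⟨0, by simp⟩
  let t' : F := ⟨t, ht⟩
  have ht'1 : t' ≠ 1 := fun h => ht1 (congrArg Subtype.val h)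
  have hfq : Fact (Nat.card F).Prime := ⟨by rw [hFq]; exact hq⟩
  have hzp : Subgroup.zpowers t' = ⊤ :=
    (Subgroup.eq_bot_or_eq_top_of_prime_card (Subgroup.zpowers t')).resolve_left
      (Subgroup.zpowers_ne_bot.2 ht'1)
  let y : F := ⟨g * t * g⁻¹, hFn.conj_mem t ht g⟩
  have hy : y ∈ Submonoid.powers t' := by
    rw [mem_powers_iff_mem_zpowers, hzp]
    trivial
  obtain ⟨k, hk⟩ := hy
  have hk : t' ^ k = y := hk
  -- conjugation
  let c : E →+* E :=
    { toFun := fun a => τ g * a * τ g⁻¹
      map_one' := by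
        rw [mul_one, ← map_mul, mul_inv_cancel, map_one]
      map_mul' := by
        intro a b
        have h1 : τ g⁻¹ * τ g = 1 := by rw [← map_mul, inv_mul_cancel, map_one]
        calc τ g * (a * b) * τ g⁻¹ = τ g * a * 1 * b * τ g⁻¹ := by
              simp only [mul_one, mul_assoc]
          _ = τ g * a * (τ g⁻¹ * τ g) * b * τ g⁻¹ := by rw [h1]
          _ = _ := by simp only [mul_assoc]
      map_zero' := by rw [mul_zero, zero_mul]
      map_add' := by
        intro a b
        rw [mul_add, add_mul] }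
  have hcτ : c (τ t) = τ (g * t * g⁻¹) := by
    show τ g * τ t * τ g⁻¹ = _
    rw [← map_mul, ← map_mul]
  have hcalg : c.comp (algebraMap (ZMod p) E) = algebraMap (ZMod p) E := RingHom.ext_zmod _ _
  have hAval : ∀ (a : A) (f : (ZMod p)[X]), ((Polynomial.aeval a f : A) : E) = Polynomial.aeval (a : E) f := by
    intro a f
    exact (Polynomial.aeval_algHom_apply A.val a f).symm
  have hroot : ∀ f : (ZMod p)[X], Polynomial.aeval (τ' t') f = 0 →
      Polynomial.aeval ((τ' t') ^ k) f = 0 := by
    intro f hf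
    apply Subtype.ext
    rw [hAval]
    have h1 : ((τ' t' ^ k : A) : E) = c (τ t) := by
      rw [hcτ]
      have h2 : ((τ' t' ^ k : A) : E) = ((τ' (t' ^ k) : A) : E) := by rw [map_pow]
      rw [h2, hk]
      rfl
    rw [h1]
    have h3 := Polynomial.hom_eval₂ f (algebraMap (ZMod p) E) c (τ t)
    rw [hcalg] at h3
    rw [Polynomial.aeval_def, ← h3, ← Polynomial.aeval_def]
    have h4 : Polynomial.aeval (τ t) f = 0 := by
      have h5 := hAval (τ' t') f
      rw [hf] at h5
      exact h5.symm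
    rw [h4, map_zero]
    rfl
  obtain ⟨j, hj⟩ := exists_frobenius_power (p := p) d hAcard (τ' t') q hq (hordF t' ht'1) hprim _ hroot
  refine ⟨j, ?_⟩
  have h6 : t' ^ k = t' ^ (p ^ j) := by
    apply hτ'inj
    rw [map_pow, map_pow, hj]
  have h7 : y = t' ^ (p ^ j) := by rw [← hk, h6]
  exact congrArg Subtype.val h7

end module

section mul

/-- Multiplicative version of `core_add`. -/
theorem core_mul {W : Type*} [CommGroup W] [Finite W] (p d : ℕ) [Fact p.Prime]
    (hcard : Nat.card W = p ^ d) (hd : 0 < d) (hW : ∀ x : W, x ^ p = 1)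
    {H : Type*} [Group H] [Finite H] (ρ : H →* MulAut W) (F : Subgroup H) [hFn : F.Normal] (q : ℕ)
    (hq : q.Prime) (hFexp : ∀ x ∈ F, x ^ q = 1) (hFcomm : ∀ x ∈ F, ∀ y ∈ F, x * y = y * x)
    (hF : F ≠ ⊥) (hinj : ∀ x ∈ F, ρ x = 1 → x = 1)
    (hspan : ∀ n : W, n ≠ 1 → ∀ L : Subgroup W, n ∈ L → (∀ x ∈ F, ∀ l ∈ L, ρ x l ∈ L) → L = ⊤) :
    Nat.card F = q ∧ q ∣ p ^ d - 1 ∧ (∀ i, 0 < i → i < d → ¬ q ∣ p ^ i - 1) ∧
      ∀ g : H, ∀ t ∈ F, ∃ j : ℕ, g * t * g⁻¹ = t ^ (p ^ j) := by
  have hVp : ∀ x : Additive W, p • x = 0 := fun x => by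
    apply Additive.toMul.injective
    simpa using hW x.toMul
  letI : Module (ZMod p) (Additive W) := AddCommGroup.zmodModule hVp
  let ρ' : H →* AddMonoid.End (Additive W) :=
    { toFun := fun h => MonoidHom.toAdditive (ρ h).toMonoidHom
      map_one' := by
        ext v
        simp
        rfl
      map_mul' := by
        intro a b
        ext v
        simp
        rfl }
  have hρ' : ∀ (h : H) (v : Additive W), (ρ' h v).toMul = ρ h v.toMul := fun _ _ => rfl
  apply core_add (V := Additive W) d hcard hd ρ' F q hq hFexp hFcomm hF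
  · intro x hx h1
    apply hinj x hx
    ext w
    have h2 : ρ' x (Additive.ofMul w) = Additive.ofMul w := by rw [h1]; rfl
    have h3 := hρ' x (Additive.ofMul w)
    rw [h2] at h3
    exact h3.symm
  · intro v hv L hvL hinv
    have h1 := hspan v.toMul (fun h => hv (Additive.toMul.injective h)) (AddSubgroup.toSubgroup' L)
      hvL (by
        intro x hx l hl
        exact hinv x hx (Additive.ofMul l) hl)
    have h2 : ∀ u : Additive W, u ∈ L := by
      intro u
      have : u.toMul ∈ AddSubgroup.toSubgroup' L := by rw [h1]; trivial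
      exact this
    exact (AddSubgroup.eq_top_iff' L).mpr h2

/-- A group with a normal subgroup of prime order `q`, self-centralizing, and all of whose
conjugations are powers of `p`. -/
theorem cyc_quot {H : Type*} [Group H] [Finite H] (F : Subgroup H) [hFn : F.Normal] (p q d : ℕ)
    (hp : p.Prime) (hq : q.Prime) (hFq : Nat.card F = q)
    (hc : Subgroup.centralizer (F : Set H) ≤ F) (hd : 0 < d) (hdvd : q ∣ p ^ d - 1)
    (hprim : ∀ i, 0 < i → i < d → ¬ q ∣ p ^ i - 1)
    (hconj : ∀ g : H, ∀ t ∈ F, ∃ j : ℕ, g * t * g⁻¹ = t ^ (p ^ j)) :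
    (∃ h : H, F ⊔ Subgroup.zpowers h = ⊤) ∧ Nat.card H ∣ q * d := by
  classical
  have hfq : Fact q.Prime := ⟨hq⟩
  have hfF : Fact (Nat.card F).Prime := ⟨by rw [hFq]; exact hq⟩
  -- a generator of F
  have hFnt : Nontrivial F := by
    rw [← Finite.one_lt_card_iff_nontrivial, hFq]; exact hq.one_lt
  obtain ⟨t', ht'1⟩ := exists_ne (1 : F)
  have hzp : Subgroup.zpowers t' = ⊤ :=
    (Subgroup.eq_bot_or_eq_top_of_prime_card (Subgroup.zpowers t')).resolve_left
      (Subgroup.zpowers_ne_bot.2 ht'1)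
  have hordt' : orderOf t' = q := by
    rw [← hFq]
    exact orderOf_eq_card_of_forall_mem_zpowers (fun x => by rw [hzp]; trivial)
  set t : H := (t' : H) with ht
  have htF : t ∈ F := t'.2
  have hordt : orderOf t = q := by
    rw [ht, Subgroup.orderOf_coe]; exact hordt'
  -- the unit
  have hp0 : ((p : ℕ) : ZMod q) ≠ 0 := by
    rw [Ne, ZMod.natCast_eq_zero_iff]
    intro h
    have h1 : q ∣ p ^ d := h.trans (dvd_pow_self p hd.ne')
    have h2 : q ∣ p ^ d - (p ^ d - 1) := Nat.dvd_sub h1 hdvd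
    have hpos : 0 < p ^ d := pow_pos hp.pos d
    have h3 : p ^ d - (p ^ d - 1) = 1 := by omega
    rw [h3] at h2
    exact hq.one_lt.ne' (Nat.dvd_one.mp h2)
  let u : (ZMod q)ˣ := Units.mk0 ((p : ℕ) : ZMod q) hp0
  have hpowq : ∀ a : ℕ, p ^ a ≥ 1 := by
    intro a
    exact Nat.one_le_pow _ _ hp.pos
  have hbridge : ∀ a b : ℕ, t ^ (p ^ a) = t ^ (p ^ b) ↔ u ^ a = u ^ b := by
    intro a b
    rw [pow_eq_pow_iff_modEq, hordt, Units.ext_iff, ← ZMod.natCast_eq_natCast_iff]
    simp [u]
  have hud : u ^ d = 1 := by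
    apply Units.ext
    simp only [Units.val_pow_eq_pow_val, Units.val_one, u, Units.val_mk0]
    have h1 : ((p ^ d - 1 : ℕ) : ZMod q) = 0 := (ZMod.natCast_eq_zero_iff _ _).mpr hdvd
    rw [Nat.cast_sub (hpowq d)] at h1
    simpa [sub_eq_zero] using h1
  have hordu : orderOf u = d := by
    rw [orderOf_eq_iff hd]
    refine ⟨hud, fun m hmd hm0 h => hprim m hm0 hmd ?_⟩
    have h2 := congrArg Units.val h
    simp only [Units.val_pow_eq_pow_val, Units.val_one, u, Units.val_mk0] at h2
    rw [← ZMod.natCast_eq_zero_iff, Nat.cast_sub (hpowq m)]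
    simp [h2]
  -- the homomorphism
  choose j hj using fun g : H => hconj g t htF
  let κ : H →* (ZMod q)ˣ :=
    { toFun := fun g => u ^ (j g)
      map_one' := by
        have h1 : t ^ (p ^ (j 1)) = t ^ (p ^ 0) := by
          rw [← hj 1]; simp
        rw [hbridge, pow_zero] at h1
        exact h1
      map_mul' := by
        intro a b
        have h1 : t ^ (p ^ (j (a * b))) = t ^ (p ^ (j a + j b)) := by
          rw [← hj (a * b), pow_add, pow_mul, ← hj a, conj_pow, ← hj b]
          group
        rw [hbridge, pow_add] at h1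
        exact h1 }
  have hκ : ∀ g, κ g = u ^ (j g) := fun _ => rfl
  have hcommF : ∀ x ∈ F, ∀ y ∈ F, x * y = y * x := by
    intro x hx y hy
    have : IsCyclic F := isCyclic_of_prime_card hFq
    let _ := IsCyclic.commGroup (α := F)
    have h1 := mul_comm (⟨x, hx⟩ : F) ⟨y, hy⟩
    exact congrArg Subtype.val h1
  have hker : κ.ker = F := by
    ext g
    rw [MonoidHom.mem_ker, hκ]
    constructor
    · intro h1
      apply hc
      rw [Subgroup.mem_centralizer_iff]
      intro y hy
      have h2 : u ^ (j g) = u ^ 0 := by rw [h1, pow_zero]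
      rw [← hbridge, ← hj g, pow_zero, pow_one, mul_inv_eq_iff_eq_mul] at h2
      have hyz : (⟨y, hy⟩ : F) ∈ Subgroup.zpowers t' := by rw [hzp]; trivial
      obtain ⟨n, hn⟩ := hyz
      have hn' : y = t ^ n := by
        have := congrArg Subtype.val hn
        simpa using this.symm
      rw [hn']
      have h3 : Commute g t := h2
      exact (h3.zpow_right n).eq.symm
    · intro hg
      have h2 : g * t * g⁻¹ = t := by
        rw [hcommF g hg t htF]
        group
      have h3 : t ^ (p ^ (j g)) = t ^ (p ^ 0) := by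
        rw [← hj g, h2]; simp
      rw [hbridge, pow_zero] at h3
      exact h3
  constructor
  · -- generator
    obtain ⟨r, hr⟩ := IsCyclic.exists_generator (α := κ.range)
    obtain ⟨h, hh⟩ := r.2
    refine ⟨h, ?_⟩
    rw [eq_top_iff]
    intro g _
    have hg : (⟨κ g, ⟨g, rfl⟩⟩ : κ.range) ∈ Subgroup.zpowers r := hr _
    obtain ⟨n, hn⟩ := hg
    have hn' : (r : (ZMod q)ˣ) ^ n = κ g := by
      have := congrArg Subtype.val hn
      simpa using this
    rw [← hh, ← map_zpow] at hn'
    have h2 : g * (h ^ n)⁻¹ ∈ F := by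
      rw [← hker, MonoidHom.mem_ker, map_mul, map_inv, ← hn', mul_inv_cancel]
    have h3 : g = (g * (h ^ n)⁻¹) * h ^ n := by group
    rw [h3]
    exact Subgroup.mul_mem_sup h2 (Subgroup.zpow_mem_zpowers h n)
  · -- the order
    have h1 : Nat.card H = Nat.card κ.ker * Nat.card κ.range := by
      rw [← Subgroup.index_ker, Subgroup.card_mul_index]
    rw [h1, hker, hFq]
    apply mul_dvd_mul_left
    have h2 : κ.range ≤ Subgroup.zpowers u := by
      rintro _ ⟨g, rfl⟩
      rw [hκ]
      exact Subgroup.npow_mem_zpowers u (j g)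
    have h3 := Subgroup.card_dvd_of_le h2
    rwa [Nat.card_zpowers, hordu] at h3

end mul


open MulAction

/-- The soluble extremely primitive groups. Let a finite solvable group G act faithfully and primitively on a finite set Ω with p ^ d points (p prime), with non-trivial point stabilizers each acting primitively on every one of its orbits. Then there is a prime q such that every orbit of a point stabilizer G_α other than {α} has exactly q points, q divides p ^ d − 1 but no p ^ i − 1 with 0 < i < d, and G_α has a normal subgroup T of order q with G_α generated by T and one further element and the order of G_α dividing q·d (so G_α is cyclic of order q, or an extension of T by a cyclic group of order dividing d). -/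
theorem result {G : Type*} [Group G] [Finite G] {Ω : Type*} [Fintype Ω] [MulAction G Ω] [FaithfulSMul G Ω] [Group.IsSolvable G] (p d : ℕ) (hp : p.Prime) (hcard : Fintype.card Ω = p ^ d)
    (hprim : MulAction.IsPreprimitive G Ω) (hH : ∀ α : Ω, MulAction.stabilizer G α ≠ ⊥) (hep : ∀ (α : Ω) (ω : Ω), MulAction.IsPreprimitive (MulAction.stabilizer G α) (MulAction.orbit (MulAction.stabilizer G α) ω)) (α : Ω) :
    ∃ q : ℕ, q.Prime ∧ (∀ ω : Ω, ω ≠ α → Nat.card (MulAction.orbit (MulAction.stabilizer G α) ω) = q) ∧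
      q ∣ p ^ d - 1 ∧ (∀ i : ℕ, 0 < i → i < d → ¬ q ∣ p ^ i - 1) ∧
      ∃ T : Subgroup G, T ≤ MulAction.stabilizer G α ∧ MulAction.stabilizer G α ≤ Subgroup.normalizer (T : Set G) ∧ Nat.card T = q ∧
        (∃ h : G, MulAction.stabilizer G α = T ⊔ Subgroup.zpowers h) ∧ Nat.card (MulAction.stabilizer G α) ∣ q * d := by
  classical
  have hfp : Fact p.Prime := ⟨hp⟩
  let H := stabilizer G α
  have hH1 : H ≠ ⊥ := hH α
  have hmanning := Cfsg.Agent.S3494.result hprim hH hep α
  -- a second point
  obtain ⟨ω₀, hω₀⟩ : ∃ ω, ω ≠ α := by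
    by_contra hcon
    push Not at hcon
    apply hH1
    rw [Subgroup.eq_bot_iff_forall]
    intro x hx
    apply FaithfulSMul.eq_of_smul_eq_smul (α := Ω)
    intro y
    rw [hcon y, one_smul]
    exact hx
  have hd : 0 < d := by
    rcases Nat.eq_zero_or_pos d with h | h
    · subst h
      have h1 : Fintype.card Ω = 1 := by simpa using hcard
      exact absurd (Fintype.card_le_one_iff.mp h1.le ω₀ α) hω₀
    · exact h
  -- the action on an orbit
  have hfaith : ∀ ω, ω ≠ α → FaithfulSMul H (orbit H ω) := by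
    intro ω hω
    refine ⟨fun {h₁ h₂} h => ?_⟩
    have h3 : h₂⁻¹ * h₁ = 1 := by
      apply hmanning ω hω
      intro x hx
      have h4 := h (⟨x, hx⟩ : orbit H ω)
      have h5 : h₁ • x = h₂ • x := congrArg Subtype.val h4
      rw [mul_smul, h5, inv_smul_smul]
    exact (inv_mul_eq_one.mp h3).symm
  -- the minimal normal subgroup of G
  have hGnt : Nontrivial G := by
    by_contra hcon
    rw [not_nontrivial_iff_subsingleton] at hcon
    exact hH1 (Subsingleton.elim _ _)
  obtain ⟨K, r, hr, hKmin, hKcomm, hKexp⟩ := Cfsg.Agent.Lib.Solvable.Basic.exists_normal_elemAbelian (G := G)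
  have hKn : K.Normal := hKmin.1
  have hKbot : K ≠ ⊥ := hKmin.2.1
  have hKtr := Cfsg.Agent.Lib.Perm.Normal.isPretransitive_of_normal_of_ne_bot hprim K hKbot
  -- K is regular
  have hKreg : ∀ x ∈ K, ∀ ω : Ω, x • ω = ω → x = 1 := by
    intro x hx ω hxω
    exact Cfsg.Agent.S3497.eq_one_of_centralizer K hKtr
      (Subgroup.mem_centralizer_iff.mpr fun y hy => hKcomm y hy x hx) hxω
  have hKcard : Nat.card K = p ^ d := by
    rw [← hcard, ← Nat.card_eq_fintype_card]
    apply Nat.card_eq_of_bijective (fun n : K => n • α)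
    constructor
    · intro a b hab
      have hab' : (a : G) • α = (b : G) • α := hab
      have h1 : ((b : G)⁻¹ * a) = 1 := by
        apply hKreg _ (K.mul_mem (K.inv_mem b.2) a.2) α
        rw [mul_smul, hab', inv_smul_smul]
      exact Subtype.ext (inv_mul_eq_one.mp h1).symm
    · intro ω
      exact hKtr.exists_smul_eq α ω
  -- r = p
  have hrp : r = p := by
    have h1 : p ∣ Nat.card K := by rw [hKcard]; exact dvd_pow_self p hd.ne'
    obtain ⟨x, hx⟩ := exists_prime_orderOf_dvd_card' p h1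
    have h2 : (x : G) ^ r = 1 := hKexp x x.2
    have h3 : x ^ r = 1 := Subtype.ext h2
    have h4 := orderOf_dvd_of_pow_eq_one h3
    rw [hx] at h4
    exact ((Nat.prime_dvd_prime_iff_eq hp hr).mp h4).symm
  obtain rfl : p = r := hrp.symm
  -- the Fitting subgroup of H
  have hHsolv : Group.IsSolvable H := inferInstance
  have hHnt : Nontrivial H := (Subgroup.nontrivial_iff_ne_bot H).mpr hH1
  have hFbot : fittingSubgroup H ≠ ⊥ := by
    obtain ⟨A, s, hs, hAmin, hAcomm, hAexp⟩ := Cfsg.Agent.Lib.Solvable.Basic.exists_normal_elemAbelian (G := H)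
    intro h
    apply hAmin.2.1
    rw [eq_bot_iff, ← h]
    apply Cfsg.Agent.Lib.Core.Basic.le_fittingSubgroup hAmin.1
    let _ : CommGroup A := { (inferInstance : Group A) with mul_comm := fun a b => Subtype.ext (hAcomm a a.2 b b.2) }
    infer_instance
  have hFn : (fittingSubgroup H).Normal := Cfsg.Agent.Lib.Core.Basic.fittingSubgroup_normal
  have hstruct : ∀ ω, ω ≠ α → Subgroup.centralizer (fittingSubgroup H : Set H) ≤ fittingSubgroup H ∧
      IsMulCommutative (fittingSubgroup H) ∧
      (∀ x : orbit H ω, ∀ f ∈ fittingSubgroup H, f • x = x → f = 1) ∧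
      (∀ p : ℕ, p.Prime → p ∣ Nat.card (fittingSubgroup H) → ∀ x ∈ fittingSubgroup H, x ^ p = 1) := by
    intro ω hω
    have : Nonempty (orbit H ω) := ⟨⟨ω, mem_orbit_self ω⟩⟩
    have := hfaith ω hω
    exact Cfsg.Agent.S3497.fitting_structure (hep α ω) hFbot
  obtain ⟨hc, hcomm, -, hexp⟩ := hstruct ω₀ hω₀
  have hcard1 : Nat.card (fittingSubgroup H) ≠ 1 := fun h => hFbot (Subgroup.card_eq_one.mp h)
  obtain ⟨q, hq, hqF⟩ := Nat.exists_prime_and_dvd hcard1
  have hFexp := hexp q hq hqF
  set F := fittingSubgroup H with hFdef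
  have hFcomm : ∀ x ∈ F, ∀ y ∈ F, x * y = y * x := by
    intro x hx y hy
    exact congrArg Subtype.val (mul_comm' (⟨x, hx⟩ : F) ⟨y, hy⟩)
  -- the subgroup of G
  set M : Subgroup G := F.map H.subtype with hM
  have hMmem : ∀ x : G, x ∈ M ↔ ∃ h : x ∈ H, (⟨x, h⟩ : H) ∈ F := by
    intro x
    constructor
    · rintro ⟨⟨y, hy⟩, hyF, rfl⟩
      exact ⟨hy, hyF⟩
    · rintro ⟨h, hF⟩
      exact ⟨⟨x, h⟩, hF, rfl⟩
  have hMH : M ≤ H := Subgroup.map_subtype_le _
  have hMbot : M ≠ ⊥ := by
    intro h
    exact hFbot ((Subgroup.map_eq_bot_iff_of_injective _ H.subtype_injective).mp h)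
  have hMnorm : H ≤ Subgroup.normalizer (M : Set G) := by
    intro g hg
    rw [Subgroup.mem_set_normalizer_iff]
    intro x
    show x ∈ M ↔ g * x * g⁻¹ ∈ M
    rw [hMmem, hMmem]
    constructor
    · rintro ⟨h, hF⟩
      refine ⟨H.mul_mem (H.mul_mem hg h) (H.inv_mem hg), ?_⟩
      exact hFn.conj_mem _ hF ⟨g, hg⟩
    · rintro ⟨h, hF⟩
      have hxH : x ∈ H := by
        have h1 : x = g⁻¹ * (g * x * g⁻¹) * g := by group
        rw [h1]
        exact H.mul_mem (H.mul_mem (H.inv_mem hg) h) hg
      refine ⟨hxH, ?_⟩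
      have h2 := hFn.conj_mem _ hF ⟨g, hg⟩⁻¹
      convert h2 using 1
      apply Subtype.ext
      show x = g⁻¹ * (g * x * g⁻¹) * g⁻¹⁻¹
      group
  have hKc : IsMulCommutative K := ⟨⟨fun a b => Subtype.ext (hKcomm a a.2 b b.2)⟩⟩
  have hKreg' : ∀ ω : Ω, stabilizer K ω = ⊥ := by
    intro ω
    rw [Subgroup.eq_bot_iff_forall]
    intro x hx
    exact Subtype.ext (hKreg x x.2 ω hx)
  have hS3495 := Cfsg.Agent.S3495.result hprim hH hep K hKc p hp hKexp hKtr hKreg' α M hMbot hMH hMnorm
  let _ : CommGroup K := { (inferInstance : Group K) with mul_comm := fun a b => Subtype.ext (hKcomm a a.2 b b.2) }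
  let ρ : H →* MulAut K := (MulAut.conjNormal (G := G) (H := K)).comp H.subtype
  have hρ : ∀ (h : H) (x : K), ((ρ h x : K) : G) = (h : G) * x * (h : G)⁻¹ := fun _ _ => rfl
  have hW : ∀ x : K, x ^ p = 1 := fun x => Subtype.ext (hKexp _ x.2)
  have hinj : ∀ x ∈ F, ρ x = 1 → x = 1 := by
    intro x _ h1
    apply Subtype.ext
    apply FaithfulSMul.eq_of_smul_eq_smul (α := Ω)
    intro y
    obtain ⟨⟨n, hn⟩, rfl⟩ := hKtr.exists_smul_eq α y
    have h2 := hρ x ⟨n, hn⟩
    rw [h1] at h2
    have h3 : n = (x : G) * n * (x : G)⁻¹ := h2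
    show (x : G) • n • α = (1 : G) • n • α
    have h4 : (x : G) • α = α := x.2
    rw [one_smul, smul_smul]
    have h5 : (x : G) * n = n * (x : G) := by
      nth_rewrite 2 [h3]
      group
    rw [h5, mul_smul, h4]
  have hspan : ∀ n : K, n ≠ 1 → ∀ L : Subgroup K, n ∈ L → (∀ x ∈ F, ∀ l ∈ L, ρ x l ∈ L) → L = ⊤ := by
    intro n hn L hnL hinv
    set L' : Subgroup G := L.map K.subtype with hL'
    have hL'K : L' ≤ K := Subgroup.map_subtype_le _
    have hL'mem : ∀ (x : G) (hx : x ∈ K), x ∈ L' ↔ (⟨x, hx⟩ : K) ∈ L := by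
      intro x hx
      constructor
      · rintro ⟨y, hy, rfl⟩
        exact hy
      · intro h
        exact ⟨⟨x, hx⟩, h, rfl⟩
    have hL'bot : L' ≠ ⊥ := by
      intro h
      have h1 : (n : G) ∈ L' := ⟨n, hnL, rfl⟩
      rw [h, Subgroup.mem_bot] at h1
      exact hn (Subtype.ext h1)
    have hML : M ≤ Subgroup.normalizer (L' : Set G) := by
      intro m hm
      obtain ⟨hmH, hmF⟩ := (hMmem m).mp hm
      rw [Subgroup.mem_set_normalizer_iff]
      intro x
      show x ∈ L' ↔ m * x * m⁻¹ ∈ L'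
      constructor
      · rintro ⟨y, hy, rfl⟩
        have h1 := hinv _ hmF y hy
        exact ⟨_, h1, rfl⟩
      · rintro ⟨y, hy, hyx⟩
        have h1 := hinv _ (F.inv_mem hmF) y hy
        refine ⟨_, h1, ?_⟩
        show ((⟨m, hmH⟩⁻¹ : H) : G) * y * ((⟨m, hmH⟩⁻¹ : H) : G)⁻¹ = x
        have hyx' : (y : G) = m * x * m⁻¹ := hyx
        rw [hyx']
        show m⁻¹ * (m * x * m⁻¹) * m⁻¹⁻¹ = x
        group
    rcases hS3495.2 L' hL'K hML with h | h
    · exact absurd h hL'bot
    · rw [eq_top_iff]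
      intro y _
      have : (y : G) ∈ L' := by rw [h]; exact y.2
      exact (hL'mem y y.2).mp this
  obtain ⟨hFq, hdvd, hpr, hconj⟩ := core_mul p d hKcard hd hW ρ F q hq hFexp hFcomm hFbot hinj hspan
  obtain ⟨⟨h, hh⟩, hdiv⟩ := cyc_quot F p q d hp hq hFq hc hd hdvd hpr hconj
  have hMcard : Nat.card M = q := by
    rw [hM, Subgroup.card_map_of_injective H.subtype_injective, hFq]
  refine ⟨q, hq, ?_, hdvd, hpr, M, hMH, hMnorm, hMcard, ⟨h, ?_⟩, hdiv⟩
  · intro ω hω
    rw [← hS3495.1 ω]
    have hst : stabilizer M ω = ⊥ := by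
      rw [Subgroup.eq_bot_iff_forall]
      rintro ⟨m, hm⟩ hmω
      obtain ⟨hmH, hmF⟩ := (hMmem m).mp hm
      obtain ⟨-, -, hs, -⟩ := hstruct ω hω
      have h1 := hs ⟨ω, mem_orbit_self ω⟩ _ hmF (Subtype.ext hmω)
      have h1' : m = 1 := congrArg Subtype.val h1
      exact Subtype.ext h1'
    have h2 := index_stabilizer M ω
    rw [hst, Subgroup.index_bot, hMcard] at h2
    exact h2.symm
  · have h1 := congrArg (Subgroup.map H.subtype) hh
    rw [Subgroup.map_sup, MonoidHom.map_zpowers, ← MonoidHom.range_eq_map, Subgroup.range_subtype] at h1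
    exact h1.symm

end Cfsg.Agent.S3496
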