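import Cfsg.Statements.S3501
import Cfsg.Agent.Lib.Perm.SharplyTwo
import Cfsg.Agent.Lib.Perm.Normal
import Mathlib

set_option autoImplicit false

open Cfsg MulAction

namespace Cfsg.Agent.S3501

section Jordan

/-- Jordan's lemma: a transitive action on at least two points has a derangement. -/
theorem exists_derangement {T X : Type*} [Group T] [Finite T] [MulAction T X] [Finite X]
    [IsPretransitive T X] [Nontrivial X] : ∃ t : T, ∀ x : X, t • x ≠ x := by
  classical
  haveI := Fintype.ofFinite T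
  haveI := Fintype.ofFinite X
  by_contra hcon
  push Not at hcon
  have hb := MulAction.sum_card_fixedBy_eq_card_orbits_mul_card_group T X
  have horb : Fintype.card (orbitRel.Quotient T X) = 1 := by
    obtain ⟨a⟩ := (inferInstance : Nonempty X)
    refine Fintype.card_eq_one_iff.mpr ⟨Quotient.mk'' a, fun q => ?_⟩
    induction q using Quotient.inductionOn' with
    | h b =>
      obtain ⟨x, hx⟩ := exists_smul_eq T a b
      apply Quotient.sound'
      exact ⟨x, hx⟩
  rw [horb, one_mul] at hb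
  have h1 : ∀ g : T, 1 ≤ Fintype.card (fixedBy X g) := by
    intro g
    obtain ⟨x, hx⟩ := hcon g
    exact Fintype.card_pos_iff.2 ⟨⟨x, hx⟩⟩
  have h2 : 2 ≤ Fintype.card (fixedBy X (1 : T)) := by
    rw [Fintype.card_congr (Equiv.subtypeUnivEquiv (by simp))]
    exact Fintype.one_lt_card
  have h3 : ∑ g : T, 1 < ∑ g : T, Fintype.card (fixedBy X g) := by
    apply Finset.sum_lt_sum (fun g _ => h1 g)
    exact ⟨1, Finset.mem_univ _, by omega⟩
  simp only [Finset.sum_const, Finset.card_univ, smul_eq_mul, mul_one] at h3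
  omega

/-- The conjugates of a proper subgroup do not cover the group. -/
theorem exists_not_mem_conj {T : Type*} [Group T] [Finite T] (L : Subgroup T) (hL : L ≠ ⊤) :
    ∃ w : T, ∀ g : T, g⁻¹ * w * g ∉ L := by
  have hn : Nontrivial (T ⧸ L) := by
    rw [QuotientGroup.nontrivial_iff]
    exact hL
  obtain ⟨w, hw⟩ := exists_derangement (T := T) (X := T ⧸ L)
  refine ⟨w⁻¹, fun g hg => ?_⟩
  apply hw (g : T ⧸ L)
  have h1 : w • (g : T ⧸ L) = ((w * g : T) : T ⧸ L) := rfl
  rw [h1, QuotientGroup.eq]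
  have : (w * g)⁻¹ * g = g⁻¹ * w⁻¹ * g := by group
  rw [this]
  exact hg

end Jordan

section Main

variable {G : Type*} [Group G] [Finite G] {Ω : Type*} [Finite Ω] [MulAction G Ω]

/-- Derangements. -/
def Der (G : Type*) [Group G] {Ω : Type*} [MulAction G Ω] (g : G) : Prop := ∀ ω : Ω, g • ω ≠ ω

variable [FaithfulSMul G Ω]

omit [Finite Ω] in
lemma exists_moved {T : Subgroup G} (hT : T ≠ ⊥) : ∃ t ∈ T, ∃ β : Ω, t • β ≠ β := by
  by_contra hcon
  push Not at hcon
  apply hT
  rw [Subgroup.eq_bot_iff_forall]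
  intro x hx
  apply FaithfulSMul.eq_of_smul_eq_smul (α := Ω)
  intro a
  rw [hcon x hx a, one_smul]

/-- Elementary form of transitivity of a normal subgroup. -/
lemma normal_trans (hprim : IsPreprimitive G Ω) {N : Subgroup G} (hNn : N.Normal) (hN : N ≠ ⊥)
    (a b : Ω) : ∃ n ∈ N, n • a = b := by
  haveI := hNn
  have h := Cfsg.Agent.Lib.Perm.Normal.isPretransitive_of_normal_of_ne_bot hprim N hN
  obtain ⟨n, hn⟩ := h.exists_smul_eq a b
  exact ⟨n, n.2, hn⟩

lemma der_in_normal [Nontrivial Ω] (hprim : IsPreprimitive G Ω) {N : Subgroup G} (hNn : N.Normal)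
    (hN : N ≠ ⊥) : ∃ x ∈ N, Der G (Ω := Ω) x := by
  haveI := hNn
  haveI := Cfsg.Agent.Lib.Perm.Normal.isPretransitive_of_normal_of_ne_bot hprim N hN
  obtain ⟨t, ht⟩ := exists_derangement (T := N) (X := Ω)
  exact ⟨t, t.2, ht⟩

/-- Hypothesis: all derangements are conjugate. -/
def AllConj (G : Type*) [Group G] (Ω : Type*) [MulAction G Ω] : Prop :=
  ∀ x y : G, Der G (Ω := Ω) x → Der G (Ω := Ω) y → IsConj x y

lemma all_der_in [Nontrivial Ω] (hprim : IsPreprimitive G Ω) (hc : AllConj G Ω) {N : Subgroup G}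
    (hNn : N.Normal) (hN : N ≠ ⊥) {y : G} (hy : Der G (Ω := Ω) y) : y ∈ N := by
  obtain ⟨x, hx, hxd⟩ := der_in_normal (Ω := Ω) hprim hNn hN
  obtain ⟨c, hc'⟩ := isConj_iff.1 (hc x y hxd hy)
  rw [← hc']
  exact hNn.conj_mem x hx c

/-- The case of an abelian minimal normal subgroup. -/
theorem sharp_of_abelian [Nontrivial Ω] (hprim : IsPreprimitive G Ω) (hc : AllConj G Ω)
    {N : Subgroup G} (hNn : N.Normal) (hN : N ≠ ⊥) (hcomm : ∀ a ∈ N, ∀ b ∈ N, a * b = b * a) :
    IsMultiplyPretransitive G Ω 2 ∧ ∀ g : G, g ≠ 1 → ∀ a b : Ω, a ≠ b → g • a = a → g • b ≠ b := by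
  have htr := normal_trans (Ω := Ω) hprim hNn hN
  -- semiregularity
  have hsemi : ∀ n ∈ N, ∀ a : Ω, n • a = a → n = 1 := by
    intro n hn a ha
    apply FaithfulSMul.eq_of_smul_eq_smul (α := Ω)
    intro b
    obtain ⟨m, hm, rfl⟩ := htr a b
    rw [one_smul, ← mul_smul, hcomm n hn m hm, mul_smul, ha]
  have hder : ∀ n ∈ N, n ≠ 1 → Der G (Ω := Ω) n := fun n hn hn1 a ha => hn1 (hsemi n hn a ha)
  have hin : ∀ {y : G}, Der G (Ω := Ω) y → y ∈ N := fun hy => all_der_in hprim hc hNn hN hy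
  -- transitivity of the stabilizer on the rest
  have hstab : ∀ a b c : Ω, b ≠ a → c ≠ a → ∃ h : G, h • a = a ∧ h • b = c := by
    intro a b c hb hc'
    obtain ⟨n, hn, hna⟩ := htr a b
    obtain ⟨n', hn', hna'⟩ := htr a c
    have hn1 : n ≠ 1 := by
      rintro rfl
      exact hb (by rw [← hna, one_smul])
    have hn1' : n' ≠ 1 := by
      rintro rfl
      exact hc' (by rw [← hna', one_smul])
    obtain ⟨g, hg⟩ := isConj_iff.1 (hc n n' (hder n hn hn1) (hder n' hn' hn1'))
    obtain ⟨m, hm, hma⟩ := htr a (g • a)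
    refine ⟨m⁻¹ * g, ?_, ?_⟩
    · rw [mul_smul, ← hma, inv_smul_smul]
    · have h1 : (m⁻¹ * g) * n * (m⁻¹ * g)⁻¹ = n' := by
        have h2 : m⁻¹ * n' * m = n' := by
          rw [mul_assoc, hcomm n' hn' m hm]
          group
        calc (m⁻¹ * g) * n * (m⁻¹ * g)⁻¹ = m⁻¹ * (g * n * g⁻¹) * m := by group
          _ = n' := by rw [hg, h2]
      have h3 : (m⁻¹ * g) • a = a := by
        rw [mul_smul, ← hma, inv_smul_smul]
      calc (m⁻¹ * g) • b = (m⁻¹ * g) • n • a := by rw [hna]
        _ = ((m⁻¹ * g) * n * (m⁻¹ * g)⁻¹) • ((m⁻¹ * g) • a) := by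
          simp only [mul_smul, inv_smul_smul, mul_inv_rev, inv_inv]
          simp
        _ = c := by rw [h1, h3, hna']
  constructor
  · rw [is_two_pretransitive_iff]
    intro a b c d hab hcd
    obtain ⟨m, -, hma⟩ := htr a c
    have hmb : m • b ≠ c := by
      rw [← hma]
      intro h
      exact hab (smul_left_cancel m h).symm
    obtain ⟨h, hh1, hh2⟩ := hstab c (m • b) d hmb hcd.symm
    refine ⟨h * m, ?_, ?_⟩
    · rw [mul_smul, hma, hh1]
    · rw [mul_smul, hh2]
  · intro h hh1 a b hab hha hhb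
    have hhN : h ∉ N := fun hm => hh1 (hsemi h hm a hha)
    obtain ⟨n, hn, hna⟩ := htr a b
    have hn1 : n ≠ 1 := by
      rintro rfl
      exact hab (by rw [← hna, one_smul])
    -- `h` commutes with `n`
    have hcomm' : h * n * h⁻¹ = n := by
      have h1 : n⁻¹ * (h * n * h⁻¹) ∈ N :=
        N.mul_mem (N.inv_mem hn) (hNn.conj_mem n hn h)
      have h2 : (n⁻¹ * (h * n * h⁻¹)) • a = a := by
        have : h⁻¹ • a = a := by
          rw [inv_smul_eq_iff, hha]
        simp only [mul_smul]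
        rw [this, hna, hhb, ← hna, inv_smul_smul]
      have h3 := hsemi _ h1 a h2
      rw [inv_mul_eq_one] at h3
      exact h3.symm
    -- the commutator map on `N` is not surjective
    let φ : N → N := fun m => ⟨m * (h * (m : G)⁻¹ * h⁻¹), N.mul_mem m.2
      (hNn.conj_mem _ (N.inv_mem m.2) h)⟩
    have hφ : ¬ Function.Injective φ := by
      intro hinj
      have h1 : φ ⟨n, hn⟩ = φ 1 := by
        apply Subtype.ext
        show n * (h * n⁻¹ * h⁻¹) = (1 : G) * (h * (1 : G)⁻¹ * h⁻¹)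
        have h2 : h * n⁻¹ * h⁻¹ = n⁻¹ := by
          have : h * n⁻¹ * h⁻¹ = (h * n * h⁻¹)⁻¹ := by group
          rw [this, hcomm']
        rw [h2]
        simp
      have h3 := hinj h1
      exact hn1 (congrArg Subtype.val h3)
    have hφs : ¬ Function.Surjective φ := fun hs => hφ (Finite.injective_iff_surjective.2 hs)
    unfold Function.Surjective at hφs
    push Not at hφs
    obtain ⟨v, hv⟩ := hφs
    -- `v * h` lies outside `N`, so it has a fixed point
    have hvh : (v : G) * h ∉ N := fun hm =>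
      hhN ((Subgroup.mul_mem_cancel_left _ v.2).1 hm)
    have hnd : ¬ Der G (Ω := Ω) ((v : G) * h) := fun hd => hvh (hin hd)
    unfold Der at hnd
    push Not at hnd
    obtain ⟨β, hβ⟩ := hnd
    obtain ⟨m, hm, hma⟩ := htr a β
    apply hv ⟨m, hm⟩
    apply Subtype.ext
    show m * (h * m⁻¹ * h⁻¹) = v
    -- compute
    have h1 : m⁻¹ * (v * (h * m * h⁻¹)) ∈ N :=
      N.mul_mem (N.inv_mem hm) (N.mul_mem v.2 (hNn.conj_mem m hm h))
    have h2 : (m⁻¹ * (v * (h * m * h⁻¹))) • a = a := by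
      have ha' : h⁻¹ • a = a := by rw [inv_smul_eq_iff, hha]
      simp only [mul_smul]
      rw [ha', hma, ← mul_smul (v : G) h β, hβ, inv_smul_eq_iff, hma]
    have h3 := hsemi _ h1 a h2
    have h4 : v * (h * m * h⁻¹) = m := by
      rw [inv_mul_eq_one] at h3
      exact h3.symm
    have h5 : (v : G) = m * (h * m * h⁻¹)⁻¹ := eq_mul_inv_of_mul_eq h4
    rw [h5]
    group

/-- Minimal normal subgroups inside `N`. -/
structure MinIn (N T : Subgroup G) : Prop where
  le : T ≤ N
  ne : T ≠ ⊥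
  norm : ∀ n ∈ N, ∀ t ∈ T, n * t * n⁻¹ ∈ T
  min : ∀ R : Subgroup G, R ≤ T → R ≠ ⊥ → (∀ n ∈ N, ∀ r ∈ R, n * r * n⁻¹ ∈ R) → R = T

omit [Finite Ω] [MulAction G Ω] [FaithfulSMul G Ω] [Finite G] in
lemma MinIn.conj {N T : Subgroup G} (hNn : N.Normal) (h : MinIn N T) (g : G) :
    MinIn N (T.map (MulAut.conj g).toMonoidHom) := by
  have hmem : ∀ x : G, x ∈ T.map (MulAut.conj g).toMonoidHom ↔ g⁻¹ * x * g ∈ T := by
    intro x
    constructor
    · rintro ⟨t, ht, rfl⟩
      simpa [mul_assoc] using ht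
    · intro hx
      refine ⟨_, hx, ?_⟩
      simp [mul_assoc]
  refine ⟨?_, ?_, ?_, ?_⟩
  · intro x hx
    have h1 := (hmem x).1 hx
    have h2 := hNn.conj_mem _ (h.le h1) g
    simpa [mul_assoc] using h2
  · intro hbot
    apply h.ne
    rw [Subgroup.eq_bot_iff_forall] at hbot ⊢
    intro t ht
    have h1 := hbot (g * t * g⁻¹) ((hmem _).2 (by simpa [mul_assoc] using ht))
    simpa using h1
  · intro n hn t ht
    rw [hmem] at ht ⊢
    have h1 := h.norm (g⁻¹ * n * g) (by
      have := hNn.conj_mem n hn g⁻¹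
      simpa using this) _ ht
    have h2 : g⁻¹ * (n * t * n⁻¹) * g = (g⁻¹ * n * g) * (g⁻¹ * t * g) * (g⁻¹ * n * g)⁻¹ := by group
    rw [h2]
    exact h1
  · intro R hR hRne hRn
    -- conjugate back
    have h1 := h.min (R.map (MulAut.conj g⁻¹).toMonoidHom) ?_ ?_ ?_
    · rw [← h1]
      ext x
      constructor
      · intro hx
        exact ⟨g⁻¹ * x * g, ⟨x, hx, by simp⟩, by simp [mul_assoc]⟩
      · rintro ⟨_, ⟨r, hr, rfl⟩, rfl⟩
        simpa [mul_assoc] using hr
    · rintro _ ⟨r, hr, rfl⟩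
      have := (hmem r).1 (hR hr)
      simpa using this
    · intro hbot
      apply hRne
      rw [Subgroup.eq_bot_iff_forall] at hbot ⊢
      intro r hr
      have h2 := hbot _ ⟨r, hr, rfl⟩
      have h3 : g⁻¹ * r * g = 1 := by simpa using h2
      have h4 : r = g * 1 * g⁻¹ := by
        rw [← h3]
        group
      simpa using h4
    · rintro n hn _ ⟨r, hr, rfl⟩
      refine ⟨g * n * g⁻¹ * r * (g * n * g⁻¹)⁻¹, hRn _ (hNn.conj_mem n hn g) r hr, ?_⟩
      simp [mul_assoc]

omit [Finite Ω] [MulAction G Ω] [FaithfulSMul G Ω] [Finite G] in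
lemma MinIn.inf_eq_bot {N T T' : Subgroup G} (h : MinIn N T) (h' : MinIn N T') (hne : T ≠ T') :
    T ⊓ T' = ⊥ := by
  by_contra hcon
  have hn : ∀ n ∈ N, ∀ r ∈ T ⊓ T', n * r * n⁻¹ ∈ T ⊓ T' := fun n hn r hr =>
    ⟨h.norm n hn r hr.1, h'.norm n hn r hr.2⟩
  have h1 := h.min _ inf_le_left hcon hn
  have h2 := h'.min _ inf_le_right hcon hn
  exact hne (h1.symm.trans h2)

omit [Finite Ω] [MulAction G Ω] [FaithfulSMul G Ω] [Finite G] in
lemma MinIn.comm_of_ne {N T T' : Subgroup G} (h : MinIn N T) (h' : MinIn N T') (hne : T ≠ T')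
    {t t' : G} (ht : t ∈ T) (ht' : t' ∈ T') : t * t' = t' * t := by
  have h0 := h.inf_eq_bot h' hne
  have h1 : t * t' * t⁻¹ * t'⁻¹ ∈ T := by
    have h2 := h.norm t' (h'.le ht') t⁻¹ (T.inv_mem ht)
    have h3 : t * t' * t⁻¹ * t'⁻¹ = t * (t' * t⁻¹ * t'⁻¹) := by group
    rw [h3]
    exact T.mul_mem ht h2
  have h2 : t * t' * t⁻¹ * t'⁻¹ ∈ T' := by
    have h3 := h'.norm t (h.le ht) t' ht'
    exact T'.mul_mem h3 (T'.inv_mem ht')
  have h3 : t * t' * t⁻¹ * t'⁻¹ ∈ T ⊓ T' := ⟨h1, h2⟩
  rw [h0, Subgroup.mem_bot] at h3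
  have h4 : t * t' * t⁻¹ = t' := mul_inv_eq_one.1 h3
  exact (mul_inv_eq_iff_eq_mul.1 h4)

omit [Finite Ω] [MulAction G Ω] [FaithfulSMul G Ω] [Finite G] in
/-- The decomposition of the minimal normal subgroup. -/
lemma MinIn.decomp {N T : Subgroup G} (hNn : N.Normal)
    (hNmin : ∀ M : Subgroup G, M.Normal → M ≠ ⊥ → M ≤ N → M = N) (h : MinIn N T) :
    ∀ n ∈ N, ∃ c t : G, n = c * t ∧ t ∈ T ∧ c ∈ N ∧ ∀ t' ∈ T, c * t' = t' * c := by
  -- the subgroup of such products
  let M : Subgroup G :=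
    { carrier := {x | ∃ c t : G, x = c * t ∧ t ∈ T ∧ c ∈ N ∧ ∀ t' ∈ T, c * t' = t' * c}
      mul_mem' := by
        rintro _ _ ⟨c, t, rfl, ht, hc, hct⟩ ⟨c', t', rfl, ht', hc', hct'⟩
        refine ⟨c * c', t * t', ?_, T.mul_mem ht ht', N.mul_mem hc hc', ?_⟩
        · have : t * c' = c' * t := (hct' t ht).symm
          calc c * t * (c' * t') = c * (t * c') * t' := by group
            _ = c * c' * (t * t') := by rw [this]; group
        · intro s hs
          rw [mul_assoc, hct' s hs, ← mul_assoc, hct s hs, mul_assoc]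
      one_mem' := ⟨1, 1, by simp, T.one_mem, N.one_mem, by simp⟩
      inv_mem' := by
        rintro _ ⟨c, t, rfl, ht, hc, hct⟩
        refine ⟨c⁻¹, t⁻¹, ?_, T.inv_mem ht, N.inv_mem hc, ?_⟩
        · have : c⁻¹ * t⁻¹ = t⁻¹ * c⁻¹ := by
            rw [← mul_inv_rev, ← mul_inv_rev, hct t ht]
          rw [mul_inv_rev, this]
        · intro s hs
          have := hct s hs
          rw [inv_mul_eq_iff_eq_mul, ← mul_assoc, this, mul_assoc, mul_inv_cancel, mul_one] }
  have hcl : Subgroup.normalClosure (T : Set G) = N := by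
    apply hNmin
    · exact Subgroup.normalClosure_normal
    · intro hb
      apply h.ne
      rw [eq_bot_iff, ← hb]
      exact Subgroup.subset_normalClosure
    · haveI := hNn
      exact Subgroup.normalClosure_le_normal (fun x hx => h.le hx)
  have hle : Subgroup.normalClosure (T : Set G) ≤ M := by
    rw [Subgroup.normalClosure, Subgroup.closure_le]
    intro x hx
    rw [Group.mem_conjugatesOfSet_iff] at hx
    obtain ⟨t, ht, hconj⟩ := hx
    obtain ⟨g, rfl⟩ := isConj_iff.1 hconj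
    have hg := h.conj hNn g
    have hmem : g * t * g⁻¹ ∈ T.map (MulAut.conj g).toMonoidHom := ⟨t, ht, by simp⟩
    by_cases hTg : T = T.map (MulAut.conj g).toMonoidHom
    · rw [← hTg] at hmem
      exact ⟨1, _, by simp, hmem, N.one_mem, by simp⟩
    · refine ⟨g * t * g⁻¹, 1, by simp, T.one_mem, hg.le hmem, fun s hs => ?_⟩
      exact (h.comm_of_ne hg hTg hs hmem).symm
  intro n hn
  rw [← hcl] at hn
  exact hle hn

omit [Finite Ω] [FaithfulSMul G Ω] [MulAction G Ω] [Finite G] in
/-- A normal subgroup of `T` is trivial or `T`. -/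
lemma MinIn.normal_eq {N T : Subgroup G} (hNn : N.Normal)
    (hNmin : ∀ M : Subgroup G, M.Normal → M ≠ ⊥ → M ≤ N → M = N) (h : MinIn N T)
    {R : Subgroup G} (hRT : R ≤ T) (hR : ∀ t ∈ T, ∀ r ∈ R, t * r * t⁻¹ ∈ R) : R = ⊥ ∨ R = T := by
  by_cases hb : R = ⊥
  · exact Or.inl hb
  · right
    apply h.min R hRT hb
    intro n hn r hr
    obtain ⟨c, t, rfl, ht, -, hct⟩ := h.decomp hNn hNmin n hn
    have h1 : t * r * t⁻¹ ∈ T := T.mul_mem (T.mul_mem ht (hRT hr)) (T.inv_mem ht)
    have h2 : c * t * r * (c * t)⁻¹ = t * r * t⁻¹ := by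
      calc c * t * r * (c * t)⁻¹ = c * (t * r * t⁻¹) * c⁻¹ := by group
        _ = t * r * t⁻¹ := by rw [hct _ h1]; group
    rw [h2]
    exact hR t ht r hr

omit [Finite Ω] [FaithfulSMul G Ω] [MulAction G Ω] [Finite G] in
/-- The "centre" of `T`. -/
lemma MinIn.center_eq_one {N T : Subgroup G} (hNn : N.Normal)
    (hNmin : ∀ M : Subgroup G, M.Normal → M ≠ ⊥ → M ≤ N → M = N) (h : MinIn N T)
    (hnc : ∃ a ∈ T, ∃ b ∈ T, a * b ≠ b * a) {z : G} (hz : z ∈ T)
    (hzc : ∀ t ∈ T, z * t = t * z) : z = 1 := by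
  let R : Subgroup G :=
    { carrier := {x | x ∈ T ∧ ∀ t ∈ T, x * t = t * x}
      mul_mem' := by
        rintro a b ⟨ha, ha'⟩ ⟨hb, hb'⟩
        refine ⟨T.mul_mem ha hb, fun t ht => ?_⟩
        rw [mul_assoc, hb' t ht, ← mul_assoc, ha' t ht, mul_assoc]
      one_mem' := ⟨T.one_mem, by simp⟩
      inv_mem' := by
        rintro a ⟨ha, ha'⟩
        refine ⟨T.inv_mem ha, fun t ht => ?_⟩
        have := ha' t ht
        rw [inv_mul_eq_iff_eq_mul, ← mul_assoc, this, mul_assoc, mul_inv_cancel, mul_one] }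
  rcases h.normal_eq hNn hNmin (R := R) (fun x hx => hx.1) (by
    intro t ht r hr
    have h3 : t * r * t⁻¹ = r := by rw [← hr.2 t ht, mul_inv_cancel_right]
    rw [h3]
    exact hr) with h1 | h1
  · have h2 : z ∈ R := ⟨hz, hzc⟩
    rw [h1] at h2
    exact (Subgroup.mem_bot).1 h2
  · exfalso
    obtain ⟨a, ha, b, hb, hab⟩ := hnc
    have h2 : a ∈ R := by rw [h1]; exact ha
    exact hab (h2.2 b hb)

/-- `T` contains a derangement. -/
lemma MinIn.exists_der [Nontrivial Ω] (hprim : IsPreprimitive G Ω) {N T : Subgroup G}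
    (hNn : N.Normal) (hN : N ≠ ⊥)
    (hNmin : ∀ M : Subgroup G, M.Normal → M ≠ ⊥ → M ≤ N → M = N) (h : MinIn N T) :
    ∃ y ∈ T, Der G (Ω := Ω) y := by
  obtain ⟨t₀, ht₀, β, hβ⟩ := exists_moved (Ω := Ω) h.ne
  haveI : Nontrivial (orbit T β) := by
    refine ⟨⟨⟨β, mem_orbit_self β⟩, ⟨t₀ • β, ⟨⟨t₀, ht₀⟩, rfl⟩⟩, ?_⟩⟩
    intro h1
    exact hβ (congrArg Subtype.val h1).symm
  obtain ⟨y, hy⟩ := exists_derangement (T := T) (X := orbit T β)
  refine ⟨y, y.2, fun ω hω => ?_⟩
  obtain ⟨n, hn, rfl⟩ := normal_trans (Ω := Ω) hprim hNn hN β ω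
  obtain ⟨c, t, rfl, ht, -, hct⟩ := h.decomp hNn hNmin n hn
  apply hy ⟨(⟨t, ht⟩ : T) • β, mem_orbit _ _⟩
  apply Subtype.ext
  show (y : G) • (t • β) = t • β
  have h1 : (y : G) • (c * t) • β = c • ((y : G) • t • β) := by
    rw [← mul_smul, ← mul_smul, ← mul_smul, ← mul_assoc, ← hct y y.2]
  rw [h1, mul_smul] at hω
  exact smul_left_cancel c hω

/-- Normal subgroups of prime exponent do not exist among non-abelian `T`. -/
lemma MinIn.not_all_der [Nontrivial Ω] {N T : Subgroup G} (hNn : N.Normal)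
    (hNmin : ∀ M : Subgroup G, M.Normal → M ≠ ⊥ → M ≤ N → M = N) (h : MinIn N T)
    (hnc : ∃ a ∈ T, ∃ b ∈ T, a * b ≠ b * a) {m : ℕ} (hm : ∀ t ∈ T, t ≠ 1 → orderOf t = m) :
    False := by
  -- `T` is nontrivial
  obtain ⟨x, hx, hx1⟩ : ∃ x ∈ T, x ≠ 1 := by
    by_contra hcon
    push Not at hcon
    exact h.ne ((Subgroup.eq_bot_iff_forall _).2 hcon)
  have hmx := hm x hx hx1
  have hm1 : m ≠ 1 := by
    intro h1
    rw [h1, orderOf_eq_one_iff] at hmx
    exact hx1 hmx
  have hm0 : m ≠ 0 := by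
    intro h0
    rw [h0] at hmx
    exact (orderOf_pos x).ne' hmx
  obtain ⟨p, hp, hpm⟩ := Nat.exists_prime_and_dvd hm1
  have hord : orderOf (x ^ (m / p)) = p := by
    rw [← hmx]
    apply orderOf_pow_orderOf_div (by rw [hmx]; exact hm0) (by rw [hmx]; exact hpm)
  have hne : x ^ (m / p) ≠ 1 := by
    intro h1
    rw [h1, orderOf_one] at hord
    exact hp.one_lt.ne hord
  have hmp : m = p := by
    rw [← hord]
    exact (hm _ (T.pow_mem hx _) hne).symm
  subst hmp
  haveI : Fact m.Prime := ⟨hp⟩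
  have hpg : IsPGroup m T := by
    intro t
    refine ⟨1, ?_⟩
    rw [pow_one]
    by_cases ht : t = 1
    · rw [ht, one_pow]
    · have h1 : (t : G) ≠ 1 := fun h2 => ht (Subtype.ext h2)
      have h2 := hm t t.2 h1
      apply Subtype.ext
      show (t : G) ^ m = 1
      rw [← h2]
      exact pow_orderOf_eq_one _
  haveI : Nontrivial T := ⟨⟨⟨x, hx⟩, 1, fun h1 => hx1 (congrArg Subtype.val h1)⟩⟩
  have hcen := hpg.center_nontrivial
  obtain ⟨z, hz⟩ := exists_ne (1 : Subgroup.center T)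
  have hz1 : ((z : T) : G) = 1 := by
    apply h.center_eq_one hNn hNmin hnc (z : T).2
    intro t ht
    have h2 := (Subgroup.mem_center_iff.1 z.2) ⟨t, ht⟩
    exact (congrArg Subtype.val h2).symm
  apply hz
  apply Subtype.ext
  apply Subtype.ext
  exact hz1

/-- The case of a non-abelian minimal normal subgroup. -/
theorem false_of_nonabelian [Nontrivial Ω] (hprim : IsPreprimitive G Ω) (hc : AllConj G Ω)
    {N : Subgroup G} (hNn : N.Normal) (hN : N ≠ ⊥)
    (hNmin : ∀ M : Subgroup G, M.Normal → M ≠ ⊥ → M ≤ N → M = N)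
    (hnc : ¬ ∀ a ∈ N, ∀ b ∈ N, a * b = b * a)
    (hnas : ¬ ∃ T : Subgroup G, T.Normal ∧ IsSimpleGroup T ∧ ¬ IsMulCommutative T ∧
      Subgroup.centralizer (T : Set G) = ⊥) : False := by
  classical
  -- a minimal normal subgroup of `N`
  obtain ⟨T, hTN, hTmin⟩ := Finite.exists_le_minimal (α := Subgroup G)
    (p := fun T => T ≠ ⊥ ∧ T ≤ N ∧ ∀ n ∈ N, ∀ t ∈ T, n * t * n⁻¹ ∈ T) (a := N)
    ⟨hN, le_rfl, fun n hn t ht => N.mul_mem (N.mul_mem hn ht) (N.inv_mem hn)⟩
  have hT : MinIn N T := by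
    refine ⟨hTmin.prop.2.1, hTmin.prop.1, hTmin.prop.2.2, fun R hR hRb hRn => ?_⟩
    exact le_antisymm hR (hTmin.le_of_le ⟨hRb, hR.trans hTmin.prop.2.1, hRn⟩ hR)
  -- `T` is not abelian
  have hTnc : ∃ a ∈ T, ∃ b ∈ T, a * b ≠ b * a := by
    by_contra hcon
    push Not at hcon
    apply hnc
    -- `T` is central in `N`, so the centre of `N` is non-trivial and normal
    let Z : Subgroup G := N ⊓ Subgroup.centralizer (N : Set G)
    have hZn : Z.Normal := by
      haveI := hNn
      haveI : (Subgroup.centralizer (N : Set G)).Normal := Subgroup.normal_centralizer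
      exact Subgroup.normal_inf_normal _ _
    have hTZ : T ≤ Z := by
      intro t ht
      refine ⟨hT.le ht, ?_⟩
      show t ∈ Subgroup.centralizer (N : Set G)
      rw [Subgroup.mem_centralizer_iff]
      intro n hn
      obtain ⟨c, t', rfl, ht', -, hct⟩ := hT.decomp hNn hNmin n hn
      calc c * t' * t = c * (t' * t) := by group
        _ = c * (t * t') := by rw [hcon t' ht' t ht]
        _ = (c * t) * t' := by group
        _ = t * (c * t') := by rw [hct t ht]; group
    have hZb : Z ≠ ⊥ := by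
      intro h
      apply hT.ne
      rw [eq_bot_iff, ← h]
      exact hTZ
    have hZN := hNmin Z hZn hZb inf_le_left
    intro a ha b hb
    have h1 : a ∈ Z := by rw [hZN]; exact ha
    exact (Subgroup.mem_centralizer_iff.1 h1.2 b hb).symm
  obtain ⟨y, hyT, hyd⟩ := hT.exists_der (Ω := Ω) hprim hNn hN hNmin
  have hy1 : y ≠ 1 := by
    rintro rfl
    obtain ⟨ω⟩ := (inferInstance : Nonempty Ω)
    exact hyd ω (one_smul _ _)
  by_cases hall : ∀ g : G, T.map (MulAut.conj g).toMonoidHom = T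
  · -- `T` is normal, hence equal to `N`, and `N` is simple with trivial centralizer
    have hTn : T.Normal := by
      constructor
      intro t ht g
      have : g * t * g⁻¹ ∈ T.map (MulAut.conj g).toMonoidHom := ⟨t, ht, by simp⟩
      rwa [hall g] at this
    have hTeq : T = N := hNmin T hTn hT.ne hT.le
    subst hTeq
    apply hnas
    refine ⟨T, hTn, ?_, ?_, ?_⟩
    · -- simplicity
      haveI : Nontrivial T := by
        obtain ⟨x, hx, hx1⟩ : ∃ x ∈ T, x ≠ 1 := ⟨y, hyT, hy1⟩
        exact ⟨⟨⟨x, hx⟩, 1, fun h1 => hx1 (congrArg Subtype.val h1)⟩⟩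
      refine ⟨fun R hR => ?_⟩
      have h1 : R.map T.subtype = ⊥ ∨ R.map T.subtype = T := by
        apply hT.normal_eq hNn hNmin
        · rintro _ ⟨r, -, rfl⟩
          exact r.2
        · rintro t ht _ ⟨r, hr, rfl⟩
          exact ⟨⟨t, ht⟩ * r * ⟨t, ht⟩⁻¹, hR.conj_mem r hr _, rfl⟩
      rcases h1 with h1 | h1
      · left
        exact (Subgroup.map_eq_bot_iff_of_injective R T.subtype_injective).1 h1
      · right
        rw [eq_top_iff]
        rintro t -
        have h2 : (t : G) ∈ R.map T.subtype := by rw [h1]; exact t.2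
        obtain ⟨r, hr, hrt⟩ := h2
        have : r = t := Subtype.ext hrt
        rwa [← this]
    · intro hcomm
      obtain ⟨a, ha, b, hb, hab⟩ := hTnc
      exact hab (congrArg Subtype.val (hcomm.is_comm.comm ⟨a, ha⟩ ⟨b, hb⟩))
    · -- the centralizer contains no derangement
      by_contra hcb
      have hCn : (Subgroup.centralizer (T : Set G)).Normal := by
        haveI := hTn
        exact Subgroup.normal_centralizer
      obtain ⟨x, hxC, hxd⟩ := der_in_normal (Ω := Ω) hprim hCn hcb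
      have hxT := all_der_in hprim hc hNn hN hxd
      have hx1 := hT.center_eq_one hNn hNmin hTnc hxT (fun t ht =>
        ((Subgroup.mem_centralizer_iff.1 hxC) t ht).symm)
      rw [hx1] at hxd
      obtain ⟨ω⟩ := (inferInstance : Nonempty Ω)
      exact hxd ω (one_smul _ _)
  · push Not at hall
    obtain ⟨g, hg⟩ := hall
    set T' := T.map (MulAut.conj g).toMonoidHom with hT'def
    have hT' : MinIn N T' := hT.conj hNn g
    have hTT' : T ≠ T' := fun h => hg h.symm
    -- `T'` is not abelian either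
    have hT'nc : ∃ a ∈ T', ∃ b ∈ T', a * b ≠ b * a := by
      obtain ⟨a, ha, b, hb, hab⟩ := hTnc
      refine ⟨g * a * g⁻¹, ⟨a, ha, by simp⟩, g * b * g⁻¹, ⟨b, hb, by simp⟩, ?_⟩
      intro h
      apply hab
      have h1 : g * (a * b) * g⁻¹ = g * (b * a) * g⁻¹ := by
        calc g * (a * b) * g⁻¹ = g * a * g⁻¹ * (g * b * g⁻¹) := by group
          _ = g * b * g⁻¹ * (g * a * g⁻¹) := h
          _ = g * (b * a) * g⁻¹ := by group
      exact mul_left_cancel (mul_right_cancel h1)
    -- products with a derangement have fixed points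
    have hfix : ∀ w ∈ T', w ≠ 1 → ∃ β : Ω, (y * w) • β = β := by
      intro w hw hw1
      by_contra hcon
      push Not at hcon
      have hd : Der G (Ω := Ω) (y * w) := hcon
      obtain ⟨h, hh⟩ := isConj_iff.1 (hc y (y * w) hyd hd)
      have hmem : y * w ∈ T.map (MulAut.conj h).toMonoidHom := ⟨y, hyT, by
        rw [← hh]
        simp⟩
      have hTh := hT.conj hNn h
      by_cases hTeq : T = T.map (MulAut.conj h).toMonoidHom
      · rw [← hTeq] at hmem
        have h1 : w ∈ T := (Subgroup.mul_mem_cancel_left _ hyT).1 hmem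
        have h2 : w ∈ T ⊓ T' := ⟨h1, hw⟩
        rw [hT.inf_eq_bot hT' hTT', Subgroup.mem_bot] at h2
        exact hw1 h2
      · apply hy1
        apply hT.center_eq_one hNn hNmin hTnc hyT
        intro t ht
        have h1 := hT.comm_of_ne hTh hTeq ht hmem
        have h2 := hT.comm_of_ne hT' hTT' ht hw
        -- `y * w` and `w` commute with `t`
        have h3 : y * w * t = t * y * w := by
          rw [← h1, mul_assoc]
        have h4 : y * (w * t) = y * (t * w) := by rw [← h2]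
        calc y * t = y * t * w * w⁻¹ := by group
          _ = y * (t * w) * w⁻¹ := by group
          _ = y * (w * t) * w⁻¹ := by rw [h2]
          _ = (y * w * t) * w⁻¹ := by group
          _ = t * y * w * w⁻¹ := by rw [h3]
          _ = t * y := by group
    -- transitivity data
    have htr := normal_trans (Ω := Ω) hprim hNn hN
    have hydec := hT'.decomp hNn hNmin
    -- fix a point and consider its stabilizer `S` in `T'`
    obtain ⟨β₀⟩ := (inferInstance : Nonempty Ω)
    -- Commuting of `y` with `T'`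
    have hyc : ∀ t ∈ T', y * t = t * y := fun t ht => hT.comm_of_ne hT' hTT' hyT ht
    -- the stabilizer of `β₀` in `T'` as a subgroup of `T'`
    let S : Subgroup T' := (stabilizer G β₀).subgroupOf T'
    have hS : ∀ x : T', x ∈ S ↔ (x : G) • β₀ = β₀ := by
      intro x
      rw [Subgroup.mem_subgroupOf, mem_stabilizer_iff]
    -- conjugates
    have hconjS : ∀ (β : Ω), ∃ t : T', ∀ x : T', (x : G) • β = β ↔ (t⁻¹ * x * t) ∈ S := by
      intro β
      obtain ⟨n, hn, rfl⟩ := htr β₀ β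
      obtain ⟨c, t, rfl, ht, -, hct⟩ := hydec n hn
      refine ⟨⟨t, ht⟩, fun x => ?_⟩
      rw [hS]
      have h1 : (x : G) • (c * t) • β₀ = c • ((x : G) • t • β₀) := by
        rw [← mul_smul, ← mul_smul, ← mul_smul, ← mul_assoc, ← hct x x.2]
      rw [h1, mul_smul]
      constructor
      · intro h2
        have h3 := smul_left_cancel c h2
        show (t⁻¹ * x * t) • β₀ = β₀
        simp only [mul_smul]
        rw [h3, inv_smul_smul]
      · intro h2
        have h3 : (t⁻¹ * (x : G) * t) • β₀ = β₀ := h2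
        simp only [mul_smul] at h3
        rw [inv_smul_eq_iff] at h3
        rw [h3]
    -- the normalizer of `S` is everything
    have hnorm : Subgroup.normalizer (S : Set T') = ⊤ := by
      by_contra hne
      obtain ⟨w, hw⟩ := exists_not_mem_conj _ hne
      have hw1 : w ≠ 1 := by
        rintro rfl
        apply hw 1
        simp
      obtain ⟨β, hβ⟩ := hfix w w.2 (fun h => hw1 (Subtype.ext h))
      obtain ⟨t, ht⟩ := hconjS β
      apply hw t
      -- `w` normalizes the stabilizer of `β`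
      have h1 : (w : G) • (y • β) = β := by
        rw [← mul_smul, ← hyc w w.2]
        exact hβ
      have hwy : (w : G)⁻¹ • β = y • β := by
        rw [inv_smul_eq_iff]
        exact h1.symm
      have hkey : ∀ x : T', ((w * x * w⁻¹ : T') : G) • β = β ↔ (x : G) • β = β := by
        intro x
        have h2 : ((w * x * w⁻¹ : T') : G) • β = (w : G) • (y • ((x : G) • β)) := by
          have h3 : ((w * x * w⁻¹ : T') : G) = (w : G) * x * (w : G)⁻¹ := rfl
          rw [h3, mul_smul, mul_smul, hwy, ← mul_smul (x : G), ← hyc x x.2, mul_smul]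
        rw [h2]
        constructor
        · intro h3
          have h4 : (w : G) • (y • ((x : G) • β)) = (w : G) • (y • β) := by rw [h3, h1]
          exact smul_left_cancel y (smul_left_cancel (w : G) h4)
        · intro h3
          rw [h3, h1]
      rw [Subgroup.mem_normalizer_iff]
      intro s
      have hs1 : s ∈ S ↔ ((t * s * t⁻¹ : T') : G) • β = β := by
        rw [ht]
        have : t⁻¹ * (t * s * t⁻¹) * t = s := by group
        rw [this]
      have hs2 : (t⁻¹ * w * t) * s * (t⁻¹ * w * t)⁻¹ ∈ S ↔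
          ((w * (t * s * t⁻¹) * w⁻¹ : T') : G) • β = β := by
        rw [ht]
        have : t⁻¹ * (w * (t * s * t⁻¹) * w⁻¹) * t = (t⁻¹ * w * t) * s * (t⁻¹ * w * t)⁻¹ := by group
        rw [this]
      rw [hs1, hs2, hkey]
    have hSn : ∀ t : T', ∀ s ∈ S, t * s * t⁻¹ ∈ S := by
      intro t s hs
      have ht : t ∈ Subgroup.normalizer (S : Set T') := by rw [hnorm]; trivial
      exact (Subgroup.mem_normalizer_iff.1 ht s).1 hs
    have hcases : S.map T'.subtype = ⊥ ∨ S.map T'.subtype = T' := by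
      apply hT'.normal_eq hNn hNmin
      · rintro _ ⟨r, -, rfl⟩
        exact r.2
      · rintro t ht _ ⟨r, hr, rfl⟩
        exact ⟨⟨t, ht⟩ * r * ⟨t, ht⟩⁻¹, hSn _ r hr, rfl⟩
    rcases hcases with hS0 | hST
    · -- `T'` is semiregular
      have hSb : S = ⊥ := (Subgroup.map_eq_bot_iff_of_injective S T'.subtype_injective).1 hS0
      have hord : ∀ x ∈ T', x ≠ 1 → orderOf x = orderOf y := by
        intro x hx hx1
        have hd : Der G (Ω := Ω) x := by
          intro β hβ
          obtain ⟨t, ht⟩ := hconjS β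
          have h1 := (ht ⟨x, hx⟩).1 hβ
          rw [hSb, Subgroup.mem_bot] at h1
          apply hx1
          have h2 : (⟨x, hx⟩ : T') = 1 := by
            have h3 : (⟨x, hx⟩ : T') = t * (t⁻¹ * ⟨x, hx⟩ * t) * t⁻¹ := by group
            rw [h3, h1]
            group
          exact congrArg Subtype.val h2
        obtain ⟨c, hc'⟩ := isConj_iff.1 (hc y x hyd hd)
        rw [← hc']
        have := orderOf_injective (MulAut.conj c).toMonoidHom (MulAut.conj c).injective y
        simpa using this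
      exact hT'.not_all_der (Ω := Ω) hNn hNmin hT'nc hord
    · -- `T'` acts trivially
      obtain ⟨t₀, ht₀, β, hβ⟩ := exists_moved (Ω := Ω) hT'.ne
      apply hβ
      obtain ⟨t, ht⟩ := hconjS β
      refine (ht ⟨t₀, ht₀⟩).2 ?_
      have h1 : (t⁻¹ * ⟨t₀, ht₀⟩ * t : T') ∈ S := by
        have h2 : ((t⁻¹ * ⟨t₀, ht₀⟩ * t : T') : G) ∈ S.map T'.subtype := by
          rw [hST]
          exact (t⁻¹ * ⟨t₀, ht₀⟩ * t : T').2
        obtain ⟨r, hr, hrt⟩ := h2
        have : r = (t⁻¹ * ⟨t₀, ht₀⟩ * t : T') := Subtype.ext hrt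
        rwa [← this]
      exact h1

end Main

/-- Let a finite group G act faithfully and primitively on a finite set Ω with at least two points, and suppose G is not almost simple (it has no non-abelian simple normal subgroup with trivial centralizer). Then the derangements of G form a single conjugacy class if and only if G is sharply 2-transitive (2-transitive, and no non-identity element fixes two points). -/
theorem result {G : Type*} [Group G] [Finite G] {Ω : Type*} [Fintype Ω] [MulAction G Ω] [FaithfulSMul G Ω] (hΩ : 2 ≤ Fintype.card Ω) (hprim : MulAction.IsPreprimitive G Ω) (hnas : ¬ ∃ T : Subgroup G, T.Normal ∧ IsSimpleGroup T ∧ ¬ IsMulCommutative T ∧ Subgroup.centralizer (T : Set G) = ⊥) :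
    Nat.card {c : ConjClasses G // ∃ g : G, ConjClasses.mk g = c ∧ ∀ ω : Ω, g • ω ≠ ω} = 1 ↔ (MulAction.IsMultiplyPretransitive G Ω 2 ∧ ∀ g : G, g ≠ 1 → ∀ a b : Ω, a ≠ b → g • a = a → g • b ≠ b) := by
  classical
  haveI : Nontrivial Ω := Fintype.one_lt_card_iff_nontrivial.1 (by omega)
  constructor
  · intro hcard
    have hc : AllConj G Ω := by
      intro x y hx hy
      obtain ⟨hsub, -⟩ := Nat.card_eq_one_iff_unique.1 hcard
      have h3 : ConjClasses.mk x = ConjClasses.mk y :=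
        congrArg Subtype.val (Subsingleton.elim
          (⟨ConjClasses.mk x, x, rfl, hx⟩ : {c : ConjClasses G // ∃ g : G, ConjClasses.mk g = c ∧ ∀ ω : Ω, g • ω ≠ ω})
          ⟨ConjClasses.mk y, y, rfl, hy⟩)
      exact ConjClasses.mk_eq_mk_iff_isConj.1 h3
    have hne : (⊤ : Subgroup G) ≠ ⊥ := by
      intro h
      obtain ⟨a, b, hab⟩ := exists_pair_ne Ω
      obtain ⟨g, hg⟩ := hprim.exists_smul_eq a b
      have h1 : g ∈ (⊥ : Subgroup G) := by
        rw [← h]
        trivial
      rw [Subgroup.mem_bot] at h1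
      rw [h1, one_smul] at hg
      exact hab hg
    obtain ⟨N, -, hNmin⟩ := Finite.exists_le_minimal (α := Subgroup G)
      (p := fun H => H.Normal ∧ H ≠ ⊥) (a := ⊤) ⟨inferInstance, hne⟩
    have hNn := hNmin.prop.1
    have hNb := hNmin.prop.2
    have hmin : ∀ M : Subgroup G, M.Normal → M ≠ ⊥ → M ≤ N → M = N := fun M h1 h2 h3 =>
      le_antisymm h3 (hNmin.le_of_le ⟨h1, h2⟩ h3)
    by_cases hcomm : ∀ a ∈ N, ∀ b ∈ N, a * b = b * a
    · exact sharp_of_abelian hprim hc hNn hNb hcomm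
    · exact (false_of_nonabelian hprim hc hNn hNb hmin hcomm hnas).elim
  · rintro ⟨h2, hsharp⟩
    have S : Cfsg.Agent.Lib.Perm.SharplyTwo.Sharp2 G Ω := by
      refine ⟨fun a b c d hab hcd => ?_, fun x a b hab hxa hxb => ?_⟩
      · exact (is_two_pretransitive_iff.1 h2) hab hcd
      · by_contra hx
        exact hsharp x hx a b hab hxa hxb
    let F := Cfsg.Agent.Lib.Perm.SharplyTwo.fpfSubgroup S
    have hFn : F.Normal := Cfsg.Agent.Lib.Perm.SharplyTwo.fpfSubgroup_normal S
    have hmem : ∀ x : G, x ∈ F ↔ x = 1 ∨ ∀ a : Ω, x • a ≠ a := fun x =>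
      Cfsg.Agent.Lib.Perm.SharplyTwo.mem_fpfSubgroup S
    have htr := Cfsg.Agent.Lib.Perm.SharplyTwo.fpfSubgroup_isPretransitive S
    -- all derangements are conjugate
    have hconj : ∀ x y : G, (∀ ω : Ω, x • ω ≠ ω) → (∀ ω : Ω, y • ω ≠ ω) → IsConj x y := by
      intro x y hx hy
      obtain ⟨α⟩ := (inferInstance : Nonempty Ω)
      obtain ⟨h, hh1, hh2⟩ := S.trans α (x • α) α (y • α) (hx α).symm (hy α).symm
      have hxF : x ∈ F := (hmem x).2 (Or.inr hx)
      have hyF : y ∈ F := (hmem y).2 (Or.inr hy)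
      have hhF : h * x * h⁻¹ ∈ F := hFn.conj_mem x hxF h
      have hu : (h * x * h⁻¹)⁻¹ * y ∈ F := F.mul_mem (F.inv_mem hhF) hyF
      have hua : ((h * x * h⁻¹)⁻¹ * y) • α = α := by
        rw [mul_smul, inv_smul_eq_iff]
        simp only [mul_smul]
        have : h⁻¹ • α = α := by rw [inv_smul_eq_iff, hh1]
        rw [this, hh2]
      rcases (hmem _).1 hu with h1 | h1
      · rw [inv_mul_eq_one] at h1
        exact isConj_iff.2 ⟨h, h1⟩
      · exact absurd hua (h1 α)
    obtain ⟨a, b, hab⟩ := exists_pair_ne Ω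
    obtain ⟨t, ht⟩ := htr.exists_smul_eq a b
    have htd : ∀ ω : Ω, (t : G) • ω ≠ ω := by
      rcases (hmem t).1 t.2 with h1 | h1
      · exfalso
        have h3 : (t : G) • a = b := ht
        rw [h1, one_smul] at h3
        exact hab h3
      · exact h1
    apply Nat.card_eq_one_iff_unique.2
    refine ⟨⟨?_⟩, ⟨⟨ConjClasses.mk (t : G), t, rfl, htd⟩⟩⟩
    rintro ⟨_, x, rfl, hx⟩ ⟨_, y, rfl, hy⟩
    apply Subtype.ext
    exact ConjClasses.mk_eq_mk_iff_isConj.2 (hconj x y hx hy)

end Cfsg.Agent.S3501
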