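import Cfsg.Statements.S3520
import Cfsg.Agent.Lib.Derange.TwoClass

set_option autoImplicit false
set_option linter.style.haveILetI false
open Cfsg

namespace Cfsg.Agent.S3520

/-- Let a finite group G act faithfully and primitively on a finite set Ω with at least two points, suppose G is not almost simple (no non-abelian simple normal subgroup with trivial centralizer), and suppose the derangements of G form exactly two conjugacy classes. Then either Ω has 3 points and G has order 3; or G has a non-trivial abelian normal subgroup N acting regularly, every non-identity element of G fixes at most one point (so, when n > 3, G is a Frobenius group with kernel N), the number n of points is odd and a point stabilizer has order (n − 1)/2; or G is 2-transitive with a non-trivial abelian regular normal subgroup and some non-identity element fixes at least two points (a non-Frobenius 2-transitive affine group). -/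
theorem result {G : Type*} [Group G] [Finite G] {Ω : Type*} [Fintype Ω] [MulAction G Ω] [FaithfulSMul G Ω] (hΩ : 2 ≤ Fintype.card Ω) (hprim : MulAction.IsPreprimitive G Ω) (hnas : ¬ ∃ T : Subgroup G, T.Normal ∧ IsSimpleGroup T ∧ ¬ IsMulCommutative T ∧ Subgroup.centralizer (T : Set G) = ⊥)
    (hκ : Nat.card {c : ConjClasses G // ∃ g : G, ConjClasses.mk g = c ∧ ∀ ω : Ω, g • ω ≠ ω} = 2) (α : Ω) :
    (Fintype.card Ω = 3 ∧ Nat.card G = 3) ∨
    ((∃ N : Subgroup G, N.Normal ∧ N ≠ ⊥ ∧ IsMulCommutative N ∧ ∀ ω : Ω, MulAction.stabilizer N ω = ⊥) ∧ (∀ g : G, g ≠ 1 → Nat.card (MulAction.fixedBy Ω g) ≤ 1) ∧ ¬ 2 ∣ Fintype.card Ω ∧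
        2 * Nat.card (MulAction.stabilizer G α) = Fintype.card Ω - 1) ∨
    ((∃ N : Subgroup G, N.Normal ∧ N ≠ ⊥ ∧ IsMulCommutative N ∧ ∀ ω : Ω, MulAction.stabilizer N ω = ⊥) ∧ MulAction.IsMultiplyPretransitive G Ω 2 ∧ ∃ g : G, g ≠ 1 ∧ 2 ≤ Nat.card (MulAction.fixedBy Ω g)) := by
  classical
  open Cfsg.Agent.S3501 Cfsg.Agent.Lib.Derange.Soc Cfsg.Agent.Lib.Derange.TwoClass MulAction in
  haveI : Nontrivial Ω := Fintype.one_lt_card_iff_nontrivial.1 (by omega)
  have hne : (⊤ : Subgroup G) ≠ ⊥ := by
    intro h
    obtain ⟨a, b, hab⟩ := exists_pair_ne Ω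
    obtain ⟨g, hg⟩ := hprim.exists_smul_eq a b
    have h1 : g ∈ (⊥ : Subgroup G) := by
      rw [← h]
      trivial
    rw [Subgroup.mem_bot] at h1
    rw [h1, one_smul] at hg
    exact hab hg
  obtain ⟨N, hNn, hNb, hmin⟩ := exists_minimal_normal hne
  by_cases hcomm : ∀ a ∈ N, ∀ b ∈ N, a * b = b * a
  swap
  · exfalso
    obtain ⟨T, hT⟩ := exists_minIn hNb
    have hTnc := exists_noncomm hNn hmin hT hcomm
    by_cases htrans : ∀ a b : Ω, ∃ t ∈ T, t • a = b
    · by_cases hall : ∀ g : G, T.map (MulAut.conj g).toMonoidHom = T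
      · have hTn : T.Normal := by
          constructor
          intro t ht g
          have : g * t * g⁻¹ ∈ T.map (MulAut.conj g).toMonoidHom := ⟨t, ht, by simp⟩
          rwa [hall g] at this
        have hTeq : T = N := hmin T hTn hT.ne hT.le
        subst hTeq
        apply false_of_normal (Ω := Ω) hκ hprim hTn hmin hT hTnc
        intro hcb
        apply hnas
        refine ⟨T, hTn, isSimple_of_minIn hTn hmin hT, ?_, hcb⟩
        intro hc
        obtain ⟨a, ha, b, hb, hab⟩ := hTnc
        exact hab (congrArg Subtype.val (hc.is_comm.comm ⟨a, ha⟩ ⟨b, hb⟩))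
      · push Not at hall
        obtain ⟨g, hg⟩ := hall
        exact false_of_trans_not_normal (Ω := Ω) hκ hNn hmin hT hTnc htrans hg
    · exact false_of_intrans (Ω := Ω) hκ hprim hNn hNb hmin hT hTnc htrans
  -- abelian case
  obtain ⟨-, htr, hsemi⟩ := abelian_min_normal (Ω := Ω) hprim hNn hNb hmin hcomm
  have hNdata : ∃ N : Subgroup G, N.Normal ∧ N ≠ ⊥ ∧ IsMulCommutative N ∧
      ∀ ω : Ω, MulAction.stabilizer N ω = ⊥ :=
    ⟨N, hNn, hNb, ⟨⟨fun a b => Subtype.ext (hcomm a a.2 b b.2)⟩⟩, fun a =>
      (Subgroup.eq_bot_iff_forall _).2 fun n hn => Subtype.ext (hsemi n n.2 a hn)⟩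
  have hder : ∀ n ∈ N, n ≠ 1 → Der G (Ω := Ω) n := fun n hn hn1 a ha => hn1 (hsemi n hn a ha)
  by_cases hall : ∀ x ∈ N, ∀ y ∈ N, x ≠ 1 → y ≠ 1 → IsConj x y
  · -- 2-transitive
    have hstab : ∀ a b c : Ω, b ≠ a → c ≠ a → ∃ h : G, h • a = a ∧ h • b = c := by
      intro a b c hb hc'
      obtain ⟨n, hn, hna⟩ := htr a b
      obtain ⟨n', hn', hna'⟩ := htr a c
      have hn1 : n ≠ 1 := by
        rintro rfl
        exact hb (by rw [← hna, one_smul])
      have hn1' : n' ≠ 1 := by
        rintro rfl
        exact hc' (by rw [← hna', one_smul])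
      obtain ⟨g, hg⟩ := isConj_iff.1 (hall n hn n' hn' hn1 hn1')
      obtain ⟨m, hm, hma⟩ := htr a (g • a)
      refine ⟨m⁻¹ * g, ?_, ?_⟩
      · rw [mul_smul, ← hma, inv_smul_smul]
      · have h1 : (m⁻¹ * g) * n * (m⁻¹ * g)⁻¹ = n' := by
          have h2 : m⁻¹ * n' * m = n' := by
            rw [mul_assoc, hcomm n' hn' m hm]
            group
          calc (m⁻¹ * g) * n * (m⁻¹ * g)⁻¹ = m⁻¹ * (g * n * g⁻¹) * m := by group
            _ = n' := by rw [hg, h2]
        have h3 : (m⁻¹ * g) • a = a := by
          rw [mul_smul, ← hma, inv_smul_smul]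
        calc (m⁻¹ * g) • b = (m⁻¹ * g) • n • a := by rw [hna]
          _ = ((m⁻¹ * g) * n * (m⁻¹ * g)⁻¹) • ((m⁻¹ * g) • a) := by
            simp only [mul_smul, inv_smul_smul, mul_inv_rev, inv_inv]
            simp
          _ = c := by rw [h1, h3, hna']
    have h2 : IsMultiplyPretransitive G Ω 2 := by
      rw [is_two_pretransitive_iff]
      intro a b c d hab hcd
      obtain ⟨m, -, hma⟩ := htr a c
      have hmb : m • b ≠ c := by
        rw [← hma]
        intro h
        exact hab (smul_left_cancel m h).symm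
      obtain ⟨h, hh1, hh2⟩ := hstab c (m • b) d hmb hcd.symm
      refine ⟨h * m, ?_, ?_⟩
      · rw [mul_smul, hma, hh1]
      · rw [mul_smul, hh2]
    right
    right
    refine ⟨hNdata, h2, ?_⟩
    by_contra hno
    push Not at hno
    have hsharp : ∀ g : G, g ≠ 1 → ∀ a b : Ω, a ≠ b → g • a = a → g • b ≠ b := by
      intro g hg a b hab hga hgb
      have h3 := hno g hg
      have h4 : Nat.card (fixedBy Ω g) ≤ 1 := by omega
      have h5 : (⟨a, hga⟩ : fixedBy Ω g) = ⟨b, hgb⟩ := by
        have h6 := Finite.card_le_one_iff_subsingleton.1 h4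
        exact Subsingleton.elim _ _
      exact hab (congrArg Subtype.val h5)
    have h1 := (Cfsg.Agent.S3501.result hΩ hprim hnas).2 ⟨h2, hsharp⟩
    rw [hκ] at h1
    omega
  · push Not at hall
    obtain ⟨x, hx, y, hy, hx1, hy1, hxy⟩ := hall
    right
    left
    refine ⟨hNdata, ?_⟩
    have hdx := hder x hx hx1
    have hdy := hder y hy hy1
    have hcls : ∀ z : G, Der G (Ω := Ω) z → IsConj x z ∨ IsConj y z := by
      intro z hz
      by_contra hcon
      push Not at hcon
      exact false_of_three (Ω := Ω) hκ hdx hdy hz hxy hcon.1 hcon.2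
    have hDN : ∀ z : G, Der G (Ω := Ω) z → z ∈ N := by
      intro z hz
      rcases hcls z hz with h | h
      · obtain ⟨g, rfl⟩ := isConj_iff.1 h
        exact hNn.conj_mem x hx g
      · obtain ⟨g, rfl⟩ := isConj_iff.1 h
        exact hNn.conj_mem y hy g
    have hpre : IsPretransitive N Ω := by
      refine ⟨fun a b => ?_⟩
      obtain ⟨n, hn, h⟩ := htr a b
      exact ⟨⟨n, hn⟩, h⟩
    have hfix1 : ∀ g : G, g ∉ N → Nat.card (fixedBy Ω g) = 1 := by
      intro g hg
      apply Cfsg.Agent.Lib.PermRec.Derangements.card_fixedBy_eq_one N hpre g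
      intro d hd
      by_contra hcon
      push Not at hcon
      exact hg ((Subgroup.mul_mem_cancel_right _ hd).1 (hDN _ hcon))
    have hfix : ∀ g : G, g ≠ 1 → Nat.card (fixedBy Ω g) ≤ 1 := by
      intro g hg
      by_cases hgN : g ∈ N
      · have : IsEmpty (fixedBy Ω g) := ⟨fun a => hder g hgN hg a.1 a.2⟩
        simp
      · rw [hfix1 g hgN]
    have hsharp : ∀ g : G, g ≠ 1 → ∀ a b : Ω, a ≠ b → g • a = a → g • b ≠ b := by
      intro g hg a b hab hga hgb
      have h5 : (⟨a, hga⟩ : fixedBy Ω g) = ⟨b, hgb⟩ := by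
        have h6 := Finite.card_le_one_iff_subsingleton.1 (hfix g hg)
        exact Subsingleton.elim _ _
      exact hab (congrArg Subtype.val h5)
    -- counting
    let xi : Bool → G := fun i => cond i x y
    have hxiN : ∀ i, xi i ∈ N := by
      intro i
      cases i
      · exact hy
      · exact hx
    have hxi1 : ∀ i, xi i ≠ 1 := by
      intro i
      cases i
      · exact hy1
      · exact hx1
    have hxic : ∀ i j, IsConj (xi i) (xi j) → i = j := by
      intro i j h
      cases i <;> cases j
      · rfl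
      · exact absurd h.symm hxy
      · exact absurd h hxy
      · rfl
    let H := stabilizer G α
    let F : Option (Bool × H) → N := fun o => match o with
      | none => 1
      | some p => ⟨(p.2 : G) * xi p.1 * (p.2 : G)⁻¹, hNn.conj_mem _ (hxiN p.1) _⟩
    have hF : Function.Bijective F := by
      constructor
      · rintro (_ | ⟨i, h⟩) (_ | ⟨j, h'⟩) he
        · rfl
        · exfalso
          have h1 : (1 : G) = (h' : G) * xi j * (h' : G)⁻¹ := congrArg Subtype.val he
          apply hxi1 j
          have h2 := h1.symm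
          rw [mul_inv_eq_one] at h2
          have h3 : (h' : G) * xi j = (h' : G) * 1 := by rw [h2, mul_one]
          exact mul_left_cancel h3
        · exfalso
          have h1 : (h : G) * xi i * (h : G)⁻¹ = 1 := congrArg Subtype.val he
          apply hxi1 i
          rw [mul_inv_eq_one] at h1
          have h3 : (h : G) * xi i = (h : G) * 1 := by rw [h1, mul_one]
          exact mul_left_cancel h3
        · have h1 : (h : G) * xi i * (h : G)⁻¹ = (h' : G) * xi j * (h' : G)⁻¹ :=
            congrArg Subtype.val he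
          have hij : i = j := by
            apply hxic
            rw [isConj_iff]
            refine ⟨(h' : G)⁻¹ * h, ?_⟩
            calc (h' : G)⁻¹ * h * xi i * ((h' : G)⁻¹ * h)⁻¹
                = (h' : G)⁻¹ * ((h : G) * xi i * (h : G)⁻¹) * h' := by group
              _ = (h' : G)⁻¹ * ((h' : G) * xi j * (h' : G)⁻¹) * h' := by rw [h1]
              _ = xi j := by group
          subst hij
          have hk : (h' : G)⁻¹ * h = 1 := by
            by_contra hk1
            have hfa : ((h' : G)⁻¹ * h) • α = α := by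
              rw [mul_smul, h.2, inv_smul_eq_iff, h'.2]
            have hcm : ((h' : G)⁻¹ * h) * xi i * ((h' : G)⁻¹ * h)⁻¹ = xi i := by
              calc ((h' : G)⁻¹ * h) * xi i * ((h' : G)⁻¹ * h)⁻¹
                  = (h' : G)⁻¹ * ((h : G) * xi i * (h : G)⁻¹) * h' := by group
                _ = (h' : G)⁻¹ * ((h' : G) * xi i * (h' : G)⁻¹) * h' := by rw [h1]
                _ = xi i := by group
            have hne' : α ≠ xi i • α := fun he' => hder _ (hxiN i) (hxi1 i) α he'.symm
            apply hsharp _ hk1 α (xi i • α) hne' hfa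
            have hcm' : ((h' : G)⁻¹ * h) * xi i = xi i * ((h' : G)⁻¹ * h) :=
              mul_inv_eq_iff_eq_mul.1 hcm
            rw [← mul_smul, hcm', mul_smul, hfa]
          have hhh : (h : G) = h' := by
            rw [inv_mul_eq_one] at hk
            exact hk.symm
          have : h = h' := Subtype.ext hhh
          rw [this]
      · rintro ⟨v, hv⟩
        by_cases hv1 : v = 1
        · refine ⟨none, ?_⟩
          apply Subtype.ext
          exact hv1.symm
        · have hdv := hder v hv hv1
          obtain ⟨i, hi⟩ : ∃ i, IsConj (xi i) v := by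
            rcases hcls v hdv with h | h
            · exact ⟨true, h⟩
            · exact ⟨false, h⟩
          obtain ⟨g, hg⟩ := isConj_iff.1 hi
          obtain ⟨u, hu, hua⟩ := htr α (g • α)
          have hm : u⁻¹ * g ∈ H := by
            show (u⁻¹ * g) • α = α
            rw [mul_smul, inv_smul_eq_iff, hua]
          refine ⟨some (i, ⟨u⁻¹ * g, hm⟩), ?_⟩
          apply Subtype.ext
          show (u⁻¹ * g) * xi i * (u⁻¹ * g)⁻¹ = v
          have h1 : (u⁻¹ * g) * xi i * (u⁻¹ * g)⁻¹ = u⁻¹ * v * u := by
            rw [← hg]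
            group
          rw [h1, mul_assoc, hcomm v hv u hu]
          group
    have hcardN : Nat.card N = 2 * Nat.card H + 1 := by
      rw [← Nat.card_congr (Equiv.ofBijective F hF), Finite.card_option, Nat.card_prod,
        Nat.card_eq_fintype_card (α := Bool), Fintype.card_bool]
    have hcardΩ : Nat.card N = Fintype.card Ω := by
      rw [← Nat.card_eq_fintype_card]
      refine Nat.card_congr (Equiv.ofBijective (fun n : N => (n : G) • α) ⟨?_, ?_⟩)
      · intro a b hab
        have h1 : (a : G) • α = (b : G) • α := hab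
        have h2 : ((b : G)⁻¹ * a) • α = α := by
          rw [mul_smul, h1, inv_smul_smul]
        have h3 := hsemi _ (N.mul_mem (N.inv_mem b.2) a.2) α h2
        rw [inv_mul_eq_one] at h3
        exact Subtype.ext h3.symm
      · intro b
        obtain ⟨n, hn, h⟩ := htr α b
        exact ⟨⟨n, hn⟩, h⟩
    refine ⟨hfix, ?_, ?_⟩
    · intro h2
      rw [← hcardΩ, hcardN] at h2
      omega
    · rw [← hcardΩ, hcardN]
      show 2 * Nat.card H = _
      omega

end Cfsg.Agent.S3520
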