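import Cfsg.Statements.S3554
-- import your own Cfsg.Agent.* helpers here

set_option autoImplicit false
open Cfsg

namespace Cfsg.Agent.S3554

/-- Let G act faithfully and transitively on a finite set and suppose G has a non-trivial cyclic normal subgroup. Then some element of G of prime order fixes no point. -/
theorem result {G Ω : Type*} [Group G] [Finite G] [MulAction G Ω] [FaithfulSMul G Ω] [Finite Ω]
    (htrans : MulAction.IsPretransitive G Ω) (C : Subgroup G) (hC : C.Normal) (hC1 : C ≠ ⊥) (hcyc : IsCyclic ↥C) :
    ∃ g : G, (orderOf g).Prime ∧ ∀ ω : Ω, g • ω ≠ ω := by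
  classical
  -- pick an element of prime order in `C`
  have hCnt : Nontrivial C := by
    rwa [Subgroup.nontrivial_iff_ne_bot]
  have hcard : Nat.card C ≠ 1 := (Finite.one_lt_card (α := C)).ne'
  obtain ⟨p, hp, hpd⟩ := Nat.exists_prime_and_dvd hcard
  have : Fact p.Prime := ⟨hp⟩
  obtain ⟨x, hx⟩ := exists_prime_orderOf_dvd_card' (G := C) p hpd
  obtain ⟨c, hc⟩ := hcyc.exists_generator
  refine ⟨(x : G), ?_, ?_⟩
  · have : orderOf (x : G) = orderOf x := Subgroup.orderOf_coe x
    rw [this, hx]
    exact hp
  · intro ω hω
    -- `x` fixes everything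
    have hall : ∀ ω' : Ω, (x : G) • ω' = ω' := by
      intro ω'
      obtain ⟨h, rfl⟩ := htrans.exists_smul_eq ω ω'
      -- conjugate of generator
      have hmem : h⁻¹ * (c : G) * h ∈ C := by
        have := hC.conj_mem (c : G) c.2 h⁻¹
        simpa using this
      obtain ⟨k, hk⟩ := Subgroup.mem_zpowers_iff.mp (hc ⟨_, hmem⟩)
      obtain ⟨m, hm⟩ := Subgroup.mem_zpowers_iff.mp (hc x)
      have hk' : h⁻¹ * (c : G) * h = (c : G) ^ k := by
        have := congrArg Subtype.val hk
        simpa using this.symm
      have hm' : (x : G) = (c : G) ^ m := by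
        have := congrArg Subtype.val hm
        simpa using this.symm
      have hconj : h⁻¹ * (x : G) * h = (x : G) ^ k := by
        have h1 : h⁻¹ * (c : G) ^ m * h = (h⁻¹ * (c : G) * h) ^ m := by
          have := (conj_zpow (a := h⁻¹) (i := m) (b := (c : G)))
          simpa using this.symm
        rw [hm', h1, hk', ← zpow_mul, ← zpow_mul, mul_comm]
      have hfix : (x : G) ^ k • ω = ω := by
        have : ((x : G) ^ k) ∈ MulAction.stabilizer G ω :=
          Subgroup.zpow_mem _ (by simpa [MulAction.mem_stabilizer_iff] using hω) k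
        simpa [MulAction.mem_stabilizer_iff] using this
      have : (x : G) * h = h * (x : G) ^ k := by
        rw [← hconj]
        group
      rw [← mul_smul, this, mul_smul, hfix]
    have hx1 : (x : G) = 1 := by
      apply FaithfulSMul.eq_of_smul_eq_smul (α := Ω)
      intro ω'
      simpa using hall ω'
    have : orderOf (x : G) = 1 := by rw [hx1]; exact orderOf_one
    have h2 : orderOf (x : G) = orderOf x := Subgroup.orderOf_coe x
    rw [h2, hx] at this
    exact hp.one_lt.ne' this

end Cfsg.Agent.S3554
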