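import Cfsg.Statements.S3555
import Cfsg.Agent.Lib.PermRec.Derangements
import Cfsg.Agent.Lib.Frobenius.Theorem

set_option autoImplicit false
open Cfsg

namespace Cfsg.Agent.S3555

open scoped Pointwise

open Cfsg.Agent.Lib.PermRec.Derangements in
/-- Every non-identity element has at most one fixed point. -/
theorem fixed_count {G Ω : Type*} [Group G] [Fintype G] [MulAction G Ω] [FaithfulSMul G Ω]
    [Fintype Ω]
    (htrans : MulAction.IsPretransitive G Ω)
    (hinv : ∀ g : G, (∀ ω : Ω, g • ω ≠ ω) → orderOf g = 2) (hne : Nonempty Ω) (g : G) (hg : g ≠ 1)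
    (a b : Ω) (hab : a ≠ b) (ha : g • a = a) (hb : g • b = b) : False := by
  classical
  let f : G → ℕ := fun g => (Finset.univ.filter fun a : Ω => g • a = a).card
  set n := Fintype.card Ω with hn
  have hf_nat : ∀ g, Nat.card (MulAction.fixedBy Ω g) = f g := by
    intro g
    rw [Nat.card_eq_fintype_card, Fintype.card_subtype]
    rfl
  have hsum1 : ∑ g, f g = Fintype.card G := by
    have h1 := sum_card_fixedBy (G := G) (X := Ω)
    have h2 : Nat.card (MulAction.orbitRel.Quotient G Ω) = 1 := by
      have h3 := pretransitive_of_orbit_subsingleton (G := G) (X := Ω) htrans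
      haveI : Nonempty (MulAction.orbitRel.Quotient G Ω) := hne.map (Quotient.mk _)
      exact Nat.card_unique
    rw [h2, one_mul, Nat.card_eq_fintype_card] at h1
    rw [← h1]
    exact Finset.sum_congr rfl fun g _ => (hf_nat g).symm
  have hfle : ∀ g, f g ≤ n := fun g => Finset.card_le_univ _
  -- the double count
  let P : Finset (Ω × Ω) := Finset.univ.filter fun p => p.1 ≠ p.2
  have hkey : ∀ p ∈ P, (Finset.univ.filter fun x : G => f x = 0 ∧ x • p.1 = p.2).card ≤
      (Finset.univ.filter fun x : G => x • p.1 = p.1 ∧ x • p.2 = p.2).card := by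
    rintro ⟨a, b⟩ -
    simp only
    by_cases hne : (Finset.univ.filter fun x : G => f x = 0 ∧ x • a = b).Nonempty
    · obtain ⟨x₀, hx₀⟩ := hne
      simp only [Finset.mem_filter, Finset.mem_univ, true_and] at hx₀
      have hdera : ∀ x, f x = 0 → ∀ ω : Ω, x • ω ≠ ω := by
        intro x hx ω hω
        have : ω ∈ (Finset.univ.filter fun a : Ω => x • a = a) := by simp [hω]
        rw [Finset.card_eq_zero.mp hx] at this
        simp at this
      have hsq : ∀ x, f x = 0 → ∀ ω : Ω, x • x • ω = ω := by
        intro x hx ω
        have h2 := hinv x (hdera x hx)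
        have h3 : x * x = 1 := by
          rw [← pow_two, ← h2, pow_orderOf_eq_one]
        rw [← mul_smul, h3, one_smul]
      apply Finset.card_le_card_of_injOn (fun x => x * x₀)
      · intro x hx
        simp only [Finset.coe_filter, Finset.mem_univ, true_and, Set.mem_ofPred_eq] at hx ⊢
        constructor
        · rw [mul_smul, hx₀.2, hx.2.symm]
          exact hsq x hx.1 a
        · rw [mul_smul]
          have : x₀ • b = a := by
            rw [← hx₀.2]; exact hsq x₀ hx₀.1 a
          rw [this]
          exact hx.2
      · intro x _ y _ hxy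
        exact mul_right_cancel hxy
    · rw [Finset.not_nonempty_iff_eq_empty] at hne
      rw [hne]
      simp
  have hsum2 : ∑ p ∈ P, (Finset.univ.filter fun x : G => f x = 0 ∧ x • p.1 = p.2).card =
      ∑ x : G, if f x = 0 then n else 0 := by
    simp_rw [Finset.card_filter]
    rw [Finset.sum_comm]
    apply Finset.sum_congr rfl
    intro x _
    by_cases hx : f x = 0
    · rw [if_pos hx]
      have hdera : ∀ ω : Ω, x • ω ≠ ω := by
        intro ω hω
        have : ω ∈ (Finset.univ.filter fun a : Ω => x • a = a) := by simp [hω]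
        rw [Finset.card_eq_zero.mp hx] at this
        simp at this
      have h3 : ∑ p ∈ P, (if f x = 0 ∧ x • p.1 = p.2 then 1 else 0) =
          (P.filter fun p => x • p.1 = p.2).card := by
        rw [Finset.card_filter]
        apply Finset.sum_congr rfl
        intro p _
        simp [hx]
      rw [h3, hn, ← Finset.card_univ]
      refine Finset.card_bij' (fun p _ => p.1) (fun a _ => (a, x • a)) ?_ ?_ ?_ ?_
      · intro p _
        exact Finset.mem_univ _
      · intro a _
        simp only [P, Finset.mem_filter, Finset.mem_univ, true_and, and_true]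
        exact (hdera a).symm
      · rintro ⟨a, b⟩ hp
        simp only [Finset.mem_filter] at hp
        simp only [hp.2]
      · intro a _
        rfl
    · rw [if_neg hx]
      apply Finset.sum_eq_zero
      intro p _
      simp [hx]
  have hsum3 : ∑ p ∈ P, (Finset.univ.filter fun x : G => x • p.1 = p.1 ∧ x • p.2 = p.2).card =
      ∑ x : G, f x * (f x - 1) := by
    simp_rw [Finset.card_filter]
    rw [Finset.sum_comm]
    apply Finset.sum_congr rfl
    intro x _
    rw [← Finset.card_filter]
    -- pairs of distinct fixed points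
    set S := Finset.univ.filter fun a : Ω => x • a = a with hS
    have : (P.filter fun p => x • p.1 = p.1 ∧ x • p.2 = p.2) = S.offDiag := by
      ext ⟨a, b⟩
      simp [P, S, Finset.mem_offDiag]
      tauto
    rw [this, Finset.offDiag_card]
    show S.card * S.card - S.card = S.card * (S.card - 1)
    rw [Nat.mul_sub, mul_one]
  have hA := Finset.sum_le_sum hkey
  rw [hsum2, hsum3] at hA
  -- integers
  let T : G → ℤ := fun x => ((f x : ℤ) - 1) * ((f x : ℤ) - n)
  have hT : ∑ x, T x = ∑ x, ((f x * (f x - 1) : ℕ) : ℤ) := by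
    have h1 : ∀ x, T x = ((f x * (f x - 1) : ℕ) : ℤ) + (n : ℤ) * (1 - (f x : ℤ)) := by
      intro x
      rcases Nat.eq_zero_or_pos (f x) with h0 | h0
      · simp only [T, h0]
        simp
      · rw [Nat.cast_mul, Nat.cast_sub (by omega)]
        simp only [T]
        push_cast
        ring
    simp_rw [h1]
    have hs : ∑ x, (f x : ℤ) = (Fintype.card G : ℤ) := by
      rw [← Nat.cast_sum, hsum1]
    rw [Finset.sum_add_distrib, ← Finset.mul_sum, Finset.sum_sub_distrib, hs]
    simp
  have hB : ∑ x, (((if f x = 0 then n else 0 : ℕ)) : ℤ) ≤ ∑ x, T x := by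
    rw [hT, ← Nat.cast_sum, ← Nat.cast_sum]
    exact_mod_cast hA
  have hpt : ∀ x ∈ Finset.univ, T x ≤ (((if f x = 0 then n else 0 : ℕ)) : ℤ) := by
    intro x _
    by_cases hx : f x = 0
    · simp [T, hx]
    · rw [if_neg hx]
      simp only [T, Nat.cast_zero]
      have h1 : (1 : ℤ) ≤ f x := by exact_mod_cast Nat.pos_of_ne_zero hx
      have h2 : (f x : ℤ) ≤ n := by exact_mod_cast hfle x
      nlinarith
  have hall := (Finset.sum_eq_sum_iff_of_le hpt).mp (le_antisymm (Finset.sum_le_sum hpt) hB)
  have hg0 := hall g (Finset.mem_univ _)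
  have hfg1 : 2 ≤ f g := by
    have : ({a, b} : Finset Ω) ⊆ Finset.univ.filter fun a : Ω => g • a = a := by
      intro y hy
      simp only [Finset.mem_insert, Finset.mem_singleton] at hy
      rcases hy with rfl | rfl <;> simp [ha, hb]
    have h2 := Finset.card_le_card this
    rwa [Finset.card_pair hab] at h2
  rw [if_neg (by omega)] at hg0
  have h0 : ((f g : ℤ) - 1) * ((f g : ℤ) - n) = 0 := by simpa [T] using hg0
  have hfn : f g = n := by
    rcases mul_eq_zero.mp h0 with h | h
    · omega
    · omega
  apply hg
  have hall2 : (Finset.univ.filter fun a : Ω => g • a = a) = Finset.univ :=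
    Finset.eq_univ_of_card _ hfn
  apply FaithfulSMul.eq_of_smul_eq_smul (α := Ω)
  intro y
  have : y ∈ (Finset.univ.filter fun a : Ω => g • a = a) := by rw [hall2]; exact Finset.mem_univ y
  simpa using this

/-- Let G act faithfully and transitively on a finite set and suppose every element of G fixing no point is an involution. Then either G is an elementary abelian 2-group, or G is a Frobenius group whose Frobenius kernel is an elementary abelian 2-group: G has a Frobenius complement H, and the elements lying in no conjugate of H, together with the identity, pairwise commute and square to the identity. -/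
theorem result {G Ω : Type*} [Group G] [Finite G] [MulAction G Ω] [FaithfulSMul G Ω] [Finite Ω]
    (htrans : MulAction.IsPretransitive G Ω) (hinv : ∀ g : G, (∀ ω : Ω, g • ω ≠ ω) → orderOf g = 2) :
    (IsMulCommutative G ∧ ∀ g : G, g ^ 2 = 1) ∨
    (∃ H : Subgroup G, Cfsg.IsFrobeniusComplement H ∧
      (∀ x ∈ Cfsg.frobeniusKernel H, x ^ 2 = 1) ∧
      ∀ x ∈ Cfsg.frobeniusKernel H, ∀ y ∈ Cfsg.frobeniusKernel H, x * y = y * x) := by
  classical
  haveI := Fintype.ofFinite G
  by_cases hsr : ∀ g : G, ∀ ω : Ω, g • ω = ω → g = 1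
  · left
    have hsq : ∀ g : G, g ^ 2 = 1 := by
      intro g
      by_cases hg : g = 1
      · simp [hg]
      · have : ∀ ω : Ω, g • ω ≠ ω := fun ω hω => hg (hsr g ω hω)
        rw [← hinv g this]
        exact pow_orderOf_eq_one g
    refine ⟨⟨⟨?_⟩⟩, hsq⟩
    intro a b
    have h1 := hsq (a * b)
    have h2 := hsq a
    have h3 := hsq b
    rw [pow_two] at h1 h2 h3
    calc a * b = a * (a * b * (a * b)) * b := by rw [h1, mul_one]
      _ = (a * a) * b * a * (b * b) := by group
      _ = b * a := by rw [h2, h3]; group
  · right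
    push Not at hsr
    obtain ⟨g₀, ω, hg₀, hg₀1⟩ := hsr
    have hne : Nonempty Ω := ⟨ω⟩
    haveI := Fintype.ofFinite Ω
    have hone : ∀ z : G, z ≠ 1 → ∀ a b : Ω, a ≠ b → z • a = a → z • b = b → False :=
      fun z hz a b hab ha hb => fixed_count htrans hinv hne z hz a b hab ha hb
    let H : Subgroup G := MulAction.stabilizer G ω
    have hmemH : ∀ x, x ∈ H ↔ x • ω = ω := fun x => MulAction.mem_stabilizer_iff
    have hH : Cfsg.IsFrobeniusComplement H := by
      refine ⟨?_, ?_, ?_⟩
      · intro h
        have : g₀ ∈ H := (hmemH g₀).mpr hg₀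
        rw [h, Subgroup.mem_bot] at this
        exact hg₀1 this
      · intro h
        by_cases hsub : ∃ a : Ω, a ≠ ω
        · obtain ⟨a, ha⟩ := hsub
          obtain ⟨x, hx⟩ := htrans.exists_smul_eq ω a
          have : x ∈ H := by rw [h]; exact Subgroup.mem_top x
          rw [(hmemH x).mp this] at hx
          exact ha hx.symm
        · push Not at hsub
          apply hg₀1
          apply FaithfulSMul.eq_of_smul_eq_smul (α := Ω)
          intro y
          rw [hsub y, hg₀, one_smul]
      · intro a ha
        rw [Subgroup.eq_bot_iff_forall]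
        intro z hz
        obtain ⟨hz1, hz2⟩ := Subgroup.mem_inf.mp hz
        by_contra hz0
        rw [Cfsg.Agent.Lib.Frobenius.Basic.mem_conj_iff, hmemH] at hz2
        have hz3 : z • (a • ω) = a • ω := by
          have := congrArg (a • ·) hz2
          simpa [mul_smul] using this
        have hne2 : ω ≠ a • ω := by
          intro h
          exact ha ((hmemH a).mpr h.symm)
        exact hone z hz0 ω (a • ω) hne2 ((hmemH z).mp hz1) hz3
    have hkersq : ∀ x ∈ Cfsg.frobeniusKernel H, x ^ 2 = 1 := by
      intro x hx
      rcases hx with rfl | hx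
      · simp
      · have hd : ∀ y : Ω, x • y ≠ y := by
          intro y hy
          obtain ⟨a, rfl⟩ := htrans.exists_smul_eq ω y
          apply hx a
          rw [Cfsg.Agent.Lib.Frobenius.Basic.mem_conj_iff, hmemH]
          simp only [mul_smul]
          rw [hy, inv_smul_smul]
        rw [← hinv x hd]
        exact pow_orderOf_eq_one x
    refine ⟨H, hH, hkersq, ?_⟩
    intro x hx y hy
    have hkx : x ∈ Cfsg.Agent.Lib.Frobenius.Theorem.kernel H :=
      (Cfsg.Agent.Lib.Frobenius.Theorem.mem_kernel_iff hH).mpr hx
    have hky : y ∈ Cfsg.Agent.Lib.Frobenius.Theorem.kernel H :=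
      (Cfsg.Agent.Lib.Frobenius.Theorem.mem_kernel_iff hH).mpr hy
    have hxy := (Cfsg.Agent.Lib.Frobenius.Theorem.mem_kernel_iff hH).mp
      ((Cfsg.Agent.Lib.Frobenius.Theorem.kernel H).mul_mem hkx hky)
    have h1 := hkersq _ hxy
    have h2 := hkersq _ hx
    have h3 := hkersq _ hy
    rw [pow_two] at h1 h2 h3
    calc x * y = x * (x * y * (x * y)) * y := by rw [h1, mul_one]
      _ = (x * x) * y * x * (y * y) := by group
      _ = y * x := by rw [h2, h3]; group

end Cfsg.Agent.S3555
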