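import Cfsg.Statements.S3556
import Cfsg.Agent.Lib.Derange.Soc

set_option autoImplicit false
set_option linter.style.haveILetI false
open Cfsg

namespace Cfsg.Agent.S3556

/-- Let G act faithfully and primitively on a finite set with at least two points, and suppose that for some fixed prime p every element of G fixing no point has order a power of p. Then G is of affine type (it has a regular normal subgroup that is an elementary abelian r-group for some prime r) or almost simple (it has a non-abelian simple normal subgroup with trivial centralizer). -/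
theorem result {G Ω : Type*} [Group G] [Finite G] [MulAction G Ω] [FaithfulSMul G Ω] [Finite Ω]
    (hprim : MulAction.IsPreprimitive G Ω) (hΩ : 2 ≤ Nat.card Ω) (p : ℕ) (hp : p.Prime)
    (hder : ∀ g : G, (∀ ω : Ω, g • ω ≠ ω) → ∃ k : ℕ, orderOf g = p ^ k) :
    (∃ (N : Subgroup G) (r : ℕ), r.Prime ∧ N.Normal ∧ Cfsg.IsElementaryAbelian r N ∧
      MulAction.IsPretransitive N Ω ∧ ∀ a : Ω, MulAction.stabilizer N a = ⊥) ∨
    (∃ T : Subgroup G, T.Normal ∧ IsSimpleGroup ↥T ∧ ¬ IsMulCommutative ↥T ∧
      Subgroup.centralizer (T : Set G) = ⊥) := by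
  classical
  open Cfsg.Agent.S3501 Cfsg.Agent.Lib.Derange.Soc in
  haveI : Nontrivial Ω := Finite.one_lt_card_iff_nontrivial.1 (by omega)
  have hne : (⊤ : Subgroup G) ≠ ⊥ := by
    intro h
    obtain ⟨a, b, hab⟩ := exists_pair_ne Ω
    obtain ⟨g, hg⟩ := hprim.exists_smul_eq a b
    have h1 : g ∈ (⊥ : Subgroup G) := by
      rw [← h]
      trivial
    rw [Subgroup.mem_bot] at h1
    rw [h1, one_smul] at hg
    exact hab hg
  obtain ⟨N, hNn, hNb, hmin⟩ := exists_minimal_normal hne
  by_cases hcomm : ∀ a ∈ N, ∀ b ∈ N, a * b = b * a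
  · left
    obtain ⟨⟨r, hr, hrN⟩, htr, hsemi⟩ := abelian_min_normal hprim hNn hNb hmin hcomm
    refine ⟨N, r, hr, hNn, ⟨⟨⟨fun a b => Subtype.ext (hcomm a a.2 b b.2)⟩⟩, hrN⟩, ?_, ?_⟩
    · refine ⟨fun a b => ?_⟩
      obtain ⟨n, hn, h⟩ := htr a b
      exact ⟨⟨n, hn⟩, h⟩
    · intro a
      exact (Subgroup.eq_bot_iff_forall _).2 fun n hn => Subtype.ext (hsemi n n.2 a hn)
  · right
    obtain ⟨T, hT⟩ := exists_minIn hNb
    have hTnc := exists_noncomm hNn hmin hT hcomm
    obtain ⟨t, ht, q, hq, hqp, hord⟩ := exists_prime_order_ne hNn hmin hT hTnc p hp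
    have ht1 : t ≠ 1 := by
      rintro rfl
      rw [orderOf_one] at hord
      exact hq.one_lt.ne hord
    have hnotder : ∀ {S : Subgroup G}, (∀ a b : Ω, ∃ s ∈ S, s • a = b) →
        (∀ s ∈ S, t * s = s * t) → False := by
      intro S htr hc
      obtain ⟨k, hk⟩ := hder t (der_of_comm_trans htr hc ht1)
      rw [hord] at hk
      have h4 : q ∣ p ^ k := by rw [hk]
      exact hqp ((Nat.prime_dvd_prime_iff_eq hq hp).1 (hq.dvd_of_dvd_pow h4))
    by_cases htrans : ∀ a b : Ω, ∃ t ∈ T, t • a = b
    · by_cases hall : ∀ g : G, T.map (MulAut.conj g).toMonoidHom = T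
      · have hTn : T.Normal := by
          constructor
          intro t ht g
          have : g * t * g⁻¹ ∈ T.map (MulAut.conj g).toMonoidHom := ⟨t, ht, by simp⟩
          rwa [hall g] at this
        have hTeq : T = N := hmin T hTn hT.ne hT.le
        subst hTeq
        refine ⟨T, hTn, isSimple_of_minIn hTn hmin hT, ?_, ?_⟩
        · intro hc
          obtain ⟨a, ha, b, hb, hab⟩ := hTnc
          exact hab (congrArg Subtype.val (hc.is_comm.comm ⟨a, ha⟩ ⟨b, hb⟩))
        · by_contra hcb
          have hCn : (Subgroup.centralizer (T : Set G)).Normal := by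
            haveI := hTn
            exact Subgroup.normal_centralizer
          exact hnotder (normal_trans (Ω := Ω) hprim hCn hcb)
            (fun s hs => Subgroup.mem_centralizer_iff.1 hs t ht)
      · push Not at hall
        obtain ⟨g, hg⟩ := hall
        exact (hnotder (map_conj_trans htrans g) (fun s hs =>
          hT.comm_of_ne (hT.conj hNn g) (fun h => hg h.symm) ht hs)).elim
    · exfalso
      obtain ⟨w, hwN, hwc, hwd⟩ := exists_fpf hprim hNn hNb hmin hT htrans
      obtain ⟨k, hk⟩ := hder (t * w) (hwd t ht)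
      have h1 : (t * w) ^ (p ^ k) = 1 := by
        rw [← hk]
        exact pow_orderOf_eq_one _
      have h2 : Commute t w := (hwc t ht).symm
      rw [h2.mul_pow] at h1
      have h3 : t ^ (p ^ k) = 1 := by
        apply hT.center_eq_one hNn hmin hTnc (T.pow_mem ht _)
        intro s hs
        have h5 : t ^ (p ^ k) = (w ^ (p ^ k))⁻¹ := eq_inv_of_mul_eq_one_left h1
        rw [h5]
        have h6 : Commute w s := hwc s hs
        exact (h6.pow_left (p ^ k)).inv_left
      have h4 : q ∣ p ^ k := hord ▸ orderOf_dvd_of_pow_eq_one h3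
      exact hqp ((Nat.prime_dvd_prime_iff_eq hq hp).1 (hq.dvd_of_dvd_pow h4))

end Cfsg.Agent.S3556
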