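import Cfsg.Statements.S3557
import Cfsg.Agent.Lib.Coprime.Complement
import Cfsg.Agent.Lib.PrimeGraph.ThreeLevels

set_option autoImplicit false
open Cfsg

namespace Cfsg.Agent.S3557

theorem smul_mem_orbit_iff' {P Ω : Type*} [Group P] [MulAction P Ω] (a : Ω) (y : P) (x : Ω) :
    y • x ∈ MulAction.orbit P a ↔ x ∈ MulAction.orbit P a := by
  constructor
  · rintro ⟨k, hk⟩
    refine ⟨y⁻¹ * k, ?_⟩
    have hk' : k • a = y • x := hk
    show (y⁻¹ * k) • a = x
    rw [mul_smul, hk', inv_smul_smul]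
  · rintro ⟨k, rfl⟩
    exact ⟨y * k, mul_smul _ _ _⟩

theorem exists_semiregular_perm {P Ω : Type*} [Group P] [Finite P] [MulAction P Ω] [Finite Ω]
    (p : ℕ) [hp : Fact p.Prime] (hP : IsPGroup p P)
    (a₁ a₂ : Ω) (hunion : ∀ x : Ω, x ∈ MulAction.orbit P a₁ ∨ x ∈ MulAction.orbit P a₂)
    (h1 : (MulAction.stabilizer P a₁).index = p ^ 2)
    (h2 : (MulAction.stabilizer P a₂).index = p ^ 2)
    (z : P) (hz : ∀ x : P, x * z = z * x) (hzp : z ^ p = 1)
    (hz1 : ∀ a ∈ MulAction.orbit P a₁, z • a = a) (hzm : z • a₂ ≠ a₂) :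
    ∃ σ : Equiv.Perm Ω, (∀ a b, ∃ x : P, σ a = x • a ∧ σ b = x • b) ∧ σ ^ p = 1 ∧ ∀ a, σ a ≠ a := by
  classical
  set O₁ := MulAction.orbit P a₁ with hO₁
  let A : Subgroup P := fixingSubgroup P O₁
  have hAmem : ∀ x, x ∈ A ↔ ∀ a ∈ O₁, x • a = a := fun x => mem_fixingSubgroup_iff P
  have hinv₁ : ∀ (y : P) x, y • x ∈ O₁ ↔ x ∈ O₁ := smul_mem_orbit_iff' a₁
  haveI hAn : A.Normal := by
    constructor
    intro x hx y
    rw [hAmem] at hx ⊢
    intro a ha
    have h3 := hx (y⁻¹ • a) ((hinv₁ _ _).mpr ha)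
    rw [mul_smul, mul_smul, h3, smul_inv_smul]
  let Pb : Subgroup P := MulAction.stabilizer P a₂
  have hzA : z ∈ A := (hAmem z).mpr hz1
  have hzPb : z ∉ Pb := fun h => hzm (MulAction.mem_stabilizer_iff.mp h)
  let S : Subgroup P := A ⊔ Pb
  have hASle : A ≤ S := le_sup_left
  have hPbS : Pb ≤ S := le_sup_right
  have hSmem : ∀ x ∈ S, ∃ w ∈ A, x • a₂ = w • a₂ := by
    intro x hx
    have hx' : x ∈ ((A ⊔ Pb : Subgroup P) : Set P) := hx
    rw [Subgroup.normal_mul] at hx'
    obtain ⟨w, hw, s, hs, rfl⟩ := Set.mem_mul.mp hx'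
    refine ⟨w, hw, ?_⟩
    have : s • a₂ = a₂ := MulAction.mem_stabilizer_iff.mp hs
    rw [mul_smul, this]
  -- the index of `S`
  have hrel : Pb.relIndex S * S.index = p ^ 2 := by
    rw [Subgroup.relIndex_mul_index hPbS]
    exact h2
  have hrel1 : Pb.relIndex S ≠ 1 := by
    intro h
    rw [Subgroup.relIndex_eq_one] at h
    exact hzPb (h (hASle hzA))
  have hSidx : S.index ∣ p := by
    obtain ⟨i, hi, hie⟩ := (Nat.dvd_prime_pow hp.out).mp (Dvd.intro _ hrel)
    rw [hie] at hrel
    rcases i with _ | i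
    · rw [pow_zero] at hie; exact absurd hie hrel1
    · have h4 : p ^ i * S.index = p := by
        have hp0 : 0 < p := hp.out.pos
        have : p * (p ^ i * S.index) = p * p := by
          rw [← mul_assoc, ← pow_succ', hrel, pow_two]
        exact Nat.eq_of_mul_eq_mul_left hp0 this
      exact Dvd.intro_left _ h4
  have hSn : S.Normal := by
    rcases (Nat.dvd_prime hp.out).mp hSidx with h | h
    · rw [Subgroup.index_eq_one] at h
      rw [h]
      infer_instance
    · apply Subgroup.normal_of_index_eq_minFac_card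
      rw [h]
      obtain ⟨m, hm⟩ := IsPGroup.iff_card.mp hP
      have hm0 : m ≠ 0 := by
        rintro rfl
        have h3 : (MulAction.stabilizer P a₂).index ∣ Nat.card P := Subgroup.index_dvd_card _
        rw [h2, hm, pow_zero] at h3
        have := Nat.le_of_dvd one_pos h3
        have h5 := hp.out.two_le
        nlinarith
      rw [hm, Nat.Prime.pow_minFac hp.out hm0]
  have hkey : ∀ x ∈ S, ∀ b ∈ MulAction.orbit P a₂, ∃ w ∈ A, x • b = w • b := by
    rintro x hx _ ⟨y, rfl⟩
    have hc : y⁻¹ * x * y ∈ S := by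
      have := hSn.conj_mem x hx y⁻¹
      simpa using this
    obtain ⟨w, hw, hwe⟩ := hSmem _ hc
    refine ⟨y * w * y⁻¹, hAn.conj_mem w hw y, ?_⟩
    show x • (y • a₂) = (y * w * y⁻¹) • (y • a₂)
    have e1 : x • (y • a₂) = y • ((y⁻¹ * x * y) • a₂) := by
      simp only [mul_smul, smul_inv_smul]
    rw [e1, hwe]
    simp only [mul_smul, inv_smul_smul]
  have hASne : ¬ S ≤ A := by
    intro h
    have hAS : A = S := le_antisymm hASle h
    have h3 : A ≤ MulAction.stabilizer P a₁ := by
      intro x hx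
      exact (hAmem x).mp hx a₁ (MulAction.mem_orbit_self a₁)
    have h4 := Subgroup.index_dvd_of_le h3
    rw [h1, hAS] at h4
    have h5 := h4.trans hSidx
    have h6 := Nat.le_of_dvd hp.out.pos h5
    have h7 := hp.out.two_le
    nlinarith
  -- a central element of `P/A` in `S/A`
  let Q := P ⧸ A
  have hQ : IsPGroup p Q := hP.to_quotient A
  let U : Subgroup Q := S.map (QuotientGroup.mk' A)
  haveI hUn : U.Normal := Subgroup.Normal.map hSn _ (QuotientGroup.mk'_surjective A)
  have hU1 : U ≠ ⊥ := by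
    intro h
    apply hASne
    intro x hx
    have h3 : (QuotientGroup.mk' A) x ∈ U := Subgroup.mem_map_of_mem _ hx
    rw [h, Subgroup.mem_bot] at h3
    exact (QuotientGroup.eq_one_iff x).mp h3
  obtain ⟨ub, hubU, hub1, hubc⟩ := Cfsg.Agent.Lib.Coprime.Complement.exists_ne_one_mem_centralizer
    (T := (⊤ : Subgroup Q)) (hQ.to_subgroup ⊤) (hQ.to_subgroup U)
    (by rw [Subgroup.normalizer_eq_top]) hU1
  have hordub : p ∣ orderOf ub :=
    Cfsg.Agent.Lib.PrimeGraph.ThreeLevels.dvd_orderOf_of_isPGroup hp.out (hQ.to_subgroup ⊤)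
      (Subgroup.mem_top ub) hub1
  set ub' := ub ^ (orderOf ub / p) with hub'
  have hub'ord : orderOf ub' = p := orderOf_pow_orderOf_div (orderOf_pos ub).ne' hordub
  have hub'U : ub' ∈ U := U.pow_mem hubU _
  obtain ⟨u, huS, hue⟩ := hub'U
  have huA : u ∉ A := by
    intro h
    have h3 : (QuotientGroup.mk' A) u = 1 := (QuotientGroup.eq_one_iff u).mpr h
    rw [hue] at h3
    rw [h3, orderOf_one] at hub'ord
    exact hp.out.one_lt.ne hub'ord
  have hupA : u ^ p ∈ A := by
    rw [← QuotientGroup.eq_one_iff, QuotientGroup.mk_pow]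
    have : (u : Q) = ub' := hue
    rw [this, ← hub'ord]
    exact pow_orderOf_eq_one _
  have hucomm : ∀ x : P, ∃ w ∈ A, u * x = x * u * w := by
    intro x
    refine ⟨(x * u)⁻¹ * (u * x), ?_, by group⟩
    rw [← QuotientGroup.eq_one_iff]
    have h3 : (((x * u)⁻¹ * (u * x) : P) : Q) = ((x : Q) * (u : Q))⁻¹ * ((u : Q) * (x : Q)) := by
      simp
    rw [h3]
    have h4 : (u : Q) = ub' := hue
    rw [h4]
    have h5 : (x : Q) * ub' = ub' * (x : Q) := by
      have : ub' ∈ Subgroup.centralizer ((⊤ : Subgroup Q) : Set Q) :=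
        Subgroup.pow_mem _ hubc _
      exact (Subgroup.mem_centralizer_iff.mp this) x (Subgroup.mem_top _)
    rw [h5]
    group
  have hufree : ∀ a ∈ O₁, u • a ≠ a := by
    intro a ha hua
    apply huA
    rw [hAmem]
    intro a' ha'
    have hsame : a' ∈ MulAction.orbit P a := by
      rw [MulAction.orbit_eq_iff.mpr ha]
      exact ha'
    obtain ⟨y, rfl⟩ := hsame
    obtain ⟨w, hw, hwe⟩ := hucomm y
    show u • (y • a) = y • a
    rw [← mul_smul, hwe, mul_smul, mul_smul, (hAmem w).mp hw a ha, hua]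
  -- the permutation
  let f : Ω → Ω := fun x => if x ∈ O₁ then u • x else z • x
  let g : Ω → Ω := fun x => if x ∈ O₁ then u⁻¹ • x else z⁻¹ • x
  have hfg : ∀ x, g (f x) = x := by
    intro x
    by_cases hx : x ∈ O₁
    · simp only [f, g, if_pos hx, if_pos ((hinv₁ u x).mpr hx), inv_smul_smul]
    · have : z • x ∉ O₁ := fun h => hx ((hinv₁ z x).mp h)
      simp only [f, g, if_neg hx, if_neg this, inv_smul_smul]
  have hgf : ∀ x, f (g x) = x := by
    intro x
    by_cases hx : x ∈ O₁
    · simp only [f, g, if_pos hx, if_pos ((hinv₁ u⁻¹ x).mpr hx), smul_inv_smul]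
    · have : z⁻¹ • x ∉ O₁ := fun h => hx ((hinv₁ z⁻¹ x).mp h)
      simp only [f, g, if_neg hx, if_neg this, smul_inv_smul]
  let σ : Equiv.Perm Ω := ⟨f, g, hfg, hgf⟩
  have hσ₁ : ∀ x ∈ O₁, σ x = u • x := fun x hx => if_pos hx
  have hσ₂ : ∀ x, x ∉ O₁ → σ x = z • x := fun x hx => if_neg hx
  refine ⟨σ, ?_, ?_, ?_⟩
  · intro a b
    have hmixed : ∀ a ∈ O₁, ∀ b, b ∉ O₁ → ∃ x : P, x • a = u • a ∧ x • b = z • b := by
      intro a ha b hb
      have hb2 : b ∈ MulAction.orbit P a₂ := (hunion b).resolve_left hb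
      have hzb : z • b ∈ MulAction.orbit P a₂ := (smul_mem_orbit_iff' a₂ z b).mpr hb2
      obtain ⟨w, hw, hwe⟩ := hkey u⁻¹ (S.inv_mem huS) _ hzb
      refine ⟨u * (w * z), ?_, ?_⟩
      · rw [mul_smul, mul_smul, hz1 a ha, (hAmem w).mp hw a ha]
      · rw [mul_smul, mul_smul, ← hwe, smul_inv_smul]
    by_cases ha : a ∈ O₁ <;> by_cases hb : b ∈ O₁
    · exact ⟨u, hσ₁ a ha, hσ₁ b hb⟩
    · obtain ⟨x, h3, h4⟩ := hmixed a ha b hb
      exact ⟨x, by rw [hσ₁ a ha, h3], by rw [hσ₂ b hb, h4]⟩
    · obtain ⟨x, h3, h4⟩ := hmixed b hb a ha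
      exact ⟨x, by rw [hσ₂ a ha, h4], by rw [hσ₁ b hb, h3]⟩
    · exact ⟨z, hσ₂ a ha, hσ₂ b hb⟩
  · have hpow : ∀ k x, (σ ^ k) x = if x ∈ O₁ then u ^ k • x else z ^ k • x := by
      intro k
      induction k with
      | zero => intro x; simp
      | succ k ih =>
        intro x
        rw [pow_succ', Equiv.Perm.mul_apply, ih x]
        by_cases hx : x ∈ O₁
        · rw [if_pos hx, if_pos hx, hσ₁ _ ((hinv₁ _ _).mpr hx), pow_succ', mul_smul]
        · rw [if_neg hx, if_neg hx, hσ₂ _ (fun h => hx ((hinv₁ _ _).mp h)), pow_succ', mul_smul]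
    ext x
    rw [hpow p x]
    by_cases hx : x ∈ O₁
    · rw [if_pos hx, (hAmem _).mp hupA x hx]
      rfl
    · rw [if_neg hx, hzp, one_smul]
      rfl
  · intro a
    by_cases ha : a ∈ O₁
    · rw [hσ₁ a ha]
      exact hufree a ha
    · rw [hσ₂ a ha]
      have hb2 : a ∈ MulAction.orbit P a₂ := (hunion a).resolve_left ha
      obtain ⟨y, rfl⟩ := hb2
      intro h
      apply hzm
      have h3 : z • ((fun m : P => m • a₂) y) = y • (z • a₂) := by
        show z • (y • a₂) = y • (z • a₂)
        rw [← mul_smul, ← mul_smul, hz y]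
      rw [h3] at h
      exact smul_left_cancel y h

/-- Point-stabilizers and Sylow subgroups: the orbit length is divisible by the `p`-part of the degree. -/
theorem dvd_index_stabilizer {G Ω : Type*} [Group G] [Finite G] [MulAction G Ω] [Finite Ω]
    (htrans : MulAction.IsPretransitive G Ω) (p : ℕ) [hp : Fact p.Prime] (P : Sylow p G) (a : Ω)
    (m : ℕ) (hm : m ∣ Nat.card Ω) (hmc : m.Coprime (P : Subgroup G).index) :
    m ∣ (MulAction.stabilizer (P : Subgroup G) a).index := by
  classical
  let Pa : Subgroup (P : Subgroup G) := MulAction.stabilizer (P : Subgroup G) a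
  let Ga : Subgroup G := MulAction.stabilizer G a
  have h1 : Ga.index = Nat.card Ω := MulAction.index_stabilizer_of_transitive G a
  have h2 : Nat.card Pa ∣ Nat.card Ga := by
    have hle : Pa.map (P : Subgroup G).subtype ≤ Ga := by
      rintro _ ⟨x, hx, rfl⟩
      exact hx
    have := Subgroup.card_dvd_of_le hle
    rwa [Subgroup.card_map_of_injective (Subgroup.subtype_injective _)] at this
  obtain ⟨d, hd⟩ := h2
  have h3 := Subgroup.card_mul_index Pa
  have h4 := Subgroup.card_mul_index Ga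
  have h5 := Subgroup.card_mul_index (P : Subgroup G)
  have h6 : Nat.card Pa * (Pa.index * (P : Subgroup G).index) = Nat.card Pa * (d * Nat.card Ω) := by
    calc Nat.card Pa * (Pa.index * (P : Subgroup G).index)
        = (Nat.card Pa * Pa.index) * (P : Subgroup G).index := by ring
      _ = Nat.card G := by rw [h3, h5]
      _ = Nat.card Ga * Ga.index := h4.symm
      _ = Nat.card Pa * (d * Nat.card Ω) := by rw [hd, h1]; ring
  have h7 := Nat.eq_of_mul_eq_mul_left Nat.card_pos h6
  have h8 : m ∣ Pa.index * (P : Subgroup G).index := by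
    rw [h7]
    exact hm.trans (Dvd.intro_left _ rfl)
  exact hmc.dvd_of_dvd_mul_right h8

/-- Let G act faithfully and transitively on a finite set with 2p² points, p a prime, and suppose G is 2-closed: every permutation of the set which, on each ordered pair of points, agrees with some element of G, is itself induced by an element of G. Then some element of G of prime order fixes no point. -/
theorem result {G Ω : Type*} [Group G] [Finite G] [MulAction G Ω] [FaithfulSMul G Ω] [Finite Ω]
    (htrans : MulAction.IsPretransitive G Ω) (p : ℕ) (hp : p.Prime) (hcard : Nat.card Ω = 2 * p ^ 2)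
    (hcl : ∀ σ : Equiv.Perm Ω, (∀ a b : Ω, ∃ g : G, σ a = g • a ∧ σ b = g • b) → ∃ g : G, ∀ a : Ω, σ a = g • a) :
    ∃ g : G, (orderOf g).Prime ∧ ∀ ω : Ω, g • ω ≠ ω := by
  classical
  haveI := Fact.mk hp
  haveI hne : Nonempty Ω := by
    have : Nat.card Ω ≠ 0 := by
      rw [hcard]
      have := hp.pos
      positivity
    exact (Nat.card_pos_iff.mp (Nat.pos_of_ne_zero this)).1
  obtain ⟨P⟩ : Nonempty (Sylow p G) := inferInstance
  have hPp : IsPGroup p (P : Subgroup G) := P.isPGroup'
  have hmc : ∀ m, (∃ k, m = p ^ k) → m.Coprime (P : Subgroup G).index := by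
    rintro _ ⟨k, rfl⟩
    apply Nat.Coprime.pow_left
    exact (Nat.Prime.coprime_iff_not_dvd hp).mpr P.not_dvd_index
  -- index of stabilizers
  have hidxpow : ∀ a : Ω, ∃ k, (MulAction.stabilizer (P : Subgroup G) a).index = p ^ k := by
    intro a
    obtain ⟨m, hm⟩ := IsPGroup.iff_card.mp hPp
    have h1 : (MulAction.stabilizer (P : Subgroup G) a).index ∣ p ^ m := by
      rw [← hm]; exact Subgroup.index_dvd_card _
    obtain ⟨k, -, hk⟩ := (Nat.dvd_prime_pow hp).mp h1
    exact ⟨k, hk⟩
  have horbit : ∀ a : Ω, (MulAction.stabilizer (P : Subgroup G) a).index =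
      (MulAction.orbit (P : Subgroup G) a).ncard := by
    intro a
    exact MulAction.index_stabilizer (P : Subgroup G) a
  have hdvd2 : ∀ a : Ω, p ^ 2 ∣ (MulAction.stabilizer (P : Subgroup G) a).index := by
    intro a
    apply dvd_index_stabilizer htrans p P a (p ^ 2)
    · rw [hcard]; exact Dvd.intro_left _ rfl
    · exact hmc _ ⟨2, rfl⟩
  -- a central element of order p
  have hPnt : Nontrivial (P : Subgroup G) := by
    obtain ⟨a⟩ := hne
    have h1 := hdvd2 a
    by_contra hcon
    rw [not_nontrivial_iff_subsingleton] at hcon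
    have h2 : (MulAction.stabilizer (P : Subgroup G) a).index = 1 := by
      rw [Subgroup.index_eq_one]
      exact Subsingleton.elim _ _
    rw [h2] at h1
    have := Nat.le_of_dvd one_pos h1
    have h5 := hp.two_le
    nlinarith
  obtain ⟨c, hc⟩ : ∃ c : Subgroup.center (P : Subgroup G), c ≠ 1 := by
    haveI := hPp.center_nontrivial
    exact exists_ne 1
  have hc1 : ((c : (P : Subgroup G))) ≠ 1 := fun h => hc (Subtype.ext h)
  have hcp : p ∣ orderOf (c : (P : Subgroup G)) :=
    Cfsg.Agent.Lib.PrimeGraph.ThreeLevels.dvd_orderOf_of_isPGroup hp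
      (hPp.to_subgroup ⊤) (Subgroup.mem_top _) hc1
  set z : (P : Subgroup G) := (c : (P : Subgroup G)) ^ (orderOf (c : (P : Subgroup G)) / p) with hz
  have hzord : orderOf z = p := orderOf_pow_orderOf_div (orderOf_pos _).ne' hcp
  have hzc : ∀ x : (P : Subgroup G), x * z = z * x := by
    intro x
    have h1 : (c : (P : Subgroup G)) ^ (orderOf (c : (P : Subgroup G)) / p) ∈
        Subgroup.center (P : Subgroup G) := Subgroup.pow_mem _ c.2 _
    exact (Subgroup.mem_center_iff.mp h1) x
  have hzp : z ^ p = 1 := by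
    have := pow_orderOf_eq_one z
    rwa [hzord] at this
  have hzg : orderOf (z : G) = p := by rw [Subgroup.orderOf_coe, hzord]
  have hz1' : z ≠ 1 := by
    intro h
    rw [h, orderOf_one] at hzord
    exact hp.one_lt.ne hzord
  have hzfaith : ∃ a : Ω, z • a ≠ a := by
    by_contra hcon
    push Not at hcon
    apply hz1'
    apply Subtype.ext
    apply FaithfulSMul.eq_of_smul_eq_smul (α := Ω)
    intro y
    rw [Subgroup.coe_one, one_smul]
    exact hcon y
  -- fixing one point of an orbit means fixing the orbit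
  have hfixorb : ∀ a : Ω, z • a = a → ∀ b ∈ MulAction.orbit (P : Subgroup G) a, z • b = b := by
    rintro a ha _ ⟨y, rfl⟩
    show z • (y • a) = y • a
    rw [← mul_smul, ← hzc y, mul_smul, ha]
  have hprimez : (orderOf (z : G)).Prime := by rw [hzg]; exact hp
  -- the final use of closure
  have hfinish : ∀ σ : Equiv.Perm Ω, (∀ a b, ∃ x : (P : Subgroup G), σ a = x • a ∧ σ b = x • b) →
      σ ^ p = 1 → (∀ a, σ a ≠ a) → ∃ g : G, (orderOf g).Prime ∧ ∀ ω : Ω, g • ω ≠ ω := by
    intro σ h1 h2 h3
    obtain ⟨g, hg⟩ := hcl σ (fun a b => by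
      obtain ⟨x, hx1, hx2⟩ := h1 a b
      exact ⟨x, hx1, hx2⟩)
    have hpow : ∀ k a, g ^ k • a = (σ ^ k) a := by
      intro k
      induction k with
      | zero => intro a; simp
      | succ k ih =>
        intro a
        rw [pow_succ', mul_smul, ih, pow_succ', Equiv.Perm.mul_apply, hg]
    have hgp : g ^ p = 1 := by
      apply FaithfulSMul.eq_of_smul_eq_smul (α := Ω)
      intro a
      rw [hpow, h2, one_smul]
      rfl
    have hg1 : g ≠ 1 := by
      rintro rfl
      obtain ⟨a⟩ := hne
      apply h3 a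
      rw [hg, one_smul]
    refine ⟨g, ?_, ?_⟩
    · rw [orderOf_eq_prime hgp hg1]; exact hp
    · intro ω hω
      apply h3 ω
      rw [hg, hω]
  by_cases hp2 : p = 2
  · -- `p = 2`: the Sylow subgroup is transitive
    subst hp2
    refine ⟨(z : G), hprimez, ?_⟩
    intro ω hω
    have htr : ∀ b, b ∈ MulAction.orbit (P : Subgroup G) ω := by
      have h8 : 8 ∣ (MulAction.stabilizer (P : Subgroup G) ω).index := by
        apply dvd_index_stabilizer htrans 2 P ω 8
        · rw [hcard]; norm_num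
        · exact hmc _ ⟨3, by norm_num⟩
      rw [horbit] at h8
      have h9 : (MulAction.orbit (P : Subgroup G) ω).ncard ≤ Nat.card Ω := by
        rw [← Set.ncard_univ]
        exact Set.ncard_le_ncard (Set.subset_univ _) (Set.toFinite _)
      have hpos : 0 < (MulAction.orbit (P : Subgroup G) ω).ncard :=
        (Set.ncard_pos (Set.toFinite _)).mpr ⟨ω, MulAction.mem_orbit_self ω⟩
      have h10 := Nat.le_of_dvd hpos h8
      have h11 : (MulAction.orbit (P : Subgroup G) ω) = Set.univ := by
        apply Set.eq_of_subset_of_ncard_le (Set.subset_univ _)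
        · rw [Set.ncard_univ, hcard]
          norm_num at h9 ⊢
          omega
      intro b
      rw [h11]
      exact Set.mem_univ b
    obtain ⟨a, ha⟩ := hzfaith
    exact ha (hfixorb ω hω a (htr a))
  · -- `p` odd
    obtain ⟨a₁⟩ := hne
    have hp3 : 3 ≤ p := by
      have := hp.two_le
      omega
    have hpodd : ¬ 2 ∣ p := by
      intro h
      exact hp2 ((Nat.prime_dvd_prime_iff_eq Nat.prime_two hp).mp h).symm
    have hcardle : ∀ a : Ω, (MulAction.orbit (P : Subgroup G) a).ncard ≤ 2 * p ^ 2 := by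
      intro a
      rw [← hcard, ← Set.ncard_univ]
      exact Set.ncard_le_ncard (Set.subset_univ _) (Set.toFinite _)
    have hpp : ∀ a : Ω, p ^ 2 ≤ (MulAction.orbit (P : Subgroup G) a).ncard := by
      intro a
      rw [← horbit]
      exact Nat.le_of_dvd (Nat.pos_of_ne_zero (Subgroup.index_ne_zero_of_finite)) (hdvd2 a)
    have hsize1 : (MulAction.orbit (P : Subgroup G) a₁).ncard < 2 * p ^ 2 := by
      apply lt_of_le_of_ne (hcardle a₁)
      intro h
      obtain ⟨k, hk⟩ := hidxpow a₁
      rw [horbit, h] at hk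
      have : 2 ∣ p ^ k := by rw [← hk]; exact Dvd.intro _ rfl
      exact hpodd (Nat.Prime.dvd_of_dvd_pow Nat.prime_two this)
    obtain ⟨a₂, ha₂⟩ : ∃ a₂ : Ω, a₂ ∉ MulAction.orbit (P : Subgroup G) a₁ := by
      by_contra hcon
      push Not at hcon
      have : MulAction.orbit (P : Subgroup G) a₁ = Set.univ := Set.eq_univ_of_forall hcon
      rw [this, Set.ncard_univ, hcard] at hsize1
      exact lt_irrefl _ hsize1
    have hdisj : Disjoint (MulAction.orbit (P : Subgroup G) a₁) (MulAction.orbit (P : Subgroup G) a₂) := by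
      rw [Set.disjoint_left]
      intro x hx1 hx2
      apply ha₂
      have e1 := MulAction.orbit_eq_iff.mpr hx1
      have e2 := MulAction.orbit_eq_iff.mpr hx2
      rw [← e1, e2]
      exact MulAction.mem_orbit_self a₂
    have hsum := Set.ncard_union_eq hdisj (Set.toFinite _) (Set.toFinite _)
    have hsumle : (MulAction.orbit (P : Subgroup G) a₁ ∪ MulAction.orbit (P : Subgroup G) a₂).ncard
        ≤ 2 * p ^ 2 := by
      rw [← hcard, ← Set.ncard_univ]
      exact Set.ncard_le_ncard (Set.subset_univ _) (Set.toFinite _)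
    have hs1 := hpp a₁
    have hs2 := hpp a₂
    have heq1 : (MulAction.stabilizer (P : Subgroup G) a₁).index = p ^ 2 := by
      rw [horbit]; omega
    have heq2 : (MulAction.stabilizer (P : Subgroup G) a₂).index = p ^ 2 := by
      rw [horbit]; omega
    have huniv : MulAction.orbit (P : Subgroup G) a₁ ∪ MulAction.orbit (P : Subgroup G) a₂ = Set.univ := by
      apply Set.eq_of_subset_of_ncard_le (Set.subset_univ _)
      rw [Set.ncard_univ, hcard]
      omega
    have hunion : ∀ x : Ω, x ∈ MulAction.orbit (P : Subgroup G) a₁ ∨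
        x ∈ MulAction.orbit (P : Subgroup G) a₂ := by
      intro x
      have : x ∈ MulAction.orbit (P : Subgroup G) a₁ ∪ MulAction.orbit (P : Subgroup G) a₂ := by
        rw [huniv]; exact Set.mem_univ x
      exact this
    have hunion' : ∀ x : Ω, x ∈ MulAction.orbit (P : Subgroup G) a₂ ∨
        x ∈ MulAction.orbit (P : Subgroup G) a₁ := fun x => (hunion x).symm
    have hallfix : z • a₁ = a₁ → z • a₂ = a₂ → False := by
      intro h1 h2
      obtain ⟨a, ha⟩ := hzfaith
      rcases hunion a with h | h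
      · exact ha (hfixorb a₁ h1 a h)
      · exact ha (hfixorb a₂ h2 a h)
    by_cases h1 : z • a₁ = a₁
    · have hm : z • a₂ ≠ a₂ := fun h2 => hallfix h1 h2
      obtain ⟨σ, h3, h4, h5⟩ := exists_semiregular_perm p hPp a₁ a₂ hunion heq1 heq2 z hzc hzp
        (hfixorb a₁ h1) hm
      exact hfinish σ h3 h4 h5
    · by_cases h2 : z • a₂ = a₂
      · obtain ⟨σ, h3, h4, h5⟩ := exists_semiregular_perm p hPp a₂ a₁ hunion' heq2 heq1 z hzc hzp
          (hfixorb a₂ h2) h1
        exact hfinish σ h3 h4 h5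
      · refine ⟨(z : G), hprimez, ?_⟩
        intro ω hω
        have hω' : z • ω = ω := hω
        rcases hunion ω with h | h
        · apply h1
          apply hfixorb ω hω' a₁
          rw [MulAction.orbit_eq_iff.mpr h]
          exact MulAction.mem_orbit_self a₁
        · apply h2
          apply hfixorb ω hω' a₂
          rw [MulAction.orbit_eq_iff.mpr h]
          exact MulAction.mem_orbit_self a₂

end Cfsg.Agent.S3557
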