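import Cfsg.Statements.S3600
import Cfsg.Agent.Lib.Crit5.Reduce
import Cfsg.Agent.S3433

set_option autoImplicit false
open Cfsg

namespace Cfsg.Agent.S3600

open Cfsg.Agent.Lib.Crit5.F4 Cfsg.Agent.Lib.Crit5.SL2 Cfsg.Agent.Lib.Crit5.Reduce
open Cfsg.Agent.Lib.Ord5.Basic

/-- A finite group is critical with respect to a set Ω of natural numbers when its set of element orders is Ω while no proper section has Ω as its set of element orders. A finite group critical with respect to {1, 2, 3, 4, 5} (the set of element orders of the alternating group of degree 6) is isomorphic either to the alternating group of degree 6 or to the affine group F² ⋊ SL(2,F) over the field F with four elements (realised as the matrices of SL(3,F) with last row (0, 0, 1)). -/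
theorem result {G : Type*} [Group G] [Finite G]
    (hcrit : Set.range (orderOf : G → ℕ) = ({1, 2, 3, 4, 5} : Set ℕ) ∧
      ∀ (H : Subgroup G) (N : Subgroup ↥H) [N.Normal], (H ≠ ⊤ ∨ N ≠ ⊥) → Set.range (orderOf : (↥H ⧸ N) → ℕ) ≠ ({1, 2, 3, 4, 5} : Set ℕ)) :
    Nonempty (G ≃* alternatingGroup (Fin 6)) ∨
      ∃ (F : Type) (_ : Field F) (_ : Fintype F), Fintype.card F = 4 ∧
        Nonempty (G ≃* ↥(Subgroup.closure {M : Matrix.SpecialLinearGroup (Fin 3) F |
          (M : Matrix (Fin 3) (Fin 3) F) 2 0 = 0 ∧ (M : Matrix (Fin 3) (Fin 3) F) 2 1 = 0 ∧ (M : Matrix (Fin 3) (Fin 3) F) 2 2 = 1})) := by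
  obtain ⟨h1, h2⟩ := hcrit
  have hr : Set.range (orderOf : G → ℕ) = {k : ℕ | 1 ≤ k ∧ k ≤ 5} := by
    rw [h1]
    ext k
    simp only [Set.mem_insert_iff, Set.mem_singleton_iff]
    change _ ↔ 1 ≤ k ∧ k ≤ 5
    omega
  have hS : IsO G := IsO.of_finite (fun g => by
    have h : orderOf g ∈ {k : ℕ | 1 ≤ k ∧ k ≤ 5} := hr ▸ ⟨g, rfl⟩
    exact h.2)
  rcases Cfsg.Agent.S3433.result hr with h | ⟨N, hNn, hEA, ⟨e⟩⟩
  · exact Or.inl h
  · right
    obtain ⟨θ⟩ := sl2_iso
    let π : G →* SL2 := (θ.symm.toMonoidHom).comp (e.toMonoidHom.comp (QuotientGroup.mk' N))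
    have hπ : Function.Surjective π := by
      intro g
      obtain ⟨x, hx⟩ := QuotientGroup.mk'_surjective N (e.symm (θ g))
      refine ⟨x, ?_⟩
      change θ.symm (e (QuotientGroup.mk' N x)) = g
      rw [hx]
      simp
    have hN : ∀ n, π n = 1 → n * n = 1 := by
      intro n hn
      have h3 : e (QuotientGroup.mk' N n) = 1 := by
        have h4 : θ.symm (e (QuotientGroup.mk' N n)) = 1 := hn
        simpa using h4
      have h5 : QuotientGroup.mk' N n = 1 := by simpa using h3
      have h6 : n ∈ N := (QuotientGroup.eq_one_iff n).1 h5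
      have h7 := hEA.2 n h6
      rwa [pow_two] at h7
    have h4 : ∃ x : G, orderOf x = 4 := by
      have : (4 : ℕ) ∈ Set.range (orderOf : G → ℕ) := by
        rw [h1]
        simp
      exact this
    have hmain := main_of_quot hS π hπ hN h4 (fun K _ hK => h2 ⊤ (K.subgroupOf ⊤) (Or.inr (by
      intro h
      apply hK
      rw [eq_bot_iff]
      intro x hx
      have h5 : (⟨x, Subgroup.mem_top x⟩ : ↥(⊤ : Subgroup G)) ∈ K.subgroupOf ⊤ :=
        Subgroup.mem_subgroupOf.2 hx
      rw [h, Subgroup.mem_bot] at h5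
      exact congrArg Subtype.val h5)))
    exact ⟨FF, inferInstance, inferInstance, FF.card_eq, hmain⟩

end Cfsg.Agent.S3600
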