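import Cfsg.Statements.S3685
import Cfsg.Agent.Lib.Sims3.Action
import Cfsg.Agent.Lib.Sims3.Cases

set_option autoImplicit false
open Cfsg

namespace Cfsg.Agent.S3685

/-- Let a finite group G act faithfully and primitively on a set Ω, and suppose the stabilizer of a point a has an orbit of length 3. Then the stabilizer of a is isomorphic to one of: the cyclic group of order 3, the symmetric group of degree 3, the dihedral group of order 12, the symmetric group of degree 4, or the direct product of the symmetric group of degree 4 with a group of order 2. -/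
theorem result {G Ω : Type*} [Group G] [Finite G] [MulAction G Ω] [FaithfulSMul G Ω] [Finite Ω]
    (hprim : MulAction.IsPreprimitive G Ω) (a b : Ω) (h3 : Nat.card (MulAction.orbit (MulAction.stabilizer G a) b) = 3) :
    Nonempty (MulAction.stabilizer G a ≃* Multiplicative (ZMod 3)) ∨ Nonempty (MulAction.stabilizer G a ≃* Equiv.Perm (Fin 3)) ∨
      Nonempty (MulAction.stabilizer G a ≃* DihedralGroup 6) ∨ Nonempty (MulAction.stabilizer G a ≃* Equiv.Perm (Fin 4)) ∨
      Nonempty (MulAction.stabilizer G a ≃* Equiv.Perm (Fin 4) × Multiplicative (ZMod 2)) := by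
  obtain ⟨K, A, s, t, hs, ht, hgen⟩ := Lib.Sims3.action_amal hprim a b h3
  have ht4 := Lib.Sims3.amal_bound hs hgen ht
  by_cases hQ : A ≤ Lib.Sims3.cor (MulAction.stabilizer G a) A
  · left
    have h0 := Lib.Sims3.bot_of_le_cor hs hQ
    have hc : Nat.card (MulAction.stabilizer G a) = 3 := by
      rw [Lib.Sims3.card_H hs, h0]
      simp
    haveI : Fact (Nat.Prime 3) := ⟨Nat.prime_three⟩
    refine ⟨mulEquivOfPrimeCardEq hc ?_⟩
    simp [Nat.card_eq_fintype_card, Fintype.card_multiplicative, ZMod.card]
  · interval_cases t
    · exfalso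
      apply hQ
      have h0 : A = ⊥ := Subgroup.card_eq_one.1 (by simpa using ht)
      rw [h0]
      exact bot_le
    · right; left
      exact Lib.Sims3.case_one hs hQ (by simpa using ht)
    · right; right; left
      exact Lib.Sims3.case_two hs hQ (by simpa using ht)
    · right; right; right; left
      exact Lib.Sims3.case_three hs hQ (by simpa using ht)
    · right; right; right; right
      by_cases hcen : ∀ x ∈ A, (∀ k ∈ MulAction.stabilizer G a, k * x = x * k) → x = 1
      · exfalso
        obtain ⟨t', ht', _, ht'3, _⟩ := Lib.Sims3.fan_one hs hQ hcen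
        have h1 : t' = 4 := Nat.pow_right_injective (le_refl 2) (ht'.symm.trans ht)
        omega
      · push Not at hcen
        obtain ⟨c₀, hc₀A, hc₀Z, hc₀1⟩ := hcen
        obtain ⟨c, hcA, hcZ, hc1, hcsq⟩ := Lib.Sims3.exists_central_involution ht hc₀A hc₀1 hc₀Z
        exact Lib.Sims3.case_four hs hQ (by simpa using ht) hcA hcZ hc1 hcsq

end Cfsg.Agent.S3685
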