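import Cfsg.Statements.S3770
import Cfsg.Agent.Lib.HallHigman.FrobRep
import Cfsg.Agent.S0033
import Cfsg.Agent.Lib.Frobenius.Nilpotent

set_option autoImplicit false
open Cfsg
open Cfsg.Agent.Lib.HallHigman Module
open scoped commutatorElement

namespace Cfsg.Agent.S3770

/-- Let G and V be subgroups of a finite group with G a Frobenius group with complement R of prime order and kernel K, G normalizing V, and V an elementary abelian ℓ-group for a prime ℓ not dividing the order of G. If C_V(R) has order ℓ, then the derived subgroup of K centralizes V. -/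
theorem result {X : Type*} [Group X] [Finite X] (G : Subgroup X) (V : Subgroup X) {ℓ : ℕ} (hℓ : ℓ.Prime) (hV : Cfsg.IsElementaryAbelian ℓ V) (hℓG : ¬ ℓ ∣ Nat.card G) (hGV : G ≤ Subgroup.normalizer (V : Set X)) (R : Subgroup ↥G) (hR : Cfsg.IsFrobeniusComplement R) (hRp : (Nat.card R).Prime) (hCV : Nat.card ↥(V ⊓ Subgroup.centralizer ((R.map G.subtype : Subgroup X) : Set X)) = ℓ) : ⁅Subgroup.closure (Subtype.val '' Cfsg.frobeniusKernel R), Subgroup.closure (Subtype.val '' Cfsg.frobeniusKernel R)⁆ ≤ Subgroup.centralizer (V : Set X) := by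
  classical
    haveI hℓf : Fact ℓ.Prime := ⟨hℓ⟩
    set r := Nat.card R with hrdef
    obtain ⟨x, hxR, hord, hzx⟩ := FixedPoints.exists_generator_of_prime hRp rfl
    obtain ⟨W, i1, i2, i3, ρ, ι, hadd, hbij, hact⟩ :=
      Section.exists_module_of_normalizer (p := ℓ) V G hV.1 hV.2 hGV
    obtain ⟨N, hNcoe, hNn, hnil⟩ := Cfsg.Agent.Lib.Frobenius.Nilpotent.kernel_nilpotent_of
      (fun Y _ _ φ h p hp hord => Cfsg.Agent.S0033.result φ h p hp hord) hR
    have hx1 : x ≠ 1 := by
      intro h
      rw [h, orderOf_one] at hord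
      exact hRp.one_lt.ne hord
    have hfpf : ∀ g ∈ N, x * g * x⁻¹ = g → g = 1 := by
      intro g hg hgx
      have h1 : g ∈ Cfsg.frobeniusKernel R := by
        rw [← hNcoe]
        exact hg
      exact Cfsg.Agent.Lib.Frobenius.Conjugacy.eq_one_of_mem_kernel_of_conj_eq hR
        ((Cfsg.Agent.Lib.Frobenius.Theorem.mem_kernel_iff hR).mpr h1) hxR hx1 hgx
    have hxn : x ∈ Subgroup.normalizer (N : Set G) := by
      rw [Subgroup.normalizer_eq_top]
      trivial
    have hchar : ((Nat.card N : ℕ) : ZMod ℓ) ≠ 0 := by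
      intro h
      rw [ZMod.natCast_eq_zero_iff] at h
      apply hℓG
      have h1 : Nat.card N ∣ Nat.card G := Subgroup.card_dvd_of_le le_top |>.trans (by simp)
      exact h.trans h1
    have hfix : finrank (ZMod ℓ) (LinearMap.ker (ρ x - 1 : End (ZMod ℓ) W)) ≤ 1 := by
      let e := Equiv.ofBijective ι hbij
      have hkmem : ∀ w : LinearMap.ker (ρ x - 1 : End (ZMod ℓ) W),
          (e.symm w.1).1 ∈ V ⊓ Subgroup.centralizer ((R.map G.subtype : Subgroup X) : Set X) := by
        intro w
        set v := e.symm w.1 with hv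
        have hι : ι v = w.1 := by
          have := e.apply_symm_apply w.1
          exact this
        have hm : x.1 * v.1 * x.1⁻¹ ∈ V := (Subgroup.mem_normalizer_iff.mp (hGV x.2) v.1).mp v.2
        have h1 := hact x v ⟨_, hm⟩ rfl
        have hw : (ρ x) w.1 = w.1 := by
          have h2 : (ρ x - 1 : End (ZMod ℓ) W) w.1 = 0 := LinearMap.mem_ker.mp w.2
          rw [LinearMap.sub_apply, Module.End.one_apply, sub_eq_zero] at h2
          exact h2
        rw [hι, hw, ← hι] at h1
        have h2 : v.1 = x.1 * v.1 * x.1⁻¹ := congrArg Subtype.val (hbij.1 h1)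
        have h3 : x.1 * v.1 = v.1 * x.1 := by
          calc x.1 * v.1 = x.1 * v.1 * x.1⁻¹ * x.1 := by group
            _ = v.1 * x.1 := by rw [← h2]
        refine ⟨v.2, ?_⟩
        apply Subgroup.mem_centralizer_iff.mpr
        rintro _ ⟨z, hz, rfl⟩
        rw [← hzx] at hz
        obtain ⟨k, rfl⟩ := Subgroup.mem_zpowers_iff.mp hz
        have h5 : Commute x.1 v.1 := h3
        have h6 := (h5.zpow_left k).eq
        simpa using h6
      let f : LinearMap.ker (ρ x - 1 : End (ZMod ℓ) W) →
          (V ⊓ Subgroup.centralizer ((R.map G.subtype : Subgroup X) : Set X) : Subgroup X) :=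
        fun w => ⟨(e.symm w.1).1, hkmem w⟩
      have hf : Function.Injective f := by
        intro a b hab
        apply Subtype.ext
        apply e.symm.injective
        apply Subtype.ext
        have : (f a).1 = (f b).1 := congrArg Subtype.val hab
        exact this
      have hcard := Nat.card_le_card_of_injective f hf
      rw [hCV, Module.natCard_eq_pow_finrank (K := ZMod ℓ), Nat.card_zmod] at hcard
      by_contra hlt
      push Not at hlt
      have h7 : ℓ ^ 2 ≤ ℓ ^ finrank (ZMod ℓ) (LinearMap.ker (ρ x - 1 : End (ZMod ℓ) W)) :=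
        Nat.pow_le_pow_right hℓ.pos hlt
      have h8 := hℓ.two_le
      nlinarith
    have hmain := FrobRep.derived_trivial_of_fixed_dim hRp ρ hord N hxn hnil hfpf hchar hfix
    have hcl : Subgroup.closure (Subtype.val '' Cfsg.frobeniusKernel R) = N.map G.subtype := by
      rw [← hNcoe]
      have : (Subtype.val '' (N : Set G) : Set X) = ((N.map G.subtype : Subgroup X) : Set X) := by
        rw [Subgroup.coe_map]
        rfl
      rw [this, Subgroup.closure_eq]
    rw [hcl, ← Subgroup.map_commutator]
    rintro _ ⟨g, hg, rfl⟩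
    have hρg := hmain g hg
    rw [SetLike.mem_coe] at hg
    apply Subgroup.mem_centralizer_iff.mpr
    intro v hv
    have hm : g.1 * v * g.1⁻¹ ∈ V := (Subgroup.mem_normalizer_iff.mp (hGV g.2) v).mp hv
    have h1 := hact g ⟨v, hv⟩ ⟨_, hm⟩ rfl
    rw [hρg, Module.End.one_apply] at h1
    have h2 : v = g.1 * v * g.1⁻¹ := congrArg Subtype.val (hbij.1 h1)
    change v * g.1 = g.1 * v
    calc v * g.1 = g.1 * v * g.1⁻¹ * g.1 := by rw [← h2]
      _ = g.1 * v := by group

end Cfsg.Agent.S3770
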