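import Cfsg.Statements.S3806
import Mathlib
import Cfsg.Agent.Lib.PGroups.MaximalClass
import Cfsg.Agent.Lib.FG7.HallPetrescu
-- import your own Cfsg.Agent.* helpers here

set_option autoImplicit false
open Cfsg

namespace Cfsg.Agent.S3806

section Aux

open Subgroup
open scoped commutatorElement
open Cfsg.Agent.Lib.PGroups.LowerCentral

/-- Shorthand for the lower central series. -/
abbrev LC (G : Type*) [Group G] (i : ℕ) : Subgroup G := (⊤ : Subgroup G).lowerCentralSeries i

variable {G : Type*} [Group G]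

theorem comm_mem {i : ℕ} {x : G} (hx : x ∈ LC G i) (g : G) : ⁅x, g⁆ ∈ LC G (i + 1) := by
  show _ ∈ (⊤ : Subgroup G).lowerCentralSeries (i + 1)
  rw [Subgroup.lowerCentralSeries_succ]
  exact Subgroup.commutator_mem_commutator hx (mem_top g)

theorem comm_mem' {i : ℕ} {x : G} (hx : x ∈ LC G i) (g : G) : ⁅g, x⁆ ∈ LC G (i + 1) := by
  rw [← commutatorElement_inv]
  exact inv_mem (comm_mem hx g)

theorem LC_anti {i j : ℕ} (h : i ≤ j) : LC G j ≤ LC G i :=
  Subgroup.lowerCentralSeries_antitone _ h

theorem lcs_closure_le (a b : G) (s : ℕ) (hab : ⁅a, b⁆ ∈ LC G s) (i : ℕ) :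
    ∀ x ∈ (⊤ : Subgroup (closure ({a, b} : Set G))).lowerCentralSeries (i + 1), (x : G) ∈ LC G (s + i) := by
  induction i with
  | zero =>
    intro x hx
    rw [Subgroup.top_lowerCentralSeries_one] at hx
    have key : commutator (closure ({a, b} : Set G)) ≤ (LC G s).comap (closure ({a, b} : Set G)).subtype := by
      rw [commutator_def, Subgroup.commutator_le]
      intro y _ z _
      rw [mem_comap]
      -- the image is commutative
      let f := QuotientGroup.mk' (LC G s)
      have hab' : f a * f b = f b * f a := by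
        have h1 : f ⁅a, b⁆ = 1 := (QuotientGroup.eq_one_iff _).mpr hab
        rw [commutatorElement_def, map_mul, map_mul, map_mul, map_inv, map_inv] at h1
        have h2 : f a * f b = (f a * f b * (f a)⁻¹ * (f b)⁻¹) * (f b * f a) := by group
        rw [h2, h1, one_mul]
      have hcomm : ∀ u ∈ ({f a, f b} : Set (G ⧸ LC G s)), ∀ v ∈ ({f a, f b} : Set (G ⧸ LC G s)), u * v = v * u := by
        rintro u (rfl | rfl) v (rfl | rfl)
        · rfl
        · exact hab'
        · exact hab'.symm
        · rfl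
      have hc := Subgroup.isMulCommutative_closure hcomm
      have hle : ∀ w ∈ closure ({a, b} : Set G), f w ∈ closure ({f a, f b} : Set (G ⧸ LC G s)) := by
        intro w hw
        have h3 : (closure ({a, b} : Set G)).map f ≤ closure ({f a, f b} : Set (G ⧸ LC G s)) := by
          rw [MonoidHom.map_closure, closure_le]
          rintro _ ⟨c, (rfl | rfl), rfl⟩
          · exact subset_closure (Or.inl rfl)
          · exact subset_closure (Or.inr rfl)
        exact h3 ⟨w, hw, rfl⟩
      have h4 : f (y : G) * f (z : G) = f (z : G) * f (y : G) := by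
        have := mul_comm' (⟨f y, hle y y.2⟩ : closure ({f a, f b} : Set (G ⧸ LC G s))) ⟨f z, hle z z.2⟩
        exact congrArg Subtype.val this
      show ⁅(y : G), (z : G)⁆ ∈ LC G s
      rw [← QuotientGroup.eq_one_iff, commutatorElement_def]
      show f ((y : G) * z * (y : G)⁻¹ * (z : G)⁻¹) = 1
      rw [map_mul, map_mul, map_mul, map_inv, map_inv, h4]
      group
    exact key hx
  | succ i ih =>
    intro x hx
    rw [Subgroup.lowerCentralSeries_succ] at hx
    have key : ⁅(⊤ : Subgroup (closure ({a, b} : Set G))).lowerCentralSeries (i + 1), (⊤ : Subgroup (closure ({a, b} : Set G)))⁆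
        ≤ (LC G (s + (i + 1))).comap (closure ({a, b} : Set G)).subtype := by
      rw [Subgroup.commutator_le]
      intro y hy z _
      rw [mem_comap]
      show ⁅(y : G), (z : G)⁆ ∈ _
      exact comm_mem (ih y hy) _
    exact key hx

variable [Finite G] {p : ℕ} [hp : Fact p.Prime]

/-- A consequence of the Hall-Petrescu formula. -/
theorem mul_pow_mod (hG : IsPGroup p G) {M : Subgroup G} [M.Normal] {a b : G} {s : ℕ}
    (hab : ⁅a, b⁆ ∈ LC G s) (he : ∀ e ∈ LC G s, e ^ p ∈ M) (hlow : LC G (s + p - 2) ≤ M) :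
    ∃ w ∈ M, (a * b) ^ p = a ^ p * b ^ p * w := by
  classical
  have hpp := hp.out
  let H := closure ({a, b} : Set G)
  have hHp : IsPGroup p H := hG.to_subgroup H
  have hnil := hHp.isNilpotent
  obtain ⟨N, hN⟩ := (Subgroup.nilpotent_iff_lowerCentralSeries (G := H)).mp inferInstance
  have hbot : Cfsg.Agent.Lib.FG7.HallPetrescu.lcsF H (N + 2) = ⊥ := by
    show (⊤ : Subgroup H).lowerCentralSeries (N + 1) = ⊥
    rw [eq_bot_iff, ← hN]
    exact Subgroup.lowerCentralSeries_antitone _ (Nat.le_succ N)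
  let a' : H := ⟨a, subset_closure (Or.inl rfl)⟩
  let b' : H := ⟨b, subset_closure (Or.inr rfl)⟩
  obtain ⟨u, hu, hu0, hu1, hT⟩ := Cfsg.Agent.Lib.FG7.HallPetrescu.hall_petrescu a' b' (by omega : 2 ≤ N + 2) hbot
  have hlevel : ∀ i, ((u (i + 2) : H) : G) ∈ LC G (s + i) := by
    intro i
    exact lcs_closure_le a b s hab i _ (hu (i + 2))
  have hmem : ∀ r, ((Cfsg.Agent.Lib.FG7.HallPetrescu.T u r p : H) : G) ∈ M := by
    intro r
    induction r with
    | zero =>
      simp [Cfsg.Agent.Lib.FG7.HallPetrescu.T]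
    | succ r ih =>
      simp only [Cfsg.Agent.Lib.FG7.HallPetrescu.T]
      rw [Subgroup.coe_mul]
      refine M.mul_mem ih ?_
      rw [Subgroup.coe_pow]
      match r, ih with
      | 0, _ => simp [hu0]
      | 1, _ => simp [hu1]
      | (i + 2), _ =>
        rcases lt_trichotomy (i + 2) p with hlt | heq | hgt
        · obtain ⟨t, ht⟩ := hpp.dvd_choose_self (by omega) hlt
          rw [ht, pow_mul]
          refine M.pow_mem ?_ t
          exact he _ (LC_anti (by omega) (hlevel i))
        · rw [heq, Nat.choose_self, pow_one, ← heq]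
          apply hlow
          have h2 : s + p - 2 = s + i := by omega
          rw [h2]
          exact hlevel i
        · rw [Nat.choose_eq_zero_of_lt hgt, pow_zero]
          exact M.one_mem
  refine ⟨_, hmem (N + 2), ?_⟩
  have h1 := congrArg (Subtype.val) (hT p)
  simpa [a', b'] using h1

/-- The subgroup of elements of `L_i` with `p`-th power in `M`. -/
def WSub (hG : IsPGroup p G) (i : ℕ) (M : Subgroup G) [M.Normal]
    (he : ∀ e ∈ LC G (i + 1), e ^ p ∈ M) (hlow : LC G (i + p - 1) ≤ M) : Subgroup G where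
  carrier := {a | a ∈ LC G i ∧ a ^ p ∈ M}
  mul_mem' := by
    rintro a b ⟨ha, ha'⟩ ⟨hb, hb'⟩
    refine ⟨mul_mem ha hb, ?_⟩
    have hpp := hp.out.two_le
    have h3 : i + 1 + p - 2 = i + p - 1 := by omega
    obtain ⟨w, hw, h⟩ := mul_pow_mod hG (M := M) (a := a) (b := b) (s := i + 1) (comm_mem ha b) he
      (by rw [h3]; exact hlow)
    rw [h]
    exact M.mul_mem (M.mul_mem ha' hb') hw
  one_mem' := ⟨one_mem _, by simp⟩
  inv_mem' := by
    rintro a ⟨ha, ha'⟩
    refine ⟨inv_mem ha, ?_⟩
    rw [inv_pow]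
    exact inv_mem ha'

theorem step_ge_two (hG : IsPGroup p G) {m i : ℕ} (hQ : ∀ c ∈ LC G i, c ^ p ∈ LC G m)
    (he : ∀ e ∈ LC G (i + 2), e ^ p ∈ LC G (m + 1)) (hlow : LC G (i + 1 + p - 1) ≤ LC G (m + 1)) :
    ∀ a ∈ LC G (i + 1), a ^ p ∈ LC G (m + 1) := by
  have hpp := hp.out.two_le
  let W := WSub hG (i + 1) (LC G (m + 1)) he hlow
  have hle : LC G (i + 1) ≤ W := by
    show (⊤ : Subgroup G).lowerCentralSeries (i + 1) ≤ W
    rw [Subgroup.lowerCentralSeries_succ, Subgroup.commutator_le]
    intro c hc g _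
    refine ⟨comm_mem hc g, ?_⟩
    -- the conjugation computation
    let d := ⁅g, c⁆
    have hd : d ∈ LC G (i + 1) := comm_mem' hc g
    have h3 : i + 2 + p - 2 = i + 1 + p - 1 := by omega
    obtain ⟨w, hw, h⟩ := mul_pow_mod hG (M := LC G (m + 1)) (a := d) (b := c) (s := i + 2) (comm_mem hd c) he
      (by rw [h3]; exact hlow)
    have h1 : d * c = g * c * g⁻¹ := by
      show ⁅g, c⁆ * c = _
      rw [commutatorElement_def]
      group
    rw [h1, conj_pow] at h
    have hz := hQ c hc
    have h2 : ⁅g, c ^ p⁆ ∈ LC G (m + 1) := comm_mem' hz g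
    have h4 : d ^ p = ⁅g, c ^ p⁆ * (c ^ p * w⁻¹ * (c ^ p)⁻¹) := by
      have h5 : g * c ^ p * g⁻¹ = ⁅g, c ^ p⁆ * c ^ p := by
        rw [commutatorElement_def]
        group
      rw [h5] at h
      have h6 : d ^ p = (d ^ p * c ^ p * w) * (c ^ p * w)⁻¹ := by group
      rw [h6, ← h]
      group
    have h7 : (d⁻¹) ^ p ∈ LC G (m + 1) := by
      rw [inv_pow, h4]
      apply inv_mem
      refine mul_mem h2 ?_
      exact (inferInstance : (LC G (m + 1)).Normal).conj_mem _ (inv_mem hw) _
    have h8 : ⁅c, g⁆ = d⁻¹ := by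
      show _ = ⁅g, c⁆⁻¹
      rw [commutatorElement_inv]
    rw [h8]
    exact h7
  intro a ha
  exact (hle ha).2

section MC

variable (hG : IsPGroup p G) {n : ℕ} (hn : 3 ≤ n) (hcard : Nat.card G = p ^ n)
  (hcl : @Group.nilpotencyClass G _ = n - 1)

include hG hn hcard hcl

theorem LC_ne_bot {i : ℕ} (hi : i < n - 1) : LC G i ≠ ⊥ := by
  intro h
  have := hG.isNilpotent
  have := Subgroup.lowerCentralSeries_eq_bot_iff_nilpotencyClass_le.mp h
  omega

theorem LC_bot : LC G (n - 1) = ⊥ := by
  have := hG.isNilpotent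
  exact Subgroup.lowerCentralSeries_eq_bot_iff_nilpotencyClass_le.mpr (le_of_eq hcl)

theorem LC_strict {i : ℕ} (hi : i < n - 1) : LC G (i + 1) < LC G i := by
  have := hG.isNilpotent
  have h := commutator_top_lt (LC G i) (LC_ne_bot hG hn hcard hcl hi)
  show (⊤ : Subgroup G).lowerCentralSeries (i + 1) < _
  rw [Subgroup.lowerCentralSeries_succ]
  exact h

theorem LC_card {i : ℕ} (h1 : 1 ≤ i) (hi : i ≤ n - 1) : Nat.card (LC G i) = p ^ (n - 1 - i) := by
  have hpp := hp.out
  induction i, h1 using Nat.le_induction with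
  | base =>
    have h2 := index_commutator_of_maximal_class hG hn hcard hcl
    have h3 := card_mul_index (commutator G)
    rw [h2, hcard] at h3
    have h4 : Nat.card (LC G 1) = Nat.card (commutator G) := by
      show Nat.card ((⊤ : Subgroup G).lowerCentralSeries 1) = _
      rw [Subgroup.top_lowerCentralSeries_one]
    rw [h4]
    have h5 : p ^ n = p ^ (n - 1 - 1) * p ^ 2 := by
      rw [← pow_add]
      congr 1
      omega
    rw [h5] at h3
    exact Nat.eq_of_mul_eq_mul_right (pow_pos hpp.pos 2) h3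
  | succ i h1 ih =>
    have ih' := ih (by omega)
    have hlt := LC_strict hG hn hcard hcl (i := i) (by omega)
    have h2 := mul_card_le_of_lt hG hlt
    rw [ih'] at h2
    have h3 : n - 1 - i = (n - 1 - (i + 1)) + 1 := by omega
    rw [h3, pow_succ', ] at h2
    have h4 : Nat.card (LC G (i + 1)) ≤ p ^ (n - 1 - (i + 1)) := Nat.le_of_mul_le_mul_left h2 hpp.pos
    have h5 := pow_le_card_lowerCentralSeries hG (n - 1 - (i + 1)) (by omega)
    rw [hcl, show n - 1 - (n - 1 - (i + 1)) = i + 1 by omega] at h5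
    exact le_antisymm h4 h5

theorem LC_sup {i : ℕ} (h1 : 1 ≤ i) (hi : i < n - 1) {a : G} (ha : a ∈ LC G i) (ha' : a ∉ LC G (i + 1)) :
    closure ({a} : Set G) ⊔ LC G (i + 1) = LC G i := by
  have hle : closure ({a} : Set G) ⊔ LC G (i + 1) ≤ LC G i :=
    sup_le (by rw [closure_le]; simpa using ha) (LC_anti (Nat.le_succ i))
  apply Subgroup.eq_of_le_of_card_ge hle
  rw [LC_card hG hn hcard hcl h1 (by omega)]
  have hlt : LC G (i + 1) < closure ({a} : Set G) ⊔ LC G (i + 1) := by
    refine lt_of_le_of_ne le_sup_right ?_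
    intro h
    apply ha'
    rw [h]
    exact mem_sup_left (subset_closure rfl)
  have h2 := mul_card_le_of_lt hG hlt
  rw [LC_card hG hn hcard hcl (by omega) (by omega), ← pow_succ'] at h2
  rwa [show n - 1 - (i + 1) + 1 = n - 1 - i by omega] at h2

theorem not_cyclic_top (g : G) : closure ({g} : Set G) ⊔ LC G 1 ≠ ⊤ := by
  intro h
  have hne : ¬ IsCyclic G := by
    intro hcyc
    have hcomm : IsMulCommutative G := IsCyclic.isMulCommutative
    have : @Group.nilpotencyClass G _ ≤ 1 := by
      let _ : CommGroup G := { (inferInstance : Group G) with mul_comm := hcomm.is_comm.comm }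
      exact CommGroup.nilpotencyClass_le_one
    omega
  apply hne
  apply Cfsg.Agent.Lib.PGroups.MaximalClass.isCyclic_of_isCyclic_abelianization hG
  refine ⟨⟨(g : G ⧸ commutator G), ?_⟩⟩
  intro x
  obtain ⟨y, rfl⟩ := QuotientGroup.mk_surjective x
  have h2 : LC G 1 = commutator G := Subgroup.top_lowerCentralSeries_one
  have hle : closure ({g} : Set G) ⊔ LC G 1 ≤ (zpowers (g : G ⧸ commutator G)).comap (QuotientGroup.mk' (commutator G)) := by
    refine sup_le ?_ ?_
    · rw [closure_le]
      rintro _ rfl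
      exact mem_zpowers _
    · intro l hl
      rw [h2] at hl
      show ((l : G) : G ⧸ commutator G) ∈ zpowers (g : G ⧸ commutator G)
      rw [(QuotientGroup.eq_one_iff l).mpr hl]
      exact one_mem _
  rw [h] at hle
  exact hle (mem_top y)

theorem pow_mem_LC_one (g : G) : g ^ p ∈ LC G 1 := by
  have hpp := hp.out
  have h2 : LC G 1 = commutator G := Subgroup.top_lowerCentralSeries_one
  rw [h2, ← QuotientGroup.eq_one_iff, QuotientGroup.mk_pow]
  have hc : Nat.card (G ⧸ commutator G) = p ^ 2 := by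
    rw [← index_eq_card]
    exact index_commutator_of_maximal_class hG hn hcard hcl
  have hd : orderOf (g : G ⧸ commutator G) ∣ p ^ 2 := by
    rw [← hc]
    exact orderOf_dvd_natCard _
  obtain ⟨j, hj, hj'⟩ := (Nat.dvd_prime_pow hpp).mp hd
  by_cases hj2 : j = 2
  · exfalso
    subst hj2
    apply not_cyclic_top hG hn hcard hcl g
    rw [eq_top_iff]
    intro y _
    have hcyc : zpowers (g : G ⧸ commutator G) = ⊤ := by
      apply Subgroup.eq_top_of_card_eq
      rw [Nat.card_zpowers, hj', hc]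
    have hy : (y : G ⧸ commutator G) ∈ zpowers (g : G ⧸ commutator G) := by
      rw [hcyc]
      exact mem_top _
    obtain ⟨k, hk⟩ := mem_zpowers_iff.mp hy
    have h3 : (g ^ k)⁻¹ * y ∈ commutator G := by
      rw [← QuotientGroup.eq_one_iff, QuotientGroup.mk_mul, QuotientGroup.mk_inv,
        QuotientGroup.mk_zpow, hk, inv_mul_cancel]
    have hg : g ∈ closure ({g} : Set G) := subset_closure (Set.mem_singleton g)
    have h4 : y = g ^ k * ((g ^ k)⁻¹ * y) := by group
    have h6 : g ^ k ∈ closure ({g} : Set G) ⊔ LC G 1 := mem_sup_left (zpow_mem hg k)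
    have h7 : (g ^ k)⁻¹ * y ∈ closure ({g} : Set G) ⊔ LC G 1 := mem_sup_right (by rw [h2]; exact h3)
    rw [h4]
    exact mul_mem h6 h7
  · have hj3 : j ≤ 1 := by omega
    have : orderOf (g : G ⧸ commutator G) ∣ p := by
      rw [hj']
      simpa using pow_dvd_pow p hj3
    exact orderOf_dvd_iff_pow_eq_one.mp this

/-- Two elements independent modulo `L₁` do not commute modulo `L₂`. -/
theorem comm_not_mem_two {u x : G} (hu : u ∉ LC G 1) (hx : x ∉ closure ({u} : Set G) ⊔ LC G 1) :
    ⁅x, u⁆ ∉ LC G 2 := by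
  intro hc
  have hpp := hp.out
  classical
  -- the generated subgroup is everything
  let A := closure ({u} : Set G) ⊔ LC G 1
  let B := closure ({x} : Set G) ⊔ A
  have h1 : LC G 1 < A := by
    refine lt_of_le_of_ne le_sup_right ?_
    intro h
    apply hu
    rw [h]
    exact mem_sup_left (subset_closure rfl)
  have h2 : A < B := by
    refine lt_of_le_of_ne le_sup_right ?_
    intro h
    apply hx
    show x ∈ A
    rw [h]
    exact mem_sup_left (subset_closure rfl)
  have h3 := mul_card_le_of_lt hG h1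
  have h4 := mul_card_le_of_lt hG h2
  have h5 : Nat.card B = Nat.card G := by
    apply le_antisymm (Subgroup.card_le_card_group B)
    rw [hcard]
    rw [LC_card hG hn hcard hcl (le_refl 1) (by omega)] at h3
    have h6 : p ^ n = p * (p * p ^ (n - 1 - 1)) := by
      rw [← pow_succ', ← pow_succ']
      congr 1
      omega
    rw [h6]
    exact le_trans (Nat.mul_le_mul_left p h3) h4
  have hB : B = ⊤ := Subgroup.eq_top_of_card_eq _ h5
  -- commutativity modulo `L₂`
  let f := QuotientGroup.mk' (LC G 2)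
  have hcentral : ∀ l ∈ LC G 1, ∀ t : G, f l * f t = f t * f l := by
    intro l hl t
    have h7 : ⁅l, t⁆ ∈ LC G 2 := comm_mem hl t
    have h8 : f ⁅l, t⁆ = 1 := (QuotientGroup.eq_one_iff _).mpr h7
    rw [commutatorElement_def, map_mul, map_mul, map_mul, map_inv, map_inv] at h8
    have h9 : f l * f t = (f l * f t * (f l)⁻¹ * (f t)⁻¹) * (f t * f l) := by group
    rw [h9, h8, one_mul]
  have hxu : f x * f u = f u * f x := by
    have h8 : f ⁅x, u⁆ = 1 := (QuotientGroup.eq_one_iff _).mpr hc
    rw [commutatorElement_def, map_mul, map_mul, map_mul, map_inv, map_inv] at h8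
    have h9 : f x * f u = (f x * f u * (f x)⁻¹ * (f u)⁻¹) * (f u * f x) := by group
    rw [h9, h8, one_mul]
  let S : Set (G ⧸ LC G 2) := {f x, f u} ∪ f '' (LC G 1)
  have hS : ∀ a ∈ S, ∀ b ∈ S, a * b = b * a := by
    rintro a (ha | ⟨l, hl, rfl⟩) b (hb | ⟨l', hl', rfl⟩)
    · rcases ha with rfl | rfl <;> rcases hb with rfl | rfl
      · rfl
      · exact hxu
      · exact hxu.symm
      · rfl
    · rcases ha with rfl | rfl
      · exact (hcentral l' hl' x).symm
      · exact (hcentral l' hl' u).symm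
    · rcases hb with rfl | rfl
      · exact hcentral l hl x
      · exact hcentral l hl u
    · exact hcentral l hl l'
  have hcS := Subgroup.isMulCommutative_closure hS
  have hmem : ∀ g : G, f g ∈ closure S := by
    intro g
    have h10 : g ∈ B := by rw [hB]; exact mem_top g
    have h11 : B.map f ≤ closure S := by
      rintro _ ⟨y, hy, rfl⟩
      show f y ∈ closure S
      have h12 : B ≤ (closure S).comap f := by
        refine sup_le ?_ (sup_le ?_ ?_)
        · rw [closure_le]
          rintro _ rfl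
          exact subset_closure (Or.inl (Or.inl rfl))
        · rw [closure_le]
          rintro _ rfl
          exact subset_closure (Or.inl (Or.inr rfl))
        · intro l hl
          exact subset_closure (Or.inr ⟨l, hl, rfl⟩)
      exact h12 hy
    exact h11 ⟨g, h10, rfl⟩
  have hall : ∀ g h : G, f g * f h = f h * f g := by
    intro g h
    have := mul_comm' (⟨f g, hmem g⟩ : closure S) ⟨f h, hmem h⟩
    exact congrArg Subtype.val this
  have hle : LC G 1 ≤ LC G 2 := by
    show (⊤ : Subgroup G).lowerCentralSeries 1 ≤ _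
    rw [Subgroup.top_lowerCentralSeries_one, commutator_def, Subgroup.commutator_le]
    intro g _ h _
    rw [← QuotientGroup.eq_one_iff, commutatorElement_def]
    show f (g * h * g⁻¹ * h⁻¹) = 1
    rw [map_mul, map_mul, map_mul, map_inv, map_inv, hall g h]
    group
  have hlt := LC_strict hG hn hcard hcl (i := 1) (by omega)
  exact absurd hle (not_le_of_gt hlt)

/-- Elements central modulo `L_m` lie in `L_{m-1}`. -/
theorem mem_of_central_mod {m : ℕ} (hm : 2 ≤ m) (hmc : m + 1 ≤ n - 1 + 1) {b : G} (hb : ∀ t : G, ⁅t, b⁆ ∈ LC G m) :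
    ∀ j, j + 1 ≤ m → b ∈ LC G j := by
  intro j
  induction j with
  | zero =>
    intro _
    exact mem_top b
  | succ j ih =>
    intro hj
    have hbj := ih (by omega)
    by_contra hbn
    by_cases hj0 : j = 0
    · subst hj0
      obtain ⟨x, hx⟩ : ∃ x, x ∉ closure ({b} : Set G) ⊔ LC G 1 := by
        by_contra hcon
        push Not at hcon
        exact not_cyclic_top hG hn hcard hcl b (eq_top_iff.mpr (fun y _ => hcon y))
      exact comm_not_mem_two hG hn hcard hcl hbn hx (LC_anti hm (hb x))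
    · have hj1 : 1 ≤ j := by omega
      have hsup := LC_sup hG hn hcard hcl hj1 (by omega) hbj hbn
      let f := QuotientGroup.mk' (LC G (j + 2))
      let Cz : Subgroup G := (center (G ⧸ LC G (j + 2))).comap f
      have hle : LC G j ≤ Cz := by
        rw [← hsup]
        refine sup_le ?_ ?_
        · rw [closure_le]
          intro z hz
          have hz' : z = b := hz
          rw [hz']
          show f b ∈ center _
          rw [mem_center_iff]
          intro y
          obtain ⟨t, rfl⟩ := QuotientGroup.mk'_surjective (LC G (j + 2)) y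
          have h1 : ⁅t, b⁆ ∈ LC G (j + 2) := LC_anti (by omega) (hb t)
          have h2 : f ⁅t, b⁆ = 1 := (QuotientGroup.eq_one_iff _).mpr h1
          rw [commutatorElement_def, map_mul, map_mul, map_mul, map_inv, map_inv] at h2
          show f t * f b = f b * f t
          have h3 : f t * f b = (f t * f b * (f t)⁻¹ * (f b)⁻¹) * (f b * f t) := by group
          rw [h3, h2, one_mul]
        · intro l hl
          show f _ ∈ center _
          rw [mem_center_iff]
          intro y
          obtain ⟨t, rfl⟩ := QuotientGroup.mk'_surjective (LC G (j + 2)) y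
          have h1 : ⁅t, l⁆ ∈ LC G (j + 2) := comm_mem' hl t
          have h2 : f ⁅t, l⁆ = 1 := (QuotientGroup.eq_one_iff _).mpr h1
          rw [commutatorElement_def, map_mul, map_mul, map_mul, map_inv, map_inv] at h2
          show f t * f l = f l * f t
          have h3 : f t * f l = (f t * f l * (f t)⁻¹ * (f l)⁻¹) * (f l * f t) := by group
          rw [h3, h2, one_mul]
      have hle2 : LC G (j + 1) ≤ LC G (j + 2) := by
        show (⊤ : Subgroup G).lowerCentralSeries (j + 1) ≤ _
        rw [Subgroup.lowerCentralSeries_succ, Subgroup.commutator_le]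
        intro y hy t _
        have hyC : f y ∈ center _ := hle hy
        rw [← QuotientGroup.eq_one_iff, commutatorElement_def]
        show f (y * t * y⁻¹ * t⁻¹) = 1
        have h4 := (mem_center_iff.mp hyC (f t)).symm
        rw [map_mul, map_mul, map_mul, map_inv, map_inv, h4]
        group
      have hlt := LC_strict hG hn hcard hcl (i := j + 1) (by omega)
      exact absurd hle2 (not_le_of_gt hlt)

/-- The base case `i = 1` of the power computation. -/
theorem base_step {m : ℕ} (hm1 : 1 ≤ m) (hmp : m + 1 ≤ p) (hQ : ∀ a ∈ LC G 1, a ^ p ∈ LC G m)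
    (he : ∀ e ∈ LC G 2, e ^ p ∈ LC G (m + 1)) : ∀ a ∈ LC G 1, a ^ p ∈ LC G (m + 1) := by
  have hpp := hp.out
  by_cases hLm : LC G m = ⊥
  · intro a ha
    have h1 := hQ a ha
    rw [hLm, mem_bot] at h1
    rw [h1]
    exact one_mem _
  have hmc : m < n - 1 := by
    by_contra hcon
    apply hLm
    rw [eq_bot_iff, ← LC_bot hG hn hcard hcl]
    exact LC_anti (by omega)
  -- `p`-th powers modulo `L_m`
  have hS1 : ∀ g h : G, ∃ w ∈ LC G m, (g * h) ^ p = g ^ p * h ^ p * w := by
    intro g h
    have h3 : LC G (1 + p - 2) ≤ LC G m := LC_anti (by omega)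
    exact mul_pow_mod hG (M := LC G m) (a := g) (b := h) (s := 1)
      (comm_mem (i := 0) (mem_top g) h) hQ h3
  have hS2 : ∀ g t : G, ⁅t, g ^ p⁆ ∈ LC G m := by
    intro g t
    obtain ⟨w, hw, h⟩ := hS1 ⁅t, g⁆ g
    have h1 : ⁅t, g⁆ * g = t * g * t⁻¹ := by
      rw [commutatorElement_def]
      group
    rw [h1, conj_pow] at h
    have h2 : ⁅t, g⁆ ^ p ∈ LC G m := hQ _ (comm_mem' (i := 0) (mem_top g) t)
    have h3 : ⁅t, g ^ p⁆ = ⁅t, g⁆ ^ p * (g ^ p * w * (g ^ p)⁻¹) := by
      have h4 : ⁅t, g ^ p⁆ = (t * g ^ p * t⁻¹) * (g ^ p)⁻¹ := by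
        rw [commutatorElement_def]
      rw [h4, h]
      group
    rw [h3]
    exact mul_mem h2 ((inferInstance : (LC G m).Normal).conj_mem _ hw _)
  -- an element outside `L₁` with `p`-th power in `L_m`
  have hS4 : ∃ u, u ∉ LC G 1 ∧ u ^ p ∈ LC G m := by
    obtain ⟨g₁, hg₁⟩ : ∃ g₁ : G, g₁ ∉ LC G 1 := by
      by_contra hcon
      push Not at hcon
      have h1 : LC G 1 = ⊤ := eq_top_iff.mpr (fun y _ => hcon y)
      have := LC_strict hG hn hcard hcl (i := 0) (by omega)
      have h2 : LC G 0 = ⊤ := rfl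
      rw [h1, h2] at this
      exact lt_irrefl _ this
    by_cases hm2 : m = 1
    · subst hm2
      exact ⟨g₁, hg₁, pow_mem_LC_one hG hn hcard hcl g₁⟩
    have hm2' : 2 ≤ m := by omega
    by_cases h1 : g₁ ^ p ∈ LC G m
    · exact ⟨g₁, hg₁, h1⟩
    obtain ⟨g₂, hg₂⟩ : ∃ x, x ∉ closure ({g₁} : Set G) ⊔ LC G 1 := by
      by_contra hcon
      push Not at hcon
      exact not_cyclic_top hG hn hcard hcl g₁ (eq_top_iff.mpr (fun y _ => hcon y))
    have hL : ∀ g : G, g ^ p ∈ LC G (m - 1) := fun g =>
      mem_of_central_mod hG hn hcard hcl hm2' (by omega) (fun t => hS2 g t) (m - 1) (by omega)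
    have hsup := LC_sup hG hn hcard hcl (i := m - 1) (by omega) (by omega) (hL g₁)
      (by rw [show m - 1 + 1 = m by omega]; exact h1)
    rw [show m - 1 + 1 = m by omega] at hsup
    have hg2 : g₂ ^ p ∈ closure ({g₁ ^ p} : Set G) ⊔ LC G m := by
      rw [hsup]
      exact hL g₂
    -- write `g₂^p` as a power of `g₁^p` modulo `L_m`
    have hle : closure ({g₁ ^ p} : Set G) ⊔ LC G m ≤
        (zpowers ((g₁ ^ p : G) : G ⧸ LC G m)).comap (QuotientGroup.mk' (LC G m)) := by
      refine sup_le ?_ ?_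
      · rw [closure_le]
        intro z hz
        have hz' : z = g₁ ^ p := hz
        rw [hz']
        exact mem_zpowers _
      · intro l hl
        show ((l : G) : G ⧸ LC G m) ∈ zpowers ((g₁ ^ p : G) : G ⧸ LC G m)
        rw [(QuotientGroup.eq_one_iff l).mpr hl]
        exact one_mem _
    obtain ⟨k, hk⟩ := mem_zpowers_iff.mp (hle hg2)
    -- the element
    have hk' : (g₁ ^ p) ^ (-k) * g₂ ^ p ∈ LC G m := by
      rw [← QuotientGroup.eq_one_iff, QuotientGroup.mk_mul, QuotientGroup.mk_zpow]
      have h3 : ((g₂ ^ p : G) : G ⧸ LC G m) = ((g₁ ^ p : G) : G ⧸ LC G m) ^ k := hk.symm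
      rw [h3, zpow_neg, inv_mul_cancel]
    refine ⟨g₁ ^ (-k) * g₂, ?_, ?_⟩
    · intro hu
      apply hg₂
      have h4 : g₂ = g₁ ^ k * (g₁ ^ (-k) * g₂) := by
        rw [zpow_neg]
        group
      rw [h4]
      exact mul_mem (mem_sup_left (zpow_mem (subset_closure (Set.mem_singleton g₁)) k)) (mem_sup_right hu)
    · obtain ⟨w, hw, h⟩ := hS1 (g₁ ^ (-k)) g₂
      rw [h]
      refine mul_mem ?_ hw
      have h5 : (g₁ ^ (-k)) ^ p = (g₁ ^ p) ^ (-k) := by
        rw [← zpow_natCast, ← zpow_natCast, ← zpow_mul, ← zpow_mul, mul_comm]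
      rw [h5]
      exact hk'
  obtain ⟨u, hu, hup⟩ := hS4
  obtain ⟨x, hx⟩ : ∃ x, x ∉ closure ({u} : Set G) ⊔ LC G 1 := by
    by_contra hcon
    push Not at hcon
    exact not_cyclic_top hG hn hcard hcl u (eq_top_iff.mpr (fun y _ => hcon y))
  have hd2 := comm_not_mem_two hG hn hcard hcl hu hx
  have hd1 : ⁅x, u⁆ ∈ LC G 1 := comm_mem' (i := 0) (mem_top u) x
  -- `d^p ∈ L_{m+1}`
  have hdp : ⁅x, u⁆ ^ p ∈ LC G (m + 1) := by
    have h3 : LC G (2 + p - 2) ≤ LC G (m + 1) := LC_anti (by omega)
    obtain ⟨w, hw, h⟩ := mul_pow_mod hG (M := LC G (m + 1)) (a := ⁅x, u⁆) (b := u) (s := 2)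
      (comm_mem hd1 u) he h3
    have h1 : ⁅x, u⁆ * u = x * u * x⁻¹ := by
      rw [commutatorElement_def]
      group
    rw [h1, conj_pow] at h
    have h2 : ⁅x, u ^ p⁆ ∈ LC G (m + 1) := comm_mem' hup x
    have h4 : ⁅x, u⁆ ^ p = ⁅x, u ^ p⁆ * (u ^ p * w⁻¹ * (u ^ p)⁻¹) := by
      have h5 : x * u ^ p * x⁻¹ = ⁅x, u ^ p⁆ * u ^ p := by
        rw [commutatorElement_def]
        group
      rw [h5] at h
      have h6 : ⁅x, u⁆ ^ p = (⁅x, u⁆ ^ p * u ^ p * w) * (u ^ p * w)⁻¹ := by group
      rw [h6, ← h]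
      group
    rw [h4]
    exact mul_mem h2 ((inferInstance : (LC G (m + 1)).Normal).conj_mem _ (inv_mem hw) _)
  -- conclusion
  let W := WSub hG 1 (LC G (m + 1)) he (LC_anti (by omega))
  have hsup := LC_sup hG hn hcard hcl (i := 1) (le_refl 1) (by omega) hd1 hd2
  have hle : LC G 1 ≤ W := by
    rw [← hsup]
    refine sup_le ?_ ?_
    · rw [closure_le]
      intro z hz
      have hz' : z = ⁅x, u⁆ := hz
      rw [hz']
      exact ⟨hd1, hdp⟩
    · intro l hl
      exact ⟨LC_anti (Nat.le_succ 1) hl, he l hl⟩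
  intro a ha
  exact (hle ha).2

/-- The main power formula. -/
theorem pow_level (m : ℕ) : ∀ i, 1 ≤ i → ∀ a ∈ LC G i, a ^ p ∈ LC G (min (i + p - 1) (m + 1)) := by
  have hpp := hp.out
  have hp2 := hpp.two_le
  induction m with
  | zero =>
    intro i hi a ha
    have h1 : min (i + p - 1) (0 + 1) = 1 := by omega
    rw [h1]
    exact pow_mem (LC_anti hi ha) p
  | succ m IH =>
    have hR : ∀ t i, m + 2 ≤ i + t → 1 ≤ i → m + 2 ≤ i + p - 1 → ∀ a ∈ LC G i, a ^ p ∈ LC G (m + 2) := by
      intro t
      induction t with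
      | zero =>
        intro i h1 _ _ a ha
        exact pow_mem (LC_anti (by omega) ha) p
      | succ t IHt =>
        intro i h1 hi h3
        have he := IHt (i + 1) (by omega) (by omega) (by omega)
        obtain ⟨j, rfl⟩ : ∃ j, i = j + 1 := ⟨i - 1, by omega⟩
        by_cases hj : j = 0
        · subst hj
          apply base_step hG hn hcard hcl (m := m + 1) (by omega) (by omega)
          · intro a ha
            have h2 := IH 1 (le_refl 1) a ha
            rwa [show min (1 + p - 1) (m + 1) = m + 1 by omega] at h2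
          · exact he
        · apply step_ge_two hG (m := m + 1) (i := j)
          · intro c hc
            have h2 := IH j (by omega) c hc
            rwa [show min (j + p - 1) (m + 1) = m + 1 by omega] at h2
          · exact he
          · exact LC_anti (by omega)
    intro i hi a ha
    by_cases h1 : i + p - 1 ≤ m + 1
    · have h2 := IH i hi a ha
      rwa [show min (i + p - 1) (m + 1) = i + p - 1 by omega,
        ← show min (i + p - 1) (m + 1 + 1) = i + p - 1 by omega] at h2
    · rw [show min (i + p - 1) (m + 1 + 1) = m + 2 by omega]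
      exact hR (m + 2) i (by omega) hi (by omega) a ha

end MC

/-- An abelian section of exponent `p` is small. -/
theorem card_le_of_section {k : ℕ} {H N : Subgroup G} [N.Normal] (hNH : N ≤ H)
    (hc : ∀ x ∈ H, ∀ y ∈ H, ⁅x, y⁆ ∈ N) (hpow : ∀ x ∈ H, x ^ p ∈ N)
    (hS : Cfsg.SectionalPRankLE p k G) : Nat.card H ≤ Nat.card N * p ^ k := by
  let N' : Subgroup H := N.subgroupOf H
  have hN' : Nat.card N' = Nat.card N := Nat.card_congr (Subgroup.subgroupOfEquivOfLe hNH).toEquiv
  have hcomm : IsMulCommutative (⊤ : Subgroup (H ⧸ N')) := by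
    refine ⟨⟨?_⟩⟩
    rintro ⟨a, -⟩ ⟨b, -⟩
    apply Subtype.ext
    obtain ⟨x, rfl⟩ := QuotientGroup.mk_surjective a
    obtain ⟨y, rfl⟩ := QuotientGroup.mk_surjective b
    show ((x * y : H) : H ⧸ N') = ((y * x : H) : H ⧸ N')
    rw [QuotientGroup.eq]
    show (((x * y)⁻¹ * (y * x) : H) : G) ∈ N
    have h1 := hc (y : G)⁻¹ (H.inv_mem y.2) (x : G)⁻¹ (H.inv_mem x.2)
    rw [commutatorElement_def] at h1
    have h2 : (((x * y)⁻¹ * (y * x) : H) : G) = (y : G)⁻¹ * (x : G)⁻¹ * ((y : G)⁻¹)⁻¹ * ((x : G)⁻¹)⁻¹ := by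
      simp [mul_assoc]
    rw [h2]
    exact h1
  have hexp : ∀ a ∈ (⊤ : Subgroup (H ⧸ N')), a ^ p = 1 := by
    intro a _
    obtain ⟨x, rfl⟩ := QuotientGroup.mk_surjective a
    rw [← QuotientGroup.mk_pow, QuotientGroup.eq_one_iff]
    show ((x ^ p : H) : G) ∈ N
    rw [Subgroup.coe_pow]
    exact hpow x x.2
  have h := hS H N' (⊤ : Subgroup (H ⧸ N')) hcomm hexp
  rw [Subgroup.card_top] at h
  have h3 := Subgroup.card_eq_card_quotient_mul_card_subgroup N'
  rw [h3, hN', mul_comm]
  exact Nat.mul_le_mul_left _ h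

theorem main_aux {S : Type*} [Group S] [Finite S] (p : ℕ) [Fact p.Prime] (hG : IsPGroup p S)
    (n : ℕ) (hn : 2 ≤ n) (hcard : Nat.card S = p ^ n) (hmax : @Group.nilpotencyClass S _ = n - 1)
    (k : ℕ) (hk : 1 ≤ k) (hSec : Cfsg.SectionalPRankLE p k S)
    (hpk : k + 2 ≤ p) : Nat.card S ≤ p ^ (2 * k) := by
  classical
  by_contra hcon
  have hpp := (Fact.out : p.Prime)
  have hn2 : 2 * k < n := by
    by_contra hle
    apply hcon
    rw [hcard]
    exact Nat.pow_le_pow_right hpp.pos (by omega)
  have hn3 : 3 ≤ n := by omega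
  have hcl : @Group.nilpotencyClass S _ = n - 1 := hmax
  rcases Nat.lt_or_ge k 2 with hk2 | hk2
  · have hk1 : k = 1 := by omega
    subst hk1
    have h1 := card_le_of_section (G := S) (p := p) (H := ⊤) (N := LC S 1) (k := 1) le_top
      (fun x _ y _ => comm_mem (i := 0) (Subgroup.mem_top x) y)
      (fun x _ => pow_mem_LC_one hG hn3 hcard hcl x) hSec
    rw [Subgroup.card_top, hcard, LC_card hG hn3 hcard hcl (le_refl 1) (by omega), ← pow_add] at h1
    have h2 := (Nat.pow_le_pow_iff_right hpp.one_lt).mp h1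
    omega
  · have hpw : ∀ a ∈ LC S (k - 1), a ^ p ∈ LC S (2 * k) := by
      intro a ha
      have h1 := pow_level hG hn3 hcard hcl (2 * k - 1) (k - 1) (by omega) a ha
      rwa [show min (k - 1 + p - 1) (2 * k - 1 + 1) = 2 * k by omega] at h1
    obtain ⟨a₀, ha₀, ha₀'⟩ : ∃ a₀ ∈ LC S (k - 1), a₀ ∉ LC S (k - 1 + 1) := by
      have hlt := LC_strict hG hn3 hcard hcl (i := k - 1) (by omega)
      exact Set.exists_of_ssubset hlt
    have hsup := LC_sup hG hn3 hcard hcl (i := k - 1) (by omega) (by omega) ha₀ ha₀'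
    have hk' : k - 1 + 1 = k := by omega
    rw [hk'] at hsup ha₀'
    -- commutators
    have hc0 : ∀ x ∈ LC S (k - 1), ∀ y ∈ LC S k, ⁅x, y⁆ ∈ LC S (2 * k) := by
      intro x hx y hy
      have h1 := Cfsg.Agent.Lib.FG7.HallPetrescu.lcsF_comm (H := S) k (k + 1)
      have h2 : ⁅x, y⁆ ∈ Cfsg.Agent.Lib.FG7.HallPetrescu.lcsF S (k + (k + 1)) := by
        apply h1
        apply Subgroup.commutator_mem_commutator
        · obtain ⟨j, rfl⟩ : ∃ j, k = j + 1 := ⟨k - 1, by omega⟩
          exact hx
        · exact hy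
      have h3 : k + (k + 1) = 2 * k + 1 := by omega
      rw [h3] at h2
      exact h2
    have hc : ∀ x ∈ LC S (k - 1), ∀ y ∈ LC S (k - 1), ⁅x, y⁆ ∈ LC S (2 * k) := by
      let f := QuotientGroup.mk' (LC S (2 * k))
      let T : Set (S ⧸ LC S (2 * k)) := {f a₀} ∪ f '' (LC S k)
      have hkk : LC S k ≤ LC S (k - 1) := LC_anti (by omega)
      have hcc : ∀ u ∈ LC S (k - 1), ∀ v ∈ LC S k, f u * f v = f v * f u := by
        intro u hu v hv
        have h8 : f ⁅u, v⁆ = 1 := (QuotientGroup.eq_one_iff _).mpr (hc0 u hu v hv)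
        rw [commutatorElement_def, map_mul, map_mul, map_mul, map_inv, map_inv] at h8
        have h9 : f u * f v = (f u * f v * (f u)⁻¹ * (f v)⁻¹) * (f v * f u) := by group
        rw [h9, h8, one_mul]
      have hT : ∀ a ∈ T, ∀ b ∈ T, a * b = b * a := by
        rintro a (ha | ⟨l, hl, rfl⟩) b (hb | ⟨l', hl', rfl⟩)
        · rw [ha, hb]
        · rw [ha]
          exact hcc a₀ ha₀ l' hl'
        · rw [hb]
          exact (hcc a₀ ha₀ l hl).symm
        · exact hcc l (hkk hl) l' hl'
      have hcS := Subgroup.isMulCommutative_closure hT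
      have hmem : ∀ g ∈ LC S (k - 1), f g ∈ Subgroup.closure T := by
        have h12 : LC S (k - 1) ≤ (Subgroup.closure T).comap f := by
          rw [← hsup]
          refine sup_le ?_ ?_
          · rw [Subgroup.closure_le]
            intro z hz
            have hz' : z = a₀ := hz
            rw [hz']
            exact Subgroup.subset_closure (Or.inl rfl)
          · intro l hl
            exact Subgroup.subset_closure (Or.inr ⟨l, hl, rfl⟩)
        exact fun g hg => h12 hg
      intro x hx y hy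
      have h4 := mul_comm' (⟨f x, hmem x hx⟩ : Subgroup.closure T) ⟨f y, hmem y hy⟩
      have h5 : f x * f y = f y * f x := congrArg Subtype.val h4
      rw [← QuotientGroup.eq_one_iff, commutatorElement_def]
      show f (x * y * x⁻¹ * y⁻¹) = 1
      rw [map_mul, map_mul, map_mul, map_inv, map_inv, h5]
      group
    have h1 := card_le_of_section (G := S) (p := p) (H := LC S (k - 1)) (N := LC S (2 * k)) (k := k)
      (LC_anti (by omega)) hc hpw hSec
    rw [LC_card hG hn3 hcard hcl (by omega) (by omega), LC_card hG hn3 hcard hcl (by omega) (by omega),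
      ← pow_add] at h1
    have h2 := (Nat.pow_le_pow_iff_right hpp.one_lt).mp h1
    omega

end Aux

/-- Let p be a prime and S a finite p-group of order pⁿ (n ≥ 2) of maximal nilpotency class n − 1 whose sectional p-rank is exactly k (every section has p-rank at most k, and some section has p-rank k). If p ≥ k + 2 then the order of S is at most p^(2k). -/
theorem result {S : Type*} [Group S] [Finite S] (p : ℕ) [Fact p.Prime] (hS : IsPGroup p S) [Group.IsNilpotent S]
    (n : ℕ) (hn : 2 ≤ n) (hcard : Nat.card S = p ^ n) (hmax : Group.nilpotencyClass S = n - 1)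
    (k : ℕ) (hk : 1 ≤ k) (hsr : Cfsg.SectionalPRankLE p k S ∧ ¬ Cfsg.SectionalPRankLE p (k - 1) S)
    (hpk : k + 2 ≤ p) : Nat.card S ≤ p ^ (2 * k) := by
  exact main_aux p hS n hn hcard hmax k hk hsr.1 hpk

end Cfsg.Agent.S3806
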