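-- Statement S3807.
import Cfsg.Statements.S3807
import Cfsg.Agent.S3866
import Cfsg.Agent.Lib.PGroups.MaxAbelian
import Cfsg.Prelude.Def_Transfer

set_option autoImplicit false
open Cfsg

namespace Cfsg.Agent.S3807

section Aux

open Subgroup Cfsg.Agent.Lib.PGroups.Basic

theorem card_subgroups_prime {Q : Type*} [Group Q] [Finite Q] {p : ℕ} [hp : Fact p.Prime]
    (hQ : Nat.card Q = p ^ 2) (hexp : ∀ a : Q, a ^ p = 1) :
    Nat.card {C : Subgroup Q // Nat.card C = p} = p + 1 := by
  classical
  have := Fintype.ofFinite Q
  have := Fintype.ofFinite (Subgroup Q)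
  set s : Finset Q := Finset.univ.filter (fun e => e ≠ 1) with hs
  set t : Finset (Subgroup Q) := Finset.univ.filter (fun C => Nat.card C = p) with ht
  have hcs : s.card = p ^ 2 - 1 := by
    rw [hs, Finset.filter_ne', Finset.card_erase_of_mem (Finset.mem_univ _), Finset.card_univ,
      ← Nat.card_eq_fintype_card, hQ]
  have hord : ∀ e : Q, e ≠ 1 → orderOf e = p := fun e he => orderOf_eq_prime (hexp e) he
  have hmap : ∀ e ∈ s, zpowers e ∈ t := by
    intro e he
    rw [ht, Finset.mem_filter]
    refine ⟨Finset.mem_univ _, ?_⟩
    rw [Nat.card_zpowers]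
    exact hord e (Finset.mem_filter.mp he).2
  have hfib : ∀ C ∈ t, (s.filter (fun e => zpowers e = C)).card = p - 1 := by
    intro C hC
    have hCc : Nat.card C = p := (Finset.mem_filter.mp hC).2
    have h1 : s.filter (fun e => zpowers e = C) = (Finset.univ.filter (fun e => e ∈ C)).erase 1 := by
      ext e
      simp only [hs, Finset.mem_filter, Finset.mem_univ, true_and, Finset.mem_erase]
      constructor
      · rintro ⟨he, rfl⟩
        exact ⟨he, mem_zpowers e⟩
      · rintro ⟨he, heC⟩
        refine ⟨he, ?_⟩
        apply Subgroup.eq_of_le_of_card_ge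
        · rwa [zpowers_le]
        · rw [hCc, Nat.card_zpowers, hord e he]
    rw [h1, Finset.card_erase_of_mem (by simp [one_mem])]
    congr 1
    rw [← hCc, Nat.card_eq_fintype_card, Fintype.card_subtype]
  have hsum := Finset.card_eq_sum_card_fiberwise hmap
  rw [Finset.sum_congr rfl hfib, Finset.sum_const, smul_eq_mul, hcs] at hsum
  have hp1 : 1 < p := hp.out.one_lt
  have hcard : t.card = p + 1 := by
    obtain ⟨q, rfl⟩ : ∃ q, p = q + 1 := ⟨p - 1, by omega⟩
    have hq : 0 < q := by omega
    have e1 : (q + 1) ^ 2 - 1 = (q + 1 + 1) * q := by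
      have : (q + 1) ^ 2 = (q + 1 + 1) * q + 1 := by ring
      omega
    rw [e1, Nat.add_sub_cancel] at hsum
    exact (Nat.eq_of_mul_eq_mul_right hq hsum).symm
  rw [← hcard, Nat.card_eq_fintype_card, Fintype.card_subtype]

variable {S : Type*} [Group S] [Finite S] {p : ℕ} [hp : Fact p.Prime]

/-- An abelian subgroup of index `p` of a non-abelian group contains the centre. -/
theorem center_le_of_abelian_index (hna : ¬ IsMulCommutative S) (B : Subgroup S)
    (hB : IsMulCommutative B) (hBi : B.index = p) : center S ≤ B := by
  intro z hz
  by_contra hzB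
  have hco : IsCoatom B := isCoatom_of_index_prime (by rw [hBi]; exact hp.out)
  have hsup : B ⊔ zpowers z = ⊤ := by
    apply hco.2
    refine lt_of_le_of_ne le_sup_left ?_
    intro he
    exact hzB (he ▸ mem_sup_right (mem_zpowers z))
  have hBc : B ≤ center S := by
    intro b hb
    rw [mem_center_iff]
    intro g
    have hle : B ⊔ zpowers z ≤ centralizer ({b} : Set S) := by
      apply sup_le
      · intro b' hb'
        rw [mem_centralizer_singleton_iff]
        have := hB.is_comm.comm (⟨b', hb'⟩ : B) ⟨b, hb⟩
        exact congrArg Subtype.val this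
      · rw [zpowers_le, mem_centralizer_singleton_iff]
        exact mem_center_iff.mp hz b |>.symm
    have := hle (hsup ▸ mem_top g)
    rw [mem_centralizer_singleton_iff] at this
    exact this
  have hZtop : center S = ⊤ := by
    rw [eq_top_iff, ← hsup]
    apply sup_le hBc
    rwa [zpowers_le]
  apply hna
  constructor
  constructor
  intro a b
  exact (mem_center_iff.mp (hZtop ▸ mem_top a : a ∈ center S) b).symm

end Aux

/-- Let S be a non-abelian finite p-group with an abelian subgroup A of index p. Then [S : Z(S)] = p·#[S,S], and either [S,S] has order p, S/Z(S) is elementary abelian of order p², and S has exactly p + 1 abelian subgroups of index p; or [S,S] has order at least p² and A is the only abelian subgroup of index p in S. -/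
theorem result {S : Type*} [Group S] [Finite S] (p : ℕ) [Fact p.Prime] (hS : IsPGroup p S) (hna : ¬ IsMulCommutative S)
    (A : Subgroup S) (hA : IsMulCommutative ↥A) (hAi : A.index = p) :
    (Subgroup.center S).index = p * Nat.card (commutator S) ∧
      ((Nat.card (commutator S) = p ∧ Cfsg.IsElementaryAbelian p (⊤ : Subgroup (S ⧸ Subgroup.center S)) ∧
          Nat.card (S ⧸ Subgroup.center S) = p ^ 2 ∧
          Nat.card {B : Subgroup S // IsMulCommutative ↥B ∧ B.index = p} = p + 1) ∨
        (p ^ 2 ≤ Nat.card (commutator S) ∧ ∀ B : Subgroup S, IsMulCommutative ↥B → B.index = p → B = A)) := by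
  classical
  open Subgroup Cfsg.Agent.Lib.PGroups.Basic in
  have hpp : p.Prime := Fact.out
  have hco : IsCoatom A := isCoatom_of_index_prime (by rw [hAi]; exact hpp)
  have hAn : A.Normal := normal_of_isCoatom hS hco
  obtain ⟨x, hx⟩ : ∃ x, x ∉ A := by
    by_contra hcon
    push Not at hcon
    exact hco.1 (eq_top_iff.mpr (fun g _ => hcon g))
  have hsup : A ⊔ zpowers x = ⊤ := by
    apply hco.2
    refine lt_of_le_of_ne le_sup_left ?_
    intro he
    exact hx (he ▸ mem_sup_right (mem_zpowers x))
  obtain ⟨-, -, -, hcard⟩ := Cfsg.Agent.S3866.result A hA x hsup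
  have hZA : center S ≤ A := center_le_of_abelian_index hna A hA hAi
  have hZeq : A ⊓ centralizer ({x} : Set S) = center S := by
    apply le_antisymm
    · intro a ha'
      obtain ⟨ha, hax⟩ := Subgroup.mem_inf.mp ha'
      rw [mem_centralizer_singleton_iff] at hax
      rw [mem_center_iff]
      intro g
      have hle : A ⊔ zpowers x ≤ centralizer ({a} : Set S) := by
        apply sup_le
        · intro b' hb'
          rw [mem_centralizer_singleton_iff]
          have := hA.is_comm.comm (⟨b', hb'⟩ : A) ⟨a, ha⟩
          exact congrArg Subtype.val this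
        · rw [zpowers_le, mem_centralizer_singleton_iff]
          exact hax.symm
      have := hle (hsup ▸ mem_top g)
      rw [mem_centralizer_singleton_iff] at this
      exact this
    · intro z hz
      refine Subgroup.mem_inf.mpr ⟨hZA hz, ?_⟩
      rw [mem_centralizer_singleton_iff]
      exact (mem_center_iff.mp hz x).symm
  rw [hZeq] at hcard
  have hidxZ : (center S).index = p * Nat.card (commutator S) := by
    have h1 := card_mul_index (center S)
    have h2 := card_mul_index A
    rw [hAi] at h2
    apply Nat.eq_of_mul_eq_mul_left (Nat.card_pos (α := center S))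
    rw [h1, ← h2, ← hcard]
    ring
  refine ⟨hidxZ, ?_⟩
  obtain ⟨k, hk⟩ := (hS.to_subgroup (commutator S)).exists_card_eq
  have hk0 : k ≠ 0 := by
    rintro rfl
    rw [pow_zero, Subgroup.card_eq_one, _root_.commutator_eq_bot_iff] at hk
    exact hna hk
  by_cases hk1 : k = 1
  · subst hk1
    left
    rw [pow_one] at hk
    have hQc : Nat.card (S ⧸ center S) = p ^ 2 := by
      rw [← Subgroup.index_eq_card, hidxZ, hk, sq]
    have hQp : IsPGroup p (S ⧸ center S) := hS.to_quotient _
    have hQcomm : IsMulCommutative (S ⧸ center S) := IsPGroup.isMulCommutative_of_card_eq_prime_sq hQc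
    have hnoncyc : ¬ IsCyclic (S ⧸ center S) := by
      intro hcyc
      apply hna
      constructor
      constructor
      exact commutative_of_cyclic_center_quotient (QuotientGroup.mk' (center S)) (by simp)
    have hexp : ∀ a : S ⧸ center S, a ^ p = 1 := by
      intro a
      have h1 : orderOf a ∣ p ^ 2 := hQc ▸ orderOf_dvd_natCard a
      obtain ⟨r, hr, hre⟩ := (Nat.dvd_prime_pow hpp).mp h1
      have hr2 : r ≠ 2 := by
        rintro rfl
        apply hnoncyc
        exact isCyclic_of_orderOf_eq_card a (by rw [hre, hQc])
      have hr1 : r ≤ 1 := by omega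
      apply orderOf_dvd_iff_pow_eq_one.mp
      rw [hre]
      calc p ^ r ∣ p ^ 1 := pow_dvd_pow p hr1
        _ = p := pow_one p
    refine ⟨hk, ⟨⟨⟨?_⟩⟩, fun a _ => hexp a⟩, hQc, ?_⟩
    · intro a b
      apply Subtype.ext
      exact hQcomm.is_comm.comm a b
    · rw [← card_subgroups_prime hQc hexp]
      -- bijection
      have hcQ : ∀ C : Subgroup (S ⧸ center S), Nat.card C = p →
          (C.comap (QuotientGroup.mk' (center S))).index = p := by
        intro C hC
        rw [index_comap_of_surjective _ (QuotientGroup.mk'_surjective _)]
        have h1 := card_mul_index C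
        rw [hC, hQc, sq] at h1
        exact Nat.eq_of_mul_eq_mul_left hpp.pos h1
      have hcomm : ∀ C : Subgroup (S ⧸ center S), Nat.card C = p →
          IsMulCommutative (C.comap (QuotientGroup.mk' (center S))) := by
        intro C hC
        have hcyc : IsCyclic C := by
          have : Fact (Nat.card C).Prime := ⟨by rw [hC]; exact hpp⟩
          exact isCyclic_of_prime_card rfl
        let f : C.comap (QuotientGroup.mk' (center S)) →* C :=
          ((QuotientGroup.mk' (center S)).comp (C.comap (QuotientGroup.mk' (center S))).subtype).codRestrict C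
            (fun g => g.2)
        constructor
        constructor
        apply commutative_of_cyclic_center_quotient f
        intro g hg
        rw [MonoidHom.mem_ker] at hg
        have h1 : (g : S) ∈ center S := by
          have := congrArg Subtype.val hg
          exact (QuotientGroup.eq_one_iff _).mp this
        rw [mem_center_iff]
        intro g'
        apply Subtype.ext
        exact (mem_center_iff.mp h1 g')
      refine Nat.card_congr ⟨fun B => ⟨(B.1).map (QuotientGroup.mk' (center S)), ?_⟩,
        fun C => ⟨(C.1).comap (QuotientGroup.mk' (center S)), hcomm C.1 C.2, hcQ C.1 C.2⟩, ?_, ?_⟩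
      · -- the image has order `p`
        have hZB : center S ≤ B.1 := center_le_of_abelian_index hna B.1 B.2.1 B.2.2
        have h1 := Cfsg.Agent.Lib.PGroups.MaxAbelian.card_map_mk_eq_relIndex (center S) B.1
        have h2 := Cfsg.Agent.Lib.PGroups.MaxAbelian.relIndex_mul_card hZB
        have h3 := card_mul_index B.1
        have h4 := card_mul_index (center S)
        rw [B.2.2] at h3
        rw [hidxZ, hk] at h4
        rw [h1]
        have h5 : (center S).relIndex B.1 * p = p * p := by
          apply Nat.eq_of_mul_eq_mul_left (Nat.card_pos (α := center S))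
          calc Nat.card (center S) * ((center S).relIndex B.1 * p)
              = ((center S).relIndex B.1 * Nat.card (center S)) * p := by ring
            _ = Nat.card (center S) * (p * p) := by rw [h2, h3, h4]
        exact Nat.eq_of_mul_eq_mul_right hpp.pos h5
      · intro B
        have hZB : center S ≤ B.1 := center_le_of_abelian_index hna B.1 B.2.1 B.2.2
        apply Subtype.ext
        show ((B.1).map (QuotientGroup.mk' (center S))).comap (QuotientGroup.mk' (center S)) = B.1
        rw [comap_map_eq, QuotientGroup.ker_mk', sup_eq_left.mpr hZB]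
      · intro C
        apply Subtype.ext
        show ((C.1).comap (QuotientGroup.mk' (center S))).map (QuotientGroup.mk' (center S)) = C.1
        exact map_comap_eq_self_of_surjective (QuotientGroup.mk'_surjective _) _
  · right
    have hk2 : 2 ≤ k := by omega
    refine ⟨by rw [hk]; exact Nat.pow_le_pow_right hpp.pos hk2, ?_⟩
    intro B hB hBi
    by_contra hne
    have hBco : IsCoatom B := isCoatom_of_index_prime (by rw [hBi]; exact hpp)
    have hAB : A ⊔ B = ⊤ := by
      apply hco.2
      refine lt_of_le_of_ne le_sup_left ?_
      intro he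
      have h1 : B ≤ A := he ▸ le_sup_right
      rcases eq_or_lt_of_le h1 with h2 | h2
      · exact hne h2
      · exact hco.1 (hBco.2 _ h2)
    have hinf : A ⊓ B ≤ center S := by
      intro a ha'
      obtain ⟨ha, hb⟩ := Subgroup.mem_inf.mp ha'
      rw [mem_center_iff]
      intro g
      have hle : A ⊔ B ≤ centralizer ({a} : Set S) := by
        apply sup_le
        · intro b' hb'
          rw [mem_centralizer_singleton_iff]
          have := hA.is_comm.comm (⟨b', hb'⟩ : A) ⟨a, ha⟩
          exact congrArg Subtype.val this
        · intro b' hb'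
          rw [mem_centralizer_singleton_iff]
          have := hB.is_comm.comm (⟨b', hb'⟩ : B) ⟨a, hb⟩
          exact congrArg Subtype.val this
      have := hle (hAB ▸ mem_top g)
      rw [mem_centralizer_singleton_iff] at this
      exact this
    have h1 : (center S).index ∣ (A ⊓ B).index := Subgroup.index_dvd_of_le hinf
    have h2 : (A ⊓ B).index ≤ A.index * B.index := Subgroup.index_inf_le
    have h3 := Nat.le_of_dvd (Nat.pos_of_ne_zero Subgroup.index_ne_zero_of_finite) h1
    rw [hidxZ, hk] at h3
    rw [hAi, hBi] at h2
    have h4 : p * p ^ k ≤ p * p := h3.trans h2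
    have h5 := Nat.le_of_mul_le_mul_left h4 hpp.pos
    have h6 : p ^ 2 ≤ p ^ k := Nat.pow_le_pow_right hpp.pos hk2
    have h7 : p < p ^ 2 := by
      rw [sq]; exact lt_mul_of_one_lt_left hpp.pos hpp.one_lt
    omega

end Cfsg.Agent.S3807
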