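import Cfsg.Statements.S3808
import Mathlib
import Cfsg.Agent.Lib.PGroups.MaxAbelian
import Cfsg.Agent.Lib.Core.Radical

set_option autoImplicit false
open Cfsg

namespace Cfsg.Agent.S3808

open Cfsg.Agent.Lib.PGroups.Basic Cfsg.Agent.Lib.PGroups.Special Cfsg.Agent.Lib.PGroups.MaxAbelian

/-- Let S be a finite p-group with an extraspecial subgroup Q of index p. Then either Z(S) = Z(Q), or S = Q·Z(S) and Z(S) has order p². -/
theorem result {S : Type*} [Group S] [Finite S] (p : ℕ) [Fact p.Prime] (hS : IsPGroup p S) (Q : Subgroup S) (hQ : Cfsg.IsExtraspecial p ↥Q) (hQi : Q.index = p) :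
    Subgroup.center S = (Subgroup.center ↥Q).map Q.subtype ∨
      (Q ⊔ Subgroup.center S = ⊤ ∧ Nat.card (Subgroup.center S) = p ^ 2) := by
  have hprime : Q.index.Prime := by rw [hQi]; exact Fact.out
  have hco : IsCoatom Q := isCoatom_of_index_prime hprime
  have hQn : Q.Normal := normal_of_isCoatom hS hco
  set ZQ := (Subgroup.center ↥Q).map Q.subtype with hZQ
  have hZQcard : Nat.card ZQ = p := by
    rw [hZQ, Subgroup.card_map_of_injective Q.subtype_injective]
    exact hQ.2
  have hZQn : ZQ.Normal := by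
    exact Cfsg.Agent.Lib.Core.Radical.normal_map_subtype_of_characteristic (Subgroup.center Q)
  have hZQle : ZQ ≤ Subgroup.center S := le_center_of_card_eq hS ZQ hZQcard
  have hinf : Q ⊓ Subgroup.center S = ZQ := by
    apply le_antisymm
    · rintro z ⟨hzQ, hzZ⟩
      refine ⟨⟨z, hzQ⟩, ?_, rfl⟩
      rw [SetLike.mem_coe, Subgroup.mem_center_iff]
      intro g
      apply Subtype.ext
      exact (Subgroup.mem_center_iff.mp hzZ) g
    · intro z hz
      refine ⟨?_, hZQle hz⟩
      obtain ⟨w, _, rfl⟩ := hz
      exact w.2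
  by_cases hle : Subgroup.center S ≤ Q
  · left
    rw [← hinf]
    exact (inf_eq_right.mpr hle).symm
  · right
    have hsup : Q ⊔ Subgroup.center S = ⊤ := by
      apply hco.2
      exact lt_of_le_of_ne le_sup_left (fun h => hle (by rw [h]; exact le_sup_right))
    refine ⟨hsup, ?_⟩
    have h1 : Q.relIndex (Subgroup.center S) = p := by
      rw [← Subgroup.relIndex_sup_left, hsup]
      simpa [Subgroup.relIndex_top_right] using hQi
    have h2 : (Subgroup.center S ⊓ Q).relIndex (Subgroup.center S) = p := by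
      rw [Subgroup.inf_relIndex_left]; exact h1
    have h3 := relIndex_mul_card (inf_le_left : Subgroup.center S ⊓ Q ≤ Subgroup.center S)
    rw [h2, inf_comm, hinf, hZQcard] at h3
    rw [← h3, pow_two]

end Cfsg.Agent.S3808
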