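import Cfsg.Statements.S3809
import Mathlib
import Cfsg.Agent.Lib.PGroups.MaxAbelian
import Cfsg.Agent.Lib.Core.Radical

set_option autoImplicit false
open Cfsg
open scoped commutatorElement

namespace Cfsg.Agent.S3809

open Cfsg.Agent.Lib.PGroups.Basic Cfsg.Agent.Lib.PGroups.Special Cfsg.Agent.Lib.PGroups.MaxAbelian

/-- Let S be a finite p-group with an extraspecial subgroup of index p. Then S has order p^(2+2n) for some n ≥ 1, derived length at most 3, and exponent dividing p³. -/
theorem result {S : Type*} [Group S] [Finite S] (p : ℕ) [Fact p.Prime] (hS : IsPGroup p S) (Q : Subgroup S) (hQ : Cfsg.IsExtraspecial p ↥Q) (hQi : Q.index = p) :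
    (∃ n : ℕ, 1 ≤ n ∧ Nat.card S = p ^ (2 + 2 * n)) ∧ derivedSeries S 3 = ⊥ ∧ ∀ x : S, x ^ (p ^ 3) = 1 := by
  have hprime : Q.index.Prime := by rw [hQi]; exact Fact.out
  have hco : IsCoatom Q := isCoatom_of_index_prime hprime
  have hQn : Q.Normal := normal_of_isCoatom hS hco
  have hEL := extraLike_of_isExtraspecial hQ
  have hcardQ : Nat.card Q * p = Nat.card S := by
    rw [← hQi]; exact Subgroup.card_mul_index Q
  have hfr : frattini S ≤ Q := frattini_le_coatom hco
  have hcomm : commutator S ≤ Q := (commutator_le_frattini hS).trans hfr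
  have hd1 : derivedSeries S 1 ≤ Q := by
    simpa [derivedSeries_succ, derivedSeries_zero] using hcomm
  set ZQ := (Subgroup.center ↥Q).map Q.subtype with hZQ
  have hd2 : derivedSeries S 2 ≤ ZQ := by
    rw [derivedSeries_succ]
    refine (Subgroup.commutator_mono hd1 hd1).trans ?_
    rw [Subgroup.commutator_le]
    intro g hg h hh
    exact ⟨⁅(⟨g, hg⟩ : Q), (⟨h, hh⟩ : Q)⁆, hEL.comm_mem _ _, rfl⟩
  have hd3 : derivedSeries S 3 = ⊥ := by
    rw [derivedSeries_succ, eq_bot_iff]
    refine (Subgroup.commutator_mono hd2 hd2).trans ?_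
    rw [Subgroup.commutator_le]
    rintro _ ⟨g, hg, rfl⟩ _ ⟨h, hh, rfl⟩
    rw [Subgroup.mem_bot, commutatorElement_eq_one_iff_mul_comm]
    have := (Subgroup.mem_center_iff.mp hg) h
    simpa using (congrArg Subtype.val this).symm
  obtain ⟨n, hn, hcard⟩ := IsExtraspecial.card_eq hQ
  refine ⟨⟨n, hn, ?_⟩, hd3, ?_⟩
  · rw [← hcardQ, hcard]
    ring
  · intro x
    have h1 : x ^ p ∈ Q := hfr (pow_mem_frattini hS x)
    have h2 : (⟨x ^ p, h1⟩ : Q) ^ p ∈ Subgroup.center Q := hEL.pow_mem _
    have h3 := hEL.center_pow _ h2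
    have h4 := congrArg Subtype.val h3
    simp only [SubgroupClass.coe_pow, OneMemClass.coe_one] at h4
    rw [show p ^ 3 = p * p * p by ring, pow_mul, pow_mul]
    exact h4

end Cfsg.Agent.S3809
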