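import Cfsg.Statements.S3810
import Mathlib
import Cfsg.Agent.Lib.PGroups.MaxAbelian
import Cfsg.Agent.S3866

set_option autoImplicit false
open Cfsg
open scoped commutatorElement

namespace Cfsg.Agent.S3810

open Cfsg.Agent.Lib.PGroups.Basic Cfsg.Agent.Lib.PGroups.Special Cfsg.Agent.Lib.PGroups.MaxAbelian

/-- A group of order `p^4` has an abelian subgroup of index `p`. -/
theorem exists_abelian_of_card {S : Type*} [Group S] [Finite S] (p : ℕ) [Fact p.Prime]
    (hS : IsPGroup p S) (hcard : Nat.card S = p ^ 4) :
    ∃ A : Subgroup S, IsMulCommutative ↥A ∧ A.index = p := by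
  classical
  have hp : p.Prime := Fact.out
  -- pick a maximal normal abelian subgroup
  let F : Set (Subgroup S) := {B | B.Normal ∧ IsMulCommutative B}
  have hbot : (⊥ : Subgroup S) ∈ F := by
    refine ⟨inferInstance, ⟨⟨fun a b => ?_⟩⟩⟩
    apply Subtype.ext
    have ha := a.2
    have hb := b.2
    rw [Subgroup.mem_bot] at ha hb
    simp [ha, hb]
  obtain ⟨A, hAF, hmax⟩ := F.toFinite.exists_maximal ⟨⊥, hbot⟩
  obtain ⟨hAn, hAc⟩ := hAF
  obtain ⟨a, ha⟩ := IsPGroup.iff_card.mp (hS.to_subgroup A)
  have hle := card_le_of_maximal hS A hAc (fun B hB hBc hAB =>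
    le_antisymm (hmax ⟨hB, hBc⟩ hAB) hAB) a ha
  rw [hcard] at hle
  have hle' : 4 ≤ a * (a + 1) / 2 := (Nat.pow_le_pow_iff_right hp.one_lt).mp hle
  have ha3 : 3 ≤ a := by
    by_contra h
    have : a ≤ 2 := by omega
    interval_cases a <;> omega
  have hdvd : p ^ 3 ∣ Nat.card A := by
    rw [ha]
    exact pow_dvd_pow _ ha3
  obtain ⟨K, hK⟩ := Sylow.exists_subgroup_card_pow_prime p hdvd
  refine ⟨K.map A.subtype, ?_, ?_⟩
  · refine ⟨⟨?_⟩⟩
    rintro ⟨_, x, hx, rfl⟩ ⟨_, y, hy, rfl⟩
    apply Subtype.ext
    have := hAc.is_comm.comm x y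
    simpa using congrArg Subtype.val this
  · have h1 : Nat.card (K.map A.subtype) = p ^ 3 := by
      rw [Subgroup.card_map_of_injective A.subtype_injective, hK]
    have h2 := Subgroup.card_mul_index (K.map A.subtype)
    rw [h1, hcard] at h2
    have hpos : 0 < p ^ 3 := pow_pos hp.pos _
    have : p ^ 3 * (K.map A.subtype).index = p ^ 3 * p := by
      rw [h2]; ring
    exact Nat.eq_of_mul_eq_mul_left hpos this

/-- Let S be a finite p-group with an extraspecial subgroup of index p. Then S has an abelian subgroup of index p if and only if S has order p⁴. -/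
theorem result {S : Type*} [Group S] [Finite S] (p : ℕ) [Fact p.Prime] (hS : IsPGroup p S) (Q : Subgroup S) (hQ : Cfsg.IsExtraspecial p ↥Q) (hQi : Q.index = p) :
    (∃ A : Subgroup S, IsMulCommutative ↥A ∧ A.index = p) ↔ Nat.card S = p ^ 4 := by
  classical
  have hp : p.Prime := Fact.out
  constructor
  · rintro ⟨A, hAc, hAi⟩
    have hprime : A.index.Prime := by rw [hAi]; exact hp
    have hco : IsCoatom A := isCoatom_of_index_prime hprime
    have hAn : A.Normal := normal_of_isCoatom hS hco
    have hnc : ¬ IsMulCommutative Q := not_isMulCommutative_of_isExtraspecial hQ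
    have hQA : ¬ Q ≤ A := by
      intro hle
      apply hnc
      refine ⟨⟨fun x y => ?_⟩⟩
      apply Subtype.ext
      have := hAc.is_comm.comm ⟨x, hle x.2⟩ ⟨y, hle y.2⟩
      simpa using congrArg Subtype.val this
    have hsup : A ⊔ Q = ⊤ := hco.2 _ (lt_of_le_of_ne le_sup_left (fun h => hQA (by rw [h]; exact le_sup_right)))
    have hri : A.relIndex Q = p := by
      rw [← Subgroup.relIndex_sup_left, hsup]
      simpa [Subgroup.relIndex_top_right] using hAi
    -- work inside Q
    let B : Subgroup Q := A.subgroupOf Q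
    have hBi : B.index = p := hri
    have hBn : B.Normal := by
      have := hAn
      exact Subgroup.normal_subgroupOf
    have hBc : IsMulCommutative B := by
      refine ⟨⟨fun x y => ?_⟩⟩
      apply Subtype.ext
      apply Subtype.ext
      have := hAc.is_comm.comm ⟨x.1.1, x.2⟩ ⟨y.1.1, y.2⟩
      simpa using congrArg Subtype.val this
    have hBco : IsCoatom B := isCoatom_of_index_prime (by rw [hBi]; exact hp)
    obtain ⟨x, hxQ, hxA⟩ := Set.not_subset.mp hQA
    have hxB : (⟨x, hxQ⟩ : Q) ∉ B := hxA
    have hgen : B ⊔ Subgroup.zpowers (⟨x, hxQ⟩ : Q) = ⊤ := by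
      apply hBco.2
      refine lt_of_le_of_ne le_sup_left (fun h => hxB ?_)
      rw [h]
      exact Subgroup.mem_sup_right (Subgroup.mem_zpowers _)
    have hmain := (Cfsg.Agent.S3866.result B hBc (⟨x, hxQ⟩ : Q) hgen).2.2.2
    have hcQ : Nat.card (commutator Q) = p := by
      rw [hQ.1.2.2]; exact hQ.2
    have hcent : B ⊓ Subgroup.centralizer ({(⟨x, hxQ⟩ : Q)} : Set Q) = Subgroup.center Q := by
      apply le_antisymm
      · intro z hz
        obtain ⟨hzB, hzx⟩ := Subgroup.mem_inf.mp hz
        rw [Subgroup.mem_centralizer_singleton_iff] at hzx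
        have h1 : Subgroup.comap (MonoidHom.id Q) (Subgroup.centralizer {z}) = ⊤ := by
          rw [eq_top_iff, ← hgen]
          refine sup_le ?_ ?_
          · intro b hb
            rw [Subgroup.mem_comap, MonoidHom.id_apply, Subgroup.mem_centralizer_singleton_iff]
            have := hBc.is_comm.comm ⟨b, hb⟩ ⟨z, hzB⟩
            simpa using congrArg Subtype.val this
          · rw [Subgroup.zpowers_le, Subgroup.mem_comap, MonoidHom.id_apply,
              Subgroup.mem_centralizer_singleton_iff]
            exact hzx.symm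
        rw [Subgroup.mem_center_iff]
        intro g
        have h2 : g ∈ Subgroup.comap (MonoidHom.id Q) (Subgroup.centralizer {z}) := by
          rw [h1]; trivial
        rw [Subgroup.mem_comap, MonoidHom.id_apply, Subgroup.mem_centralizer_singleton_iff] at h2
        exact h2
      · intro z hz
        refine Subgroup.mem_inf.mpr ⟨?_, ?_⟩
        · by_contra hzB
          have h3 : B ⊔ Subgroup.center Q = ⊤ := by
            apply hBco.2
            refine lt_of_le_of_ne le_sup_left (fun h => hzB ?_)
            rw [h]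
            exact Subgroup.mem_sup_right hz
          apply not_isMulCommutative_of_isExtraspecial hQ
          refine ⟨⟨fun u v => ?_⟩⟩
          have hu : u ∈ B ⊔ Subgroup.center Q := by rw [h3]; trivial
          have hv : v ∈ B ⊔ Subgroup.center Q := by rw [h3]; trivial
          rw [Subgroup.mem_sup_of_normal_right] at hu hv
          obtain ⟨b1, hb1, c1, hc1, rfl⟩ := hu
          obtain ⟨b2, hb2, c2, hc2, rfl⟩ := hv
          have h4 : b1 * b2 = b2 * b1 := by
            have := hBc.is_comm.comm ⟨b1, hb1⟩ ⟨b2, hb2⟩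
            simpa using congrArg Subtype.val this
          have hc12 := (Subgroup.mem_center_iff.mp hc1)
          have hc22 := (Subgroup.mem_center_iff.mp hc2)
          calc b1 * c1 * (b2 * c2) = b1 * (c1 * b2) * c2 := by group
            _ = b1 * (b2 * c1) * c2 := by rw [hc12 b2 |>.symm]
            _ = (b1 * b2) * (c1 * c2) := by group
            _ = (b2 * b1) * (c2 * c1) := by rw [h4, hc12 c2 |>.symm]
            _ = b2 * (b1 * c2) * c1 := by group
            _ = b2 * (c2 * b1) * c1 := by rw [hc22 b1]
            _ = b2 * c2 * (b1 * c1) := by group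
        · rw [Subgroup.mem_centralizer_singleton_iff]
          exact (Subgroup.mem_center_iff.mp hz _).symm
    rw [hcent, hcQ, hQ.2] at hmain
    have h5 : Nat.card Q = p ^ 3 := by
      have := Subgroup.card_mul_index B
      rw [← hmain, hBi] at this
      rw [← this]; ring
    have h6 := Subgroup.card_mul_index Q
    rw [h5, hQi] at h6
    rw [← h6]; ring
  · exact exists_abelian_of_card p hS

end Cfsg.Agent.S3810
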