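import Cfsg.Statements.S3811
import Mathlib
import Cfsg.Agent.Lib.PGroups.LowerCentral
import Cfsg.Agent.Lib.QuadAct.Basic
-- import your own Cfsg.Agent.* helpers here

set_option autoImplicit false
open Cfsg

namespace Cfsg.Agent.S3811

section Aux

open Subgroup
open scoped commutatorElement
open Cfsg.Agent.Lib.PGroups.Basic Cfsg.Agent.Lib.PGroups.LowerCentral

variable {P : Type*} [Group P]

theorem comm_mul_right (a b c : P) : ⁅a, b * c⁆ = ⁅a, b⁆ * (b * ⁅a, c⁆ * b⁻¹) := by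
  simp only [commutatorElement_def]
  group

theorem comm_mul_left (a b c : P) : ⁅a * b, c⁆ = a * ⁅b, c⁆ * a⁻¹ * ⁅a, c⁆ := by
  simp only [commutatorElement_def]
  group

theorem comm_inv_right (a b : P) : ⁅a, b⁻¹⁆ = b⁻¹ * ⁅a, b⁆⁻¹ * b := by
  simp only [commutatorElement_def]
  group

theorem comm_conj (g a b : P) : g * ⁅a, b⁆ * g⁻¹ = ⁅g * a * g⁻¹, g * b * g⁻¹⁆ := by
  simp only [commutatorElement_def]
  group

theorem conj_eq_comm_mul (g a : P) : g * a * g⁻¹ = ⁅g, a⁆ * a := by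
  simp only [commutatorElement_def]
  group

/-- Elements of `A` commuting with `a` modulo `R`. -/
def CR (A R : Subgroup P) (hn : ∀ b ∈ A, ∀ r ∈ R, b * r * b⁻¹ ∈ R) (a : P) : Subgroup P where
  carrier := {b | b ∈ A ∧ ⁅a, b⁆ ∈ R}
  mul_mem' := by
    rintro b c ⟨hb, hb'⟩ ⟨hc, hc'⟩
    refine ⟨A.mul_mem hb hc, ?_⟩
    rw [comm_mul_right]
    exact R.mul_mem hb' (hn b hb _ hc')
  one_mem' := ⟨A.one_mem, by simp [R.one_mem]⟩
  inv_mem' := by
    rintro b ⟨hb, hb'⟩
    refine ⟨A.inv_mem hb, ?_⟩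
    rw [comm_inv_right]
    have := hn b⁻¹ (A.inv_mem hb) _ (R.inv_mem hb')
    simpa using this

/-- The centre of `K` modulo `W`. -/
def ZRel (W K : Subgroup P) (hn : ∀ b ∈ K, ∀ r ∈ W, b * r * b⁻¹ ∈ W) : Subgroup P where
  carrier := {z | z ∈ K ∧ ∀ k ∈ K, ⁅z, k⁆ ∈ W}
  mul_mem' := by
    rintro a b ⟨ha, ha'⟩ ⟨hb, hb'⟩
    refine ⟨K.mul_mem ha hb, fun k hk => ?_⟩
    rw [comm_mul_left]
    exact W.mul_mem (hn a ha _ (hb' k hk)) (ha' k hk)
  one_mem' := ⟨K.one_mem, fun k _ => by simp [W.one_mem]⟩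
  inv_mem' := by
    rintro a ⟨ha, ha'⟩
    refine ⟨K.inv_mem ha, fun k hk => ?_⟩
    have h1 : ⁅a⁻¹, k⁆ = a⁻¹ * ⁅a, k⁆⁻¹ * a⁻¹⁻¹ := by
      simp only [commutatorElement_def]
      group
    rw [h1]
    exact hn a⁻¹ (K.inv_mem ha) _ (W.inv_mem (ha' k hk))

variable [Finite P] {p : ℕ} [hp : Fact p.Prime]

theorem mem_normalizer_of_conj_le {E : Subgroup P} {g : P} (h : ∀ a ∈ E, g * a * g⁻¹ ∈ E) :
    g ∈ normalizer (E : Set P) := by
  rw [mem_normalizer_iff]
  intro x
  refine ⟨h x, fun hx => ?_⟩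
  have hle : E.map (MulAut.conj g).toMonoidHom ≤ E := by
    rintro _ ⟨a, ha, rfl⟩
    exact h a ha
  have heq : E.map (MulAut.conj g).toMonoidHom = E :=
    Subgroup.eq_of_le_of_card_ge hle (by
      rw [Subgroup.card_map_of_injective (MulAut.conj g).injective])
  have h2 : g * x * g⁻¹ ∈ E.map (MulAut.conj g).toMonoidHom := by rw [heq]; exact hx
  obtain ⟨a, ha, hax⟩ := h2
  have h3 : a = x := by
    have : g * a * g⁻¹ = g * x * g⁻¹ := hax
    simpa using this
  rw [← h3]
  exact ha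

theorem exists_step_above (hP : IsPGroup p P) {A B : Subgroup P} (h : A < B) :
    ∃ C, A < C ∧ C ≤ B ∧ Nat.card C = p * Nat.card A := by
  classical
  have hpp := hp.out
  obtain ⟨a, ha⟩ := IsPGroup.iff_card.mp (hP.to_subgroup A)
  obtain ⟨b, hb⟩ := IsPGroup.iff_card.mp (hP.to_subgroup B)
  have hab : a < b := by
    have := card_lt_of_lt h
    rw [ha, hb] at this
    exact (Nat.pow_lt_pow_iff_right hpp.one_lt).mp this
  have hA' : Nat.card (A.subgroupOf B) = p ^ a := by
    rw [← ha]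
    exact Nat.card_congr (Subgroup.subgroupOfEquivOfLe h.le).toEquiv
  obtain ⟨K, hK, hAK⟩ := Sylow.exists_subgroup_card_pow_prime_le p (G := B) (n := a) (m := a + 1)
    (by rw [hb]; exact pow_dvd_pow p hab) (A.subgroupOf B) hA' (by omega)
  refine ⟨K.map B.subtype, ?_, map_subtype_le _, ?_⟩
  · have hle : A ≤ K.map B.subtype := by
      intro x hx
      exact ⟨⟨x, h.le hx⟩, hAK hx, rfl⟩
    refine lt_of_le_of_ne hle ?_
    intro heq
    have h1 : Nat.card (K.map B.subtype) = Nat.card K := Subgroup.card_map_of_injective (subtype_injective B)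
    rw [← heq, ha, hK] at h1
    have := Nat.pow_right_injective hpp.two_le h1
    omega
  · rw [Subgroup.card_map_of_injective (subtype_injective B), hK, ha, pow_succ']

theorem exists_step_below (hP : IsPGroup p P) {A B : Subgroup P} (h : A < B) :
    ∃ C, A ≤ C ∧ C < B ∧ Nat.card B = p * Nat.card C := by
  classical
  have hpp := hp.out
  obtain ⟨a, ha⟩ := IsPGroup.iff_card.mp (hP.to_subgroup A)
  obtain ⟨b, hb⟩ := IsPGroup.iff_card.mp (hP.to_subgroup B)
  have hab : a < b := by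
    have := card_lt_of_lt h
    rw [ha, hb] at this
    exact (Nat.pow_lt_pow_iff_right hpp.one_lt).mp this
  have hA' : Nat.card (A.subgroupOf B) = p ^ a := by
    rw [← ha]
    exact Nat.card_congr (Subgroup.subgroupOfEquivOfLe h.le).toEquiv
  obtain ⟨K, hK, hAK⟩ := Sylow.exists_subgroup_card_pow_prime_le p (G := B) (n := a) (m := b - 1)
    (by rw [hb]; exact pow_dvd_pow p (by omega)) (A.subgroupOf B) hA' (by omega)
  have hcard : Nat.card (K.map B.subtype) = p ^ (b - 1) := by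
    rw [Subgroup.card_map_of_injective (subtype_injective B), hK]
  refine ⟨K.map B.subtype, ?_, ?_, ?_⟩
  · intro x hx
    exact ⟨⟨x, h.le hx⟩, hAK hx, rfl⟩
  · refine lt_of_le_of_ne (map_subtype_le _) ?_
    intro heq
    rw [heq, hb] at hcard
    have := Nat.pow_right_injective hpp.two_le hcard
    omega
  · rw [hcard, hb, ← pow_succ']
    congr 1
    omega

theorem normal_step (hP : IsPGroup p P) {A B : Subgroup P} (hAB : A ≤ B) (hc : Nat.card B = p * Nat.card A) :
    B ≤ normalizer (A : Set P) := by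
  have hpp := hp.out
  have hidx : (A.subgroupOf B).index = p := by
    have h1 := Subgroup.card_mul_index (A.subgroupOf B)
    have h2 : Nat.card (A.subgroupOf B) = Nat.card A :=
      Nat.card_congr (Subgroup.subgroupOfEquivOfLe hAB).toEquiv
    rw [h2, hc, mul_comm] at h1
    exact Nat.eq_of_mul_eq_mul_right Nat.card_pos h1
  have hco : IsCoatom (A.subgroupOf B) := isCoatom_of_index_prime (by rw [hidx]; exact hpp)
  have hn := normal_of_isCoatom (hP.to_subgroup B) hco
  intro b hb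
  apply mem_normalizer_of_conj_le
  intro a ha
  have h3 := hn.conj_mem ⟨a, hAB ha⟩ (by simpa [mem_subgroupOf] using ha) ⟨b, hb⟩
  simpa [mem_subgroupOf] using h3

theorem exists_normalizer_step (hP : IsPGroup p P) {A B : Subgroup P} (h : A < B) :
    ∃ g ∈ B, g ∉ A ∧ g ∈ normalizer (A : Set P) := by
  obtain ⟨C, hAC, hCB, hc⟩ := exists_step_above hP h
  obtain ⟨g, hg, hg'⟩ := SetLike.exists_of_lt hAC
  exact ⟨g, hCB hg, hg', normal_step hP hAC.le hc hg⟩

theorem sup_eq_of_step (hP : IsPGroup p P) {A B : Subgroup P} (hAB : A ≤ B) (hc : Nat.card B = p * Nat.card A)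
    {x : P} (hx : x ∈ B) (hx' : x ∉ A) : closure ({x} : Set P) ⊔ A = B := by
  have hle : closure ({x} : Set P) ⊔ A ≤ B :=
    sup_le (by rw [closure_le]; simpa using hx) hAB
  apply Subgroup.eq_of_le_of_card_ge hle
  have hlt : A < closure ({x} : Set P) ⊔ A := by
    refine lt_of_le_of_ne le_sup_right ?_
    intro h
    apply hx'
    rw [h]
    exact mem_sup_left (subset_closure rfl)
  have h2 := mul_card_le_of_lt hP hlt
  rw [hc]
  exact h2

/-- A nontrivial section of a `p`-group has a central element of order `p`. -/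
theorem exists_central_mod (hP : IsPGroup p P) {W K : Subgroup P} (hWK : W < K)
    (hn : ∀ k ∈ K, ∀ w ∈ W, k * w * k⁻¹ ∈ W) :
    ∃ z ∈ K, z ∉ W ∧ (∀ k ∈ K, ⁅z, k⁆ ∈ W) ∧ z ^ p ∈ W := by
  classical
  have hW' : (W.subgroupOf K).Normal := by
    refine ⟨fun a ha k => ?_⟩
    rw [mem_subgroupOf] at ha ⊢
    exact hn k k.2 a ha
  have hQ : IsPGroup p (K ⧸ W.subgroupOf K) := (hP.to_subgroup K).to_quotient _
  have hne : (⊤ : Subgroup (K ⧸ W.subgroupOf K)) ≠ ⊥ := by
    intro h
    obtain ⟨x, hx, hx'⟩ := SetLike.exists_of_lt hWK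
    have h1 : ((⟨x, hx⟩ : K) : K ⧸ W.subgroupOf K) ∈ (⊤ : Subgroup (K ⧸ W.subgroupOf K)) := mem_top _
    rw [h, mem_bot, QuotientGroup.eq_one_iff, mem_subgroupOf] at h1
    exact hx' h1
  obtain ⟨t, -, htc, hto⟩ := exists_central_orderOf_eq hQ (⊤ : Subgroup (K ⧸ W.subgroupOf K)) hne
  obtain ⟨z, rfl⟩ := QuotientGroup.mk_surjective t
  refine ⟨z, z.2, ?_, ?_, ?_⟩
  · intro hz
    have h1 : ((z : K) : K ⧸ W.subgroupOf K) = 1 := by
      rw [QuotientGroup.eq_one_iff, mem_subgroupOf]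
      exact hz
    rw [h1, orderOf_one] at hto
    exact hp.out.one_lt.ne hto
  · intro k hk
    have h2 := mem_center_iff.mp htc ((⟨k, hk⟩ : K) : K ⧸ W.subgroupOf K)
    have h3 : ((⁅z, (⟨k, hk⟩ : K)⁆ : K) : K ⧸ W.subgroupOf K) = 1 := by
      rw [commutatorElement_def]
      simp only [QuotientGroup.mk_mul, QuotientGroup.mk_inv]
      rw [← h2]
      group
    rw [QuotientGroup.eq_one_iff, mem_subgroupOf] at h3
    exact h3
  · have h4 := pow_orderOf_eq_one ((z : K) : K ⧸ W.subgroupOf K)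
    rw [hto, ← QuotientGroup.mk_pow, QuotientGroup.eq_one_iff, mem_subgroupOf] at h4
    simpa using h4

/-- Adjoining an element with `p`-th power in `W`. -/
theorem card_sup_step (hP : IsPGroup p P) {W : Subgroup P} {y : P} (hyn : ∀ w ∈ W, y * w * y⁻¹ ∈ W)
    (hy : y ∉ W) (hyp : y ^ p ∈ W) : Nat.card (closure ({y} : Set P) ⊔ W : Subgroup P) = p * Nat.card W := by
  classical
  have hpp := hp.out
  let L : Subgroup P := closure ({y} : Set P) ⊔ W
  have hWL : W ≤ L := le_sup_right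
  have hyL : y ∈ L := mem_sup_left (subset_closure rfl)
  have hLN : L ≤ normalizer (W : Set P) := by
    refine sup_le ?_ Subgroup.le_normalizer
    rw [closure_le]
    rintro _ rfl
    exact mem_normalizer_of_conj_le hyn
  have hW' : (W.subgroupOf L).Normal := Subgroup.normal_subgroupOf_of_le_normalizer hLN
  let ybar : L ⧸ W.subgroupOf L := ((⟨y, hyL⟩ : L) : L ⧸ W.subgroupOf L)
  have htop : zpowers ybar = ⊤ := by
    rw [eq_top_iff]
    rintro x -
    obtain ⟨⟨z, hz⟩, rfl⟩ := QuotientGroup.mk_surjective x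
    let S : Subgroup P := ((zpowers ybar).comap (QuotientGroup.mk' (W.subgroupOf L))).map L.subtype
    have hLS : L ≤ S := by
      refine sup_le ?_ ?_
      · rw [closure_le]
        intro y' hy'
        have hy'' : y' = y := hy'
        rw [hy'']
        exact ⟨⟨y, hyL⟩, mem_zpowers ybar, rfl⟩
      · intro w hw
        refine ⟨⟨w, hWL hw⟩, ?_, rfl⟩
        show ((⟨w, hWL hw⟩ : L) : L ⧸ W.subgroupOf L) ∈ zpowers ybar
        rw [(QuotientGroup.eq_one_iff (⟨w, hWL hw⟩ : L)).mpr (by rw [mem_subgroupOf]; exact hw)]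
        exact one_mem _
    obtain ⟨z', hz', hzz⟩ := hLS hz
    have : z' = ⟨z, hz⟩ := Subtype.ext hzz
    rw [← this]
    exact hz'
  have hcardQ : Nat.card (L ⧸ W.subgroupOf L) = orderOf ybar := by
    rw [← Nat.card_zpowers, htop, Subgroup.card_top]
  have hord : orderOf ybar ∣ p := by
    apply orderOf_dvd_of_pow_eq_one
    show (((⟨y, hyL⟩ : L) : L ⧸ W.subgroupOf L)) ^ p = 1
    rw [← QuotientGroup.mk_pow, QuotientGroup.eq_one_iff, mem_subgroupOf]
    simpa using hyp
  have hne1 : orderOf ybar ≠ 1 := by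
    intro h1
    rw [orderOf_eq_one_iff, QuotientGroup.eq_one_iff, mem_subgroupOf] at h1
    exact hy h1
  have hcp : orderOf ybar = p := ((Nat.dvd_prime hpp).mp hord).resolve_left hne1
  have h3 := Subgroup.card_eq_card_quotient_mul_card_subgroup (W.subgroupOf L)
  rw [hcardQ, hcp] at h3
  have h4 : Nat.card (W.subgroupOf L) = Nat.card W :=
    Nat.card_congr (Subgroup.subgroupOfEquivOfLe hWL).toEquiv
  rw [h4] at h3
  exact h3

/-- The relative version of softness of `E/W` in `V/W`. -/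
structure Soft (p : ℕ) (W E V : Subgroup P) : Prop where
  wE : W ≤ E
  eV : E ≤ V
  wn : ∀ v ∈ V, ∀ w ∈ W, v * w * v⁻¹ ∈ W
  ab : ∀ a ∈ E, ∀ b ∈ E, ⁅a, b⁆ ∈ W
  cent : ∀ v ∈ V, (∀ e ∈ E, ⁅v, e⁆ ∈ W) → v ∈ E
  nc : Nat.card (V ⊓ normalizer (E : Set P) : Subgroup P) = p * Nat.card E
  idx : p ^ 2 * Nat.card E ≤ Nat.card V

namespace Soft

variable {W E V : Subgroup P} (hP : IsPGroup p P) (S : Soft p W E V)

include S

omit hp in
theorem wn₁ : ∀ v ∈ (V ⊓ normalizer (E : Set P) : Subgroup P), ∀ w ∈ W, v * w * v⁻¹ ∈ W :=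
  fun v hv => S.wn v hv.1

omit hp in
theorem le₁ : E ≤ (V ⊓ normalizer (E : Set P) : Subgroup P) :=
  le_inf S.eV Subgroup.le_normalizer

include hP

theorem lt₁ : E < (V ⊓ normalizer (E : Set P) : Subgroup P) := by
  refine lt_of_le_of_ne S.le₁ ?_
  intro h
  have h1 := S.nc
  rw [← h] at h1
  have hpp := hp.out
  have h2 : 0 < Nat.card E := Nat.card_pos
  nlinarith [hpp.two_le]

theorem lt₂ : (V ⊓ normalizer (E : Set P) : Subgroup P) < V := by
  refine lt_of_le_of_ne inf_le_left ?_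
  intro h
  have h1 := S.nc
  have h2 := S.idx
  rw [h] at h1
  rw [h1] at h2
  have hpp := hp.out
  have h3 : 0 < Nat.card E := Nat.card_pos
  have h4 : p * Nat.card E < p ^ 2 * Nat.card E := by
    apply Nat.mul_lt_mul_of_pos_right _ h3
    nlinarith [hpp.two_le]
  omega

/-- The relative centre of `E₁`. -/
abbrev D₁ (S : Soft p W E V) : Subgroup P := ZRel W (V ⊓ normalizer (E : Set P) : Subgroup P) S.wn₁

omit hP hp in
theorem D_le_E : S.D₁ ≤ E := by
  rintro z ⟨hz, hz'⟩
  exact S.cent z hz.1 (fun e he => hz' e (S.le₁ he))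

omit hP hp in
theorem W_le_D : W ≤ S.D₁ := by
  intro w hw
  refine ⟨S.le₁ (S.wE hw), fun k hk => ?_⟩
  have h1 := S.wn₁ k hk w⁻¹ (W.inv_mem hw)
  have h2 : ⁅w, k⁆ = w * (k * w⁻¹ * k⁻¹) := by
    rw [commutatorElement_def]
    group
  rw [h2]
  exact W.mul_mem hw h1

theorem exists_x : ∃ x ∈ (V ⊓ normalizer (E : Set P) : Subgroup P), x ∉ E :=
  SetLike.exists_of_lt (S.lt₁ hP)

/-- `|E : D| = p`. -/
theorem card_E : Nat.card E = p * Nat.card S.D₁ := by
  classical
  have hpp := hp.out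
  set E₁ : Subgroup P := V ⊓ normalizer (E : Set P) with hE₁
  obtain ⟨g, hgV, hgE, hgN⟩ := exists_normalizer_step hP (S.lt₂ hP)
  let F : Subgroup P := E.map (MulAut.conj g).toMonoidHom
  have hFmem : ∀ a, a ∈ F ↔ g⁻¹ * a * g ∈ E := by
    intro a
    constructor
    · rintro ⟨b, hb, rfl⟩
      have : g⁻¹ * ((MulAut.conj g).toMonoidHom b) * g = b := by
        simp [MulAut.conj_apply]
        group
      rw [this]
      exact hb
    · intro h
      refine ⟨_, h, ?_⟩
      simp [MulAut.conj_apply]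
      group
  have hFE₁ : F ≤ E₁ := by
    rintro _ ⟨b, hb, rfl⟩
    exact (mem_normalizer_iff.mp hgN b).mp (S.le₁ hb)
  have hFc : Nat.card F = Nat.card E := Subgroup.card_map_of_injective (MulAut.conj g).injective
  have hFne : F ≠ E := by
    intro h
    apply hgE
    refine ⟨hgV, ?_⟩
    apply mem_normalizer_of_conj_le
    intro a ha
    have : g * a * g⁻¹ ∈ F := ⟨a, ha, rfl⟩
    rwa [h] at this
  obtain ⟨h, hhF, hhE⟩ : ∃ h ∈ F, h ∉ E := by
    by_contra hcon
    push Not at hcon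
    exact hFne (Subgroup.eq_of_le_of_card_ge hcon (le_of_eq hFc.symm))
  have hE₁c : Nat.card E₁ = p * Nat.card E := S.nc
  have hsup : closure ({h} : Set P) ⊔ E = E₁ := sup_eq_of_step hP S.le₁ hE₁c (hFE₁ hhF) hhE
  -- the intersection lies in `D`
  have hI : E ⊓ F ≤ S.D₁ := by
    rintro a ⟨haE, haF⟩
    refine ⟨S.le₁ haE, ?_⟩
    have hle : closure ({h} : Set P) ⊔ E ≤ CR E₁ W S.wn₁ a := by
      refine sup_le ?_ ?_
      · rw [closure_le]
        intro z hz
        have hz' : z = h := hz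
        rw [hz']
        refine ⟨hFE₁ hhF, ?_⟩
        have h1 := S.ab _ ((hFmem a).mp haF) _ ((hFmem h).mp hhF)
        have h2 := S.wn g hgV _ h1
        have h3 : g * ⁅g⁻¹ * a * g, g⁻¹ * h * g⁆ * g⁻¹ = ⁅a, h⁆ := by
          simp only [commutatorElement_def]
          group
        rwa [h3] at h2
      · intro e he
        exact ⟨S.le₁ he, S.ab a haE e he⟩
    intro k hk
    have hk' : k ∈ closure ({h} : Set P) ⊔ E := by rw [hsup]; exact hk
    exact (hle hk').2
  -- the product formula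
  have hprod := Cfsg.Agent.Lib.QuadAct.Basic.card_sup_mul_card_inf_of_le_normalizer E F
    (le_trans S.le₁ (normal_step hP hFE₁ (by rw [hFc]; exact hE₁c)))
  have hsup2 : E ⊔ F = E₁ := by
    apply le_antisymm (sup_le S.le₁ hFE₁)
    have h' : closure ({h} : Set P) ⊔ E ≤ E ⊔ F := by
      refine sup_le ?_ le_sup_left
      rw [closure_le]
      intro z hz
      have hz' : z = h := hz
      rw [hz']
      exact mem_sup_right hhF
    rw [hsup] at h'
    exact h'
  rw [hsup2, hE₁c, hFc] at hprod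
  have hIc : Nat.card E = p * Nat.card (E ⊓ F : Subgroup P) := by
    have h5 : 0 < Nat.card E := Nat.card_pos
    have h6 : Nat.card E * (p * Nat.card (E ⊓ F : Subgroup P)) = Nat.card E * Nat.card E := by
      rw [← hprod]
      ring
    exact (Nat.eq_of_mul_eq_mul_left h5 h6).symm
  -- `D ≠ E`
  obtain ⟨x, hx, hx'⟩ := S.exists_x hP
  have hDne : S.D₁ ≠ E := by
    intro hD
    apply hx'
    refine S.cent x hx.1 (fun e he => ?_)
    have he' : e ∈ S.D₁ := by rw [hD]; exact he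
    have h1 := he'.2 x hx
    rw [← commutatorElement_inv]
    exact W.inv_mem h1
  have hlt : S.D₁ < E := lt_of_le_of_ne (S.D_le_E) hDne
  have h7 := mul_card_le_of_lt hP hlt
  have h8 := Nat.le_of_dvd Nat.card_pos (Subgroup.card_dvd_of_le hI)
  have h9 : Nat.card S.D₁ = Nat.card (E ⊓ F : Subgroup P) := by
    apply le_antisymm _ h8
    have h10 : p * Nat.card S.D₁ ≤ p * Nat.card (E ⊓ F : Subgroup P) := by
      rw [← hIc]
      exact h7
    exact Nat.le_of_mul_le_mul_left h10 hpp.pos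
  rw [h9]
  exact hIc

/-- `|E₁ : D| = p²`. -/
theorem card_E₁ : Nat.card (V ⊓ normalizer (E : Set P) : Subgroup P) = p ^ 2 * Nat.card S.D₁ := by
  rw [S.nc, S.card_E hP]
  ring

theorem D_normal₁ : ∀ a ∈ (V ⊓ normalizer (E : Set P) : Subgroup P), ∀ d ∈ S.D₁, a * d * a⁻¹ ∈ S.D₁ := by
  rintro a ha d ⟨hd, hd'⟩
  refine ⟨mul_mem (mul_mem ha hd) (inv_mem ha), fun k hk => ?_⟩
  have h1 := hd' (a⁻¹ * k * a) (mul_mem (mul_mem (inv_mem ha) hk) ha)
  have h2 := S.wn₁ a ha _ h1
  rwa [comm_conj, show a * (a⁻¹ * k * a) * a⁻¹ = k by group] at h2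

theorem comm_mem_D : ∀ a ∈ (V ⊓ normalizer (E : Set P) : Subgroup P),
    ∀ b ∈ (V ⊓ normalizer (E : Set P) : Subgroup P), ⁅a, b⁆ ∈ S.D₁ := by
  set E₁ : Subgroup P := V ⊓ normalizer (E : Set P) with hE₁
  have hDle : S.D₁ ≤ E₁ := fun z hz => hz.1
  have hn : (S.D₁.subgroupOf E₁).Normal := by
    refine ⟨fun d hd a => ?_⟩
    rw [mem_subgroupOf] at hd ⊢
    exact S.D_normal₁ hP a a.2 d hd
  have hc : Nat.card (E₁ ⧸ S.D₁.subgroupOf E₁) = p ^ 2 := by
    have h1 := Subgroup.card_eq_card_quotient_mul_card_subgroup (S.D₁.subgroupOf E₁)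
    have h2 : Nat.card (S.D₁.subgroupOf E₁) = Nat.card S.D₁ :=
      Nat.card_congr (Subgroup.subgroupOfEquivOfLe hDle).toEquiv
    rw [h2] at h1
    have h3 : Nat.card E₁ = p ^ 2 * Nat.card S.D₁ := S.card_E₁ hP
    rw [h3] at h1
    exact (Nat.eq_of_mul_eq_mul_right Nat.card_pos h1).symm
  have hcomm := IsPGroup.commutative_of_card_eq_prime_sq hc
  intro a ha b hb
  have h4 := hcomm ((⟨b⁻¹, inv_mem hb⟩ : E₁) : E₁ ⧸ S.D₁.subgroupOf E₁) ((⟨a⁻¹, inv_mem ha⟩ : E₁) : E₁ ⧸ S.D₁.subgroupOf E₁)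
  rw [← QuotientGroup.mk_mul, ← QuotientGroup.mk_mul, QuotientGroup.eq, mem_subgroupOf] at h4
  have h5 : ⁅a, b⁆ = (((⟨b⁻¹, inv_mem hb⟩ * ⟨a⁻¹, inv_mem ha⟩ : E₁)⁻¹ * (⟨a⁻¹, inv_mem ha⟩ * ⟨b⁻¹, inv_mem hb⟩ : E₁) : E₁) : P) := by
    simp [commutatorElement_def, mul_assoc]
  rw [h5]
  exact h4

/-- The subgroup `E₁' W` has order `p` modulo `W`. -/
theorem exists_R : ∃ R : Subgroup P, W ≤ R ∧ R ≤ S.D₁ ∧ Nat.card R = p * Nat.card W ∧
    (∀ a ∈ (V ⊓ normalizer (E : Set P) : Subgroup P), ∀ b ∈ (V ⊓ normalizer (E : Set P) : Subgroup P), ⁅a, b⁆ ∈ R) ∧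
    (∃ a ∈ (V ⊓ normalizer (E : Set P) : Subgroup P), ∃ b ∈ (V ⊓ normalizer (E : Set P) : Subgroup P), ⁅a, b⁆ ∉ W) := by
  classical
  have hpp := hp.out
  set E₁ : Subgroup P := V ⊓ normalizer (E : Set P) with hE₁
  obtain ⟨x, hx, hx'⟩ := S.exists_x hP
  have hcE := S.card_E hP
  have hDltE : S.D₁ < E := by
    refine lt_of_le_of_ne S.D_le_E ?_
    intro h
    have h1 : Nat.card S.D₁ = Nat.card E := by rw [h]
    rw [hcE] at h1
    have h2 : 0 < Nat.card S.D₁ := Nat.card_pos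
    nlinarith [hpp.two_le]
  obtain ⟨e₀, he₀, he₀'⟩ := SetLike.exists_of_lt hDltE
  have hsupE : closure ({e₀} : Set P) ⊔ S.D₁ = E := sup_eq_of_step hP S.D_le_E hcE he₀ he₀'
  have hsupE₁ : closure ({x} : Set P) ⊔ E = E₁ := sup_eq_of_step hP S.le₁ S.nc hx hx'
  have he₀₁ : e₀ ∈ E₁ := S.le₁ he₀
  let y₀ := ⁅x, e₀⁆
  have hy₀D : y₀ ∈ S.D₁ := S.comm_mem_D hP x hx e₀ he₀₁
  have hcomm_D : ∀ d ∈ S.D₁, ∀ a ∈ E₁, ⁅a, d⁆ ∈ W := by
    intro d hd a ha
    rw [← commutatorElement_inv]
    exact W.inv_mem (hd.2 a ha)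
  have hy₀W : y₀ ∉ W := by
    intro hy
    apply hx'
    have hle : closure ({e₀} : Set P) ⊔ S.D₁ ≤ CR E₁ W S.wn₁ x := by
      refine sup_le ?_ ?_
      · rw [closure_le]
        intro z hz
        have hz' : z = e₀ := hz
        rw [hz']
        exact ⟨he₀₁, hy⟩
      · intro d hd
        exact ⟨hd.1, hcomm_D d hd x hx⟩
    refine S.cent x hx.1 (fun e he => ?_)
    have he' : e ∈ closure ({e₀} : Set P) ⊔ S.D₁ := by rw [hsupE]; exact he
    exact (hle he').2
  -- `e₀^p ∈ D`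
  have he₀p : e₀ ^ p ∈ S.D₁ := by
    have hDn : E ≤ normalizer ((S.D₁ : Subgroup P) : Set P) := normal_step hP S.D_le_E hcE
    have hn : (S.D₁.subgroupOf E).Normal := Subgroup.normal_subgroupOf_of_le_normalizer hDn
    have hc : Nat.card (E ⧸ S.D₁.subgroupOf E) = p := by
      have h1 := Subgroup.card_eq_card_quotient_mul_card_subgroup (S.D₁.subgroupOf E)
      have h2 : Nat.card (S.D₁.subgroupOf E) = Nat.card S.D₁ :=
        Nat.card_congr (Subgroup.subgroupOfEquivOfLe S.D_le_E).toEquiv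
      rw [h2, hcE] at h1
      exact (Nat.eq_of_mul_eq_mul_right Nat.card_pos h1).symm
    have h3 := pow_card_eq_one' (x := ((⟨e₀, he₀⟩ : E) : E ⧸ S.D₁.subgroupOf E))
    rw [hc, ← QuotientGroup.mk_pow, QuotientGroup.eq_one_iff, mem_subgroupOf] at h3
    simpa using h3
  -- `y₀^p ∈ W`
  have hcomm_pow : ∀ k : ℕ, ⁅x, e₀ ^ k⁆ * (y₀ ^ k)⁻¹ ∈ W := by
    intro k
    induction k with
    | zero => simp [W.one_mem]
    | succ k ih =>
      have h1 : ⁅x, e₀ ^ (k + 1)⁆ = ⁅x, e₀ ^ k⁆ * (e₀ ^ k * y₀ * (e₀ ^ k)⁻¹) := by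
        rw [pow_succ, comm_mul_right]
      have hek : e₀ ^ k ∈ E₁ := pow_mem he₀₁ k
      have h2 : e₀ ^ k * y₀ * (e₀ ^ k)⁻¹ = ⁅e₀ ^ k, y₀⁆ * y₀ := conj_eq_comm_mul _ _
      have h3 : ⁅e₀ ^ k, y₀⁆ ∈ W := hcomm_D y₀ hy₀D _ hek
      have hyV : y₀ ^ k ∈ V := pow_mem (inf_le_left (a := V) (hy₀D.1)) k
      have h4 : ⁅x, e₀ ^ (k + 1)⁆ * (y₀ ^ (k + 1))⁻¹ =
          (⁅x, e₀ ^ k⁆ * (y₀ ^ k)⁻¹) * (y₀ ^ k * ⁅e₀ ^ k, y₀⁆ * (y₀ ^ k)⁻¹) := by
        rw [h1, h2, pow_succ]
        group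
      rw [h4]
      exact W.mul_mem ih (S.wn _ hyV _ h3)
  have hy₀p : y₀ ^ p ∈ W := by
    have h1 := hcomm_pow p
    have h2 : ⁅x, e₀ ^ p⁆ ∈ W := hcomm_D _ he₀p x hx
    have h3 : y₀ ^ p = ((⁅x, e₀ ^ p⁆ * (y₀ ^ p)⁻¹)⁻¹) * ⁅x, e₀ ^ p⁆ := by group
    rw [h3]
    exact W.mul_mem (W.inv_mem h1) h2
  have hy₀V : y₀ ∈ V := inf_le_left (a := V) (hy₀D.1)
  let R : Subgroup P := closure ({y₀} : Set P) ⊔ W
  have hRc : Nat.card R = p * Nat.card W := card_sup_step hP (S.wn y₀ hy₀V) hy₀W hy₀p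
  have hWR : W ≤ R := le_sup_right
  have hy₀R : y₀ ∈ R := mem_sup_left (subset_closure rfl)
  have hRD : R ≤ S.D₁ := by
    refine sup_le ?_ S.W_le_D
    rw [closure_le]
    intro z hz
    have hz' : z = y₀ := hz
    rw [hz']
    exact hy₀D
  have hRn : ∀ a ∈ E₁, ∀ r ∈ R, a * r * a⁻¹ ∈ R := by
    intro a ha r hr
    rw [conj_eq_comm_mul]
    exact R.mul_mem (hWR (hcomm_D r (hRD hr) a ha)) hr
  -- all commutators
  have hflip : ∀ a b : P, ⁅a, b⁆ ∈ R → ⁅b, a⁆ ∈ R := by
    intro a b h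
    rw [← commutatorElement_inv]
    exact R.inv_mem h
  have hs1 : ∀ e ∈ E, ⁅x, e⁆ ∈ R := by
    have hle : closure ({e₀} : Set P) ⊔ S.D₁ ≤ CR E₁ R hRn x := by
      refine sup_le ?_ ?_
      · rw [closure_le]
        intro z hz
        have hz' : z = e₀ := hz
        rw [hz']
        exact ⟨he₀₁, hy₀R⟩
      · intro d hd
        exact ⟨hd.1, hWR (hcomm_D d hd x hx)⟩
    intro e he
    have he' : e ∈ closure ({e₀} : Set P) ⊔ S.D₁ := by rw [hsupE]; exact he
    exact (hle he').2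
  have hs2 : ∀ e ∈ E, ∀ a ∈ E₁, ⁅e, a⁆ ∈ R := by
    intro e he
    have hle : closure ({x} : Set P) ⊔ E ≤ CR E₁ R hRn e := by
      refine sup_le ?_ ?_
      · rw [closure_le]
        intro z hz
        have hz' : z = x := hz
        rw [hz']
        exact ⟨hx, hflip _ _ (hs1 e he)⟩
      · intro f hf
        exact ⟨S.le₁ hf, hWR (S.ab e he f hf)⟩
    intro a ha
    have ha' : a ∈ closure ({x} : Set P) ⊔ E := by rw [hsupE₁]; exact ha
    exact (hle ha').2
  have hs3 : ∀ a ∈ E₁, ⁅x, a⁆ ∈ R := by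
    have hle : closure ({x} : Set P) ⊔ E ≤ CR E₁ R hRn x := by
      refine sup_le ?_ ?_
      · rw [closure_le]
        intro z hz
        have hz' : z = x := hz
        rw [hz']
        refine ⟨hx, ?_⟩
        rw [commutatorElement_self]
        exact R.one_mem
      · intro f hf
        exact ⟨S.le₁ hf, hs1 f hf⟩
    intro a ha
    have ha' : a ∈ closure ({x} : Set P) ⊔ E := by rw [hsupE₁]; exact ha
    exact (hle ha').2
  refine ⟨R, hWR, hRD, hRc, ?_, x, hx, e₀, he₀₁, hy₀W⟩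
  intro a ha b hb
  have hle : closure ({x} : Set P) ⊔ E ≤ CR E₁ R hRn a := by
    refine sup_le ?_ ?_
    · rw [closure_le]
      intro z hz
      have hz' : z = x := hz
      rw [hz']
      exact ⟨hx, hflip _ _ (hs3 a ha)⟩
    · intro f hf
      exact ⟨S.le₁ hf, hflip _ _ (hs2 f hf a ha)⟩
  have hb' : b ∈ closure ({x} : Set P) ⊔ E := by rw [hsupE₁]; exact hb
  exact (hle hb').2

/-- The normalizer of `E₁` has `E₁` of index `p`. -/
theorem card_norm₁ :
    Nat.card (V ⊓ normalizer ((V ⊓ normalizer (E : Set P) : Subgroup P) : Set P) : Subgroup P) =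
      p * Nat.card (V ⊓ normalizer (E : Set P) : Subgroup P) := by
  classical
  have hpp := hp.out
  set E₁ : Subgroup P := V ⊓ normalizer (E : Set P) with hE₁
  set V' : Subgroup P := V ⊓ normalizer (E₁ : Set P) with hV'
  have hE₁V' : E₁ ≤ V' := le_inf inf_le_left Subgroup.le_normalizer
  have hlt : E₁ < V' := by
    obtain ⟨g, hgV, hgE, hgN⟩ := exists_normalizer_step hP (S.lt₂ hP)
    refine lt_of_le_of_ne hE₁V' ?_
    intro h
    apply hgE
    have : g ∈ V' := ⟨hgV, hgN⟩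
    rw [← h] at this
    exact this
  -- `e₀`
  have hDltE : S.D₁ < E := by
    refine lt_of_le_of_ne S.D_le_E ?_
    intro h
    have h1 : Nat.card S.D₁ = Nat.card E := by rw [h]
    rw [S.card_E hP] at h1
    have h2 : 0 < Nat.card S.D₁ := Nat.card_pos
    nlinarith [hpp.two_le]
  obtain ⟨e₀, he₀, he₀'⟩ := SetLike.exists_of_lt hDltE
  have hsupE : closure ({e₀} : Set P) ⊔ S.D₁ = E := sup_eq_of_step hP S.D_le_E (S.card_E hP) he₀ he₀'
  have he₀₁ : e₀ ∈ E₁ := S.le₁ he₀
  have hDle : S.D₁ ≤ E₁ := fun z hz => hz.1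
  -- `D` is normalized by `V'`
  have hDV' : ∀ v ∈ V', ∀ d ∈ S.D₁, v * d * v⁻¹ ∈ S.D₁ := by
    rintro v hv d ⟨hd, hd'⟩
    refine ⟨(mem_normalizer_iff.mp hv.2 d).mp hd, fun k hk => ?_⟩
    have h1 := hd' (v⁻¹ * k * v) (by
      have := (mem_normalizer_iff.mp (inv_mem hv.2) k).mp hk
      rwa [inv_inv] at this)
    have h2 := S.wn v hv.1 _ h1
    rwa [comm_conj, show v * (v⁻¹ * k * v) * v⁻¹ = k by group] at h2
  have hn : (S.D₁.subgroupOf E₁).Normal := by
    refine ⟨fun d hd a => ?_⟩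
    rw [mem_subgroupOf] at hd ⊢
    exact S.D_normal₁ hP a a.2 d hd
  have hc : Nat.card (E₁ ⧸ S.D₁.subgroupOf E₁) = p ^ 2 := by
    have h1 := Subgroup.card_eq_card_quotient_mul_card_subgroup (S.D₁.subgroupOf E₁)
    have h2 : Nat.card (S.D₁.subgroupOf E₁) = Nat.card S.D₁ :=
      Nat.card_congr (Subgroup.subgroupOfEquivOfLe hDle).toEquiv
    rw [h2] at h1
    have h3 : Nat.card E₁ = p ^ 2 * Nat.card S.D₁ := S.card_E₁ hP
    rw [h3] at h1
    exact (Nat.eq_of_mul_eq_mul_right Nat.card_pos h1).symm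
  -- the map
  let φ : V' → (E₁ ⧸ S.D₁.subgroupOf E₁) := fun v =>
    ((⟨(v : P) * e₀ * (v : P)⁻¹, (mem_normalizer_iff.mp v.2.2 e₀).mp he₀₁⟩ : E₁) : E₁ ⧸ S.D₁.subgroupOf E₁)
  have hφ : ∀ v v' : V', φ v = φ v' ↔ ((v : P) * e₀⁻¹ * (v : P)⁻¹) * ((v' : P) * e₀ * (v' : P)⁻¹) ∈ S.D₁ := by
    intro v v'
    show (_ : E₁ ⧸ S.D₁.subgroupOf E₁) = _ ↔ _
    rw [QuotientGroup.eq, mem_subgroupOf]
    have : (((⟨(v : P) * e₀ * (v : P)⁻¹, (mem_normalizer_iff.mp v.2.2 e₀).mp he₀₁⟩ : E₁)⁻¹ *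
        (⟨(v' : P) * e₀ * (v' : P)⁻¹, (mem_normalizer_iff.mp v'.2.2 e₀).mp he₀₁⟩ : E₁) : E₁) : P) =
        ((v : P) * e₀⁻¹ * (v : P)⁻¹) * ((v' : P) * e₀ * (v' : P)⁻¹) := by
      simp [mul_assoc]
    rw [this]
  -- well defined on cosets
  have hwell : ∀ v v' : V', v⁻¹ * v' ∈ E₁.subgroupOf V' → φ v = φ v' := by
    intro v v' h
    rw [hφ]
    rw [mem_subgroupOf] at h
    have ha : ((v : P)⁻¹ * (v' : P)) ∈ E₁ := h
    have hco := S.comm_mem_D hP e₀⁻¹ (inv_mem he₀₁) _ ha
    have h2 := hDV' v v.2 _ hco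
    have h3 : (v : P) * ⁅e₀⁻¹, (v : P)⁻¹ * (v' : P)⁆ * (v : P)⁻¹ =
        ((v : P) * e₀⁻¹ * (v : P)⁻¹) * ((v' : P) * e₀ * (v' : P)⁻¹) := by
      simp only [commutatorElement_def]
      group
    rwa [h3] at h2
  have hinj : ∀ v v' : V', φ v = φ v' → v⁻¹ * v' ∈ E₁.subgroupOf V' := by
    intro v v' h
    rw [hφ] at h
    rw [mem_subgroupOf]
    let a : P := (v : P)⁻¹ * (v' : P)
    have haV : a ∈ V' := V'.mul_mem (V'.inv_mem v.2) v'.2
    have h2 := hDV' _ (V'.inv_mem v.2) _ h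
    have h3 : (v : P)⁻¹ * (((v : P) * e₀⁻¹ * (v : P)⁻¹) * ((v' : P) * e₀ * (v' : P)⁻¹)) * ((v : P)⁻¹)⁻¹ =
        e₀⁻¹ * (a * e₀ * a⁻¹) := by
      simp only [a]
      group
    rw [h3] at h2
    -- `a` normalizes `E`
    have hae₀ : a * e₀ * a⁻¹ ∈ E := by
      have h4 : a * e₀ * a⁻¹ = e₀ * (e₀⁻¹ * (a * e₀ * a⁻¹)) := by group
      rw [h4]
      exact E.mul_mem he₀ (S.D_le_E h2)
    have hle : closure ({e₀} : Set P) ⊔ S.D₁ ≤ E.comap (MulAut.conj a).toMonoidHom := by
      refine sup_le ?_ ?_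
      · rw [closure_le]
        intro z hz
        have hz' : z = e₀ := hz
        rw [hz']
        exact hae₀
      · intro d hd
        exact S.D_le_E (hDV' a haV d hd)
    have haN : a ∈ normalizer (E : Set P) := by
      apply mem_normalizer_of_conj_le
      intro e he
      have he' : e ∈ closure ({e₀} : Set P) ⊔ S.D₁ := by rw [hsupE]; exact he
      exact hle he'
    exact ⟨haV.1, haN⟩
  -- the induced map on cosets
  let F : (V' ⧸ E₁.subgroupOf V') → (E₁ ⧸ S.D₁.subgroupOf E₁) :=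
    Quotient.lift φ (by
      intro a b hab
      apply hwell
      exact QuotientGroup.leftRel_apply.mp hab)
  have hFinj : Function.Injective F := by
    intro a b
    induction a using QuotientGroup.induction_on with
    | H v =>
      induction b using QuotientGroup.induction_on with
      | H v' =>
        intro h
        rw [QuotientGroup.eq]
        exact hinj v v' h
  have hFne : ∀ q, F q ≠ 1 := by
    intro q
    induction q using QuotientGroup.induction_on with
    | H v =>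
      intro h
      have h1 : φ v = 1 := h
      have h2 : (((⟨(v : P) * e₀ * (v : P)⁻¹, (mem_normalizer_iff.mp v.2.2 e₀).mp he₀₁⟩ : E₁)) : E₁ ⧸ S.D₁.subgroupOf E₁) = 1 := h1
      rw [QuotientGroup.eq_one_iff, mem_subgroupOf] at h2
      have h3 := hDV' _ (V'.inv_mem v.2) _ h2
      have h4 : (v : P)⁻¹ * ((v : P) * e₀ * (v : P)⁻¹) * ((v : P)⁻¹)⁻¹ = e₀ := by group
      rw [h4] at h3
      exact he₀' h3
  have hlt2 : Nat.card (V' ⧸ E₁.subgroupOf V') < p ^ 2 := by
    rw [← hc]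
    haveI := Fintype.ofFinite (V' ⧸ E₁.subgroupOf V')
    haveI := Fintype.ofFinite (E₁ ⧸ S.D₁.subgroupOf E₁)
    rw [Nat.card_eq_fintype_card, Nat.card_eq_fintype_card]
    refine Fintype.card_lt_of_injective_not_surjective F hFinj ?_
    intro hs
    obtain ⟨q, hq⟩ := hs 1
    exact hFne q hq
  -- conclusion
  have hidx : Nat.card V' = Nat.card (V' ⧸ E₁.subgroupOf V') * Nat.card E₁ := by
    have h1 := Subgroup.card_eq_card_quotient_mul_card_subgroup (E₁.subgroupOf V')
    have h2 : Nat.card (E₁.subgroupOf V') = Nat.card E₁ :=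
      Nat.card_congr (Subgroup.subgroupOfEquivOfLe hE₁V').toEquiv
    rw [h2] at h1
    exact h1
  obtain ⟨a, ha⟩ := IsPGroup.iff_card.mp (hP.to_subgroup V')
  have hdv : Nat.card (V' ⧸ E₁.subgroupOf V') ∣ p ^ a := by
    rw [← ha, hidx]
    exact dvd_mul_right _ _
  obtain ⟨t, -, ht⟩ := (Nat.dvd_prime_pow hpp).mp hdv
  rw [ht] at hlt2 hidx
  have ht2 : t < 2 := (Nat.pow_lt_pow_iff_right hpp.one_lt).mp hlt2
  have ht0 : t ≠ 0 := by
    intro h0
    rw [h0, pow_zero, one_mul] at hidx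
    have := card_lt_of_lt hlt
    omega
  have ht1 : t = 1 := by omega
  rw [ht1, pow_one] at hidx
  exact hidx

end Soft

/-- The conclusions for an overgroup `K` of `E`. -/
structure Concl (p : ℕ) (W E V K : Subgroup P) : Prop where
  A : Nat.card (V ⊓ normalizer (K : Set P) : Subgroup P) = p * Nat.card K
  B : ∀ a ∈ (V ⊓ normalizer (E : Set P) : Subgroup P), ∀ b ∈ (V ⊓ normalizer (E : Set P) : Subgroup P),
    ∀ k ∈ K, ⁅⁅a, b⁆, k⁆ ∈ W
  C : ∀ j : ℕ, Nat.card K = p ^ j * Nat.card E →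
    K.lowerCentralSeries (j + 1) ≤ W ∧ ¬ K.lowerCentralSeries j ≤ W

theorem uniq_of_A (hP : IsPGroup p P) {E V : Subgroup P} (c : ℕ)
    (hA : ∀ L : Subgroup P, E ≤ L → L ≤ V → Nat.card L < c →
      Nat.card (V ⊓ normalizer (L : Set P) : Subgroup P) = p * Nat.card L) :
    ∀ n : ℕ, ∀ K₁ K₂ : Subgroup P, E ≤ K₁ → K₁ ≤ V → E ≤ K₂ → K₂ ≤ V →
      Nat.card K₁ = n → Nat.card K₂ = n → n ≤ c → K₁ = K₂ := by
  intro n
  induction n using Nat.strong_induction_on with
  | _ n ih =>
    intro K₁ K₂ h1 h2 h3 h4 h5 h6 h7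
    have hpp := hp.out
    by_cases he : K₁ = E
    · subst he
      exact Subgroup.eq_of_le_of_card_ge h3 (by omega)
    · have hlt1 : E < K₁ := lt_of_le_of_ne h1 (Ne.symm he)
      have hlt2 : E < K₂ := by
        refine lt_of_le_of_ne h3 ?_
        intro h
        apply he
        rw [← h] at h6
        symm
        exact Subgroup.eq_of_le_of_card_ge h1 (by omega)
      obtain ⟨T₁, hT₁, hT₁', hc₁⟩ := exists_step_below hP hlt1
      obtain ⟨T₂, hT₂, hT₂', hc₂⟩ := exists_step_below hP hlt2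
      have hlt : Nat.card T₁ < n := by
        have := card_lt_of_lt hT₁'
        omega
      have heq : Nat.card T₁ = Nat.card T₂ := by
        have : p * Nat.card T₁ = p * Nat.card T₂ := by omega
        exact Nat.eq_of_mul_eq_mul_left hpp.pos this
      have hT : T₁ = T₂ := ih _ hlt T₁ T₂ hT₁ (hT₁'.le.trans h2) hT₂ (hT₂'.le.trans h4) rfl heq.symm (by omega)
      subst hT
      have hAT := hA T₁ hT₁ (hT₁'.le.trans h2) (by omega)
      have e1 : K₁ = V ⊓ normalizer (T₁ : Set P) :=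
        Subgroup.eq_of_le_of_card_ge (le_inf h2 (normal_step hP hT₁'.le hc₁)) (by rw [hAT, hc₁])
      have e2 : K₂ = V ⊓ normalizer (T₁ : Set P) :=
        Subgroup.eq_of_le_of_card_ge (le_inf h4 (normal_step hP hT₂'.le hc₂)) (by rw [hAT, hc₂])
      rw [e1, e2]

theorem norm_le_of_A (hP : IsPGroup p P) {T K V : Subgroup P}
    (hA : Nat.card (V ⊓ normalizer (T : Set P) : Subgroup P) = p * Nat.card T) (hTK : T < K) (hKV : K ≤ V) :
    V ⊓ normalizer (T : Set P) ≤ K := by
  obtain ⟨C, hTC, hCK, hc⟩ := exists_step_above hP hTK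
  have hle : C ≤ V ⊓ normalizer (T : Set P) := le_inf (hCK.trans hKV) (normal_step hP hTC.le hc)
  have : C = V ⊓ normalizer (T : Set P) := Subgroup.eq_of_le_of_card_ge hle (by rw [hA, hc])
  rw [← this]
  exact hCK

namespace Soft

variable {W E V : Subgroup P} (hP : IsPGroup p P) (S : Soft p W E V)

include S hP

theorem concl_E : Concl p W E V E := by
  have hpp := hp.out
  refine ⟨S.nc, ?_, ?_⟩
  · intro a ha b hb k hk
    exact (S.comm_mem_D hP a ha b hb).2 k (S.le₁ hk)
  · intro j hj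
    have hj0 : j = 0 := by
      have h1 : 1 * Nat.card E = p ^ j * Nat.card E := by rw [one_mul]; exact hj
      have h2 := Nat.eq_of_mul_eq_mul_right Nat.card_pos h1
      by_contra h
      have : 1 < p ^ j := Nat.one_lt_pow h hpp.one_lt
      omega
    subst hj0
    constructor
    · rw [Subgroup.lowerCentralSeries_succ, commutator_le]
      intro a ha b hb
      exact S.ab a ha b hb
    · intro h
      have h1 : V ≤ E := fun v hv => S.cent v hv (fun e he => by
        rw [commutatorElement_def]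
        exact W.mul_mem (S.wn v hv e (h he)) (W.inv_mem (h he)))
      exact lt_irrefl _ (((S.lt₁ hP).trans (S.lt₂ hP)).trans_le h1)

theorem concl_E₁ : Concl p W E V (V ⊓ normalizer (E : Set P) : Subgroup P) := by
  have hpp := hp.out
  refine ⟨S.card_norm₁ hP, ?_, ?_⟩
  · intro a ha b hb k hk
    exact (S.comm_mem_D hP a ha b hb).2 k hk
  · intro j hj
    have hj1 : j = 1 := by
      have h1 : p ^ 1 * Nat.card E = p ^ j * Nat.card E := by rw [pow_one, ← S.nc]; exact hj
      have h2 := Nat.eq_of_mul_eq_mul_right Nat.card_pos h1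
      exact (Nat.pow_right_injective hpp.two_le h2).symm
    subst hj1
    obtain ⟨R, hWR, hRD, hcR, hRcomm, a, ha, b, hb, hab⟩ := S.exists_R hP
    constructor
    · rw [Subgroup.lowerCentralSeries_succ, commutator_le]
      intro x hx k hk
      have h1 : (V ⊓ normalizer (E : Set P) : Subgroup P).lowerCentralSeries 1 ≤ S.D₁ := by
        rw [Subgroup.lowerCentralSeries_succ, commutator_le]
        exact S.comm_mem_D hP
      exact (h1 hx).2 k hk
    · intro h
      exact hab (h (commutator_mem_commutator ha hb))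

theorem step_B (hout : ∀ W' E' V' : Subgroup P, Soft p W' E' V' → Nat.card V' - Nat.card W' < Nat.card V - Nat.card W →
      ∀ K', E' ≤ K' → K' ≤ V' → K' ≠ V' → Concl p W' E' V' K')
    {K T : Subgroup P} (hEK : E ≤ K) (hTK : T < K) (hcK : Nat.card K = p * Nat.card T) (hKV : K < V)
    (hKeq : K = V ⊓ normalizer (T : Set P))
    (hBT : ∀ a ∈ (V ⊓ normalizer (E : Set P) : Subgroup P), ∀ b ∈ (V ⊓ normalizer (E : Set P) : Subgroup P),
      ∀ k ∈ T, ⁅⁅a, b⁆, k⁆ ∈ W)
    (huniq : ∀ T' : Subgroup P, E ≤ T' → T' ≤ V → Nat.card T' = Nat.card T → T' = T) :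
    ∀ a ∈ (V ⊓ normalizer (E : Set P) : Subgroup P), ∀ b ∈ (V ⊓ normalizer (E : Set P) : Subgroup P),
      ∀ k ∈ K, ⁅⁅a, b⁆, k⁆ ∈ W := by
  classical
  have hpp := hp.out
  intro a ha b hb k₀ hk₀
  by_contra hcon
  have hWltV : W < V := lt_of_le_of_lt (S.wE.trans S.le₁) (S.lt₂ hP)
  obtain ⟨n, hnV, hnW, hncent, hnp⟩ := exists_central_mod hP hWltV S.wn
  have hnE : n ∈ E := S.cent n hnV (fun e he => hncent e (S.eV he))
  obtain ⟨R, hWR, hRD, hcR, hRcomm, hRex⟩ := S.exists_R hP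
  set N : Subgroup P := closure ({n} : Set P) ⊔ W with hN
  have hcN : Nat.card N = p * Nat.card W := card_sup_step hP (fun w hw => S.wn n hnV w hw) hnW hnp
  have hnN : n ∈ N := mem_sup_left (subset_closure rfl)
  have hWN : W ≤ N := le_sup_right
  have hNn : ∀ v ∈ V, ∀ x ∈ N, v * x * v⁻¹ ∈ N := by
    intro v hv x hx
    have hle : N ≤ N.comap (MulAut.conj v).toMonoidHom := by
      refine sup_le ?_ ?_
      · rw [closure_le]
        intro z hz
        have hz' : z = n := hz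
        rw [hz']
        show v * n * v⁻¹ ∈ N
        have h1 : v * n * v⁻¹ = ⁅n, v⁆⁻¹ * n := by
          rw [commutatorElement_def]
          group
        rw [h1]
        exact N.mul_mem (hWN (W.inv_mem (hncent v hv))) hnN
      · intro w hw
        exact hWN (S.wn v hv w hw)
    exact hle hx
  by_cases hnR : n ∈ R
  · have hNR : N = R := sup_eq_of_step hP hWR hcR hnR hnW
    have hCR : N ≤ ZRel W V S.wn := by
      refine sup_le ?_ ?_
      · rw [closure_le]
        intro z hz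
        have hz' : z = n := hz
        rw [hz']
        exact ⟨hnV, hncent⟩
      · intro w hw
        refine ⟨(S.wE.trans S.eV) hw, fun k hk => ?_⟩
        have h1 := S.wn k hk w⁻¹ (W.inv_mem hw)
        have h2 : ⁅w, k⁆ = w * (k * w⁻¹ * k⁻¹) := by
          rw [commutatorElement_def]
          group
        rw [h2]
        exact W.mul_mem hw h1
    have h1 := hCR (show ⁅a, b⁆ ∈ N by rw [hNR]; exact hRcomm a ha b hb)
    exact hcon (h1.2 k₀ (hKV.le hk₀))
  · have hRN : ∀ x, x ∈ R → x ∈ N → x ∈ W := by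
      intro x hxR hxN
      by_contra hxW
      have h1 : closure ({x} : Set P) ⊔ W = R := sup_eq_of_step hP hWR hcR hxR hxW
      have h2 : closure ({x} : Set P) ⊔ W = N := sup_eq_of_step hP hWN hcN hxN hxW
      apply hnR
      rw [← h1, h2]
      exact hnN
    have hNE : N ≤ E := by
      refine sup_le ?_ S.wE
      rw [closure_le]
      intro z hz
      have hz' : z = n := hz
      rw [hz']
      exact hnE
    have S' : Soft p N E V :=
      { wE := hNE
        eV := S.eV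
        wn := hNn
        ab := fun a ha b hb => hWN (S.ab a ha b hb)
        cent := by
          intro v hv hvc
          have hvN : v ∈ normalizer (E : Set P) := mem_normalizer_of_conj_le (fun e he => by
            rw [conj_eq_comm_mul]
            exact E.mul_mem (hNE (hvc e he)) he)
          have hvE₁ : v ∈ (V ⊓ normalizer (E : Set P) : Subgroup P) := ⟨hv, hvN⟩
          apply S.cent v hv
          intro e he
          exact hRN _ (hRcomm v hvE₁ e (S.le₁ he)) (hvc e he)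
        nc := S.nc
        idx := S.idx }
    have hNW : W < N := by
      refine lt_of_le_of_ne hWN ?_
      intro h
      apply hnW
      rw [h]
      exact hnN
    have hcardlt : Nat.card V - Nat.card N < Nat.card V - Nat.card W := by
      have h1 := card_lt_of_lt hNW
      have h2 : Nat.card N ≤ Nat.card V := card_le_of_le (hNE.trans S.eV)
      omega
    have hCN := hout N E V S' hcardlt K hEK hKV.le hKV.ne
    obtain ⟨g, hgV, hgK, hgN⟩ := exists_normalizer_step hP hKV
    set c : P := ⁅a, b⁆ with hc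
    have hcE : c ∈ E := S.D_le_E (hRD (hRcomm a ha b hb))
    have hcK' : c ∈ K := hEK hcE
    let T' : Subgroup P := T.map (MulAut.conj g).toMonoidHom
    have hT'K : T' ≤ K := by
      rintro _ ⟨t, ht, rfl⟩
      exact (mem_normalizer_iff.mp hgN t).mp (hTK.le ht)
    have hcT' : Nat.card T' = Nat.card T := Subgroup.card_map_of_injective (MulAut.conj g).injective
    have hET' : ¬ E ≤ T' := by
      intro h
      have h1 : T' = T := huniq T' h (hT'K.trans hKV.le) hcT'
      apply hgK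
      rw [hKeq]
      refine ⟨hgV, mem_normalizer_of_conj_le fun t ht => ?_⟩
      have : g * t * g⁻¹ ∈ T' := ⟨t, ht, rfl⟩
      rwa [h1] at this
    obtain ⟨e, heE, heT'⟩ := SetLike.not_le_iff_exists.mp hET'
    have hsup : closure ({e} : Set P) ⊔ T' = K :=
      sup_eq_of_step hP hT'K (by rw [hcT']; exact hcK) (hEK heE) heT'
    set c' : P := g * c * g⁻¹ with hc'
    have hc'K : c' ∈ K := (mem_normalizer_iff.mp hgN c).mp hcK'
    have hKW : ∀ k ∈ K, ∀ w ∈ W, k * w * k⁻¹ ∈ W := fun k hk => S.wn k (hKV.le hk)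
    have hc'T' : ∀ t ∈ T', ⁅c', t⁆ ∈ W := by
      rintro _ ⟨t, ht, rfl⟩
      have := S.wn g hgV _ (hBT a ha b hb t ht)
      rwa [comm_conj] at this
    have hc'K' : ∀ k ∈ K, ⁅c', k⁆ ∈ N := by
      intro k hk
      have hk' : g⁻¹ * k * g ∈ K := by
        have := (mem_normalizer_iff.mp (inv_mem hgN) k).mp hk
        rwa [inv_inv] at this
      have h1 := hCN.B a ha b hb (g⁻¹ * k * g) hk'
      have h2 := hNn g hgV _ h1
      rwa [comm_conj, show g * (g⁻¹ * k * g) * g⁻¹ = k by group] at h2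
    have hc'e : ⁅c', e⁆ ∉ W := by
      intro h
      have hle : closure ({e} : Set P) ⊔ T' ≤ CR K W hKW c' := by
        refine sup_le ?_ ?_
        · rw [closure_le]
          intro z hz
          have hz' : z = e := hz
          rw [hz']
          exact ⟨hEK heE, h⟩
        · intro t ht
          exact ⟨hT'K ht, hc'T' t ht⟩
      rw [hsup] at hle
      have hgk := (hle ((mem_normalizer_iff.mp hgN k₀).mp hk₀)).2
      rw [hc', ← comm_conj] at hgk
      have h4 := S.wn g⁻¹ (inv_mem hgV) _ hgk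
      rw [show g⁻¹ * (g * ⁅c, k₀⁆ * g⁻¹) * g⁻¹⁻¹ = ⁅c, k₀⁆ by group] at h4
      exact hcon h4
    have hc'N : c' ∈ normalizer (E : Set P) := mem_normalizer_of_conj_le (fun x hx => by
      rw [conj_eq_comm_mul]
      exact E.mul_mem (hNE (hc'K' x (hEK hx))) hx)
    have hc'E₁ : c' ∈ (V ⊓ normalizer (E : Set P) : Subgroup P) := ⟨hKV.le hc'K, hc'N⟩
    exact hc'e (hRN _ (hRcomm c' hc'E₁ e (S.le₁ heE)) (hc'K' e (hEK heE)))

theorem step_AC (hout : ∀ W' E' V' : Subgroup P, Soft p W' E' V' → Nat.card V' - Nat.card W' < Nat.card V - Nat.card W →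
      ∀ K', E' ≤ K' → K' ≤ V' → K' ≠ V' → Concl p W' E' V' K')
    {K : Subgroup P} (hE₁K : (V ⊓ normalizer (E : Set P) : Subgroup P) < K) (hKV : K < V)
    (hB : ∀ a ∈ (V ⊓ normalizer (E : Set P) : Subgroup P), ∀ b ∈ (V ⊓ normalizer (E : Set P) : Subgroup P),
      ∀ k ∈ K, ⁅⁅a, b⁆, k⁆ ∈ W) :
    Nat.card (V ⊓ normalizer (K : Set P) : Subgroup P) = p * Nat.card K ∧
      ∀ j : ℕ, Nat.card K = p ^ j * Nat.card E →
        K.lowerCentralSeries (j + 1) ≤ W ∧ ¬ K.lowerCentralSeries j ≤ W := by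
  classical
  have hpp := hp.out
  set E₁ : Subgroup P := V ⊓ normalizer (E : Set P) with hE₁
  have hKW : ∀ k ∈ K, ∀ w ∈ W, k * w * k⁻¹ ∈ W := fun k hk => S.wn k (hKV.le hk)
  let Z : Subgroup P := ZRel W K hKW
  have hWK : W < K := lt_of_le_of_lt (S.wE.trans S.le₁) hE₁K
  obtain ⟨z, hzK, hzW, hzc, -⟩ := exists_central_mod hP hWK hKW
  have hEK : E ≤ K := S.le₁.trans hE₁K.le
  have hZE : Z ≤ E := by
    rintro x ⟨hx, hx'⟩
    exact S.cent x (hKV.le hx) (fun e he => hx' e (hEK he))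
  have hzZ : z ∈ Z := ⟨hzK, hzc⟩
  have hWZ : W < Z := by
    refine lt_of_le_of_ne ?_ ?_
    · intro w hw
      refine ⟨hWK.le hw, fun k hk => ?_⟩
      have h1 := hKW k hk w⁻¹ (W.inv_mem hw)
      have h2 : ⁅w, k⁆ = w * (k * w⁻¹ * k⁻¹) := by
        rw [commutatorElement_def]
        group
      rw [h2]
      exact W.mul_mem hw h1
    · intro h
      apply hzW
      rw [h]
      exact hzZ
  set V' : Subgroup P := V ⊓ normalizer (K : Set P) with hV'
  have hKV' : K < V' := by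
    obtain ⟨g, hgV, hgK, hgN⟩ := exists_normalizer_step hP hKV
    refine lt_of_le_of_ne (le_inf hKV.le Subgroup.le_normalizer) ?_
    intro h
    apply hgK
    rw [h]
    exact ⟨hgV, hgN⟩
  have hE₁V' : E₁ ≤ V' := hE₁K.le.trans hKV'.le
  have hV'V : V' ≤ V := inf_le_left
  have hA₁ := S.card_norm₁ hP
  have hE₂ : V ⊓ normalizer (E₁ : Set P) ≤ K := norm_le_of_A hP hA₁ hE₁K hKV.le
  have hE₂' : V' ⊓ normalizer (E₁ : Set P) = V ⊓ normalizer (E₁ : Set P) := by
    apply le_antisymm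
    · exact inf_le_inf_right _ hV'V
    · exact le_inf (hE₂.trans hKV'.le) inf_le_right
  have hidx : p ^ 2 * Nat.card E₁ ≤ Nat.card V' := by
    have h1 := mul_card_le_of_lt hP hE₁K
    have h2 := mul_card_le_of_lt hP hKV'
    nlinarith
  have S' : Soft p Z E₁ V' :=
    { wE := hZE.trans S.le₁
      eV := hE₁V'
      wn := by
        rintro v hv x ⟨hx, hx'⟩
        refine ⟨(mem_normalizer_iff.mp hv.2 x).mp hx, fun k hk => ?_⟩
        have h1 := hx' (v⁻¹ * k * v) (by
          have := (mem_normalizer_iff.mp (inv_mem hv.2) k).mp hk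
          rwa [inv_inv] at this)
        have h2 := S.wn v hv.1 _ h1
        rwa [comm_conj, show v * (v⁻¹ * k * v) * v⁻¹ = k by group] at h2
      ab := fun a ha b hb => ⟨hE₁K.le (by
          rw [commutatorElement_def]
          exact mul_mem (mul_mem (mul_mem ha hb) (inv_mem ha)) (inv_mem hb)), hB a ha b hb⟩
      cent := by
        intro v hv hvc
        refine ⟨hv.1, mem_normalizer_of_conj_le fun e he => ?_⟩
        rw [conj_eq_comm_mul]
        exact E.mul_mem (hZE (hvc e (S.le₁ he))) he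
      nc := by rw [hE₂']; exact hA₁
      idx := hidx }
  have hcard : Nat.card V' - Nat.card Z < Nat.card V - Nat.card W := by
    have h1 := card_lt_of_lt hWZ
    have h2 : Nat.card V' ≤ Nat.card V := card_le_of_le hV'V
    have h3 : Nat.card Z ≤ Nat.card V' := card_le_of_le (hZE.trans (S.le₁.trans hE₁V'))
    omega
  have hC := hout Z E₁ V' S' hcard K hE₁K.le hKV'.le hKV'.ne
  refine ⟨?_, ?_⟩
  · have h1 : V' ⊓ normalizer (K : Set P) = V' := inf_eq_left.mpr inf_le_right
    have h2 := hC.A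
    rw [h1] at h2
    exact h2
  · intro j hj
    rcases j with _ | j'
    · exfalso
      have h1 := card_lt_of_lt hE₁K
      have h2 : Nat.card E < Nat.card E₁ := card_lt_of_lt (S.lt₁ hP)
      rw [pow_zero, one_mul] at hj
      omega
    · have hj' : Nat.card K = p ^ j' * Nat.card E₁ := by
        rw [hj, S.nc]
        ring
      obtain ⟨h1, h2⟩ := hC.C j' hj'
      constructor
      · rw [Subgroup.lowerCentralSeries_succ, commutator_le]
        intro x hx k hk
        exact (h1 hx).2 k hk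
      · intro h3
        apply h2
        intro x hx
        refine ⟨K.lowerCentralSeries_le_self j' hx, fun k hk => h3 (commutator_mem_commutator hx hk)⟩

theorem step (hout : ∀ W' E' V' : Subgroup P, Soft p W' E' V' → Nat.card V' - Nat.card W' < Nat.card V - Nat.card W →
      ∀ K', E' ≤ K' → K' ≤ V' → K' ≠ V' → Concl p W' E' V' K')
    (K : Subgroup P) (hEK : E ≤ K) (hKV : K ≤ V) (hne : K ≠ V)
    (hin : ∀ L : Subgroup P, E ≤ L → L ≤ V → L ≠ V → Nat.card L < Nat.card K → Concl p W E V L) :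
    Concl p W E V K := by
  classical
  have hpp := hp.out
  by_cases hKE : K = E
  · subst hKE
    exact S.concl_E hP
  by_cases hKE₁ : K = V ⊓ normalizer (E : Set P)
  · rw [hKE₁]
    exact S.concl_E₁ hP
  have hEltK : E < K := lt_of_le_of_ne hEK (Ne.symm hKE)
  have hKltV : K < V := lt_of_le_of_ne hKV hne
  have hE₁K : V ⊓ normalizer (E : Set P) ≤ K := norm_le_of_A hP S.nc hEltK hKV
  have hE₁ltK : V ⊓ normalizer (E : Set P) < K := lt_of_le_of_ne hE₁K (Ne.symm hKE₁)
  obtain ⟨T, hE₁T, hTK, hcK⟩ := exists_step_below hP hE₁ltK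
  have hET : E ≤ T := S.le₁.trans hE₁T
  have hTV : T ≤ V := hTK.le.trans hKV
  have hTne : T ≠ V := ne_of_lt (hTK.trans_le hKV)
  have hcT : Nat.card T < Nat.card K := card_lt_of_lt hTK
  have hCT := hin T hET hTV hTne hcT
  have hKeq : K = V ⊓ normalizer (T : Set P) := by
    refine Subgroup.eq_of_le_of_card_ge (le_inf hKV (normal_step hP hTK.le hcK)) ?_
    rw [hCT.A, hcK]
  have huniq : ∀ T' : Subgroup P, E ≤ T' → T' ≤ V → Nat.card T' = Nat.card T → T' = T := by
    intro T' h1 h2 h3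
    refine uniq_of_A (E := E) (V := V) hP (Nat.card T) ?_ (Nat.card T) T' T h1 h2 hET hTV h3 rfl le_rfl
    intro L hL hLV hLc
    have hLne : L ≠ V := by
      intro h
      rw [h] at hLc
      have : Nat.card T ≤ Nat.card V := card_le_of_le hTV
      omega
    exact (hin L hL hLV hLne (by omega)).A
  have hB := S.step_B hP hout hEK hTK hcK hKltV hKeq hCT.B huniq
  obtain ⟨hA, hC⟩ := S.step_AC hP hout hE₁ltK hKltV hB
  exact ⟨hA, hB, hC⟩

end Soft

theorem soft_main (hP : IsPGroup p P) : ∀ M : ℕ, ∀ W E V : Subgroup P, Soft p W E V →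
    Nat.card V - Nat.card W = M → ∀ c : ℕ, ∀ K : Subgroup P, Nat.card K = c → E ≤ K → K ≤ V → K ≠ V → Concl p W E V K := by
  intro M
  induction M using Nat.strong_induction_on with
  | _ M ih =>
    intro W E V S hM c
    induction c using Nat.strong_induction_on with
    | _ c ihc =>
      intro K hc hEK hKV hne
      refine S.step hP (fun W' E' V' S' hlt K' a b d => ih _ (by omega) W' E' V' S' rfl _ K' rfl a b d) K hEK hKV hne ?_
      intro L hL hLV hLne hLc
      exact ihc _ (by omega) L rfl hL hLV hLne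

theorem exists_between_card (hP : IsPGroup p P) {A : Subgroup P} (c : ℕ) (hcp : ∃ s, c = p ^ s) (hAc : Nat.card A ≤ c) :
    ∀ n : ℕ, ∀ B : Subgroup P, Nat.card B = n → A ≤ B → c ≤ n → ∃ C : Subgroup P, A ≤ C ∧ C ≤ B ∧ Nat.card C = c := by
  intro n
  induction n using Nat.strong_induction_on with
  | _ n ih =>
    intro B hB hAB hcn
    have hpp := hp.out
    by_cases hn : c = n
    · exact ⟨B, hAB, le_rfl, by rw [hn, hB]⟩
    · have hlt : A < B := by
        refine lt_of_le_of_ne hAB ?_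
        intro h
        rw [← h] at hB
        omega
      obtain ⟨B₁, hAB₁, hB₁B, hc₁⟩ := exists_step_below hP hlt
      have hcB₁ : c ≤ Nat.card B₁ := by
        obtain ⟨s, hs⟩ := hcp
        obtain ⟨t, ht⟩ := IsPGroup.iff_card.mp (hP.to_subgroup B₁)
        rw [hs, ht]
        apply Nat.pow_le_pow_right hpp.pos
        by_contra hcon
        have hts : t + 1 ≤ s := by omega
        have h1 : p ^ (t + 1) ≤ p ^ s := Nat.pow_le_pow_right hpp.pos hts
        have h2 : n = p ^ (t + 1) := by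
          rw [← hB, hc₁, ht]
          ring
        have h3 : c = p ^ s := hs
        omega
      have hltn : Nat.card B₁ < n := by
        have := card_lt_of_lt hB₁B
        omega
      obtain ⟨C, h1, h2, h3⟩ := ih _ hltn B₁ rfl hAB₁ hcB₁
      exact ⟨C, h1, h2.trans hB₁B.le, h3⟩

theorem main_aux (p : ℕ) [hp : Fact p.Prime] {P : Type*} [Group P] [Finite P] (hP : IsPGroup p P)
    (E : Subgroup P) (hEab : IsMulCommutative ↥E) (hC : Subgroup.centralizer (E : Set P) ≤ E)
    (hN : (E.subgroupOf (Subgroup.normalizer (E : Set P))).index = p) (hidx : p ^ 2 ≤ E.index) :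
    (∀ K L : Subgroup P, E ≤ K → E ≤ L → K ≤ L ∨ L ≤ K) ∧
      (∀ K : Subgroup P, E ≤ K → K ≠ ⊤ → (K.subgroupOf (Subgroup.normalizer (K : Set P))).index = p) ∧
      ∀ (i : ℕ) (K : Subgroup P) [Group.IsNilpotent ↥K], E ≤ K → K ≠ ⊤ → K.index * p ^ i = E.index →
        Group.nilpotencyClass ↥K = i + 1 := by
  classical
  have hpp := hp.out
  have hcardN : ∀ K : Subgroup P, Nat.card (K.subgroupOf (Subgroup.normalizer (K : Set P))) = Nat.card K := fun K =>
    Nat.card_congr (Subgroup.subgroupOfEquivOfLe Subgroup.le_normalizer).toEquiv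
  have S : Soft p (⊥ : Subgroup P) E ⊤ :=
    { wE := bot_le
      eV := le_top
      wn := by
        intro v _ w hw
        rw [Subgroup.mem_bot] at hw ⊢
        simp [hw]
      ab := by
        intro a ha b hb
        rw [Subgroup.mem_bot, commutatorElement_eq_one_iff_mul_comm]
        have := hEab.is_comm.comm (⟨a, ha⟩ : E) ⟨b, hb⟩
        simpa using congrArg Subtype.val this
      cent := by
        intro v _ hv
        apply hC
        rw [Subgroup.mem_centralizer_iff]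
        intro e he
        have := hv e he
        rw [Subgroup.mem_bot, commutatorElement_eq_one_iff_mul_comm] at this
        exact this.symm
      nc := by
        rw [top_inf_eq]
        have h1 := Subgroup.card_mul_index (E.subgroupOf (Subgroup.normalizer (E : Set P)))
        rw [hcardN, hN] at h1
        rw [← h1, mul_comm]
      idx := by
        have h1 := Subgroup.card_mul_index E
        have h2 : Nat.card (⊤ : Subgroup P) = Nat.card P := Subgroup.card_top
        rw [h2, ← h1, mul_comm]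
        exact Nat.mul_le_mul_left _ hidx }
  have hConcl : ∀ K : Subgroup P, E ≤ K → K ≠ ⊤ → Concl p ⊥ E ⊤ K := fun K h1 h2 =>
    soft_main hP _ ⊥ E ⊤ S rfl _ K rfl h1 le_top h2
  have hcardtop : ∀ K : Subgroup P, Nat.card K < Nat.card P → K ≠ ⊤ := by
    rintro K hK rfl
    rw [Subgroup.card_top] at hK
    exact lt_irrefl _ hK
  have hU := uniq_of_A (E := E) (V := ⊤) hP (Nat.card P) (fun L hL _ hLc => (hConcl L hL (hcardtop L hLc)).A)
  have hle : ∀ K L : Subgroup P, E ≤ K → E ≤ L → Nat.card K ≤ Nat.card L → K ≤ L := by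
    intro K L hK hL hc
    obtain ⟨C, h1, h2, h3⟩ := exists_between_card hP (A := E) (Nat.card K)
      (by
        obtain ⟨s, hs⟩ := IsPGroup.iff_card.mp (hP.to_subgroup K)
        exact ⟨s, hs⟩) (card_le_of_le hK) _ L rfl hL hc
    have h4 : K = C := hU _ K C hK le_top h1 le_top rfl h3 (by
      rw [← Subgroup.card_top (G := P)]
      exact card_le_of_le le_top)
    rw [h4]
    exact h2
  refine ⟨?_, ?_, ?_⟩
  · intro K L hK hL
    rcases le_total (Nat.card K) (Nat.card L) with h | h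
    · exact Or.inl (hle K L hK hL h)
    · exact Or.inr (hle L K hL hK h)
  · intro K hK hne
    have h1 := (hConcl K hK hne).A
    rw [top_inf_eq] at h1
    have h2 := Subgroup.card_mul_index (K.subgroupOf (Subgroup.normalizer (K : Set P)))
    rw [hcardN, h1, mul_comm] at h2
    exact Nat.eq_of_mul_eq_mul_right Nat.card_pos h2
  · intro i K _ hK hne hi
    have h1 := Subgroup.card_mul_index K
    have h2 := Subgroup.card_mul_index E
    have hcK : Nat.card K = p ^ i * Nat.card E := by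
      have h3 : Nat.card K * K.index = (p ^ i * Nat.card E) * K.index := by
        rw [h1, ← h2, ← hi]
        ring
      have h4 : 0 < K.index := Nat.pos_of_ne_zero Subgroup.FiniteIndex.index_ne_zero
      exact Nat.eq_of_mul_eq_mul_right h4 h3
    obtain ⟨h5, h6⟩ := (hConcl K hK hne).C i hcK
    have hmap : ∀ n, (Subgroup.lowerCentralSeries (⊤ : Subgroup K) n) = ⊥ ↔ K.lowerCentralSeries n ≤ ⊥ := by
      intro n
      rw [← Subgroup.top_subtype_lowerCentralSeries K n, le_bot_iff]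
      rw [(Subgroup.map_eq_bot_iff_of_injective _ K.subtype_injective)]
    have h7 : Group.nilpotencyClass K ≤ i + 1 :=
      Subgroup.lowerCentralSeries_eq_bot_iff_nilpotencyClass_le.mp ((hmap _).mpr h5)
    have h8 : ¬ Group.nilpotencyClass K ≤ i := fun h =>
      h6 ((hmap _).mp (Subgroup.lowerCentralSeries_eq_bot_iff_nilpotencyClass_le.mpr h))
    omega

end Aux

/-- Let P be a finite p-group and E an abelian subgroup of P that contains its centralizer, has index p in its normalizer, and has index at least p² in P. Then the subgroups of P containing E are totally ordered by inclusion, each proper one has index p in its normalizer (so they form the normalizer tower of E, with all steps of index p), and the i-th member of the tower above E has nilpotency class i + 1 whenever it is a proper subgroup of P. -/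
theorem result {P : Type*} [Group P] [Finite P] (p : ℕ) [Fact p.Prime] (hP : IsPGroup p P)
    (E : Subgroup P) (hEab : IsMulCommutative ↥E) (hC : Subgroup.centralizer (E : Set P) ≤ E)
    (hN : (E.subgroupOf (Subgroup.normalizer (E : Set P))).index = p) (hidx : p ^ 2 ≤ E.index) :
    (∀ K L : Subgroup P, E ≤ K → E ≤ L → K ≤ L ∨ L ≤ K) ∧
      (∀ K : Subgroup P, E ≤ K → K ≠ ⊤ → (K.subgroupOf (Subgroup.normalizer (K : Set P))).index = p) ∧
      ∀ (i : ℕ) (K : Subgroup P) [Group.IsNilpotent ↥K], E ≤ K → K ≠ ⊤ → K.index * p ^ i = E.index →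
        Group.nilpotencyClass ↥K = i + 1 := by
  exact main_aux p hP E hEab hC hN hidx

end Cfsg.Agent.S3811
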