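import Cfsg.Statements.S3868
import Cfsg.Agent.Lib.FGS.MinNon
import Cfsg.Agent.Lib.LocalStruct.PClosed
-- import your own Cfsg.Agent.* helpers here

set_option autoImplicit false
open Cfsg

namespace Cfsg.Agent.S3868

/-- Structure of the non-simple minimal non-p-closed groups. Call a finite group p-closed when its Sylow p-subgroups are normal, and minimal non-p-closed when it is not p-closed but every proper subgroup and every proper quotient is. If such a group G is not simple, then there is a prime q ≠ p such that G has order p · q^e, where e is the multiplicative order of q modulo p, and G has a normal subgroup A of order q^e that is elementary abelian and is a minimal normal subgroup of G (so G is the semidirect product of A by a group of order p acting irreducibly). -/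
theorem result {G : Type*} [Group G] [Finite G] {p : ℕ} [Fact p.Prime]
    (hnc : ¬ Cfsg.IsPClosed p G) (hsub : ∀ H : Subgroup G, H ≠ ⊤ → Cfsg.IsPClosed p ↥H)
    (hquo : ∀ (N : Subgroup G) [N.Normal], N ≠ ⊥ → Cfsg.IsPClosed p (G ⧸ N)) (hns : ¬ IsSimpleGroup G) :
    ∃ q : ℕ, q.Prime ∧ q ≠ p ∧ Nat.card G = p * q ^ orderOf (q : ZMod p) ∧
      ∃ A : Subgroup G, A.Normal ∧ Nat.card ↥A = q ^ orderOf (q : ZMod p) ∧ Cfsg.IsElementaryAbelian q A ∧
        ∀ B : Subgroup G, B.Normal → B ≤ A → B = ⊥ ∨ B = A := by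
  classical
  open Subgroup in
  have hpp : p.Prime := Fact.out
  obtain ⟨P⟩ : Nonempty (Sylow p G) := inferInstance
  have hPnn : ¬ (P : Subgroup G).Normal := by
    intro hn
    apply hnc
    intro Q
    obtain ⟨g, rfl⟩ := MulAction.exists_smul_eq G P Q
    have : g • P = P := Sylow.smul_eq_of_normal
    rwa [this]
  have hG1 : Nontrivial G := by
    by_contra hcon
    rw [not_nontrivial_iff_subsingleton] at hcon
    apply hPnn
    have : (P : Subgroup G) = ⊤ := by
      rw [eq_top_iff]
      intro x _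
      rw [Subsingleton.elim x 1]
      exact one_mem _
    rw [this]
    infer_instance
  -- normality from a normal overgroup
  have hnorm_of : ∀ X : Subgroup G, X.Normal → (P : Subgroup G) ≤ X → Cfsg.IsPClosed p X →
      (P : Subgroup G).Normal := by
    intro X hXn hPX hcl
    apply normalizer_eq_top_iff.mp
    rw [eq_top_iff]
    intro g _
    have h1 : ((g • P : Sylow p G) : Subgroup G) ≤ X := by
      rw [Sylow.coe_subgroup_smul]
      rintro _ ⟨a, ha, rfl⟩
      simpa [MulAut.smul_def, MulAut.conj_apply] using hXn.conj_mem a (hPX ha) g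
    obtain ⟨r, hr⟩ := MulAction.exists_smul_eq X (P.subtype hPX) ((g • P).subtype h1)
    have hn : ((P.subtype hPX : Sylow p X) : Subgroup X).Normal := hcl _
    have h2 : r • (P.subtype hPX) = P.subtype hPX := Sylow.smul_eq_of_normal
    rw [h2] at hr
    have h3 : P = g • P := Sylow.subtype_injective hr
    exact Sylow.smul_eq_iff_mem_normalizer.mp h3.symm
  -- Step 1
  have hstep1 : ∀ (N : Subgroup G), N.Normal → N ≠ ⊥ → (P : Subgroup G) ⊔ N = ⊤ := by
    intro N hNn hN1
    by_contra hX
    have hqc := hquo N hN1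
    have hs := QuotientGroup.mk'_surjective N
    have hn1 : ((P.mapSurjective hs : Sylow p (G ⧸ N)) : Subgroup (G ⧸ N)).Normal := hqc _
    have hn2 : ((P : Subgroup G).map (QuotientGroup.mk' N)).Normal := hn1
    have hn3 : ((P : Subgroup G) ⊔ N).Normal := by
      have := hn2.comap (QuotientGroup.mk' N)
      rwa [comap_map_eq, QuotientGroup.ker_mk'] at this
    exact hPnn (hnorm_of _ hn3 le_sup_left (hsub _ hX))
  -- Minimal normal subgroup
  obtain ⟨N, hNn, hN1, hNt, hmin⟩ := Cfsg.Agent.Lib.FGS.MinNon.exists_minimal_normal hG1 hns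
  have hPN := hstep1 N hNn hN1
  -- not a `p`-group
  have hnotp : ∀ M : Subgroup G, M.Normal → M ≠ ⊥ → ¬ IsPGroup p M := by
    intro M hMn hM1 hMp
    have hle : M ≤ P := hMp.le_sylow_of_normal P
    have h1 := hstep1 M hMn hM1
    rw [sup_eq_left.mpr hle] at h1
    apply hPnn
    rw [h1]
    infer_instance
  -- `N` is `p`-closed
  have hNcl := hsub N hNt
  -- every `p`-element of `N` lies in `P`
  have hp_elt : ∀ a ∈ N, (∃ k : ℕ, a ^ p ^ k = 1) → a ∈ (P : Subgroup G) ⊓ N := by
    intro a ha hak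
    obtain ⟨S, hS⟩ := Cfsg.Agent.Lib.LocalStruct.PClosed.exists_sylow_inf P (K := N)
      (by rw [normalizer_eq_top]; exact le_top)
    have hSn : (S : Subgroup N).Normal := hNcl S
    have hz : IsPGroup p (zpowers (⟨a, ha⟩ : N)) := by
      obtain ⟨k, hk⟩ := hak
      rw [IsPGroup.iff_card, Nat.card_zpowers]
      have h1 : orderOf (⟨a, ha⟩ : N) ∣ p ^ k := by
        apply orderOf_dvd_of_pow_eq_one
        exact Subtype.ext hk
      obtain ⟨m, -, hm⟩ := (Nat.dvd_prime_pow hpp).mp h1
      exact ⟨m, hm⟩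
    obtain ⟨S', hS'⟩ := hz.exists_le_sylow
    obtain ⟨g, hg⟩ := MulAction.exists_smul_eq N S S'
    have h2 : g • S = S := Sylow.smul_eq_of_normal
    rw [h2] at hg
    rw [← hg] at hS'
    have h3 := hS' (mem_zpowers _)
    rw [← hS]
    exact ⟨_, h3, rfl⟩
  have hPNn : ((P : Subgroup G) ⊓ N).Normal := by
    constructor
    intro a ha g
    apply hp_elt _ (hNn.conj_mem a ha.2 g)
    obtain ⟨k, hk⟩ := P.2 ⟨a, ha.1⟩
    have hk' : a ^ p ^ k = 1 := congrArg Subtype.val hk
    refine ⟨k, ?_⟩
    rw [conj_pow, hk']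
    simp
  have hPNb : (P : Subgroup G) ⊓ N = ⊥ := by
    rcases hmin _ hPNn inf_le_right with h | h
    · exact h
    · exfalso
      have hle : N ≤ P := inf_eq_right.mp h
      exact hnotp N hNn hN1 (P.2.to_le hle)
  have hNpel : ∀ (a : G), a ∈ N → (∃ k : ℕ, a ^ p ^ k = 1) → a = 1 := by
    intro a ha hak
    have := hp_elt a ha hak
    rw [hPNb, mem_bot] at this
    exact this
  have hdisj : ¬ p ∣ Nat.card N := by
    intro hd
    obtain ⟨y, hy⟩ := exists_prime_orderOf_dvd_card' p hd
    have h1 := hNpel (y : G) y.2 ⟨1, by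
      rw [pow_one]
      have := pow_orderOf_eq_one y
      rw [hy] at this
      exact congrArg Subtype.val this⟩
    have h2 : y = 1 := Subtype.ext h1
    rw [h2, orderOf_one] at hy
    exact hpp.one_lt.ne hy
  -- centralizing
  have hcent : ∀ y ∈ (P : Subgroup G), ∀ U : Subgroup G, U ≤ N → y ∈ normalizer (U : Set G) →
      U ⊔ zpowers y ≠ ⊤ → ∀ u ∈ U, y * u * y⁻¹ = u := by
    intro y hy U hUN hyU hX u hu
    have hcl := hsub _ hX
    set X := U ⊔ zpowers y with hXdef
    have hyX : y ∈ X := mem_sup_right (mem_zpowers y)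
    have huX : u ∈ X := mem_sup_left hu
    obtain ⟨k₀, hk₀⟩ := P.2 ⟨y, hy⟩
    have hk₀' : y ^ p ^ k₀ = 1 := congrArg Subtype.val hk₀
    have hz : IsPGroup p (zpowers (⟨y, hyX⟩ : X)) := by
      rw [IsPGroup.iff_card, Nat.card_zpowers]
      have h1 : orderOf (⟨y, hyX⟩ : X) ∣ p ^ k₀ := by
        apply orderOf_dvd_of_pow_eq_one
        exact Subtype.ext hk₀'
      obtain ⟨m, -, hm⟩ := (Nat.dvd_prime_pow hpp).mp h1
      exact ⟨m, hm⟩
    obtain ⟨S, hS⟩ := hz.exists_le_sylow
    have hSn : (S : Subgroup X).Normal := hcl S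
    have hyS : (⟨y, hyX⟩ : X) ∈ (S : Subgroup X) := hS (mem_zpowers _)
    have hcS : (⟨y, hyX⟩ : X) * (⟨u, huX⟩ * (⟨y, hyX⟩ : X)⁻¹ * (⟨u, huX⟩ : X)⁻¹) ∈ (S : Subgroup X) :=
      mul_mem hyS (hSn.conj_mem _ (inv_mem hyS) _)
    obtain ⟨k, hk⟩ := S.2 ⟨_, hcS⟩
    have hk' : (y * (u * y⁻¹ * u⁻¹)) ^ p ^ k = 1 := by
      have := congrArg (fun z : S => ((z : X) : G)) hk
      simpa using this
    have hcU : y * (u * y⁻¹ * u⁻¹) ∈ U := by
      have e : y * (u * y⁻¹ * u⁻¹) = y * u * y⁻¹ * u⁻¹ := by group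
      rw [e]
      exact mul_mem ((mem_normalizer_iff.mp hyU u).mp hu) (inv_mem hu)
    have h1 := hNpel _ (hUN hcU) ⟨k, hk'⟩
    have e : y * (u * y⁻¹ * u⁻¹) = y * u * y⁻¹ * u⁻¹ := by group
    rw [e, mul_inv_eq_one] at h1
    exact h1
  -- `P` does not centralize `N`
  have hnc' : ∃ y ∈ (P : Subgroup G), ∃ n ∈ N, y * n * y⁻¹ ≠ n := by
    by_contra hcon
    push Not at hcon
    apply hPnn
    apply normalizer_eq_top_iff.mp
    rw [eq_top_iff, ← hPN]
    apply sup_le le_normalizer
    intro n hn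
    rw [mem_normalizer_iff]
    intro h
    have hc : ∀ u ∈ (P : Subgroup G), n * u * n⁻¹ = u := by
      intro u hu
      have := hcon u hu n hn
      rw [mul_inv_eq_iff_eq_mul] at this ⊢
      exact this.symm
    constructor
    · intro hh
      rwa [hc h hh]
    · intro hh
      have h1 : n⁻¹ * (n * h * n⁻¹) * n = h := by group
      have h2 : n⁻¹ * (n * h * n⁻¹) * n = n * h * n⁻¹ := by
        have := hcon (n * h * n⁻¹) hh n hn
        rw [mul_inv_eq_iff_eq_mul] at this
        rw [mul_assoc, this]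
        group
      rw [← h1, h2]
      exact hh
  -- central `p`-elements are trivial
  have hZ : ∀ z ∈ (P : Subgroup G), (∀ g : G, g * z = z * g) → z = 1 := by
    intro z hz hzc
    by_contra hz1
    have hzn : (zpowers z).Normal := by
      constructor
      intro a ha g
      obtain ⟨k, rfl⟩ := ha
      have : g * z ^ k * g⁻¹ = z ^ k := by
        have hcomm : Commute g (z ^ k) := (show Commute g z from hzc g).zpow_right k
        rw [hcomm.eq]
        group
      simp only [this]
      exact ⟨k, rfl⟩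
    have hz2 : zpowers z ≠ ⊥ := by
      rw [Ne, zpowers_eq_bot]
      exact hz1
    exact hnotp _ hzn hz2 (P.2.to_le (by rwa [zpowers_le]))
  obtain ⟨q, hq, hqne, hc1, hc2, hab⟩ :=
    Cfsg.Agent.Lib.FGS.MinNon.structure_of_minimal P N hN1 hmin hPN hdisj hcent hnc' hZ
  exact ⟨q, hq, hqne, hc1, N, hNn, hc2, hab, hmin⟩

end Cfsg.Agent.S3868
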