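-- Statement S3869.
import Cfsg.Statements.S3869
import Cfsg.Agent.Lib.FGS.IrredModule
import Cfsg.Agent.Lib.PGroups.Basic
import Cfsg.Prelude.Def_LocalStructure

set_option autoImplicit false
open Cfsg

namespace Cfsg.Agent.S3869

/-- Let p and q be distinct primes and G a finite non-abelian group with a normal elementary abelian q-subgroup A that is a minimal normal subgroup of G and has index p. Then A has order q^e with e the multiplicative order of q modulo p, and G is minimal non-p-closed: its Sylow p-subgroups are not normal, while in every proper subgroup and in every proper quotient of G the Sylow p-subgroups are normal. -/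
theorem result {G : Type*} [Group G] [Finite G] {p q : ℕ} [Fact p.Prime] (hq : q.Prime) (hpq : q ≠ p)
    (hna : ¬ IsMulCommutative G) (A : Subgroup G) [A.Normal] (hA : Cfsg.IsElementaryAbelian q A) (hidx : A.index = p)
    (hmin : ∀ B : Subgroup G, B.Normal → B ≤ A → B = ⊥ ∨ B = A) :
    Nat.card ↥A = q ^ orderOf (q : ZMod p) ∧ ¬ Cfsg.IsPClosed p G ∧ (∀ H : Subgroup G, H ≠ ⊤ → Cfsg.IsPClosed p ↥H) ∧
      ∀ (N : Subgroup G) [N.Normal], N ≠ ⊥ → Cfsg.IsPClosed p (G ⧸ N) := by
  classical
  open Subgroup Cfsg.Agent.Lib.PGroups.Basic in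
  have hpp : p.Prime := Fact.out
  have : Fact q.Prime := ⟨hq⟩
  obtain ⟨hAcm, hAexp⟩ := hA
  have hAc : ∀ a ∈ A, ∀ b ∈ A, a * b = b * a := fun a ha b hb =>
    congrArg Subtype.val (hAcm.is_comm.comm (⟨a, ha⟩ : A) ⟨b, hb⟩)
  have hco : IsCoatom A := isCoatom_of_index_prime (by rw [hidx]; exact hpp)
  have hsup : ∀ y : G, y ∉ A → A ⊔ zpowers y = ⊤ := by
    intro y hy
    apply hco.2
    refine lt_of_le_of_ne le_sup_left ?_
    intro he
    exact hy (he ▸ mem_sup_right (mem_zpowers y))
  -- elements outside `A` do not centralize `A`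
  have hnc : ∀ y : G, y ∉ A → ∃ a ∈ A, y * a * y⁻¹ ≠ a := by
    intro y hy
    by_contra hcon
    push Not at hcon
    apply hna
    have hAZ : A ≤ center G := by
      intro a ha
      rw [mem_center_iff]
      intro g
      have hle : A ⊔ zpowers y ≤ centralizer ({a} : Set G) := by
        apply sup_le
        · intro b hb
          rw [mem_centralizer_singleton_iff]
          exact hAc b hb a ha
        · rw [zpowers_le, mem_centralizer_singleton_iff]
          have := hcon a ha
          rw [mul_inv_eq_iff_eq_mul] at this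
          exact this
      have := hle (hsup y hy ▸ mem_top g)
      rw [mem_centralizer_singleton_iff] at this
      exact this
    have hyZ : y ∈ center G := by
      rw [mem_center_iff]
      intro g
      have hle : A ⊔ zpowers y ≤ centralizer ({y} : Set G) := by
        apply sup_le
        · intro b hb
          rw [mem_centralizer_singleton_iff]
          have := hcon b hb
          rw [mul_inv_eq_iff_eq_mul] at this
          exact this.symm
        · rw [zpowers_le, mem_centralizer_singleton_iff]
      have := hle (hsup y hy ▸ mem_top g)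
      rw [mem_centralizer_singleton_iff] at this
      exact this
    have hZtop : center G = ⊤ := by
      rw [eq_top_iff, ← hsup y hy]
      exact sup_le hAZ (by rwa [zpowers_le])
    constructor
    constructor
    intro a b
    exact (mem_center_iff.mp (hZtop ▸ mem_top a : a ∈ center G) b).symm
  -- powers
  have hpowA : ∀ g : G, g ^ p ∈ A := by
    intro g
    rw [← QuotientGroup.eq_one_iff, QuotientGroup.mk_pow]
    have h1 : Nat.card (G ⧸ A) = p := by rw [← index_eq_card, hidx]
    rw [← h1]
    exact pow_card_eq_one'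
  -- `A` has no element of order `p`
  have hord : ∀ a ∈ A, a ^ p = 1 → a = 1 := by
    intro a ha hap
    have h1 : orderOf a ∣ p := orderOf_dvd_of_pow_eq_one hap
    have h2 : orderOf a ∣ q := orderOf_dvd_of_pow_eq_one (hAexp a ha)
    have h3 : Nat.Coprime p q := (Nat.coprime_primes hpp hq).mpr (Ne.symm hpq)
    have h4 : orderOf a = 1 := Nat.dvd_one.mp (h3 ▸ Nat.dvd_gcd h1 h2)
    exact orderOf_eq_one_iff.mp h4
  -- an element of `A` of `p`-power order is trivial
  have hAp : ∀ (k : ℕ) (b : G), b ∈ A → b ^ p ^ k = 1 → b = 1 := by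
    intro k
    induction k with
    | zero => intro b _ hb; simpa using hb
    | succ k ih =>
      intro b hb hbk
      apply hord b hb
      apply ih _ (Subgroup.pow_mem _ hb p)
      rw [← pow_mul, ← pow_succ']
      exact hbk
  have hpdvd : p ∣ Nat.card G := by
    rw [← card_mul_index A, hidx]
    exact dvd_mul_left _ _
  obtain ⟨x, hx⟩ := exists_prime_orderOf_dvd_card' p hpdvd
  have hxp : x ^ p = 1 := by rw [← hx]; exact pow_orderOf_eq_one x
  have hx1 : x ≠ 1 := by
    rintro rfl
    rw [orderOf_one] at hx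
    exact hpp.one_lt.ne hx
  have hxA : x ∉ A := fun h => hx1 (hord x h hxp)
  -- irreducibility
  have hirr : ∀ B : Subgroup G, B ≤ A → (∀ b ∈ B, x * b * x⁻¹ ∈ B) → B = ⊥ ∨ B = A := by
    intro B hBA hB
    apply hmin B ?_ hBA
    have hpowk : ∀ (k : ℕ), ∀ b ∈ B, x ^ k * b * (x ^ k)⁻¹ ∈ B := by
      intro k
      induction k with
      | zero => intro b hb; simpa using hb
      | succ k ih =>
        intro b hb
        have h1 := hB _ (ih b hb)
        rw [pow_succ']
        have e : x * x ^ k * b * (x * x ^ k)⁻¹ = x * (x ^ k * b * (x ^ k)⁻¹) * x⁻¹ := by group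
        rw [e]
        exact h1
    have hxN : x ∈ normalizer (B : Set G) := by
      rw [mem_normalizer_iff]
      intro h
      refine ⟨hB h, ?_⟩
      intro hh
      have h1 := hpowk (p - 1) _ hh
      have e : x ^ (p - 1) * (x * h * x⁻¹) * (x ^ (p - 1))⁻¹ = h := by
        have h2 : x ^ (p - 1) * x = 1 := by
          rw [← pow_succ, Nat.sub_add_cancel hpp.one_le, hxp]
        calc x ^ (p - 1) * (x * h * x⁻¹) * (x ^ (p - 1))⁻¹
            = (x ^ (p - 1) * x) * h * (x ^ (p - 1) * x)⁻¹ := by group
          _ = h := by rw [h2]; group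
      rwa [e] at h1
    have hAN : A ≤ normalizer (B : Set G) := by
      intro a ha
      rw [mem_normalizer_iff]
      intro h
      constructor
      · intro hh
        rw [hAc a ha h (hBA hh)]
        simpa using hh
      · intro hh
        have h1 : a * h * a⁻¹ ∈ A := hBA hh
        have h2 : h ∈ A := by
          have e : h = a⁻¹ * (a * h * a⁻¹) * a := by group
          rw [e]
          exact mul_mem (mul_mem (inv_mem ha) h1) ha
        rwa [hAc a ha h h2, mul_inv_cancel_right] at hh
    have htop : normalizer (B : Set G) = ⊤ := by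
      rw [eq_top_iff, ← hsup x hxA]
      exact sup_le hAN (by rwa [zpowers_le])
    exact normalizer_eq_top_iff.mp htop
  refine ⟨?_, ?_, ?_, ?_⟩
  · exact Cfsg.Agent.Lib.FGS.IrredModule.card_of_irreducible_action A hAc hAexp x hxp (hnc x hxA) hirr
  · intro hclosed
    have hxpg : IsPGroup p (zpowers x) := by
      rw [IsPGroup.iff_card, Nat.card_zpowers, hx]
      exact ⟨1, (pow_one p).symm⟩
    obtain ⟨P, hP⟩ := hxpg.exists_le_sylow
    have hPn := hclosed P
    obtain ⟨a, ha, hne⟩ := hnc x hxA
    have hxP : x ∈ (P : Subgroup G) := hP (mem_zpowers x)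
    have h1 : x * a * x⁻¹ * a⁻¹ ∈ A :=
      mul_mem (‹A.Normal›.conj_mem a ha x) (inv_mem ha)
    have h2 : x * a * x⁻¹ * a⁻¹ ∈ (P : Subgroup G) := by
      have e : x * a * x⁻¹ * a⁻¹ = x * (a * x⁻¹ * a⁻¹) := by group
      rw [e]
      exact mul_mem hxP (hPn.conj_mem _ (inv_mem hxP) a)
    obtain ⟨k, hk⟩ := P.2 ⟨_, h2⟩
    have hk' : (x * a * x⁻¹ * a⁻¹) ^ p ^ k = 1 := congrArg Subtype.val hk
    have h3 := hAp k _ h1 hk'
    apply hne
    rwa [mul_inv_eq_one] at h3
  · intro H hH S
    have hpH : ¬ H ≤ A → IsPGroup p H := by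
      intro hHA
      have hcoH : A ⊔ H = ⊤ := by
        apply hco.2
        refine lt_of_le_of_ne le_sup_left ?_
        intro he
        exact hHA (he ▸ le_sup_right)
      have hNn : (H ⊓ A).Normal := by
        constructor
        intro n hn g
        have hg : g ∈ A ⊔ H := by rw [hcoH]; exact mem_top g
        rw [← SetLike.mem_coe, normal_mul] at hg
        obtain ⟨a, ha, h', hh', rfl⟩ := Set.mem_mul.mp hg
        have hnH : n ∈ H := hn.1
        have hnA : n ∈ A := hn.2
        have h1 : h' * n * h'⁻¹ ∈ H := mul_mem (mul_mem hh' hnH) (inv_mem hh')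
        have h2 : h' * n * h'⁻¹ ∈ A := ‹A.Normal›.conj_mem n hnA h'
        have e : a * h' * n * (a * h')⁻¹ = a * (h' * n * h'⁻¹) * a⁻¹ := by group
        rw [e, hAc a ha _ h2, mul_inv_cancel_right]
        exact ⟨h1, h2⟩
      rcases hmin _ hNn inf_le_right with h1 | h1
      · intro h
        refine ⟨1, ?_⟩
        apply Subtype.ext
        have h2 : (h : G) ^ p ∈ H ⊓ A := ⟨Subgroup.pow_mem _ h.2 p, hpowA _⟩
        rw [h1, mem_bot] at h2
        simpa using h2
      · exfalso
        have h2 : A ≤ H := h1 ▸ inf_le_left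
        apply hH
        rw [eq_top_iff, ← hcoH]
        exact sup_le h2 le_rfl
    by_cases hHA : H ≤ A
    · have hS : (S : Subgroup H) = ⊥ := by
        rw [eq_bot_iff]
        intro s hs
        obtain ⟨k, hk⟩ := S.2 ⟨s, hs⟩
        have hk' : ((s : H) : G) ^ p ^ k = 1 := by
          have := congrArg (fun z : S => ((z : H) : G)) hk
          simpa using this
        have h1 := hAp k _ (hHA s.2) hk'
        rw [mem_bot]
        exact Subtype.ext h1
      rw [hS]
      infer_instance
    · have hS : (S : Subgroup H) = ⊤ := S.3 (hpH hHA |>.to_subgroup ⊤) le_top |>.symm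
      rw [hS]
      infer_instance
  · intro N _ hN1 S
    have hNA : (N ⊓ A).Normal := inferInstance
    rcases hmin _ hNA inf_le_right with h1 | h1
    · exfalso
      obtain ⟨y, hy, hy1⟩ := N.bot_or_exists_ne_one.resolve_left hN1
      have hyA : y ∉ A := by
        intro h
        have : y ∈ N ⊓ A := ⟨hy, h⟩
        rw [h1, mem_bot] at this
        exact hy1 this
      obtain ⟨a, ha, hne⟩ := hnc y hyA
      have h2 : y * a * y⁻¹ * a⁻¹ ∈ N ⊓ A := by
        refine Subgroup.mem_inf.mpr ⟨?_, ?_⟩
        · have e : y * a * y⁻¹ * a⁻¹ = y * (a * y⁻¹ * a⁻¹) := by group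
          rw [e]
          exact mul_mem hy (‹N.Normal›.conj_mem _ (inv_mem hy) a)
        · exact mul_mem (‹A.Normal›.conj_mem a ha y) (inv_mem ha)
      rw [h1, mem_bot, mul_inv_eq_one] at h2
      exact hne h2
    · have hAN : A ≤ N := h1 ▸ inf_le_left
      have hpg : IsPGroup p (G ⧸ N) := by
        intro r
        induction r using QuotientGroup.induction_on with | H g => ?_
        refine ⟨1, ?_⟩
        rw [pow_one, ← QuotientGroup.mk_pow, QuotientGroup.eq_one_iff]
        exact hAN (hpowA g)
      have hS : (S : Subgroup (G ⧸ N)) = ⊤ := S.3 (hpg.to_subgroup ⊤) le_top |>.symm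
      rw [hS]
      infer_instance

end Cfsg.Agent.S3869
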