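-- Statement S3870.
import Cfsg.Statements.S3870
import Mathlib

set_option autoImplicit false
open Cfsg

namespace Cfsg.Agent.S3870

section Aux

open Subgroup

variable {G : Type*} [Group G] [Finite G] {p : ℕ} [Fact p.Prime]

/-- Normalizers grow in `p`-groups. -/
theorem exists_mem_normalizer {D P : Subgroup G} (hP : IsPGroup p P) (hD : D < P) :
    ∃ x ∈ P, x ∈ normalizer (D : Set G) ∧ x ∉ D := by
  have hDP := hD.le
  have hnil : Group.IsNilpotent P := hP.isNilpotent
  have hlt : D.subgroupOf P < ⊤ := by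
    refine lt_top_iff_ne_top.mpr ?_
    intro h
    obtain ⟨x, hx, hxD⟩ := SetLike.exists_of_lt hD
    have : (⟨x, hx⟩ : P) ∈ D.subgroupOf P := by rw [h]; exact mem_top _
    exact hxD (mem_subgroupOf.mp this)
  have hcond := Group.normalizerCondition_of_isNilpotent (G := P) _ hlt
  obtain ⟨x, hx, hxD⟩ := SetLike.exists_of_lt hcond
  rw [← subgroupOf_normalizer_eq hDP, mem_subgroupOf] at hx
  refine ⟨x, x.2, hx, ?_⟩
  intro h
  exact hxD (mem_subgroupOf.mpr h)

end Aux

/-- Let G be a finite simple group whose Sylow p-subgroups are not normal but such that every proper subgroup of G has a normal Sylow p-subgroup. Then any two distinct Sylow p-subgroups of G intersect trivially, and for every Sylow p-subgroup P the normalizer of every non-identity subgroup of P lies in the normalizer of P. -/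
theorem result {G : Type*} [Group G] [Finite G] [IsSimpleGroup G] {p : ℕ} [Fact p.Prime]
    (hnc : ¬ Cfsg.IsPClosed p G) (hsub : ∀ H : Subgroup G, H ≠ ⊤ → Cfsg.IsPClosed p ↥H) :
    (∀ P Q : Sylow p G, P ≠ Q → (P : Subgroup G) ⊓ (Q : Subgroup G) = ⊥) ∧
      ∀ (P : Sylow p G) (R : Subgroup G), R ≤ P → R ≠ ⊥ →
        Subgroup.normalizer (R : Set G) ≤ Subgroup.normalizer ((P : Subgroup G) : Set G) := by
  classical
  open Subgroup in
  have hTI : ∀ P Q : Sylow p G, P ≠ Q → (P : Subgroup G) ⊓ (Q : Subgroup G) = ⊥ := by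
    by_contra hcon
    push Not at hcon
    obtain ⟨P₀, Q₀, hne₀, hinf₀⟩ := hcon
    have hne : ({D : Subgroup G | D ≠ ⊥ ∧ ∃ P Q : Sylow p G, P ≠ Q ∧ D = (P : Subgroup G) ⊓ Q}).Nonempty :=
      ⟨_, hinf₀, P₀, Q₀, hne₀, rfl⟩
    obtain ⟨D, hD⟩ := (Set.toFinite _).exists_maximal hne
    obtain ⟨⟨hD1, P, Q, hPQ, hDe⟩, hDmax⟩ := hD
    have hDP : D ≤ P := hDe ▸ inf_le_left
    have hDQ : D ≤ Q := hDe ▸ inf_le_right
    have hlt : ∀ A B : Sylow p G, A ≠ B → D ≤ A → D ≤ B → D = (A : Subgroup G) ⊓ B → D < A := by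
      intro A B hAB hA hB he
      refine lt_of_le_of_ne hA ?_
      intro h
      have h1 : (A : Subgroup G) ≤ B := by
        rw [← h]; exact hB
      apply hAB
      exact (Sylow.ext (A.3 B.2 h1)).symm
    have hDPlt : D < P := hlt P Q hPQ hDP hDQ hDe
    have hDQlt : D < Q := hlt Q P hPQ.symm hDQ hDP (by rw [hDe, inf_comm])
    -- the normalizer is proper
    have hNne : normalizer (D : Set G) ≠ ⊤ := by
      intro h
      have hn : D.Normal := normalizer_eq_top_iff.mp h
      rcases hn.eq_bot_or_eq_top with h1 | h1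
      · exact hD1 h1
      · apply hPQ
        have h2 : (P : Subgroup G) = ⊤ := eq_top_iff.mpr (h1 ▸ hDP)
        have h3 : (Q : Subgroup G) = ⊤ := eq_top_iff.mpr (h1 ▸ hDQ)
        exact Sylow.ext (h2.trans h3.symm)
    have hclosed := hsub _ hNne
    set N := normalizer (D : Set G) with hN
    obtain ⟨S₀⟩ : Nonempty (Sylow p N) := inferInstance
    have hSn : (S₀ : Subgroup N).Normal := hclosed S₀
    have huniq : ∀ A : Subgroup N, IsPGroup p A → A ≤ S₀ := by
      intro A hA
      obtain ⟨S', hS'⟩ := hA.exists_le_sylow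
      obtain ⟨g, hg⟩ := MulAction.exists_smul_eq N S₀ S'
      have : S' = S₀ := by
        rw [← hg]
        have : (S₀ : Subgroup N).Normal := hSn
        exact Sylow.smul_eq_of_normal
      rwa [this] at hS'
    have hT : IsPGroup p ((S₀ : Subgroup N).map N.subtype) := S₀.2.map _
    obtain ⟨T, hTle⟩ := hT.exists_le_sylow
    have hin : ∀ A : Sylow p G, ∀ x ∈ (A : Subgroup G), x ∈ N → x ∈ (T : Subgroup G) := by
      intro A x hxA hxN
      have hAp : IsPGroup p ((A : Subgroup G).subgroupOf N) := A.2.comap_of_injective _ N.subtype_injective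
      have h1 := huniq _ hAp
      have h2 : (⟨x, hxN⟩ : N) ∈ (A : Subgroup G).subgroupOf N := mem_subgroupOf.mpr hxA
      exact hTle ⟨_, h1 h2, rfl⟩
    have hDT : D ≤ T := fun x hx => hin P x (hDP hx) (le_normalizer hx)
    have hkey : ∀ A : Sylow p G, D < A → T = A := by
      intro A hA
      by_contra hTA
      obtain ⟨x, hxA, hxN, hxD⟩ := exists_mem_normalizer A.2 hA
      have hmem : (T : Subgroup G) ⊓ A ∈ {D : Subgroup G | D ≠ ⊥ ∧ ∃ P Q : Sylow p G, P ≠ Q ∧ D = (P : Subgroup G) ⊓ Q} := by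
        refine ⟨?_, T, A, hTA, rfl⟩
        intro h
        apply hD1
        rw [eq_bot_iff, ← h]
        exact le_inf hDT hA.le
      have hle := hDmax hmem (le_inf hDT hA.le)
      exact hxD (hle ⟨hin A x hxA hxN, hxA⟩)
    exact hPQ ((hkey P hDPlt).symm.trans (hkey Q hDQlt))
  refine ⟨hTI, ?_⟩
  intro P R hRP hR1 x hx
  have key : x • P = P := by
    by_contra hne
    have h1 := hTI _ _ hne
    apply hR1
    rw [eq_bot_iff, ← h1]
    intro r hr
    refine Subgroup.mem_inf.mpr ⟨?_, hRP hr⟩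
    rw [Sylow.coe_subgroup_smul, Subgroup.mem_pointwise_smul_iff_inv_smul_mem]
    have h2 : x⁻¹ * r * x ∈ R := by
      have := (Subgroup.mem_normalizer_iff.mp (inv_mem hx) r).mp hr
      simpa using this
    have h3 := hRP h2
    simpa [MulAut.smul_def, MulAut.conj_apply] using h3
  exact Sylow.smul_eq_iff_mem_normalizer.mp key

end Cfsg.Agent.S3870
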