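import Cfsg.Statements.S4209
import Mathlib
import Cfsg.Agent.Lib.FG7.HallPetrescu
import Cfsg.Agent.Lib.Regular.Basic

set_option autoImplicit false
open Cfsg

namespace Cfsg.Agent.S4209

open Cfsg.Agent.Lib.FG7.HallPetrescu Cfsg.Agent.Lib.Regular.Basic

universe u

theorem T_mem {X : Type u} [Group X] {p : ℕ} (hp : p.Prime) (u : ℕ → X) (hu : ∀ i, u i ∈ lcsF X i)
    (h0 : u 0 = 1) (h1 : u 1 = 1) (n r : ℕ) (hr : r ≤ p) :
    T u r (p ^ n) ∈ powerClosure p n (_root_.commutator X) := by
  induction r with
  | zero => exact Subgroup.one_mem _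
  | succ r ih =>
    refine Subgroup.mul_mem _ (ih (by omega)) ?_
    by_cases h : r = 0
    · subst h
      rw [h0]
      simp [Subgroup.one_mem]
    · by_cases h' : r = 1
      · subst h'
        rw [h1]
        simp [Subgroup.one_mem]
      · have hr2 : 2 ≤ r := by omega
        obtain ⟨m, hm⟩ := pow_dvd_choose (n := n) hp (by omega : 0 < r) (by omega : r < p)
        rw [hm, mul_comm, pow_mul]
        apply pow_mem_powerClosure
        apply Subgroup.pow_mem
        obtain ⟨s, rfl⟩ : ∃ s, r = s + 2 := ⟨r - 2, by omega⟩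
        have h3 : u (s + 2) ∈ (⊤ : Subgroup X).lowerCentralSeries (s + 1) := hu (s + 2)
        have h4 := Subgroup.lowerCentralSeries_antitone (⊤ : Subgroup X) (show 1 ≤ s + 1 by omega) h3
        rwa [Subgroup.top_lowerCentralSeries_one] at h4

theorem lcs_mono {G : Type*} [Group G] {S T : Subgroup G} (h : S ≤ T) (n : ℕ) :
    S.lowerCentralSeries n ≤ T.lowerCentralSeries n := by
  induction n with
  | zero => exact h
  | succ n ih => exact Subgroup.commutator_mono ih h

/-- A finite `p`-group of nilpotency class less than `p` (the term of index `p - 1` of the lower central series of the whole group, indexed from `0`, is trivial) is a regular `p`-group. -/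
theorem result {G : Type*} [Group G] [Finite G] {p : ℕ} [Fact p.Prime] (hG : IsPGroup p G) (hcl : (⊤ : Subgroup G).lowerCentralSeries (p - 1) = ⊥) : Cfsg.IsRegularPGroup p G := by
  have hp : p.Prime := Fact.out
  have hp2 := hp.two_le
  refine ⟨hG, ?_⟩
  intro a b n
  set H : Subgroup G := Subgroup.closure ({a, b} : Set G) with hH
  have ha : a ∈ H := Subgroup.subset_closure (by simp)
  have hb : b ∈ H := Subgroup.subset_closure (by simp)
  have hM : lcsF H p = ⊥ := by
    obtain ⟨s, hs⟩ : ∃ s, p = s + 1 := ⟨p - 1, by omega⟩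
    have h1 : (⊤ : Subgroup H).lowerCentralSeries (p - 1) = ⊥ := by
      have h2 := Subgroup.top_subtype_lowerCentralSeries H (p - 1)
      have h3 : H.lowerCentralSeries (p - 1) = ⊥ := by
        rw [eq_bot_iff, ← hcl]
        exact lcs_mono le_top _
      rw [h3] at h2
      exact (Subgroup.map_eq_bot_iff_of_injective _ H.subtype_injective).mp h2
    rw [hs] at h1 ⊢
    exact h1
  obtain ⟨u, hu, h0, h1, hT⟩ := hall_petrescu (⟨a, ha⟩ : H) (⟨b, hb⟩ : H) hp2 hM
  have hmem := T_mem hp u hu h0 h1 n p le_rfl
  refine ⟨(T u p (p ^ n) : H), ?_, ?_⟩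
  · have h2 := Subgroup.mem_map_of_mem H.subtype hmem
    rw [map_powerClosure, Subgroup.map_subtype_commutator] at h2
    exact h2
  · have := congrArg (Subtype.val) (hT (p ^ n))
    simpa using this

end Cfsg.Agent.S4209
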