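import Cfsg.Statements.S4225
import Mathlib
import Cfsg.Agent.Lib.FG7.RegularOmega

set_option autoImplicit false
open Cfsg

namespace Cfsg.Agent.S4225

/-- In a regular `p`-group, for every `k` the elements whose `p^k`-th power is `1` form a characteristic subgroup. -/
theorem result {G : Type*} [Group G] [Finite G] {p : ℕ} [Fact p.Prime] (hG : Cfsg.IsRegularPGroup p G) (k : ℕ) : ∃ H : Subgroup G, H.Characteristic ∧ (H : Set G) = {x : G | x ^ p ^ k = 1} := by
  have hR := Cfsg.Agent.Lib.Regular.Basic.regN_of_isRegularPGroup hG k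
  refine ⟨{ carrier := {x : G | x ^ p ^ k = 1}
            mul_mem' := fun hx hy => Cfsg.Agent.Lib.FG7.RegularOmega.mul_pow_eq_one hG.1 hR hx hy
            one_mem' := by simp
            inv_mem' := by
              intro x hx
              simp only [Set.mem_ofPred_eq] at hx ⊢
              rw [inv_pow, hx, inv_one] }, ?_, rfl⟩
  rw [Subgroup.characteristic_iff_comap_eq]
  intro φ
  ext x
  simp only [Subgroup.mem_comap, Subgroup.mem_mk, Submonoid.mem_mk, Subsemigroup.mem_mk, Set.mem_ofPred_eq]
  show φ.toMonoidHom x ^ p ^ k = 1 ↔ x ^ p ^ k = 1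
  rw [← map_pow]
  exact map_eq_one_iff φ.toMonoidHom φ.injective

end Cfsg.Agent.S4225
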