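import Cfsg.Statements.S3872
import Cfsg.Agent.S4209
import Cfsg.Agent.S4225
import Cfsg.Agent.Lib.Coprime.Generation
import Cfsg.Agent.Lib.PGroups.LowerCentral
-- import your own Cfsg.Agent.* helpers here

set_option autoImplicit false
open Cfsg

namespace Cfsg.Agent.S3872

/-- Say that a finite group is p-exponent closed when its elements of order dividing p form a subgroup. Let G be a finite p-group that is not p-exponent closed, but all of whose proper subgroups and proper quotients are. Then G is generated by two elements, has nilpotency class at least p, has exponent p², has cyclic center, and has order at least p^(p+1). -/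
theorem result {G : Type*} [Group G] [Finite G] {p : ℕ} [Fact p.Prime] (hG : IsPGroup p G)
    (hnc : ¬ (∃ H : Subgroup G, (H : Set G) = {g : G | g ^ p = 1})) (hsub : ∀ K : Subgroup G, K ≠ ⊤ → (∃ H : Subgroup ↥K, (H : Set ↥K) = {g : ↥K | g ^ p = 1}))
    (hquo : ∀ (N : Subgroup G) [N.Normal], N ≠ ⊥ → (∃ H : Subgroup (G ⧸ N), (H : Set (G ⧸ N)) = {g : (G ⧸ N) | g ^ p = 1})) :
    (∃ x y : G, Subgroup.closure ({x, y} : Set G) = ⊤) ∧ (⊤ : Subgroup G).lowerCentralSeries (p - 1) ≠ ⊥ ∧
      Monoid.exponent G = p ^ 2 ∧ IsCyclic ↥(Subgroup.center G) ∧ p ^ (p + 1) ≤ Nat.card G := by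
  classical
  open Subgroup in
  have hpp : p.Prime := Fact.out
  -- Step 0
  have hcl : closure {g : G | g ^ p = 1} = ⊤ := by
    by_contra hK
    obtain ⟨H, hH⟩ := hsub _ hK
    apply hnc
    refine ⟨H.map (Subgroup.subtype _), ?_⟩
    ext g
    constructor
    · rintro ⟨a, ha, rfl⟩
      have h1 : a ∈ (H : Set _) := ha
      rw [hH] at h1
      simpa using congrArg Subtype.val h1
    · intro hg
      have hgK : g ∈ closure {g : G | g ^ p = 1} := subset_closure hg
      refine ⟨⟨g, hgK⟩, ?_, rfl⟩
      have h1 : (⟨g, hgK⟩ : closure {g : G | g ^ p = 1}) ∈ (H : Set _) := by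
        rw [hH]
        exact Subtype.ext hg
      exact h1
  -- Step 1
  have hstep1 : ∀ (N : Subgroup G), N.Normal → N ≠ ⊥ → ∀ g : G, g ^ p ∈ N := by
    intro N hNn hN1 g
    obtain ⟨H, hH⟩ := hquo N hN1
    have hle : closure {g : G | g ^ p = 1} ≤ H.comap (QuotientGroup.mk' N) := by
      rw [closure_le]
      intro x hx
      have h1 : (QuotientGroup.mk' N x) ∈ (H : Set (G ⧸ N)) := by
        rw [hH]
        have : (QuotientGroup.mk' N x) ^ p = 1 := by
          rw [← map_pow, show x ^ p = 1 from hx, map_one]
        exact this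
      exact h1
    rw [hcl] at hle
    have h2 : QuotientGroup.mk' N g ∈ (H : Set (G ⧸ N)) := hle (mem_top g)
    rw [hH] at h2
    have h3 : (QuotientGroup.mk' N g) ^ p = 1 := h2
    rw [← map_pow, QuotientGroup.mk'_apply, QuotientGroup.eq_one_iff] at h3
    exact h3
  -- not all elements have `g ^ p = 1`
  have hnall : ¬ ∀ g : G, g ^ p = 1 := by
    intro hall
    apply hnc
    refine ⟨⊤, ?_⟩
    ext g
    simp [hall g]
  -- a bad pair
  obtain ⟨x, y, hx, hy, hxy⟩ : ∃ x y : G, x ^ p = 1 ∧ y ^ p = 1 ∧ (x * y) ^ p ≠ 1 := by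
    by_contra hcon
    push Not at hcon
    apply hnc
    refine ⟨{ carrier := {g : G | g ^ p = 1}
              one_mem' := by simp
              mul_mem' := fun {a b} ha hb => hcon a b ha hb
              inv_mem' := fun {a} ha => by
                have ha' : a ^ p = 1 := ha
                show a⁻¹ ^ p = 1
                rw [inv_pow, ha', inv_one] }, rfl⟩
  have hgen : closure ({x, y} : Set G) = ⊤ := by
    by_contra hK
    obtain ⟨H, hH⟩ := hsub _ hK
    have hxK : x ∈ closure ({x, y} : Set G) := subset_closure (by simp)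
    have hyK : y ∈ closure ({x, y} : Set G) := subset_closure (by simp)
    have h1 : (⟨x, hxK⟩ : closure ({x, y} : Set G)) ∈ (H : Set _) := by
      rw [hH]
      exact Subtype.ext hx
    have h2 : (⟨y, hyK⟩ : closure ({x, y} : Set G)) ∈ (H : Set _) := by
      rw [hH]
      exact Subtype.ext hy
    have h3 : (⟨x, hxK⟩ : closure ({x, y} : Set G)) * ⟨y, hyK⟩ ∈ (H : Set _) := H.mul_mem h1 h2
    rw [hH] at h3
    apply hxy
    exact congrArg Subtype.val h3
  have hnt : Nontrivial G := by
    by_contra hcon
    rw [not_nontrivial_iff_subsingleton] at hcon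
    exact hnall (fun g => Subsingleton.elim _ _)
  have hncyc : ¬ IsCyclic G := by
    intro hc
    have hcomm : Commute x y := by
      let _ := IsCyclic.commGroup (α := G)
      exact mul_comm x y
    apply hxy
    rw [hcomm.mul_pow, hx, hy, one_mul]
  have hclass : (⊤ : Subgroup G).lowerCentralSeries (p - 1) ≠ ⊥ := by
    intro hlcs
    have reg := Cfsg.Agent.S4209.result hG hlcs
    obtain ⟨H, -, hH⟩ := Cfsg.Agent.S4225.result reg 1
    apply hnc
    refine ⟨H, ?_⟩
    simpa using hH
  refine ⟨⟨x, y, hgen⟩, hclass, ?_, ?_, ?_⟩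
  · -- exponent
    have hZnt : Nontrivial (center G) := hG.center_nontrivial
    have hZp : IsPGroup p (center G) := hG.to_subgroup _
    have hdvd : p ∣ Nat.card (center G) := by
      obtain ⟨k, hk⟩ := IsPGroup.iff_card.mp hZp
      have h1 : 1 < Nat.card (center G) := Finite.one_lt_card
      rcases k with _ | k
      · simp [hk] at h1
      · rw [hk, pow_succ]
        exact dvd_mul_left _ _
    obtain ⟨c, hc⟩ := exists_prime_orderOf_dvd_card' p hdvd
    have hcc : (c : G) ∈ center G := c.2
    have hcn : (zpowers (c : G)).Normal := by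
      constructor
      intro a ha g
      obtain ⟨k, rfl⟩ := ha
      have hcomm : g * ((c : G) ^ k) * g⁻¹ = (c : G) ^ k := by
        have h1 : (c : G) ^ k ∈ center G := zpow_mem hcc k
        have h2 := (Subgroup.mem_center_iff.mp h1) g
        rw [h2]
        group
      simp only [hcomm]
      exact ⟨k, rfl⟩
    have hc1 : zpowers (c : G) ≠ ⊥ := by
      rw [Ne, zpowers_eq_bot]
      intro h
      have : c = 1 := Subtype.ext h
      rw [this, orderOf_one] at hc
      exact hpp.one_lt.ne hc
    have hc2 : (c : G) ^ p = 1 := by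
      have := pow_orderOf_eq_one c
      rw [hc] at this
      exact congrArg Subtype.val this
    have hsq : ∀ g : G, g ^ p ^ 2 = 1 := by
      intro g
      obtain ⟨k, hk⟩ := hstep1 _ hcn hc1 g
      have hk' : (c : G) ^ k = g ^ p := hk
      rw [sq, pow_mul, ← hk', ← zpow_natCast, zpow_comm, zpow_natCast, hc2, one_zpow]
    have hexp : Monoid.exponent G ∣ p ^ 2 := Monoid.exponent_dvd_of_forall_pow_eq_one hsq
    obtain ⟨k, hk, hek⟩ := (Nat.dvd_prime_pow hpp).mp hexp
    have hk2 : k = 2 := by
      by_contra hne
      apply hnall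
      intro g
      have hk1 : k ≤ 1 := by omega
      have h1 : Monoid.exponent G ∣ p := by
        rw [hek]
        have : p ^ k ∣ p ^ 1 := pow_dvd_pow p hk1
        simpa using this
      exact Monoid.exponent_dvd_iff_forall_pow_eq_one.mp h1 g
    rw [hek, hk2]
  · -- cyclic centre
    by_contra hcon
    let _ : CommGroup (center G) :=
      { (inferInstance : Group (center G)) with
        mul_comm := fun a b => Subtype.ext (Subgroup.mem_center_iff.mp b.2 a.1) }
    obtain ⟨q, hq, u, v, hu, hv, hv1, huv⟩ :=
      Cfsg.Agent.Lib.Coprime.Generation.exists_pair_of_not_isCyclic (center G) hcon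
    have : Fact q.Prime := ⟨hq⟩
    have hqp : q = p := by
      have hZp : IsPGroup p (center G) := hG.to_subgroup _
      have h1 : orderOf v = q := orderOf_eq_prime hv hv1
      obtain ⟨k, hk⟩ := hZp v
      have h2 : orderOf v ∣ p ^ k := orderOf_dvd_of_pow_eq_one hk
      rw [h1] at h2
      exact (Nat.prime_dvd_prime_iff_eq hq hpp).mp (hq.dvd_of_dvd_pow h2)
    subst hqp
    have hnorm : ∀ w : center G, w ≠ 1 → (zpowers (w : G)).Normal ∧ zpowers (w : G) ≠ ⊥ := by
      intro w hw
      refine ⟨?_, ?_⟩
      · constructor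
        intro a ha g
        obtain ⟨k, rfl⟩ := ha
        have hcomm : g * ((w : G) ^ k) * g⁻¹ = (w : G) ^ k := by
          have h1 : (w : G) ^ k ∈ center G := zpow_mem w.2 k
          have h2 := (Subgroup.mem_center_iff.mp h1) g
          rw [h2]
          group
        simp only [hcomm]
        exact ⟨k, rfl⟩
      · rw [Ne, zpowers_eq_bot]
        intro h
        exact hw (Subtype.ext h)
    have hu1 : u ≠ 1 := by
      intro h
      have := huv 0
      simp [h] at this
    apply hnall
    intro g
    by_contra hg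
    obtain ⟨hun, hub⟩ := hnorm u hu1
    obtain ⟨hvn, hvb⟩ := hnorm v hv1
    have hgu := hstep1 _ hun hub g
    have hgv := hstep1 _ hvn hvb g
    -- `u` lies in the cyclic group generated by `g ^ p`
    have huo : orderOf (u : G) = q := by
      rw [Subgroup.orderOf_coe]
      exact orderOf_eq_prime hu hu1
    have hz : zpowers (g ^ q) = zpowers (u : G) := by
      have hle : zpowers (g ^ q) ≤ zpowers (u : G) := by rwa [zpowers_le]
      have hc : Nat.card (zpowers (u : G)) = q := by rw [Nat.card_zpowers, huo]
      have hd : Nat.card (zpowers (g ^ q)) ∣ q := by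
        have := Subgroup.card_dvd_of_le hle
        rwa [hc] at this
      rcases (Nat.dvd_prime hq).mp hd with h1 | h1
      · exfalso
        rw [Nat.card_zpowers, orderOf_eq_one_iff] at h1
        exact hg h1
      · apply Subgroup.eq_of_le_of_card_ge hle
        rw [hc, h1]
    have huv' : (u : G) ∈ zpowers (v : G) := by
      have : (u : G) ∈ zpowers (g ^ q) := by
        rw [hz]
        exact mem_zpowers _
      exact (zpowers_le.mpr hgv) this
    have hinv : (u : G)⁻¹ ∈ zpowers (v : G) := inv_mem huv'
    rw [← mem_powers_iff_mem_zpowers] at hinv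
    obtain ⟨j, hj⟩ := hinv
    apply huv j
    apply Subtype.ext
    have hj' : (v : G) ^ j = (u : G)⁻¹ := hj
    simp only [MulMemClass.coe_mul, SubgroupClass.coe_pow, OneMemClass.coe_one]
    rw [hj']
    group
  · -- order
    have hP := Cfsg.Agent.Lib.PGroups.LowerCentral.pow_class_add_one_le hG hncyc
    have hnil : Group.IsNilpotent G := hG.isNilpotent
    refine le_trans (Nat.pow_le_pow_right hpp.pos ?_) hP
    by_contra hlt
    push Not at hlt
    apply hclass
    have h1 : (⊤ : Subgroup G).lowerCentralSeries (@Group.nilpotencyClass G _) = ⊥ :=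
      Subgroup.lowerCentralSeries_nilpotencyClass
    have hle : @Group.nilpotencyClass G _ ≤ p - 1 := by omega
    have h2 := Subgroup.lowerCentralSeries_antitone (⊤ : Subgroup G) hle
    rw [h1] at h2
    exact le_bot_iff.mp h2

end Cfsg.Agent.S3872
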