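import Cfsg.Statements.S3873
import Cfsg.Agent.Lib.FGS.MinNon
-- import your own Cfsg.Agent.* helpers here

set_option autoImplicit false
open Cfsg

namespace Cfsg.Agent.S3873

/-- Say that a finite group is p-exponent closed when its elements of order dividing p form a subgroup. Let G be a finite group that is not p-exponent closed, but all of whose proper subgroups and proper quotients are, and suppose G is neither simple nor a p-group. Then there is a prime q ≠ p such that G has order p · q^e, where e is the multiplicative order of q modulo p, and G has a normal elementary abelian subgroup of order q^e that is a minimal normal subgroup of G. -/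
theorem result {G : Type*} [Group G] [Finite G] {p : ℕ} [Fact p.Prime]
    (hnc : ¬ (∃ H : Subgroup G, (H : Set G) = {g : G | g ^ p = 1})) (hsub : ∀ K : Subgroup G, K ≠ ⊤ → (∃ H : Subgroup ↥K, (H : Set ↥K) = {g : ↥K | g ^ p = 1}))
    (hquo : ∀ (N : Subgroup G) [N.Normal], N ≠ ⊥ → (∃ H : Subgroup (G ⧸ N), (H : Set (G ⧸ N)) = {g : (G ⧸ N) | g ^ p = 1}))
    (hns : ¬ IsSimpleGroup G) (hnp : ¬ IsPGroup p G) :
    ∃ q : ℕ, q.Prime ∧ q ≠ p ∧ Nat.card G = p * q ^ orderOf (q : ZMod p) ∧
      ∃ A : Subgroup G, A.Normal ∧ Nat.card ↥A = q ^ orderOf (q : ZMod p) ∧ Cfsg.IsElementaryAbelian q A ∧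
        ∀ B : Subgroup G, B.Normal → B ≤ A → B = ⊥ ∨ B = A := by
  classical
  open Subgroup in
  have hpp : p.Prime := Fact.out
  -- Step 0
  have hcl : closure {g : G | g ^ p = 1} = ⊤ := by
    by_contra hK
    obtain ⟨H, hH⟩ := hsub _ hK
    apply hnc
    refine ⟨H.map (Subgroup.subtype _), ?_⟩
    ext g
    constructor
    · rintro ⟨a, ha, rfl⟩
      have h1 : a ∈ (H : Set _) := ha
      rw [hH] at h1
      simpa using congrArg Subtype.val h1
    · intro hg
      have hgK : g ∈ closure {g : G | g ^ p = 1} := subset_closure hg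
      refine ⟨⟨g, hgK⟩, ?_, rfl⟩
      have h1 : (⟨g, hgK⟩ : closure {g : G | g ^ p = 1}) ∈ (H : Set _) := by
        rw [hH]
        exact Subtype.ext hg
      exact h1
  -- Step 1
  have hstep1 : ∀ (N : Subgroup G), N.Normal → N ≠ ⊥ → ∀ g : G, g ^ p ∈ N := by
    intro N hNn hN1 g
    obtain ⟨H, hH⟩ := hquo N hN1
    have hle : closure {g : G | g ^ p = 1} ≤ H.comap (QuotientGroup.mk' N) := by
      rw [closure_le]
      intro x hx
      have h1 : (QuotientGroup.mk' N x) ∈ (H : Set (G ⧸ N)) := by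
        rw [hH]
        have : (QuotientGroup.mk' N x) ^ p = 1 := by
          rw [← map_pow, show x ^ p = 1 from hx, map_one]
        exact this
      exact h1
    rw [hcl] at hle
    have h2 : QuotientGroup.mk' N g ∈ (H : Set (G ⧸ N)) := hle (mem_top g)
    rw [hH] at h2
    have h3 : (QuotientGroup.mk' N g) ^ p = 1 := h2
    rw [← map_pow, QuotientGroup.mk'_apply, QuotientGroup.eq_one_iff] at h3
    exact h3
  -- Step 2
  have hG1 : Nontrivial G := by
    by_contra hcon
    rw [not_nontrivial_iff_subsingleton] at hcon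
    apply hnp
    intro g
    exact ⟨0, Subsingleton.elim _ _⟩
  obtain ⟨N, hNn, hN1, hNt, hmin⟩ := Cfsg.Agent.Lib.FGS.MinNon.exists_minimal_normal hG1 hns
  have hnotp : ∀ M : Subgroup G, M.Normal → M ≠ ⊥ → ¬ IsPGroup p M := by
    intro M hMn hM1 hMp
    apply hnp
    intro g
    obtain ⟨k, hk⟩ := hMp ⟨g ^ p, hstep1 M hMn hM1 g⟩
    refine ⟨k + 1, ?_⟩
    have := congrArg Subtype.val hk
    simp only [SubgroupClass.coe_pow, OneMemClass.coe_one] at this
    rw [pow_succ', pow_mul]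
    exact this
  -- Step 3
  obtain ⟨H, hH⟩ := hsub N hNt
  have hHmem : ∀ n (hn : n ∈ N), (⟨n, hn⟩ : N) ∈ H ↔ n ^ p = 1 := by
    intro n hn
    have h1 : ((⟨n, hn⟩ : N) ∈ H) ↔ (⟨n, hn⟩ : N) ∈ (H : Set N) := Iff.rfl
    rw [h1, hH]
    constructor
    · intro h
      have h2 : (⟨n, hn⟩ : N) ^ p = 1 := h
      simpa using congrArg Subtype.val h2
    · intro h
      exact Subtype.ext h
  have hWn : (H.map N.subtype).Normal := by
    constructor
    rintro _ ⟨a, ha, rfl⟩ g
    have h1 := (hHmem a.1 a.2).mp ha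
    have hm : g * a.1 * g⁻¹ ∈ N := hNn.conj_mem a.1 a.2 g
    refine ⟨⟨g * a.1 * g⁻¹, hm⟩, (hHmem _ hm).mpr ?_, rfl⟩
    rw [conj_pow, h1]
    simp
  have hNpow : ∀ n ∈ N, n ^ p = 1 → n = 1 := by
    intro n hn hnp1
    rcases hmin _ hWn (map_subtype_le H) with h | h
    · have : n ∈ H.map N.subtype := ⟨⟨n, hn⟩, (hHmem n hn).mpr hnp1, rfl⟩
      rw [h, mem_bot] at this
      exact this
    · exfalso
      apply hnotp N hNn hN1
      intro x
      have hx : (x : G) ∈ H.map N.subtype := by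
        rw [h]
        exact x.2
      obtain ⟨a, ha, hax⟩ := hx
      have h1 := (hHmem a.1 a.2).mp ha
      have hax' : a.1 = x.1 := hax
      refine ⟨1, Subtype.ext ?_⟩
      rw [pow_one]
      simp only [SubgroupClass.coe_pow, OneMemClass.coe_one]
      rw [← hax']
      exact h1
  have hNpel : ∀ (a : G), a ∈ N → (∃ k : ℕ, a ^ p ^ k = 1) → a = 1 := by
    intro a ha ⟨k, hk⟩
    induction k with
    | zero => simpa using hk
    | succ k ih =>
      apply ih
      apply hNpow _ (pow_mem ha _)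
      rw [← pow_mul, ← pow_succ]
      exact hk
  have hdisj : ¬ p ∣ Nat.card N := by
    intro hd
    obtain ⟨y, hy⟩ := exists_prime_orderOf_dvd_card' p hd
    have h1 := hNpow (y : G) y.2 (by
      have := pow_orderOf_eq_one y
      rw [hy] at this
      exact congrArg Subtype.val this)
    have h2 : y = 1 := Subtype.ext h1
    rw [h2, orderOf_one] at hy
    exact hpp.one_lt.ne hy
  -- Step 4
  obtain ⟨P⟩ : Nonempty (Sylow p G) := inferInstance
  have hPN : (P : Subgroup G) ⊔ N = ⊤ := by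
    have hs := QuotientGroup.mk'_surjective N
    have hQp : IsPGroup p (G ⧸ N) := by
      intro x
      obtain ⟨g, rfl⟩ := QuotientGroup.mk'_surjective N x
      refine ⟨1, ?_⟩
      rw [pow_one, ← map_pow, QuotientGroup.mk'_apply, QuotientGroup.eq_one_iff]
      exact hstep1 N hNn hN1 g
    have h1 : (⊤ : Subgroup (G ⧸ N)) = ((P.mapSurjective hs : Sylow p (G ⧸ N)) : Subgroup (G ⧸ N)) :=
      (P.mapSurjective hs).is_maximal' (hQp.to_subgroup _) le_top
    have h2 : (P : Subgroup G).map (QuotientGroup.mk' N) = ⊤ := h1.symm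
    have h3 := congrArg (Subgroup.comap (QuotientGroup.mk' N)) h2
    rwa [comap_map_eq, QuotientGroup.ker_mk', comap_top] at h3
  -- Step 5
  have hPexp : ∀ y ∈ (P : Subgroup G), y ^ p = 1 := by
    intro y hy
    apply hNpel _ (hstep1 N hNn hN1 y)
    obtain ⟨k, hk⟩ := P.2 ⟨y ^ p, pow_mem hy p⟩
    exact ⟨k, congrArg Subtype.val hk⟩
  -- Step 6
  have hcent : ∀ y ∈ (P : Subgroup G), ∀ U : Subgroup G, U ≤ N → y ∈ normalizer (U : Set G) →
      U ⊔ zpowers y ≠ ⊤ → ∀ u ∈ U, y * u * y⁻¹ = u := by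
    intro y hy U hUN hyU hX u hu
    obtain ⟨X, hXdef⟩ : ∃ X, X = U ⊔ zpowers y := ⟨_, rfl⟩
    rw [← hXdef] at hX
    obtain ⟨T, hT⟩ := hsub _ hX
    have hyX : y ∈ X := by rw [hXdef]; exact mem_sup_right (mem_zpowers y)
    have huX : u ∈ X := by rw [hXdef]; exact mem_sup_left hu
    have hTmem : ∀ n (hn : n ∈ X), (⟨n, hn⟩ : X) ∈ T ↔ n ^ p = 1 := by
      intro n hn
      have h1 : ((⟨n, hn⟩ : X) ∈ T) ↔ (⟨n, hn⟩ : X) ∈ (T : Set X) := Iff.rfl
      rw [h1, hT]
      constructor
      · intro h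
        have h2 : (⟨n, hn⟩ : X) ^ p = 1 := h
        simpa using congrArg Subtype.val h2
      · intro h
        exact Subtype.ext h
    have hy1 : y ^ p = 1 := hPexp y hy
    have hyT : (⟨y, hyX⟩ : X) ∈ T := (hTmem y hyX).mpr hy1
    have hcT : (⟨y, hyX⟩ : X) * ((⟨u, huX⟩ : X) * (⟨y, hyX⟩ : X)⁻¹ * (⟨u, huX⟩ : X)⁻¹) ∈ T := by
      apply mul_mem hyT
      have hm : u * y⁻¹ * u⁻¹ ∈ X := mul_mem (mul_mem huX (inv_mem hyX)) (inv_mem huX)
      refine (hTmem (u * y⁻¹ * u⁻¹) hm).mpr ?_
      rw [conj_pow, inv_pow, hy1]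
      simp
    have hk : (y * (u * y⁻¹ * u⁻¹)) ^ p = 1 := by
      have hm : y * (u * y⁻¹ * u⁻¹) ∈ X :=
        mul_mem hyX (mul_mem (mul_mem huX (inv_mem hyX)) (inv_mem huX))
      exact (hTmem _ hm).mp hcT
    have e : y * (u * y⁻¹ * u⁻¹) = y * u * y⁻¹ * u⁻¹ := by group
    have hcU : y * (u * y⁻¹ * u⁻¹) ∈ U := by
      rw [e]
      exact mul_mem ((mem_normalizer_iff.mp hyU u).mp hu) (inv_mem hu)
    have h1 := hNpow _ (hUN hcU) hk
    rw [e, mul_inv_eq_one] at h1
    exact h1
  -- Step 7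
  have hnc' : ∃ y ∈ (P : Subgroup G), ∃ n ∈ N, y * n * y⁻¹ ≠ n := by
    by_contra hcon
    push Not at hcon
    apply hnc
    refine ⟨P, ?_⟩
    ext g
    constructor
    · intro hg
      exact hPexp g hg
    · intro hg
      have hgt : g ∈ (P : Subgroup G) ⊔ N := by rw [hPN]; exact mem_top g
      rw [← SetLike.mem_coe, Subgroup.mul_normal] at hgt
      obtain ⟨u, hu, n, hn, rfl⟩ := Set.mem_mul.mp hgt
      have hc : Commute u n := by
        have := hcon u hu n hn
        rw [mul_inv_eq_iff_eq_mul] at this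
        exact this
      have h1 : (u * n) ^ p = 1 := hg
      rw [hc.mul_pow, hPexp u hu, one_mul] at h1
      rw [hNpow n hn h1, mul_one]
      exact hu
  -- Step 8
  have hZ : ∀ z ∈ (P : Subgroup G), (∀ g : G, g * z = z * g) → z = 1 := by
    intro z hz hzc
    by_contra hz1
    have hzn : (zpowers z).Normal := by
      constructor
      intro a ha g
      obtain ⟨k, rfl⟩ := ha
      have : g * z ^ k * g⁻¹ = z ^ k := by
        have hcomm : Commute g (z ^ k) := (show Commute g z from hzc g).zpow_right k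
        rw [hcomm.eq]
        group
      simp only [this]
      exact ⟨k, rfl⟩
    have hz2 : zpowers z ≠ ⊥ := by
      rw [Ne, zpowers_eq_bot]
      exact hz1
    exact hnotp _ hzn hz2 (P.2.to_le (by rwa [zpowers_le]))
  obtain ⟨q, hq, hqne, hc1, hc2, hab⟩ :=
    Cfsg.Agent.Lib.FGS.MinNon.structure_of_minimal P N hN1 hmin hPN hdisj hcent hnc' hZ
  exact ⟨q, hq, hqne, hc1, N, hNn, hc2, hab, hmin⟩

end Cfsg.Agent.S3873
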