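import Cfsg.Statements.S3875
import Cfsg.Agent.S3868
import Cfsg.Agent.Lib.BrauerOrder.Bound
import Cfsg.Agent.Lib.Classical.AltIso

set_option autoImplicit false
open Cfsg

namespace Cfsg.Agent.S3875

open scoped MatrixGroups

section Lower

/-- The lower bound for non-`p`-closed groups. -/
theorem lower (p : ℕ) [hf : Fact p.Prime] (m : ℕ)
    (hleast : ∀ k : ℕ, IsPrimePow k → k % p = 1 → m ≤ k) (n : ℕ) :
    ∀ (H : Type) [Group H] [Finite H], Nat.card H = n → ¬ Cfsg.IsPClosed p H →
      min (p * m) (p * (p ^ 2 - 1) / 2) ≤ Nat.card H := by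
  classical
  induction n using Nat.strong_induction_on with
  | _ n ih =>
  intro H _ _ hcard hnc
  by_cases hsub : ∀ K : Subgroup H, K ≠ ⊤ → Cfsg.IsPClosed p ↥K
  swap
  · push Not at hsub
    obtain ⟨K, hK, hKc⟩ := hsub
    have h1 : Nat.card K < Nat.card H := by
      have h0 := K.card_mul_index
      have hi : K.index ≠ 1 := fun h => hK (Subgroup.index_eq_one.mp h)
      have hi0 : K.index ≠ 0 := Subgroup.index_ne_zero_of_finite
      have hi2 : 2 ≤ K.index := by omega
      have hpos : 0 < Nat.card K := Nat.card_pos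
      nlinarith
    exact (ih _ (hcard ▸ h1) K rfl hKc).trans h1.le
  by_cases hquo : ∀ (N : Subgroup H) [N.Normal], N ≠ ⊥ → Cfsg.IsPClosed p (H ⧸ N)
  swap
  · push Not at hquo
    obtain ⟨N, hN, hNb, hNc⟩ := hquo
    have h1 : Nat.card (H ⧸ N) < Nat.card H := by
      rw [← N.card_mul_index, Subgroup.index_eq_card]
      have h2 : 1 < Nat.card N := by
        have h3 : Nontrivial N := (Subgroup.nontrivial_iff_ne_bot N).mpr hNb
        exact Finite.one_lt_card
      have h3 : 0 < Nat.card (H ⧸ N) := Nat.card_pos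
      nlinarith
    exact (ih _ (hcard ▸ h1) (H ⧸ N) rfl hNc).trans h1.le
  by_cases hs : IsSimpleGroup H
  swap
  · obtain ⟨q, hq, hqp, hc, -⟩ := Cfsg.Agent.S3868.result hnc hsub hquo hs
    have hqZ : (q : ZMod p) ≠ 0 := by
      intro h
      rw [ZMod.natCast_eq_zero_iff] at h
      exact hqp ((Nat.prime_dvd_prime_iff_eq hf.out hq).mp h).symm
    have hunit : IsUnit (q : ZMod p) := hqZ.isUnit
    have hfin : IsOfFinOrder (q : ZMod p) := by
      have h1 : IsOfFinOrder hunit.unit := isOfFinOrder_of_finite _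
      have h2 := (Units.coeHom (ZMod p)).isOfFinOrder h1
      exact h2
    have hpos : 0 < orderOf (q : ZMod p) := hfin.orderOf_pos
    have hpp : IsPrimePow (q ^ orderOf (q : ZMod p)) :=
      (Nat.Prime.isPrimePow hq).pow hpos.ne'
    have hmod : q ^ orderOf (q : ZMod p) % p = 1 := by
      have h1 : ((q ^ orderOf (q : ZMod p) : ℕ) : ZMod p) = 1 := by
        push_cast
        exact pow_orderOf_eq_one _
      have h2 : ((q ^ orderOf (q : ZMod p) : ℕ) : ZMod p) = ((1 : ℕ) : ZMod p) := by
        rw [h1]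
        simp
      have h3 := (ZMod.natCast_eq_natCast_iff' _ _ _).mp h2
      rw [h3]
      exact Nat.mod_eq_of_lt hf.out.one_lt
    have h1 := hleast _ hpp hmod
    rw [hc]
    exact (min_le_left _ _).trans (Nat.mul_le_mul_left p h1)
  -- the simple case
  have hne : ∃ P : Sylow p H, ¬ (P : Subgroup H).Normal := by
    by_contra hcon
    push Not at hcon
    exact hnc hcon
  obtain ⟨P, hPn⟩ := hne
  refine (min_le_right _ _).trans ?_
  have hhalf : ∀ c : ℕ, p * p ^ 2 ≤ 2 * c + p → p * (p ^ 2 - 1) / 2 ≤ c := by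
    intro c hc
    apply Nat.div_le_of_le_mul
    have h1 : p * (p ^ 2 - 1) = p * p ^ 2 - p := by
      rw [Nat.mul_sub, mul_one]
    omega
  apply hhalf
  by_cases hp2 : p ^ 2 ∣ Nat.card H
  · -- `p ^ 2` divides the order
    have hindex : p + 1 ≤ (Subgroup.normalizer ((P : Subgroup H) : Set H)).index := by
      have h1 : Nat.card (Sylow p H) = (Subgroup.normalizer ((P : Subgroup H) : Set H)).index :=
        Sylow.card_eq_index_normalizer P
      have h2 := card_sylow_modEq_one p H
      rw [h1] at h2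
      have h3 : (Subgroup.normalizer ((P : Subgroup H) : Set H)).index ≠ 1 := by
        intro h
        apply hPn
        exact Subgroup.normalizer_eq_top_iff.mp (Subgroup.index_eq_one.mp h)
      have hpos : 0 < (Subgroup.normalizer ((P : Subgroup H) : Set H)).index :=
        Nat.pos_of_ne_zero Subgroup.index_ne_zero_of_finite
      have h5 : p ∣ (Subgroup.normalizer ((P : Subgroup H) : Set H)).index - 1 :=
        (Nat.modEq_iff_dvd' (by omega)).mp h2.symm
      have h6 := Nat.le_of_dvd (by omega) h5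
      omega
    have hPcard : p ^ 2 ≤ Nat.card P := by
      have h1 : p ^ 2 ∣ Nat.card P := by
        have h2 := P.pow_dvd_card_of_pow_dvd_card hp2
        exact h2
      exact Nat.le_of_dvd Nat.card_pos h1
    have hNcard : Nat.card P ≤ Nat.card (Subgroup.normalizer ((P : Subgroup H) : Set H)) :=
      Subgroup.card_le_of_le Subgroup.le_normalizer
    have h1 := (Subgroup.normalizer ((P : Subgroup H) : Set H)).card_mul_index
    have h2 : p ^ 2 * (p + 1) ≤ Nat.card H := by
      rw [← h1]
      exact Nat.mul_le_mul (hPcard.trans hNcard) hindex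
    nlinarith [hf.out.pos]
  · -- `p` exactly divides the order
    letI : Fintype H := Fintype.ofFinite _
    have hPc : Nat.card P = p := by
      obtain ⟨k, hk⟩ := P.2.exists_card_eq
      have hk' : Nat.card P = p ^ k := hk
      have h1 : k < 2 := by
        by_contra hcon
        apply hp2
        have h2 : p ^ 2 ∣ p ^ k := pow_dvd_pow p (by omega)
        rw [← hk'] at h2
        exact h2.trans (Subgroup.card_subgroup_dvd_card _)
      have h2 : k ≠ 0 := by
        rintro rfl
        apply hPn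
        have h3 : Nat.card P = 1 := by rw [hk', pow_zero]
        have h4 : (P : Subgroup H) = ⊥ := Subgroup.eq_bot_of_card_eq _ h3
        rw [h4]
        infer_instance
      have h3 : k = 1 := by omega
      rw [hk', h3, pow_one]
    have hna : ¬ IsMulCommutative H := by
      intro hc
      apply hPn
      refine ⟨fun n hn g => ?_⟩
      have h1 : g * n * g⁻¹ = n := by
        rw [hc.is_comm.comm g n, mul_assoc, mul_inv_cancel, mul_one]
      rw [h1]
      exact hn
    exact Cfsg.Agent.Lib.BrauerOrder.Bound.card_ge hna hPc hp2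

end Lower

section Frob

variable (F : Type) [Field F]

/-- Multiplication by units. -/
def autF : Fˣ →* MulAut (Multiplicative F) where
  toFun x :=
    { toFun := fun a => Multiplicative.ofAdd ((x : F) * a.toAdd)
      invFun := fun a => Multiplicative.ofAdd (((x⁻¹ : Fˣ) : F) * a.toAdd)
      left_inv := fun a => by simp
      right_inv := fun a => by simp
      map_mul' := fun a b => by
        simp [mul_add] }
  map_one' := by
    ext a
    simp
  map_mul' x y := by
    ext a
    simp [mul_assoc]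

theorem autF_apply (x : Fˣ) (a : F) :
    autF F x (Multiplicative.ofAdd a) = Multiplicative.ofAdd ((x : F) * a) := rfl

end Frob

/-- The Frobenius group of order `p * m`. -/
theorem exists_frob (p : ℕ) [hf : Fact p.Prime] (m : ℕ) (hm : IsPrimePow m) (hm1 : m % p = 1) :
    ∃ (H : Type) (_ : Group H) (_ : Finite H), Nat.card H = p * m ∧ ¬ Cfsg.IsPClosed p H := by
  classical
  obtain ⟨q, f, hq, hf0, rfl⟩ := (isPrimePow_nat_iff _).mp hm
  haveI : Fact q.Prime := ⟨hq⟩
  have hqp : q ≠ p := by
    rintro rfl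
    have h1 : q ∣ q ^ f := dvd_pow_self q hf0.ne'
    rw [(Nat.dvd_iff_mod_eq_zero).mp h1] at hm1
    exact absurd hm1 (by norm_num)
  let F := GaloisField q f
  haveI : Fintype F := Fintype.ofFinite _
  have hFcard : Nat.card F = q ^ f := GaloisField.card q f hf0.ne'
  have hunits : Nat.card Fˣ = q ^ f - 1 := by
    rw [Nat.card_eq_fintype_card, Fintype.card_units, ← Nat.card_eq_fintype_card, hFcard]
  have hdvd : p ∣ Nat.card Fˣ := by
    rw [hunits]
    have h1 : q ^ f ≡ 1 [MOD p] := by
      show q ^ f % p = 1 % p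
      rw [hm1, Nat.mod_eq_of_lt hf.out.one_lt]
    exact (Nat.modEq_iff_dvd' (Nat.one_le_pow _ _ hq.pos)).mp h1.symm
  obtain ⟨u, hu⟩ := exists_prime_orderOf_dvd_card' p hdvd
  let U : Subgroup Fˣ := Subgroup.zpowers u
  have hUc : Nat.card U = p := by
    rw [Nat.card_zpowers, hu]
  let φ : U →* MulAut (Multiplicative F) := (autF F).comp U.subtype
  haveI hfinH : Finite ((Multiplicative F) ⋊[φ] U) :=
    Finite.of_equiv (Multiplicative F × U) SemidirectProduct.equivProd.symm
  refine ⟨(Multiplicative F) ⋊[φ] U, inferInstance, hfinH, ?_, ?_⟩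
  · rw [Nat.card_congr SemidirectProduct.equivProd, Nat.card_prod, hUc, mul_comm]
    congr 1
  · intro hcl
    let x : (Multiplicative F) ⋊[φ] U := SemidirectProduct.inr ⟨u, Subgroup.mem_zpowers u⟩
    have hxp : x ^ p = 1 := by
      rw [← map_pow]
      have h1 : (⟨u, Subgroup.mem_zpowers u⟩ : U) ^ p = 1 := by
        apply Subtype.ext
        simp only [Subgroup.coe_pow, Subgroup.coe_one]
        rw [← hu]
        exact pow_orderOf_eq_one u
      rw [h1, map_one]
    have hzp : IsPGroup p (Subgroup.zpowers x) := by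
      refine IsPGroup.of_card (n := 1) ?_
      rw [Nat.card_zpowers, pow_one]
      have h1 : orderOf x ∣ p := orderOf_dvd_of_pow_eq_one hxp
      rcases (Nat.dvd_prime hf.out).mp h1 with h | h
      · exfalso
        have h2 : x = 1 := orderOf_eq_one_iff.mp h
        have h3 : (⟨u, Subgroup.mem_zpowers u⟩ : U) = 1 :=
          SemidirectProduct.inr_injective (by rw [map_one]; exact h2)
        have h4 : u = 1 := congrArg Subtype.val h3
        rw [h4, orderOf_one] at hu
        exact hf.out.one_lt.ne hu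
      · exact h
    obtain ⟨S, hS⟩ := hzp.exists_le_sylow
    have hxS : x ∈ (S : Subgroup _) := hS (Subgroup.mem_zpowers x)
    haveI hSn := hcl S
    let a : (Multiplicative F) ⋊[φ] U := SemidirectProduct.inl (Multiplicative.ofAdd (1 : F))
    have h1 : a * x * a⁻¹ ∈ (S : Subgroup _) := hSn.conj_mem x hxS a
    have h2 : a * x * a⁻¹ * x⁻¹ ∈ (S : Subgroup _) :=
      Subgroup.mul_mem _ h1 (Subgroup.inv_mem _ hxS)
    have hy : a * x * a⁻¹ * x⁻¹ = SemidirectProduct.inl (Multiplicative.ofAdd (1 - (u : F))) := by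
      have h3 : x * a⁻¹ * x⁻¹ = SemidirectProduct.inl (φ ⟨u, Subgroup.mem_zpowers u⟩ (Multiplicative.ofAdd (-1 : F))) := by
        rw [SemidirectProduct.inl_aut, map_inv SemidirectProduct.inr]
        have h4 : a⁻¹ = SemidirectProduct.inl (Multiplicative.ofAdd (-1 : F)) := by
          rw [← map_inv, ofAdd_neg]
        rw [h4]
      calc a * x * a⁻¹ * x⁻¹ = a * (x * a⁻¹ * x⁻¹) := by group
        _ = _ := by
          rw [h3, ← map_mul]
          congr 1
          show Multiplicative.ofAdd (1 : F) * Multiplicative.ofAdd ((u : F) * (-1)) = _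
          rw [← ofAdd_add]
          congr 1
          ring
    rw [hy] at h2
    have hpg := S.2
    obtain ⟨k, hk⟩ := (IsPGroup.iff_orderOf.mp hpg) ⟨_, h2⟩
    have h3 : (SemidirectProduct.inl (Multiplicative.ofAdd (1 - (u : F))) : (Multiplicative F) ⋊[φ] U) ^ (p ^ k) = 1 := by
      have h4 := pow_orderOf_eq_one (⟨_, h2⟩ : (S : Subgroup ((Multiplicative F) ⋊[φ] U)))
      rw [hk] at h4
      exact congrArg Subtype.val h4
    rw [← map_pow, ← map_one (SemidirectProduct.inl : Multiplicative F →* (Multiplicative F) ⋊[φ] U)] at h3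
    have h5 := SemidirectProduct.inl_injective h3
    rw [← ofAdd_nsmul] at h5
    have h6 : (p ^ k) • (1 - (u : F)) = 0 := Multiplicative.ofAdd.injective h5
    rw [nsmul_eq_mul] at h6
    rcases mul_eq_zero.mp h6 with h7 | h7
    · have h8 : ((p ^ k : ℕ) : F) = 0 := h7
      rw [CharP.cast_eq_zero_iff F q] at h8
      have h9 := hq.dvd_of_dvd_pow h8
      exact hqp ((Nat.prime_dvd_prime_iff_eq hq hf.out).mp h9)
    · have h8 : (u : F) = 1 := (sub_eq_zero.mp h7).symm
      have h9 : u = 1 := Units.ext h8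
      rw [h9, orderOf_one] at hu
      exact hf.out.one_lt.ne hu

section PSL

variable {p : ℕ} [hf : Fact p.Prime]

/-- Upper unitriangular matrices. -/
def tt (a : ZMod p) : SL(2, ZMod p) := ⟨!![1, a; 0, 1], by simp [Matrix.det_fin_two]⟩

/-- Lower unitriangular matrices. -/
def ss (a : ZMod p) : SL(2, ZMod p) := ⟨!![1, 0; a, 1], by simp [Matrix.det_fin_two]⟩

theorem val_mul (g h : SL(2, ZMod p)) : (g * h).1 = g.1 * h.1 := rfl

theorem tt_val (a : ZMod p) : (tt a).1 = !![1, a; 0, 1] := rfl

theorem ss_val (a : ZMod p) : (ss a).1 = !![1, 0; a, 1] := rfl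

theorem tt_mul (a b : ZMod p) : tt a * tt b = tt (a + b) := by
  apply Subtype.ext
  rw [val_mul, tt_val, tt_val, tt_val, Matrix.mul_fin_two]
  simp [add_comm]

theorem ss_mul (a b : ZMod p) : ss a * ss b = ss (a + b) := by
  apply Subtype.ext
  rw [val_mul, ss_val, ss_val, ss_val, Matrix.mul_fin_two]
  simp [add_comm]

theorem tt_zero : tt (0 : ZMod p) = 1 := by
  apply Subtype.ext
  simp [tt, Matrix.one_fin_two]

theorem ss_zero : ss (0 : ZMod p) = 1 := by
  apply Subtype.ext
  simp [ss, Matrix.one_fin_two]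

theorem tt_pow (a : ZMod p) (n : ℕ) : tt a ^ n = tt (n • a) := by
  induction n with
  | zero => simp [tt_zero]
  | succ n ih => rw [pow_succ, ih, tt_mul, succ_nsmul]

theorem ss_pow (a : ZMod p) (n : ℕ) : ss a ^ n = ss (n • a) := by
  induction n with
  | zero => simp [ss_zero]
  | succ n ih => rw [pow_succ, ih, ss_mul, succ_nsmul]

theorem tt_pow_p (a : ZMod p) : tt a ^ p = 1 := by
  rw [tt_pow, nsmul_eq_mul, CharP.cast_eq_zero, zero_mul, tt_zero]

theorem ss_pow_p (a : ZMod p) : ss a ^ p = 1 := by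
  rw [ss_pow, nsmul_eq_mul, CharP.cast_eq_zero, zero_mul, ss_zero]

/-- The Weyl element. -/
def ww : SL(2, ZMod p) := tt 1 * (ss 1)⁻¹ * tt 1

theorem ww_val : (ww : SL(2, ZMod p)).1 = !![0, 1; -1, 0] := by
  have h1 : (ss (1 : ZMod p))⁻¹ = ss (-1) := by
    symm
    apply eq_inv_of_mul_eq_one_left
    rw [ss_mul, neg_add_cancel, ss_zero]
  rw [ww, h1, val_mul, val_mul, tt_val, ss_val, Matrix.mul_fin_two, Matrix.mul_fin_two]
  simp

theorem exists_mem_sylow {H : Type} [Group H] [Finite H] (y : H) (hy : y ^ p = 1) :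
    ∃ S : Sylow p H, y ∈ (S : Subgroup H) := by
  have hz : IsPGroup p (Subgroup.zpowers y) := by
    refine fun g => ⟨1, ?_⟩
    apply Subtype.ext
    obtain ⟨k, hk⟩ := Subgroup.mem_zpowers_iff.mp g.2
    simp only [pow_one, Subgroup.coe_pow, Subgroup.coe_one]
    rw [← hk, ← zpow_natCast, ← zpow_mul, mul_comm, zpow_mul, zpow_natCast, hy, one_zpow]
  obtain ⟨S, hS⟩ := hz.exists_le_sylow
  exact ⟨S, hS (Subgroup.mem_zpowers y)⟩

/-- `PSL₂(p)` is not `p`-closed, `p` odd. -/
theorem not_closed_psl (hp : p ≠ 2) :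
    ¬ Cfsg.IsPClosed p (Matrix.ProjectiveSpecialLinearGroup (Fin 2) (ZMod p)) := by
  classical
  intro hcl
  let π : SL(2, ZMod p) →* Matrix.ProjectiveSpecialLinearGroup (Fin 2) (ZMod p) :=
    QuotientGroup.mk' (Subgroup.center _)
  have hπ : ∀ g : SL(2, ZMod p), π g = 1 ↔ g ∈ Subgroup.center (SL(2, ZMod p)) := by
    intro g
    exact QuotientGroup.eq_one_iff g
  obtain ⟨S₁, h1⟩ := exists_mem_sylow (p := p) (π (tt 1)) (by rw [← map_pow, tt_pow_p, map_one])
  obtain ⟨S₂, h2⟩ := exists_mem_sylow (p := p) (π (ss 1)) (by rw [← map_pow, ss_pow_p, map_one])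
  have hS : S₂ = S₁ := by
    have := Sylow.unique_of_normal S₁ (hcl S₁)
    exact Subsingleton.elim _ _
  rw [hS] at h2
  have h3 : π ww ∈ (S₁ : Subgroup _) := by
    rw [ww, map_mul, map_mul, map_inv]
    exact Subgroup.mul_mem _ (Subgroup.mul_mem _ h1 (Subgroup.inv_mem _ h2)) h1
  have hne : π ww ≠ 1 := by
    intro h
    have h4 := (hπ _).mp h
    have h5 := Subgroup.mem_center_iff.mp h4 (tt 1)
    have h6 := congrArg (fun g : SL(2, ZMod p) => g.1 0 0) h5
    simp only [val_mul, ww_val, tt_val, Matrix.mul_fin_two] at h6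
    simp at h6
  have hsq : π ww ^ 2 = 1 := by
    rw [← map_pow, hπ, Subgroup.mem_center_iff]
    intro g
    apply Subtype.ext
    have h4 : ((ww : SL(2, ZMod p)) ^ 2).1 = (-1 : ZMod p) • (1 : Matrix (Fin 2) (Fin 2) (ZMod p)) := by
      rw [pow_two, val_mul, ww_val, Matrix.mul_fin_two]
      ext i j
      fin_cases i <;> fin_cases j <;> simp
    rw [val_mul, val_mul, h4]
    simp
  have hord : orderOf (π ww) = 2 := orderOf_eq_prime hsq hne
  obtain ⟨k, hk⟩ := IsPGroup.iff_orderOf.mp S₁.2 ⟨_, h3⟩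
  rw [Subgroup.orderOf_mk, hord] at hk
  have h4 : p ∣ 2 := by
    have h5 : k ≠ 0 := by
      rintro rfl
      norm_num at hk
    rw [hk]
    exact dvd_pow_self p h5
  exact hp ((Nat.prime_dvd_prime_iff_eq hf.out Nat.prime_two).mp h4)

theorem card_psl (hp : p ≠ 2) :
    Nat.card (Matrix.ProjectiveSpecialLinearGroup (Fin 2) (ZMod p)) = p * (p ^ 2 - 1) / 2 := by
  have h1 := Cfsg.Agent.Lib.Classical.AltIso.card_psl_two_mul (F := ZMod p)
  rw [ZMod.card] at h1
  have hodd : Odd p := hf.out.odd_of_ne_two hp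
  have hp1 := hf.out.two_le
  have hg : Nat.gcd (p - 1) 2 = 2 := by
    apply Nat.gcd_eq_right
    obtain ⟨k, hk⟩ := hodd
    exact ⟨k, by omega⟩
  rw [hg] at h1
  have h2 : (p - 1) * (p + 1) = p ^ 2 - 1 := by
    obtain ⟨q, rfl⟩ : ∃ q, p = q + 1 := ⟨p - 1, by omega⟩
    simp only [Nat.add_sub_cancel]
    have : (q + 1) ^ 2 = q * (q + 1 + 1) + 1 := by ring
    omega
  rw [h2] at h1
  rw [← h1]
  simp

end PSL

theorem result (p : ℕ) [Fact p.Prime] (hp : p ≠ 2) (m : ℕ) (hm : IsPrimePow m) (hm1 : m % p = 1)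
    (hleast : ∀ k : ℕ, IsPrimePow k → k % p = 1 → m ≤ k) :
    (∀ (H : Type) [Group H] [Finite H], ¬ Cfsg.IsPClosed p H → min (p * m) (p * (p ^ 2 - 1) / 2) ≤ Nat.card H) ∧
      ∃ (H : Type) (_ : Group H) (_ : Finite H), Nat.card H = min (p * m) (p * (p ^ 2 - 1) / 2) ∧ ¬ Cfsg.IsPClosed p H := by
  constructor
  · intro H _ _ hnc
    exact lower p m hleast _ H rfl hnc
  · rcases le_total (p * m) (p * (p ^ 2 - 1) / 2) with h | h
    · rw [min_eq_left h]
      exact exists_frob p m hm hm1
    · rw [min_eq_right h]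
      exact ⟨Matrix.ProjectiveSpecialLinearGroup (Fin 2) (ZMod p), inferInstance, inferInstance,
        card_psl hp, not_closed_psl hp⟩

end Cfsg.Agent.S3875
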