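import Cfsg.Statements.S3881
import Cfsg.Agent.Lib.Metacyclic.Class
-- import your own Cfsg.Agent.* helpers here

set_option autoImplicit false
open Cfsg

namespace Cfsg.Agent.S3881

/-- Let p be an odd prime and G a finite metacyclic p-group (G has a cyclic normal subgroup with cyclic quotient). Suppose G is non-abelian with |G'| = p^n. Then for 1 ≤ i ≤ n the number of elements of G whose conjugacy class has exactly p^i elements is |Z(G)| · (p^(2i) − p^(2i−2)). -/
theorem result {G : Type*} [Group G] [Finite G] {p : ℕ} [Fact p.Prime] (hp : p ≠ 2) (hG : IsPGroup p G) (hmc : Cfsg.IsMetacyclic G) (n : ℕ) (hn : n ≠ 0) (hGn : Nat.card ↥(commutator G) = p ^ n) (i : ℕ) (hi : 1 ≤ i) (hin : i ≤ n) :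
    Nat.card {g : G // (Subgroup.centralizer ({g} : Set G)).index = p ^ i} =
      Nat.card ↥(Subgroup.center G) * (p ^ (2 * i) - p ^ (2 * i - 2)) := by
  obtain ⟨a, b, h⟩ := Cfsg.Agent.Lib.Metacyclic.Basic.exists_setup hmc
  have hpp : 0 < p := (Fact.out : p.Prime).pos
  obtain ⟨T, hT, hTi⟩ := Cfsg.Agent.Lib.Metacyclic.Class.exists_T hG hp h hGn (s := n - i) (by omega)
  obtain ⟨T', hT', hTi'⟩ := Cfsg.Agent.Lib.Metacyclic.Class.exists_T hG hp h hGn (s := n - (i - 1)) (by omega)
  have hZ := Cfsg.Agent.Lib.Metacyclic.Class.index_center hG hp h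
  have hZc := Subgroup.card_mul_index (Subgroup.center G)
  rw [hZ, hGn] at hZc
  have h1 : ∀ g, g ∈ T ↔ (Subgroup.centralizer ({g} : Set G)).index ≤ p ^ i := by
    intro g
    rw [hT, Cfsg.Agent.Lib.Metacyclic.Class.comm_mem_powU_iff hG hp h hGn (by omega)]
    rw [show n - (n - i) = i by omega]
  have h2 : ∀ g, g ∈ T' ↔ (Subgroup.centralizer ({g} : Set G)).index ≤ p ^ (i - 1) := by
    intro g
    rw [hT', Cfsg.Agent.Lib.Metacyclic.Class.comm_mem_powU_iff hG hp h hGn (by omega)]
    rw [show n - (n - (i - 1)) = i - 1 by omega]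
  have hle : T' ≤ T := by
    intro g hg
    rw [h2] at hg
    rw [h1]
    exact hg.trans (Nat.pow_le_pow_right hpp (by omega))
  have hTc := Subgroup.card_mul_index T
  have hTc' := Subgroup.card_mul_index T'
  rw [hTi] at hTc
  rw [hTi'] at hTc'
  have hcT : Nat.card T = Nat.card (Subgroup.center G) * p ^ (2 * i) := by
    apply Nat.eq_of_mul_eq_mul_right (pow_pos hpp (2 * (n - i)))
    rw [hTc, ← hZc, mul_assoc, ← pow_add, ← pow_mul]
    congr 2
    omega
  have hcT' : Nat.card T' = Nat.card (Subgroup.center G) * p ^ (2 * i - 2) := by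
    apply Nat.eq_of_mul_eq_mul_right (pow_pos hpp (2 * (n - (i - 1))))
    rw [hTc', ← hZc, mul_assoc, ← pow_add, ← pow_mul]
    congr 2
    omega
  have hset : {g : G | (Subgroup.centralizer ({g} : Set G)).index = p ^ i} =
      (T : Set G) \ (T' : Set G) := by
    ext g
    simp only [Set.mem_ofPred_eq, Set.mem_sdiff, SetLike.mem_coe, h1, h2]
    have hdvd : (Subgroup.centralizer ({g} : Set G)).index ∣ Nat.card G := Subgroup.index_dvd_card _
    obtain ⟨k, hk⟩ := hG.exists_card_eq
    rw [hk] at hdvd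
    obtain ⟨r, -, hr⟩ := (Nat.dvd_prime_pow (Fact.out : p.Prime)).mp hdvd
    rw [hr]
    have hp1 : 1 < p := (Fact.out : p.Prime).one_lt
    rw [Nat.pow_le_pow_iff_right hp1, Nat.pow_le_pow_iff_right hp1, Nat.pow_right_inj hp1]
    omega
  have hc : Nat.card {g : G // (Subgroup.centralizer ({g} : Set G)).index = p ^ i} =
      Set.ncard ((T : Set G) \ (T' : Set G)) := by
    rw [← hset, ← Nat.card_coe_set_eq]
    rfl
  rw [hc, Set.ncard_sdiff (fun x hx => hle hx) (Set.toFinite _)]
  have e1 : Set.ncard (T : Set G) = Nat.card T := (Nat.card_coe_set_eq _).symm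
  have e2 : Set.ncard (T' : Set G) = Nat.card T' := (Nat.card_coe_set_eq _).symm
  rw [e1, e2, hcT, hcT', Nat.mul_sub]

end Cfsg.Agent.S3881
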