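import Cfsg.Statements.S3889

set_option autoImplicit false
open Cfsg

namespace Cfsg.Agent.S3889

private lemma order_dvd {G : Type*} [CommGroup G] [Finite G] (𝓑 : Set (Subgroup G))
    (hcov : ∀ g : G, ∃ B ∈ 𝓑, g ∈ B) (hdisj : ∀ B ∈ 𝓑, ∀ C ∈ 𝓑, B ≠ C → B ⊓ C = ⊥)
    {B C : Subgroup G} (hB : B ∈ 𝓑) (hC : C ∈ 𝓑) (hBC : B ≠ C) {x y : G} (hx : x ∈ B) (hy : y ∈ C)
    (hx1 : x ≠ 1) : orderOf y ∣ orderOf x := by
  obtain ⟨D, hD, hxy⟩ := hcov (x * y)
  rw [orderOf_dvd_iff_pow_eq_one]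
  by_contra hne
  have h1 : (x * y) ^ orderOf x = y ^ orderOf x := by
    rw [mul_pow, pow_orderOf_eq_one, one_mul]
  have h2 : y ^ orderOf x ∈ D := by
    rw [← h1]; exact D.pow_mem hxy _
  have h3 : y ^ orderOf x ∈ C := C.pow_mem hy _
  have hDC : D = C := by
    by_contra hDC
    have := hdisj D hD C hC hDC
    have hmem : y ^ orderOf x ∈ D ⊓ C := ⟨h2, h3⟩
    rw [this] at hmem
    exact hne (Subgroup.mem_bot.mp hmem)
  have hxC : x ∈ C := by
    have : x = x * y * y⁻¹ := by group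
    rw [this]
    exact C.mul_mem (hDC ▸ hxy) (C.inv_mem hy)
  have hmem : x ∈ B ⊓ C := ⟨hx, hxC⟩
  rw [hdisj B hB C hC hBC] at hmem
  exact hx1 (Subgroup.mem_bot.mp hmem)

/-- A finite abelian group that is the union of a family of proper subgroups any two of which intersect trivially is elementary abelian: its exponent is a prime. -/
theorem result {G : Type*} [CommGroup G] [Finite G] (𝓑 : Set (Subgroup G)) (hprop : ∀ B ∈ 𝓑, B ≠ ⊤)
    (hcov : ∀ g : G, ∃ B ∈ 𝓑, g ∈ B) (hdisj : ∀ B ∈ 𝓑, ∀ C ∈ 𝓑, B ≠ C → B ⊓ C = ⊥) :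
    (Monoid.exponent G).Prime := by
  -- two nontrivial elements have the same order
  have key : ∀ x y : G, x ≠ 1 → y ≠ 1 → orderOf x = orderOf y := by
    have diff : ∀ {B C : Subgroup G}, B ∈ 𝓑 → C ∈ 𝓑 → B ≠ C → ∀ {x y : G}, x ∈ B → y ∈ C →
        x ≠ 1 → y ≠ 1 → orderOf x = orderOf y := by
      intro B C hB hC hBC x y hx hy hx1 hy1
      exact Nat.dvd_antisymm (order_dvd 𝓑 hcov hdisj hC hB hBC.symm hy hx hy1)
        (order_dvd 𝓑 hcov hdisj hB hC hBC hx hy hx1)
    intro x y hx1 hy1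
    obtain ⟨B, hB, hxB⟩ := hcov x
    obtain ⟨C, hC, hyC⟩ := hcov y
    by_cases hBC : B = C
    · subst hBC
      -- pick z outside B
      have : ∃ z, z ∉ B := by
        by_contra hcon
        push Not at hcon
        exact hprop B hB (eq_top_iff.mpr fun z _ => hcon z)
      obtain ⟨z, hz⟩ := this
      obtain ⟨D, hD, hzD⟩ := hcov z
      have hDB : D ≠ B := by
        rintro rfl
        exact hz hzD
      have hz1 : z ≠ 1 := by
        rintro rfl
        exact hz B.one_mem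
      rw [diff hB hD hDB.symm hxB hzD hx1 hz1, diff hD hB hDB hzD hyC hz1 hy1]
    · exact diff hB hC hBC hxB hyC hx1 hy1
  -- there is a nontrivial element
  have hne : ∃ x : G, x ≠ 1 := by
    by_contra hcon
    push Not at hcon
    obtain ⟨B, hB, -⟩ := hcov 1
    refine hprop B hB (eq_top_iff.mpr fun z _ => ?_)
    rw [hcon z]; exact B.one_mem
  obtain ⟨x, hx⟩ := hne
  have hn0 : 0 < orderOf x := orderOf_pos x
  have hexp : Monoid.exponent G = orderOf x := by
    apply Nat.dvd_antisymm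
    · apply Monoid.exponent_dvd_of_forall_pow_eq_one
      intro g
      by_cases hg : g = 1
      · simp [hg]
      · rw [key x g hx hg, pow_orderOf_eq_one]
    · exact Monoid.order_dvd_exponent x
  rw [hexp]
  have hn1 : orderOf x ≠ 1 := by
    intro h
    exact hx (orderOf_eq_one_iff.mp h)
  rw [Nat.prime_def]
  refine ⟨by omega, ?_⟩
  intro d hd
  by_cases hd1 : d = 1
  · exact Or.inl hd1
  right
  by_contra hdn
  -- `x ^ d` has order `n / d` and is nontrivial
  have hdpos : 0 < d := Nat.pos_of_dvd_of_pos hd hn0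
  have hne' : x ^ d ≠ 1 := by
    intro h
    have := orderOf_dvd_of_pow_eq_one h
    exact hdn (Nat.dvd_antisymm hd this)
  have h1 : orderOf (x ^ d) = orderOf x / d := orderOf_pow_of_dvd hdpos.ne' hd
  have h2 := key x (x ^ d) hx hne'
  rw [h1] at h2
  have h3 : orderOf x / d < orderOf x := Nat.div_lt_self hn0 (by omega)
  omega

end Cfsg.Agent.S3889
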