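import Cfsg.Statements.S3890
import Cfsg.Agent.Lib.NilCover.Abelian

set_option autoImplicit false
set_option linter.style.haveILetI false
open Cfsg

namespace Cfsg.Agent.S3890

/-- A cover of a group is a finite set of proper subgroups whose union is the whole group; it is minimal when no cover has fewer members, and nilpotent when all its members are nilpotent. Let G be a finite group with trivial center admitting a nilpotent minimal cover 𝓐, and let P be an abelian Sylow p-subgroup of G that is not normal. Then either P is elementary abelian of order greater than p, or P is a Sylow p-subgroup of some member A of 𝓐, the normalizer N of P is a maximal subgroup of G, N meets each of its conjugates by elements outside N in a subgroup of order prime to p, and the centralizer of P equals A. -/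
theorem result {G : Type*} [Group G] [Finite G] (hZ : Subgroup.center G = ⊥) (𝓐 : Finset (Subgroup G))
    (h𝓐 : ((∀ A ∈ 𝓐, A ≠ ⊤) ∧ (∀ g : G, ∃ A ∈ 𝓐, g ∈ A)) ∧ (∀ 𝓑 : Finset (Subgroup G), (∀ A ∈ 𝓑, A ≠ ⊤) ∧ (∀ g : G, ∃ A ∈ 𝓑, g ∈ A) → 𝓐.card ≤ 𝓑.card) ∧ (∀ A ∈ 𝓐, Group.IsNilpotent ↥A)) {p : ℕ} [Fact p.Prime] (P : Sylow p G) (hab : IsMulCommutative ↥(P : Subgroup G))
    (hnn : ¬ (P : Subgroup G).Normal) :
    (Cfsg.IsElementaryAbelian p (P : Subgroup G) ∧ p < Nat.card ↥(P : Subgroup G)) ∨
    (∃ A ∈ 𝓐, (P : Subgroup G) ≤ A ∧ ¬ p ∣ ((P : Subgroup G).subgroupOf A).index ∧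
      IsCoatom (Subgroup.normalizer ((P : Subgroup G) : Set G)) ∧
      (∀ g : G, g ∉ Subgroup.normalizer ((P : Subgroup G) : Set G) →
        ¬ p ∣ Nat.card ↥(Subgroup.normalizer ((P : Subgroup G) : Set G) ⊓
          (Subgroup.normalizer ((P : Subgroup G) : Set G)).map (MulAut.conj g).toMonoidHom)) ∧
      Subgroup.centralizer ((P : Subgroup G) : Set G) = A) := by
  have h := Cfsg.Agent.Lib.NilCover.Basic.IsNilMinCover.of_hyp h𝓐
  by_cases hne : Cfsg.IsElementaryAbelian p (P : Subgroup G) ∧ p < Nat.card (P : Subgroup G)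
  · exact Or.inl hne
  · right
    obtain ⟨A, hA, hPA, hCA, hco, -, hTI⟩ :=
      Cfsg.Agent.Lib.NilCover.Abelian.main h hZ P hab hne hnn
    refine ⟨A, hA, hPA, ?_, hco, ?_, hCA⟩
    · exact (Cfsg.Agent.Lib.NilCover.Basic.isSylowIn_of_le P hPA).2.2
    · intro g hg hdvd
      obtain ⟨⟨w, hw⟩, hwo⟩ := exists_prime_orderOf_dvd_card' p hdvd
      have hwo' : orderOf w = p := by
        rw [← hwo, Subgroup.orderOf_mk]
      have hw1 : w ∈ Subgroup.normalizer ((P : Subgroup G) : Set G) := hw.1
      have hw2 : w ∈ (Subgroup.normalizer ((P : Subgroup G) : Set G)).map (MulAut.conj g).toMonoidHom := hw.2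
      have hwP : w ∈ (P : Subgroup G) :=
        Cfsg.Agent.Lib.CentMax.Abelian.mem_sylow_of_mem_normalizer P (k := 1) (by simpa using hwo') hw1
      obtain ⟨y, hy, hyw⟩ := hw2
      have hgP : g • P ≠ P := by
        intro he
        exact hg (Sylow.smul_eq_iff_mem_normalizer.mp he)
      have hwQ : w ∈ ((g • P : Sylow p G) : Subgroup G) := by
        have hyP : y ∈ (P : Subgroup G) := by
          refine Cfsg.Agent.Lib.CentMax.Abelian.mem_sylow_of_mem_normalizer P (k := 1) ?_ hy
          have : orderOf ((MulAut.conj g).toMonoidHom y) = orderOf y :=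
            orderOf_injective _ (MulAut.conj g).injective y
          rw [hyw, hwo'] at this
          simpa using this.symm
        rw [Sylow.coe_subgroup_smul, Subgroup.mem_pointwise_smul_iff_inv_smul_mem]
        have e : (MulAut.conj g)⁻¹ • w = y := by
          rw [← hyw]
          simp [MulAut.smul_def, mul_assoc]
        rw [e]
        exact hyP
      have := hTI (g • P) hgP w hwP hwQ
      rw [this, orderOf_one] at hwo'
      exact (Fact.out (p := p.Prime)).one_lt.ne hwo'

end Cfsg.Agent.S3890
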