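import Cfsg.Statements.S3891
import Cfsg.Agent.Lib.NilCover.Abelian

set_option autoImplicit false
set_option linter.style.haveILetI false
open Cfsg

namespace Cfsg.Agent.S3891

/-- A cover of a group is a finite set of proper subgroups whose union is the whole group; it is minimal when no cover has fewer members, and nilpotent when all its members are nilpotent. Let G be a finite group with trivial center admitting a nilpotent minimal cover, and let P be a non-normal Sylow p-subgroup of G that is cyclic, or abelian but not elementary abelian. Then the centralizer of P is nilpotent and the normalizer of P is the unique maximal subgroup of G containing the centralizer of P. -/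
theorem result {G : Type*} [Group G] [Finite G] (hZ : Subgroup.center G = ⊥) (𝓐 : Finset (Subgroup G))
    (h𝓐 : ((∀ A ∈ 𝓐, A ≠ ⊤) ∧ (∀ g : G, ∃ A ∈ 𝓐, g ∈ A)) ∧ (∀ 𝓑 : Finset (Subgroup G), (∀ A ∈ 𝓑, A ≠ ⊤) ∧ (∀ g : G, ∃ A ∈ 𝓑, g ∈ A) → 𝓐.card ≤ 𝓑.card) ∧ (∀ A ∈ 𝓐, Group.IsNilpotent ↥A)) {p : ℕ} [Fact p.Prime] (P : Sylow p G)
    (hP : IsCyclic ↥(P : Subgroup G) ∨ (IsMulCommutative ↥(P : Subgroup G) ∧ ¬ Cfsg.IsElementaryAbelian p (P : Subgroup G)))
    (hnn : ¬ (P : Subgroup G).Normal) :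
    Group.IsNilpotent ↥(Subgroup.centralizer ((P : Subgroup G) : Set G)) ∧
      IsCoatom (Subgroup.normalizer ((P : Subgroup G) : Set G)) ∧
      ∀ M : Subgroup G, IsCoatom M → Subgroup.centralizer ((P : Subgroup G) : Set G) ≤ M →
        M = Subgroup.normalizer ((P : Subgroup G) : Set G) := by
  have h := Cfsg.Agent.Lib.NilCover.Basic.IsNilMinCover.of_hyp h𝓐
  have hab : IsMulCommutative ↥(P : Subgroup G) := by
    rcases hP with hc | hc
    · exact Cfsg.Agent.Lib.NilCover.Basic.isMulCommutative_of_cyc hc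
    · exact hc.1
  have hne : ¬ (Cfsg.IsElementaryAbelian p (P : Subgroup G) ∧ p < Nat.card (P : Subgroup G)) := by
    rintro ⟨⟨-, hel⟩, hlt⟩
    rcases hP with hc | hc
    · obtain ⟨⟨g, hg⟩, hgen⟩ := hc.exists_generator
      have h1 : Nat.card (P : Subgroup G) = orderOf (⟨g, hg⟩ : (P : Subgroup G)) :=
        (orderOf_eq_card_of_forall_mem_zpowers hgen).symm
      have h2 : (⟨g, hg⟩ : (P : Subgroup G)) ^ (p : ℕ) = 1 := Subtype.ext (hel g hg)
      have h3 := Nat.le_of_dvd (Fact.out (p := p.Prime)).pos (orderOf_dvd_of_pow_eq_one h2)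
      omega
    · exact hc.2 ⟨hc.1, hel⟩
  obtain ⟨A, hA, hPA, hCA, hco, hM, -⟩ :=
    Cfsg.Agent.Lib.NilCover.Abelian.main h hZ P hab hne hnn
  refine ⟨?_, hco, hM⟩
  rw [hCA]
  exact h.nil A hA

end Cfsg.Agent.S3891
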