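import Cfsg.Statements.S3893
import Cfsg.Agent.Lib.NilCover.Suzuki

set_option autoImplicit false
open Cfsg

namespace Cfsg.Agent.S3893

/-- A cover of a group is a finite set of proper subgroups whose union is the whole group; it is minimal when no cover has fewer members, and nilpotent when all its members are nilpotent. The Suzuki groups Sz(q), q = 2^(2m+1) with m ≥ 1, have no nilpotent minimal cover. -/
theorem result {F : Type*} [Field F] [Fintype F] (m : ℕ) (hm : 1 ≤ m) (hF : Fintype.card F = 2 ^ (2 * m + 1)) :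
    ¬ ∃ 𝓐 : Finset (Subgroup ↥(Cfsg.Lie.Sz F (2 ^ (m + 1)))), ((∀ A ∈ 𝓐, A ≠ ⊤) ∧ (∀ g : ↥(Cfsg.Lie.Sz F (2 ^ (m + 1))), ∃ A ∈ 𝓐, g ∈ A)) ∧ (∀ 𝓑 : Finset (Subgroup ↥(Cfsg.Lie.Sz F (2 ^ (m + 1)))), (∀ A ∈ 𝓑, A ≠ ⊤) ∧ (∀ g : ↥(Cfsg.Lie.Sz F (2 ^ (m + 1))), ∃ A ∈ 𝓑, g ∈ A) → 𝓐.card ≤ 𝓑.card) ∧ (∀ A ∈ 𝓐, Group.IsNilpotent ↥A) := by
  rintro ⟨𝓐, h⟩
  have hc := Cfsg.Agent.Lib.Suzuki.Stab.ctx_of_card hm hF
  haveI := Cfsg.Agent.Lib.Suzuki.Elements.charP_two_of_card hF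
  have h' := Cfsg.Agent.Lib.NilCover.Basic.IsNilMinCover.of_hyp h
  exact Cfsg.Agent.Lib.NilCover.Suzuki.no_cover hc (h'.map (Cfsg.Agent.Lib.SzIso.Basic.equivSz hc).symm)

end Cfsg.Agent.S3893
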