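import Cfsg.Statements.S3901
import Cfsg.Agent.S0205
import Cfsg.Agent.S0071
import Cfsg.Agent.Lib.Char.Burnside
import Cfsg.Agent.Lib.Coprime.FrobCountGroup
import Cfsg.Agent.Lib.Coprime.Action

set_option autoImplicit false
open Cfsg

namespace Cfsg.Agent.S3901

section Aux

open Subgroup
open scoped Pointwise

variable {G : Type*} [Group G]

/-- Commuting elements of coprime non-trivial orders: their product lies in `N`. -/
theorem mul_mem_of_commute [Finite G] (N : Subgroup G)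
    (h : ∀ x : G, x ∉ N → IsPrimePow (orderOf x)) {x y : G} (hxy : Commute x y)
    (hco : Nat.Coprime (orderOf x) (orderOf y)) (hx : x ≠ 1) (hy : y ≠ 1) : x * y ∈ N := by
  by_contra hn
  have h1 := h _ hn
  rw [hxy.orderOf_mul_eq_mul_orderOf_of_coprime hco] at h1
  have hxpos : 0 < orderOf x := orderOf_pos x
  have hypos : 0 < orderOf y := orderOf_pos y
  rcases (hco.isPrimePow_dvd_mul h1).1 dvd_rfl with h2 | h2
  · have h3 : orderOf y ∣ 1 := by
      have : orderOf x * orderOf y ∣ orderOf x * 1 := by simpa using h2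
      exact (Nat.mul_dvd_mul_iff_left hxpos).1 this
    exact hy (orderOf_eq_one_iff.1 (Nat.dvd_one.1 h3))
  · have h3 : orderOf x ∣ 1 := by
      have : orderOf x * orderOf y ∣ 1 * orderOf y := by simpa using h2
      exact (Nat.mul_dvd_mul_iff_right hypos).1 this
    exact hx (orderOf_eq_one_iff.1 (Nat.dvd_one.1 h3))

/-- Powers of `a * b` with `b` normalizing `A ∋ a`. -/
theorem exists_mul_pow_of_normalizes {X : Type*} [Group X] {A : Subgroup X} {a b : X}
    (hb : b ∈ normalizer (A : Set X)) (ha : a ∈ A) (m : ℕ) :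
    ∃ a' ∈ A, (a * b) ^ m = a' * b ^ m := by
  induction m with
  | zero => exact ⟨1, A.one_mem, by simp⟩
  | succ m ih =>
    obtain ⟨a', ha', e⟩ := ih
    refine ⟨a' * (b ^ m * a * (b ^ m)⁻¹), A.mul_mem ha' ?_, ?_⟩
    · have : b ^ m ∈ normalizer (A : Set X) := pow_mem hb m
      exact (mem_normalizer_iff.1 this a).1 ha
    · rw [pow_succ, e]; group

/-- Frattini for one element normalizing `K`. -/
theorem exists_mul_mem_normalizer_map_sylow [Finite G] {p : ℕ} [Fact p.Prime] (K : Subgroup G)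
    {g : G} (hg : g ∈ normalizer (K : Set G)) (T : Sylow p K) :
    ∃ r ∈ K, r * g ∈ normalizer (((T : Subgroup K).map K.subtype : Subgroup G) : Set G) := by
  classical
  have hg' : g⁻¹ ∈ normalizer (K : Set G) := inv_mem hg
  let ψ : MulAut K :=
    { toFun := fun x => ⟨g * x * g⁻¹, (mem_normalizer_iff.1 hg x).1 x.2⟩
      invFun := fun x => ⟨g⁻¹ * x * g, by
        have := (mem_normalizer_iff.1 hg' x).1 x.2
        simpa using this⟩
      left_inv := fun x => by ext; simp [mul_assoc]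
      right_inv := fun x => by ext; simp [mul_assoc]
      map_mul' := fun x y => by ext; simp [mul_assoc] }
  obtain ⟨k, hk⟩ := MulAction.exists_smul_eq K (ψ • T) T
  let ψ' : MulAut K := MulAut.conj k * ψ
  have hT : ψ' • T = T := by
    have h0 := hk
    rw [Sylow.smul_def, ← mul_smul] at h0
    exact h0
  have hT' : ∀ y : K, y ∈ (T : Subgroup K) ↔ ψ' y ∈ (T : Subgroup K) := by
    intro y
    have h1 : ψ' • (T : Subgroup K) = (T : Subgroup K) := by
      have := congrArg (fun P : Sylow p K => (P : Subgroup K)) hT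
      simpa [Sylow.pointwise_smul_def] using this
    constructor
    · intro hy
      have := smul_mem_pointwise_smul y ψ' (T : Subgroup K) hy
      rwa [h1] at this
    · intro hy
      have h2 : ψ' • y ∈ ψ' • (T : Subgroup K) := by
        rw [h1]; exact hy
      exact (smul_mem_pointwise_smul_iff).1 h2
  have hψ' : ∀ y : K, ((ψ' y : K) : G) = (k : G) * g * y * ((k : G) * g)⁻¹ := by
    intro y
    show (k : G) * (g * y * g⁻¹) * (k : G)⁻¹ = _
    group
  have hkg : (k : G) * g ∈ normalizer (K : Set G) := mul_mem (le_normalizer k.2) hg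
  refine ⟨k, k.2, ?_⟩
  rw [mem_normalizer_iff]
  intro z
  constructor
  · intro hz
    obtain ⟨y, hy, rfl⟩ := mem_map.1 hz
    refine mem_map.2 ⟨ψ' y, (hT' y).1 hy, ?_⟩
    simp [hψ']
  · intro hz
    obtain ⟨w, hw, hwz⟩ := mem_map.1 hz
    have hzK : z ∈ K := (mem_normalizer_iff.1 hkg z).2 (by
      rw [← hwz]; exact w.2)
    have hw' : ψ' ⟨z, hzK⟩ = w := by
      apply Subtype.ext
      rw [hψ']
      exact hwz.symm
    refine mem_map.2 ⟨⟨z, hzK⟩, (hT' _).2 (by rw [hw']; exact hw), rfl⟩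

/-- A non-trivial element of `N` of odd order does not normalize a `2`-subgroup having an
element outside `N`. -/
theorem not_normalizes [Finite G] (N : Subgroup G) [N.Normal]
    (h : ∀ x : G, x ∉ N → IsPrimePow (orderOf x)) {T : Subgroup G} (hT : IsPGroup 2 T)
    {x e : G} (hx : x ∈ T) (hxN : x ∉ N) (heN : e ∈ N) (he1 : e ≠ 1)
    (heo : Nat.Coprime (orderOf e) 2) (het : e ∈ normalizer (T : Set G)) : False := by
  classical
  obtain ⟨t, ht⟩ := IsPGroup.iff_card.1 hT
  have hcop : (Nat.card (zpowers e)).Coprime (Nat.card T) := by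
    rw [Nat.card_zpowers, ht]
    exact heo.pow_right t
  have hNn : ∀ a : G, a ∈ normalizer ((N : Subgroup G) : Set G) := fun a => by
    rw [normalizer_eq_top N]; trivial
  have hinf : ∀ a : G, a ∈ normalizer (T : Set G) → a ∈ normalizer ((T ⊓ N : Subgroup G) : Set G) := by
    intro a ha
    rw [mem_normalizer_iff]
    intro z
    constructor
    · rintro ⟨h1, h2⟩
      exact ⟨(mem_normalizer_iff.1 ha z).1 h1, (mem_normalizer_iff.1 (hNn a) z).1 h2⟩
    · rintro ⟨h1, h2⟩
      exact ⟨(mem_normalizer_iff.1 ha z).2 h1, (mem_normalizer_iff.1 (hNn a) z).2 h2⟩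
  have hAK : zpowers e ≤ normalizer (T : Set G) := by
    rw [zpowers_le]; exact het
  obtain ⟨d, hd, hxd⟩ := Cfsg.Agent.Lib.Coprime.Action.exists_fixed_of_fixed_mod
    (A := zpowers e) (K := T) (T ⊓ N) hAK hcop (Or.inl inferInstance) inf_le_left
    (fun t ht => hinf t (le_normalizer ht)) (fun a ha => hinf a (hAK ha)) hx
    (fun a ha => by
      have haN : a ∈ N := (zpowers_le.2 heN) ha
      refine ⟨T.mul_mem ((mem_normalizer_iff.1 (hAK ha) x).1 hx) (T.inv_mem hx), ?_⟩
      have h1 : x * a⁻¹ * x⁻¹ ∈ N := ‹N.Normal›.conj_mem _ (N.inv_mem haN) x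
      have h2 : a * x * a⁻¹ * x⁻¹ = a * (x * a⁻¹ * x⁻¹) := by group
      rw [h2]
      exact N.mul_mem haN h1)
  have hdN : d ∉ N := by
    intro hd'
    apply hxN
    have h3 := N.mul_mem hd' (N.inv_mem hxd.2)
    simpa using h3
  have hd1 : d ≠ 1 := by
    rintro rfl
    exact hdN N.one_mem
  obtain ⟨m, hm⟩ := hT ⟨d, hd.1⟩
  have hdo : orderOf d ∣ 2 ^ m := by
    apply orderOf_dvd_of_pow_eq_one
    have := congrArg Subtype.val hm
    simpa using this
  have hcom : Commute e d := by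
    have := (mem_centralizer_iff.1 hd.2) e (mem_zpowers e)
    exact this
  have hco : Nat.Coprime (orderOf e) (orderOf d) :=
    Nat.Coprime.coprime_dvd_right hdo (heo.pow_right m)
  have hmem := mul_mem_of_commute N h hcom hco he1 hd1
  apply hdN
  have h3 := N.mul_mem (N.inv_mem heN) hmem
  simpa using h3

/-- The core of the argument. -/
theorem core [Finite G] (N : Subgroup G) [N.Normal]
    (h : ∀ x : G, x ∉ N → IsPrimePow (orderOf x)) {c s : ℕ} (hc : c.Prime) (hs : s.Prime)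
    (hc2 : c ≠ 2) (hs2 : s ≠ 2) (hsc : s ≠ c) {H T : Subgroup G} (hH : IsPGroup s H)
    (hHN : H ≤ N) (hHne : H ≠ ⊥) (hT : IsPGroup 2 T) {n x : G} {k : ℕ} (hnk : orderOf n = c ^ k)
    (hnN : n ∉ N) (hx : x ∈ T) (hxN : x ∉ N) (hnT : n ∈ normalizer (T : Set G))
    (hnH : n ∈ normalizer (H : Set G)) (hTH : T ≤ normalizer (H : Set G)) : False := by
  classical
  haveI : Fact s.Prime := ⟨hs⟩
  have hn1 : n ≠ 1 := by
    rintro rfl
    exact hnN N.one_mem
  have hE1 : zpowers n ≠ ⊥ := by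
    simpa using hn1
  have hEN : zpowers n ≤ normalizer (T : Set G) := zpowers_le.2 hnT
  have hEH : zpowers n ≤ normalizer (H : Set G) := zpowers_le.2 hnH
  have hc2' : Nat.Coprime c 2 := (Nat.coprime_primes hc Nat.prime_two).2 hc2
  have hcs' : Nat.Coprime c s := (Nat.coprime_primes hc hs).2 (Ne.symm hsc)
  have hs2' : Nat.Coprime s 2 := (Nat.coprime_primes hs Nat.prime_two).2 hs2
  have hoE : ∀ e ∈ zpowers n, orderOf e ∣ c ^ k := fun e he =>
    hnk ▸ orderOf_dvd_of_mem_zpowers he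
  have hoT : ∀ u ∈ T, ∃ m : ℕ, orderOf u ∣ 2 ^ m := fun u hu => by
    obtain ⟨m, hm⟩ := hT ⟨u, hu⟩
    refine ⟨m, orderOf_dvd_of_pow_eq_one ?_⟩
    have := congrArg Subtype.val hm
    simpa using this
  have hoH : ∀ u ∈ H, ∃ m : ℕ, orderOf u ∣ s ^ m := fun u hu => by
    obtain ⟨m, hm⟩ := hH ⟨u, hu⟩
    refine ⟨m, orderOf_dvd_of_pow_eq_one ?_⟩
    have := congrArg Subtype.val hm
    simpa using this
  have hfpf : ∀ e ∈ zpowers n, e ≠ 1 → ∀ u ∈ T, e * u = u * e → u = 1 := by
    intro e he he1 u hu heu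
    by_contra hu1
    obtain ⟨m, hm⟩ := hoT u hu
    have heo2 : Nat.Coprime (orderOf e) 2 :=
      Nat.Coprime.coprime_dvd_left (hoE e he) (hc2'.pow_left k)
    have hco : Nat.Coprime (orderOf e) (orderOf u) :=
      Nat.Coprime.coprime_dvd_right hm (heo2.pow_right m)
    have h1 : e * u ∈ N := mul_mem_of_commute N h heu hco he1 hu1
    have heN : e ∈ N := by
      have h2 : (e * u) ^ orderOf u = e ^ orderOf u := by
        rw [(show Commute e u from heu).mul_pow, pow_orderOf_eq_one, mul_one]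
      have h3 : e ^ orderOf u ∈ N := h2 ▸ N.pow_mem h1 _
      obtain ⟨m', hm'⟩ := exists_pow_eq_self_of_coprime hco.symm
      rw [← hm']
      exact N.pow_mem h3 m'
    exact not_normalizes N h hT hx hxN heN he1 heo2 (hEN he)
  have hCE : H ⊓ centralizer ((zpowers n : Subgroup G) : Set G) = ⊥ := by
    rw [eq_bot_iff]
    intro y hy
    rw [Subgroup.mem_bot]
    by_contra hy1
    obtain ⟨m, hm⟩ := hoH y hy.1
    have hcom : Commute n y := by
      have := (mem_centralizer_iff.1 hy.2) n (mem_zpowers n)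
      exact this
    have hco : Nat.Coprime (orderOf n) (orderOf y) := by
      rw [hnk]
      exact Nat.Coprime.coprime_dvd_right hm ((hcs'.pow_left k).pow_right m)
    have h1 := mul_mem_of_commute N h hcom hco hn1 hy1
    apply hnN
    have h2 := N.mul_mem h1 (N.inv_mem (hHN hy.1))
    simpa using h2
  have hHn : ∀ w ∈ T ⊔ zpowers n, ∀ y ∈ H, w * y * w⁻¹ ∈ H := by
    intro w hw y hy
    have : T ⊔ zpowers n ≤ normalizer (H : Set G) := sup_le hTH hEH
    exact (mem_normalizer_iff.1 (this hw) y).1 hy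
  have hsolv : Group.IsSolvable H := by
    haveI := hH.isNilpotent
    infer_instance
  obtain ⟨a, ha⟩ := IsPGroup.iff_card.1 hH
  have hcop : Nat.Coprime (Nat.card H) (Nat.card ↥(T ⊔ zpowers n)) := by
    rw [ha]
    apply Nat.Coprime.pow_left
    rw [Nat.Prime.coprime_iff_not_dvd hs]
    intro hd
    obtain ⟨w, hw⟩ := exists_prime_orderOf_dvd_card' s hd
    have hw2 : (w : G) ∈ ((T ⊔ zpowers n : Subgroup G) : Set G) := w.2
    rw [coe_mul_of_right_le_normalizer_left T (zpowers n) hEN] at hw2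
    obtain ⟨u, hu, e, he, hue⟩ := Set.mem_mul.1 hw2
    have hwo : orderOf (w : G) = s := by
      rw [Subgroup.orderOf_coe, hw]
    obtain ⟨u', hu', hpow⟩ := exists_mul_pow_of_normalizes (hEN he) hu (orderOf e)
    rw [pow_orderOf_eq_one, mul_one] at hpow
    obtain ⟨m, hm⟩ := hoT u' hu'
    have h1 : (w : G) ^ (orderOf e * 2 ^ m) = 1 := by
      rw [pow_mul, ← hue, hpow]
      exact orderOf_dvd_iff_pow_eq_one.1 hm
    have h2 : s ∣ orderOf e * 2 ^ m := hwo ▸ orderOf_dvd_of_pow_eq_one h1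
    rcases (Nat.Prime.dvd_mul hs).1 h2 with h3 | h3
    · exact hsc ((Nat.prime_dvd_prime_iff_eq hs hc).1 (hs.dvd_of_dvd_pow (h3.trans (hoE e he))))
    · exact hs2 ((Nat.prime_dvd_prime_iff_eq hs Nat.prime_two).1 (hs.dvd_of_dvd_pow h3))
  have hmain := Cfsg.Agent.Lib.Coprime.FrobCountGroup.main T (zpowers n) H hE1
    (fun e he u hu => (mem_normalizer_iff.1 (hEN he) u).1 hu) hfpf hHn hsolv hcop
  rw [hCE, Subgroup.card_bot, one_pow, one_mul] at hmain
  have hle : Nat.card H ≤ Nat.card ↥(H ⊓ centralizer (T : Set G)) := by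
    rw [← hmain]
    exact Nat.le_mul_of_pos_left _ (pow_pos Nat.card_pos _)
  have heq : H ⊓ centralizer (T : Set G) = H :=
    Subgroup.eq_of_le_of_card_ge inf_le_left hle
  obtain ⟨y, hy, hy1⟩ := (Subgroup.ne_bot_iff_exists_ne_one.1 hHne : ∃ y : H, y ≠ 1) |>.imp
    (fun y hy => hy) |> fun ⟨y, hy⟩ => (⟨y.1, y.2, fun h' => hy (Subtype.ext h')⟩ :
      ∃ y : G, y ∈ H ∧ y ≠ 1)
  have hyC : y ∈ centralizer (T : Set G) := by
    have : y ∈ H ⊓ centralizer (T : Set G) := by rw [heq]; exact hy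
    exact this.2
  have hx1 : x ≠ 1 := by
    rintro rfl
    exact hxN N.one_mem
  obtain ⟨m, hm⟩ := hoT x hx
  obtain ⟨m', hm'⟩ := hoH y hy
  have hcom : Commute y x := ((mem_centralizer_iff.1 hyC) x hx).symm
  have hco : Nat.Coprime (orderOf y) (orderOf x) :=
    Nat.Coprime.coprime_dvd_left hm' (Nat.Coprime.coprime_dvd_right hm
      ((hs2'.pow_left m').pow_right m))
  have h1 := mul_mem_of_commute N h hcom hco hy1 hx1
  apply hxN
  have h2 := N.mul_mem (N.inv_mem (hHN hy)) h1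
  simpa using h2

/-- A non-solvable finite group has a `2`-subgroup with an odd-order non-centralizing
normalizing element (Frobenius + Feit-Thompson). -/
theorem exists_frob_obstruction {X : Type*} [Group X] [Finite X] (hX : ¬ Group.IsSolvable X) :
    ∃ (Q : Subgroup X) (g : X), IsPGroup 2 Q ∧ g ∈ normalizer (Q : Set X) ∧
      Nat.Coprime (orderOf g) 2 ∧ g ∉ centralizer (Q : Set X) := by
  classical
  haveI : Fact (Nat.Prime 2) := ⟨Nat.prime_two⟩
  let P : Sylow 2 X := default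
  by_contra hcon
  push Not at hcon
  have hall : ∀ Q : Subgroup X, Q ≤ (P : Subgroup X) → ∀ g ∈ normalizer (Q : Set X),
      Nat.Coprime (orderOf g) 2 → g ∈ centralizer (Q : Set X) := fun Q hQ g hg hco =>
    hcon Q g (P.isPGroup'.to_le hQ) hg hco
  obtain ⟨M, hMn, hMc⟩ := (Cfsg.Agent.S0071.result P).2 hall
  apply hX
  have hidx : (P : Subgroup X).index = Nat.card M := hMc.index_eq_card
  have hodd : Odd (Nat.card M) := by
    rw [← Nat.not_even_iff_odd, even_iff_two_dvd, ← hidx]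
    exact P.not_dvd_index
  haveI hMs : Group.IsSolvable M := Cfsg.Agent.S0205.result hodd
  have hcard : Nat.card (X ⧸ M) = Nat.card (P : Subgroup X) := by
    exact hMc.symm.index_eq_card
  obtain ⟨t, ht⟩ := IsPGroup.iff_card.1 P.isPGroup'
  have hQ : IsPGroup 2 (X ⧸ M) := IsPGroup.of_card (n := t) (hcard.trans ht)
  haveI hQn := hQ.isNilpotent
  haveI hQs : Group.IsSolvable (X ⧸ M) := inferInstance
  exact Group.isSolvable_of_ker_le_range M.subtype (QuotientGroup.mk' M) (by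
    intro z hz
    rw [QuotientGroup.ker_mk'] at hz
    exact ⟨⟨z, hz⟩, rfl⟩)

/-- A non-solvable group has a prime divisor other than `2` and `c` (Burnside). -/
theorem exists_third_prime {Y : Type*} [Group Y] [Finite Y] (hY : ¬ Group.IsSolvable Y) {c : ℕ}
    (hc : c.Prime) : ∃ s : ℕ, s.Prime ∧ s ∣ Nat.card Y ∧ s ≠ 2 ∧ s ≠ c := by
  by_contra hcon
  push Not at hcon
  apply hY
  have hm : Nat.card Y ≠ 0 := Nat.card_pos.ne'
  obtain ⟨a, m1, hm1, e1⟩ := Nat.exists_eq_pow_mul_and_not_dvd hm 2 (by norm_num)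
  have hm1' : m1 ≠ 0 := by
    rintro rfl
    exact hm (by simpa using e1)
  obtain ⟨b, m2, hm2, e2⟩ := Nat.exists_eq_pow_mul_and_not_dvd hm1' c hc.ne_one
  have h21 : m2 = 1 := by
    by_contra hne
    obtain ⟨s, hs, hsd⟩ := Nat.exists_prime_and_dvd hne
    have hsm : s ∣ Nat.card Y := by
      rw [e1, e2]
      exact Dvd.dvd.mul_left (Dvd.dvd.mul_left hsd _) _
    by_cases hs2 : s = 2
    · apply hm1
      rw [e2]
      exact Dvd.dvd.mul_left (hs2 ▸ hsd) _
    · exact hm2 ((hcon s hs hsm hs2) ▸ hsd)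
  rw [h21, mul_one] at e2
  exact Cfsg.Agent.Lib.Char.Burnside.isSolvable_of_card_eq 2 c a b Nat.prime_two hc
    (by rw [e1, e2])

end Aux

/-- Let N be a non-trivial normal subgroup of the finite group G such that every element of G outside N has prime power order. If N is not solvable, then G/N is solvable. -/
theorem result {G : Type*} [Group G] [Finite G] (N : Subgroup G) [N.Normal] (hN : N ≠ ⊥) (hns : ¬ Group.IsSolvable ↥N)
    (h : ∀ x : G, x ∉ N → IsPrimePow (orderOf x)) : Group.IsSolvable (G ⧸ N) := by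
  classical
  open Subgroup in
  by_contra hG
  haveI : Fact (Nat.Prime 2) := ⟨Nat.prime_two⟩
  obtain ⟨Qb, gb, hQb, hgbn, hgbc, hgbC⟩ := exists_frob_obstruction hG
  let π : G →* G ⧸ N := QuotientGroup.mk' N
  have hπ : ∀ x : G, π x = 1 ↔ x ∈ N := fun x => QuotientGroup.eq_one_iff x
  have hπs : Function.Surjective π := QuotientGroup.mk'_surjective N
  have hgb1 : gb ≠ 1 := by
    rintro rfl
    exact hgbC (Subgroup.one_mem _)
  obtain ⟨g0, hg0⟩ := hπs gb
  have hg0N : g0 ∉ N := fun h' => hgb1 (hg0 ▸ (hπ g0).2 h')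
  obtain ⟨c, j, hc', hj, hcj⟩ := h g0 hg0N
  have hc : c.Prime := hc'.nat_prime
  have hgb_dvd : orderOf gb ∣ c ^ j := by
    rw [hcj, ← hg0]
    exact orderOf_map_dvd π g0
  obtain ⟨i, hi, hgbo⟩ := (Nat.dvd_prime_pow hc).1 hgb_dvd
  have hi0 : i ≠ 0 := by
    rintro rfl
    rw [pow_zero] at hgbo
    exact hgb1 (orderOf_eq_one_iff.1 hgbo)
  have hc2 : c ≠ 2 := by
    rintro rfl
    rw [hgbo] at hgbc
    have := (Nat.coprime_pow_left_iff (Nat.pos_of_ne_zero hi0) 2 2).1 hgbc
    norm_num at this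
  obtain ⟨s, hs, hsN, hs2, hsc⟩ := exists_third_prime hns hc
  haveI : Fact s.Prime := ⟨hs⟩
  let S : Sylow s N := default
  have hfr : normalizer ((S : Subgroup N).map N.subtype : Set G) ⊔ N = ⊤ :=
    Sylow.normalizer_sup_eq_top S
  set H : Subgroup G := (S : Subgroup N).map N.subtype with hHdef
  have hsurj : ∀ y : G ⧸ N, ∃ r ∈ normalizer (H : Set G), π r = y := by
    intro y
    obtain ⟨z, rfl⟩ := hπs y
    have hz : z ∈ ((normalizer (H : Set G) ⊔ N : Subgroup G) : Set G) := by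
      rw [hfr]; trivial
    rw [Subgroup.mul_normal] at hz
    obtain ⟨r, hr, m, hm, rfl⟩ := Set.mem_mul.1 hz
    refine ⟨r, hr, ?_⟩
    rw [map_mul, (hπ m).2 hm, mul_one]
  let K : Subgroup G := normalizer (H : Set G) ⊓ Qb.comap π
  obtain ⟨g, hgR, hgb⟩ := hsurj gb
  have hgK : g ∈ normalizer (K : Set G) := by
    rw [mem_normalizer_iff]
    intro z
    constructor
    · rintro ⟨h1, h2⟩
      refine ⟨(Subgroup.mul_mem _ (Subgroup.mul_mem _ hgR h1) (Subgroup.inv_mem _ hgR)), ?_⟩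
      have h3 : π (g * z * g⁻¹) = gb * π z * gb⁻¹ := by simp [hgb]
      show π (g * z * g⁻¹) ∈ Qb
      rw [h3]
      exact (mem_normalizer_iff.1 hgbn _).1 h2
    · rintro ⟨h1, h2⟩
      have h4 : g⁻¹ * (g * z * g⁻¹) * g = z := by group
      refine ⟨?_, ?_⟩
      · rw [← h4]
        exact Subgroup.mul_mem _ (Subgroup.mul_mem _ (Subgroup.inv_mem _ hgR) h1) hgR
      · have h3 : π (g * z * g⁻¹) = gb * π z * gb⁻¹ := by simp [hgb]
        have h5 : π (g * z * g⁻¹) ∈ Qb := h2
        rw [h3] at h5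
        exact (mem_normalizer_iff.1 hgbn _).2 h5
  let T : Sylow 2 K := default
  obtain ⟨r, hrK, hn⟩ := exists_mul_mem_normalizer_map_sylow K hgK T
  set T0 : Subgroup G := (T : Subgroup K).map K.subtype with hT0def
  have hT0 : IsPGroup 2 T0 := T.isPGroup'.map K.subtype
  have hT0K : T0 ≤ K := map_subtype_le _
  have hrQ : π r ∈ Qb := hrK.2
  have hπn : π (r * g) = π r * gb := by rw [map_mul, hgb]
  -- `gb` is not in `Qb`
  have hgbQ : gb ∉ Qb := by
    intro hg
    obtain ⟨m, hm⟩ := hQb ⟨gb, hg⟩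
    have h1 : gb ^ 2 ^ m = 1 := by
      have := congrArg Subtype.val hm
      simpa using this
    have h2 : orderOf gb ∣ 2 ^ m := orderOf_dvd_of_pow_eq_one h1
    have h3 : orderOf gb = 1 :=
      Nat.eq_one_of_dvd_coprimes (hgbc.pow_right m) dvd_rfl h2
    exact hgb1 (orderOf_eq_one_iff.1 h3)
  have hπnQ : π (r * g) ∉ Qb := by
    intro hq
    apply hgbQ
    have h1 : gb = (π r)⁻¹ * π (r * g) := by rw [hπn]; group
    rw [h1]
    exact Qb.mul_mem (Qb.inv_mem hrQ) hq
  have hnN : r * g ∉ N := fun h' => hπnQ (by rw [(hπ _).2 h']; exact Qb.one_mem)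
  -- `r * g` is a `c`-element
  obtain ⟨p, k, hp', hk, hpk⟩ := h _ hnN
  have hp : p.Prime := hp'.nat_prime
  have hpc : p = c := by
    by_contra hne
    obtain ⟨a', ha', hpow⟩ := exists_mul_pow_of_normalizes hgbn hrQ (c ^ i)
    rw [← hgbo, pow_orderOf_eq_one, mul_one, hgbo, ← hπn] at hpow
    have hdvd : orderOf (π (r * g)) ∣ p ^ k := hpk ▸ orderOf_map_dvd π (r * g)
    have hco : Nat.Coprime (c ^ i) (orderOf (π (r * g))) :=
      Nat.Coprime.coprime_dvd_right hdvd
        (Nat.Coprime.pow _ _ ((Nat.coprime_primes hc hp).2 (Ne.symm hne)))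
    obtain ⟨m, hm⟩ := exists_pow_eq_self_of_coprime hco
    apply hπnQ
    rw [← hm, hpow]
    exact Qb.pow_mem ha' m
  subst hpc
  -- an element of `T0` outside `N`
  have hQne : ∃ q ∈ Qb, q ≠ 1 := by
    by_contra hcon
    push Not at hcon
    apply hgbC
    rw [mem_centralizer_iff]
    intro q hq
    rw [hcon q hq]
    group
  obtain ⟨qb, hqb, hqb1⟩ := hQne
  obtain ⟨r1, hr1R, hr1⟩ := hsurj qb
  have hr1K : r1 ∈ K := ⟨hr1R, by show π r1 ∈ Qb; rw [hr1]; exact hqb⟩
  have hr1N : r1 ∉ N := fun h' => hqb1 (hr1 ▸ (hπ r1).2 h')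
  obtain ⟨p1, k1, hp1', hk1, hpk1⟩ := h _ hr1N
  have hp1 : p1.Prime := hp1'.nat_prime
  have hp12 : p1 = 2 := by
    obtain ⟨m, hm⟩ := hQb ⟨qb, hqb⟩
    have h1 : qb ^ 2 ^ m = 1 := by
      have := congrArg Subtype.val hm
      simpa using this
    have h2 : orderOf qb ∣ 2 ^ m := orderOf_dvd_of_pow_eq_one h1
    have h3 : orderOf qb ∣ p1 ^ k1 := by
      rw [hpk1, ← hr1]
      exact orderOf_map_dvd π r1
    by_contra hne
    have h4 : Nat.Coprime (2 ^ m) (p1 ^ k1) :=
      Nat.Coprime.pow _ _ ((Nat.coprime_primes Nat.prime_two hp1).2 (Ne.symm hne))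
    exact hqb1 (orderOf_eq_one_iff.1 (Nat.eq_one_of_dvd_coprimes h4 h2 h3))
  subst hp12
  let r1' : K := ⟨r1, hr1K⟩
  have hr1'o : Nat.card (Subgroup.zpowers r1') = 2 ^ k1 := by
    rw [Nat.card_zpowers, Subgroup.orderOf_mk, ← hpk1]
  obtain ⟨P1, hP1⟩ := (IsPGroup.of_card hr1'o).exists_le_sylow
  obtain ⟨u, hu⟩ := MulAction.exists_smul_eq K P1 T
  have hmemT : (u * r1' * u⁻¹ : K) ∈ (T : Subgroup K) := by
    rw [← hu, Sylow.coe_subgroup_smul]
    exact Subgroup.mem_smul_pointwise_iff_exists _ _ _ |>.2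
      ⟨r1', hP1 (Subgroup.mem_zpowers r1'), rfl⟩
  have hxT0 : ((u * r1' * u⁻¹ : K) : G) ∈ T0 := mem_map_of_mem K.subtype hmemT
  have hxN : ((u * r1' * u⁻¹ : K) : G) ∉ N := by
    intro h'
    apply hr1N
    have h1 : (u : G)⁻¹ * ((u * r1' * u⁻¹ : K) : G) * (u : G)⁻¹⁻¹ = r1 := by
      simp [r1']
      group
    rw [← h1]
    exact ‹N.Normal›.conj_mem _ h' _
  have hHp : IsPGroup s H := S.isPGroup'.map N.subtype
  have hHN : H ≤ N := map_subtype_le _
  have hHne : H ≠ ⊥ := by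
    intro hb
    have h1 := S.ne_bot_of_dvd_card hsN
    apply h1
    exact (Subgroup.map_eq_bot_iff_of_injective _ N.subtype_injective).1 hb
  exact core N h hc hs hc2 hs2 hsc hHp hHN hHne hT0 hpk.symm hnN hxT0 hxN hn
    (mul_mem hrK.1 hgR) (hT0K.trans inf_le_left)

end Cfsg.Agent.S3901
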