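import Cfsg.Statements.S3921
import Cfsg.Agent.S0204
import Cfsg.Agent.Lib.SelfCent.Forward

set_option autoImplicit false
open Cfsg

namespace Cfsg.Agent.S3921

/-- Say that a group has self-centralizing non-cyclic subgroups when every non-cyclic subgroup H satisfies C_G(H) ≤ H. A non-abelian finite simple group has self-centralizing non-cyclic subgroups if and only if it is isomorphic to PSL₂(q) with q = 4, q = 9, or q a prime of the form 2^k + 1 or 2^k − 1. -/
theorem result {G : Type*} [Group G] [Finite G] [IsSimpleGroup G] (hna : ¬ IsMulCommutative G) :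
    (∀ H : Subgroup G, ¬ IsCyclic ↥H → Subgroup.centralizer (H : Set G) ≤ H) ↔ ∃ (F : Type) (_ : Field F) (_ : Fintype F),
      (Fintype.card F = 4 ∨ Fintype.card F = 9 ∨ ((Fintype.card F).Prime ∧ ∃ k : ℕ, Fintype.card F = 2 ^ k + 1 ∨ Fintype.card F = 2 ^ k - 1)) ∧
      Nonempty (G ≃* Matrix.ProjectiveSpecialLinearGroup (Fin 2) F) := by
  constructor
  · intro h
    have hcyc : ¬ IsCyclic G := fun hc => hna (hc.isMulCommutative)
    obtain ⟨E, hE⟩ := Cfsg.Agent.S0204.result hcyc
    obtain ⟨F, i1, i2, hq, he⟩ := Cfsg.Agent.Lib.SelfCent.Forward.forward h hE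
    refine ⟨F, i1, i2, ?_, he⟩
    rcases hq with h9 | hp
    · exact Or.inr (Or.inl h9)
    · exact Or.inr (Or.inr hp)
  · rintro ⟨F, i1, i2, hq, ⟨e⟩⟩
    exact Cfsg.Agent.Lib.SelfCent.Forward.backward hq e

end Cfsg.Agent.S3921
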