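import Cfsg.Statements.S3922
import Cfsg.Agent.Lib.ConjRank2.NC
-- import your own Cfsg.Agent.* helpers here

set_option autoImplicit false
open Cfsg

namespace Cfsg.Agent.S3922

/-- A finite group whose conjugacy classes have exactly three distinct sizes (1 and two further values) is solvable. -/
theorem result {G : Type*} [Group G] [Finite G] (n₁ n₂ : ℕ) (h12 : n₂ < n₁) (h2 : 1 < n₂)
    (h : ∀ x : G, (Subgroup.centralizer ({x} : Set G)).index = 1 ∨ (Subgroup.centralizer ({x} : Set G)).index = n₂ ∨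
      (Subgroup.centralizer ({x} : Set G)).index = n₁)
    (h₁ : ∃ x : G, (Subgroup.centralizer ({x} : Set G)).index = n₁) (h₂ : ∃ x : G, (Subgroup.centralizer ({x} : Set G)).index = n₂) :
    Group.IsSolvable G := by
  have S : Cfsg.Agent.Lib.ConjRank2.Reg.Sizes G n₂ n₁ := ⟨h2, h12, h⟩
  by_cases hc : ∃ x y : G, x ∉ Subgroup.center G ∧ y ∉ Subgroup.center G ∧
      Subgroup.centralizer ({y} : Set G) < Subgroup.centralizer ({x} : Set G)
  · obtain ⟨x, y, hx, hy, hlt⟩ := hc
    exact Cfsg.Agent.Lib.ConjRank2.Chain.solvable_of_chain S hx hy hlt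
  · push Not at hc
    obtain ⟨x, hx⟩ := h₂
    obtain ⟨y, hy⟩ := h₁
    refine Cfsg.Agent.Lib.ConjRank2.NC.solvable_of_noChain S ?_ hx hy
    intro a b ha hb hle
    by_contra hne
    exact hc a b ha hb (lt_of_le_of_ne hle hne)

end Cfsg.Agent.S3922
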