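import Cfsg.Statements.S3946
import Cfsg.Agent.Lib.Kegel.Main

set_option autoImplicit false
open Cfsg

namespace Cfsg.Agent.S3946

open SemidirectProduct in
theorem aux {G : Type*} [Group G] [Finite G] (α : MulAut G) (hp : (orderOf α).Prime)
    (hsplit : ∀ x : G, (((List.range (orderOf α)).map (fun i : ℕ => (α ^ i) x)).prod = 1)) :
    Group.IsNilpotent G := by
  classical
  set p := orderOf α with hpdef
  haveI hfp : Fact p.Prime := ⟨hp⟩
  let A : Subgroup (MulAut G) := Subgroup.zpowers α
  haveI : Finite (MulAut G) := inferInstance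
  let φ : A →* MulAut G := A.subtype
  let Γ := G ⋊[φ] A
  haveI : Finite Γ := Finite.of_equiv (G × A) SemidirectProduct.equivProd.symm
  let a : A := ⟨α, Subgroup.mem_zpowers α⟩
  have hap : a ^ p = 1 := by
    apply Subtype.ext
    show α ^ p = 1
    exact pow_orderOf_eq_one α
  let U : G → Γ := fun x => ⟨x, a⟩
  have hUpow : ∀ (x : G) (n : ℕ), ((U x) ^ n : Γ) =
      ⟨((List.range n).map (fun i : ℕ => (α ^ i) x)).prod, a ^ n⟩ := by
    intro x n
    induction n with
    | zero =>
      simp only [pow_zero, List.range_zero, List.map_nil, List.prod_nil]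
      rfl
    | succ n ih =>
      rw [pow_succ, ih]
      ext
      · simp only [List.range_succ, List.map_append, List.prod_append,
          List.map_cons, List.map_nil, List.prod_cons, List.prod_nil, mul_one]
        rfl
      · simp only [pow_succ]
        rfl
  have hUp : ∀ x : G, ((U x) ^ p : Γ) = 1 := by
    intro x
    rw [hUpow, hsplit x, hap]
    rfl
  let H : Subgroup Γ := (SemidirectProduct.rightHom (φ := φ)).ker
  have hα1 : α ≠ 1 := by
    intro h
    rw [hpdef, h, orderOf_one] at hp
    exact Nat.not_prime_one hp
  have hHne : H ≠ ⊤ := by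
    intro h
    have : (SemidirectProduct.inr a : Γ) ∈ H := h ▸ Subgroup.mem_top _
    have h2 : SemidirectProduct.rightHom (SemidirectProduct.inr a : Γ) = 1 := this
    rw [SemidirectProduct.rightHom_inr] at h2
    exact hα1 (congrArg Subtype.val h2)
  have hout : ∀ g : Γ, g ∉ H → g ^ p = 1 := by
    intro g hg
    have hgr : g.right ≠ 1 := fun h => hg h
    -- `g.right = a ^ i`
    obtain ⟨i, hi⟩ : ∃ i : ℕ, g.right = a ^ i := by
      have h1 : (g.right : MulAut G) ∈ Submonoid.powers α :=
        (mem_powers_iff_mem_zpowers).2 g.right.2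
      obtain ⟨i, hi⟩ := h1
      exact ⟨i, Subtype.ext hi.symm⟩
    have hip : ¬ p ∣ i := by
      rintro ⟨c, rfl⟩
      apply hgr
      rw [hi, pow_mul, hap, one_pow]
    have hcop : i.Coprime p := ((Nat.Prime.coprime_iff_not_dvd hp).2 hip).symm
    obtain ⟨j, hj⟩ := Nat.exists_mul_mod_eq_one_of_coprime hcop hp.one_lt
    let F : G → G := fun x => ((U x) ^ i : Γ).left
    have hF : Function.Injective F := by
      intro x y hxy
      have h1 : ((U x) ^ i : Γ) = (U y) ^ i := by
        exact SemidirectProduct.ext hxy (by rw [hUpow, hUpow])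
      have hred : ∀ z : G, ((U z) ^ (i * j) : Γ) = U z := by
        intro z
        rw [pow_eq_pow_mod (i * j) (hUp z), hj.2, pow_one]
      have h2 : U x = U y := by
        rw [← hred x, ← hred y, pow_mul, pow_mul, h1]
      have h3 : (U x).left = (U y).left := by rw [h2]
      exact h3
    obtain ⟨x, hx⟩ := (Finite.injective_iff_surjective.1 hF) g.left
    have hgx : g = (U x) ^ i := by
      exact SemidirectProduct.ext hx.symm (by rw [hUpow]; exact hi)
    rw [hgx, ← pow_mul, mul_comm, pow_mul, hUp, one_pow]
  haveI : H.Normal := MonoidHom.normal_ker _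
  have hnil : Group.IsNilpotent H :=
    Cfsg.Agent.Lib.Kegel.Main.nilpotent_of_hughes hp _ Γ H hHne hout rfl
  let f : G →* H := (SemidirectProduct.inl (φ := φ)).codRestrict H (by
    intro x
    show SemidirectProduct.rightHom (SemidirectProduct.inl x : Γ) = 1
    rw [SemidirectProduct.rightHom_inl])
  have hfi : Function.Injective f := by
    intro x y hxy
    exact SemidirectProduct.inl_injective (congrArg Subtype.val hxy)
  exact Group.nilpotent_of_mulEquiv (MonoidHom.ofInjective hfi).symm


/-- Call an automorphism α of order n of a group G splitting when x · α(x) · α²(x) ⋯ α^(n−1)(x) = 1 for every x ∈ G. A finite group admitting a splitting automorphism of prime order is nilpotent (this contains the case of a fixed-point-free automorphism of prime order). -/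
theorem result {G : Type*} [Group G] [Finite G] (α : MulAut G) (hp : (orderOf α).Prime)
    (hsplit : ∀ x : G, (((List.range (orderOf α)).map (fun i : ℕ => (α ^ i) x)).prod = 1)) : Group.IsNilpotent G := by
  exact aux α hp hsplit

end Cfsg.Agent.S3946
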