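import Cfsg.Statements.S4001
import Cfsg.Agent.S0033
import Cfsg.Agent.S0068
import Cfsg.Agent.Lib.Frobenius.FixedPoints
import Cfsg.Agent.Lib.Frobenius.ClassSizes
import Cfsg.Agent.Lib.Frobenius.Nilpotent
import Cfsg.Agent.Lib.FPF.Complement
import Cfsg.Agent.Lib.SolvStruct.NilpMax
import Cfsg.Agent.Lib.Core.Residual

set_option autoImplicit false
open Cfsg

namespace Cfsg.Agent.S4001

open Cfsg.Agent.Lib.Frobenius.Basic Cfsg.Agent.Lib.Frobenius.Theorem
open Cfsg.Agent.Lib.Frobenius.Conjugacy Cfsg.Agent.Lib.Frobenius.ClassSizes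

section Aux

variable {X : Type*} [Group X] [Finite X] {C : Subgroup X}

theorem kernel_eq_of {N : Subgroup X} (hC : IsFrobeniusComplement C)
    (hk : frobeniusKernel C = (N : Set X)) : kernel C = N :=
  SetLike.coe_injective ((coe_kernel hC).trans hk)

theorem nilp_kernel (hC : IsFrobeniusComplement C) : Group.IsNilpotent (kernel C) := by
  obtain ⟨N, hN, -, hnil⟩ := Cfsg.Agent.Lib.Frobenius.Nilpotent.kernel_nilpotent_of
    (fun X _ _ φ hφ p hp hord => Cfsg.Agent.S0033.result φ hφ p hp hord) hC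
  have : N = kernel C := SetLike.coe_injective (hN.trans (coe_kernel hC).symm)
  subst this
  exact hnil

theorem hfpf_of (hC : IsFrobeniusComplement C) :
    ∀ h ∈ C, h ≠ 1 → kernel C ⊓ Subgroup.centralizer {h} = ⊥ := by
  intro h hh hh1
  rw [eq_bot_iff]
  rintro v ⟨hv1, hv2⟩
  rw [Subgroup.mem_bot]
  apply eq_one_of_mem_kernel_of_conj_eq hC hv1 hh hh1
  have : v * h = h * v := Subgroup.mem_centralizer_singleton_iff.1 hv2
  rw [← this]
  group

theorem cyclic_of_nilp_odd (hC : IsFrobeniusComplement C) (hnil : Group.IsNilpotent C)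
    (hodd : Odd (Nat.card C)) : IsCyclic C := by
  haveI : IsZGroup C := by
    refine ⟨fun p hp P => ?_⟩
    haveI : Fact p.Prime := ⟨hp⟩
    by_cases hp2 : p = 2
    · subst hp2
      have h1 : Nat.card P ∣ Nat.card C := Subgroup.card_subgroup_dvd_card _
      have hP : IsPGroup 2 P := P.isPGroup'
      obtain ⟨n, hn⟩ := IsPGroup.iff_card.1 hP
      have h2 : Odd (Nat.card P) := Odd.of_dvd_nat hodd h1
      rw [hn] at h2
      have hn0 : n = 0 := by
        by_contra hn0
        exact (Nat.not_even_iff_odd.2 h2) ((Nat.even_pow.2 ⟨even_two, hn0⟩))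
      rw [hn0, pow_zero] at hn
      haveI : Subsingleton P := Finite.card_le_one_iff_subsingleton.1 hn.le
      infer_instance
    · let B : Subgroup X := (P : Subgroup C).map C.subtype
      have hBp : IsPGroup p B := P.isPGroup'.map C.subtype
      have hB := Cfsg.Agent.Lib.FPF.Complement.isCyclic_of_isPGroup (kernel_isComplement' hC)
        (kernel_ne_bot hC) (hfpf_of hC) B (Subgroup.map_subtype_le _) hp2 hBp
      let e : (P : Subgroup C) ≃* B := (P : Subgroup C).equivMapOfInjective C.subtype C.subtype_injective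
      exact isCyclic_of_surjective e.symm e.symm.surjective
  infer_instance

theorem comm_of_cyclic_kernel (hC : IsFrobeniusComplement C) (hcyc : IsCyclic (kernel C)) :
    ∀ a ∈ C, ∀ b ∈ C, a * b = b * a := by
  obtain ⟨z, hz⟩ := hcyc.exists_generator
  have key : ∀ d : X, ∃ n : ℤ, d * (z : X) * d⁻¹ = (z : X) ^ n := by
    intro d
    have h1 : d * (z : X) * d⁻¹ ∈ kernel C := (kernel_normal C).conj_mem _ z.2 d
    obtain ⟨n, hn⟩ := Subgroup.mem_zpowers_iff.1 (hz ⟨_, h1⟩)
    refine ⟨n, ?_⟩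
    have := congrArg Subtype.val hn
    simpa using this.symm
  have hz1 : (z : X) ≠ 1 := by
    intro h
    apply kernel_ne_bot hC
    rw [eq_bot_iff]
    intro y hy
    obtain ⟨n, hn⟩ := Subgroup.mem_zpowers_iff.1 (hz ⟨y, hy⟩)
    have := congrArg Subtype.val hn
    simp only [Subgroup.coe_zpow, h, one_zpow] at this
    rw [Subgroup.mem_bot, ← this]
  intro a ha b hb
  obtain ⟨m, hm⟩ := key a
  obtain ⟨n, hn⟩ := key b
  have h1 : (a * b) * (z : X) * (a * b)⁻¹ = (z : X) ^ (n * m) := by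
    calc (a * b) * (z : X) * (a * b)⁻¹ = a * (b * (z : X) * b⁻¹) * a⁻¹ := by group
      _ = a * (z : X) ^ n * a⁻¹ := by rw [hn]
      _ = (a * (z : X) * a⁻¹) ^ n := by rw [conj_zpow]
      _ = (z : X) ^ (n * m) := by rw [hm, ← zpow_mul, mul_comm]
  have h2 : (b * a) * (z : X) * (b * a)⁻¹ = (z : X) ^ (m * n) := by
    calc (b * a) * (z : X) * (b * a)⁻¹ = b * (a * (z : X) * a⁻¹) * b⁻¹ := by group
      _ = b * (z : X) ^ m * b⁻¹ := by rw [hm]
      _ = (b * (z : X) * b⁻¹) ^ m := by rw [conj_zpow]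
      _ = (z : X) ^ (m * n) := by rw [hn, ← zpow_mul, mul_comm]
  by_contra hne
  have h6 : (a * b) * (z : X) * (a * b)⁻¹ = (b * a) * (z : X) * (b * a)⁻¹ := by
    rw [h1, h2, mul_comm]
  have hc : (b * a)⁻¹ * (a * b) ∈ C := C.mul_mem (C.inv_mem (C.mul_mem hb ha)) (C.mul_mem ha hb)
  have hc1 : (b * a)⁻¹ * (a * b) ≠ 1 := by
    intro h
    exact hne (inv_mul_eq_one.1 h).symm
  apply hz1
  apply eq_one_of_mem_kernel_of_conj_eq hC z.2 hc hc1
  calc (b * a)⁻¹ * (a * b) * (z : X) * ((b * a)⁻¹ * (a * b))⁻¹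
      = (b * a)⁻¹ * ((a * b) * (z : X) * (a * b)⁻¹) * (b * a) := by group
    _ = (b * a)⁻¹ * ((b * a) * (z : X) * (b * a)⁻¹) * (b * a) := by rw [h6]
    _ = (z : X) := by group

section Torsion

variable {G : Type*} [Group G] [Finite G]

/-- The `p`-torsion of the center of a normal subgroup, as a subgroup of `G`. -/
def torsionCenter (H : Subgroup G) (p : ℕ) : Subgroup G where
  carrier := {x | x ∈ H ∧ (∀ y ∈ H, x * y = y * x) ∧ x ^ p ^ Nat.card G = 1}
  mul_mem' := by
    rintro a b ⟨ha, hac, ha1⟩ ⟨hb, hbc, hb1⟩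
    refine ⟨H.mul_mem ha hb, ?_, ?_⟩
    · intro y hy
      rw [mul_assoc, hbc y hy, ← mul_assoc, hac y hy, mul_assoc]
    · have hcomm : Commute a b := hac b hb
      rw [hcomm.mul_pow, ha1, hb1, one_mul]
  one_mem' := ⟨H.one_mem, by simp, by simp⟩
  inv_mem' := by
    rintro a ⟨ha, hac, ha1⟩
    refine ⟨H.inv_mem ha, ?_, ?_⟩
    · intro y hy
      have h1 : Commute a y := hac y hy
      exact h1.inv_left
    · rw [inv_pow, ha1, inv_one]

theorem mem_torsionCenter {H : Subgroup G} {p : ℕ} {x : G} :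
    x ∈ torsionCenter H p ↔ x ∈ H ∧ (∀ y ∈ H, x * y = y * x) ∧ x ^ p ^ Nat.card G = 1 := Iff.rfl

instance torsionCenter_normal (H : Subgroup G) [hH : H.Normal] (p : ℕ) :
    (torsionCenter H p).Normal := by
  refine ⟨?_⟩
  rintro x ⟨hx, hxc, hx1⟩ g
  refine ⟨hH.conj_mem x hx g, ?_, ?_⟩
  · intro y hy
    have h1 : g⁻¹ * y * g ∈ H := by
      simpa using hH.conj_mem y hy g⁻¹
    have h2 := hxc _ h1
    calc g * x * g⁻¹ * y = g * (x * (g⁻¹ * y * g)) * g⁻¹ := by group
      _ = g * ((g⁻¹ * y * g) * x) * g⁻¹ := by rw [h2]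
      _ = y * (g * x * g⁻¹) := by group
  · rw [conj_pow, hx1]
    group

theorem torsionCenter_le (H : Subgroup G) (p : ℕ) : torsionCenter H p ≤ H := fun _ hx => hx.1

theorem torsionCenter_comm (H : Subgroup G) (p : ℕ) : IsMulCommutative (torsionCenter H p) := by
  refine ⟨⟨?_⟩⟩
  rintro ⟨a, ha⟩ ⟨b, hb⟩
  apply Subtype.ext
  exact ha.2.1 b hb.1

/-- In a nilpotent normal subgroup of order divisible by `p`, the `p`-torsion of the center is
nontrivial. -/
theorem exists_mem_torsionCenter (H : Subgroup G) (hnil : Group.IsNilpotent H) {p : ℕ}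
    [hp : Fact p.Prime] (hdvd : p ∣ Nat.card H) : ∃ z ∈ torsionCenter H p, z ≠ 1 := by
  classical
  obtain ⟨P⟩ : Nonempty (Sylow p H) := inferInstance
  have hPcard : Nat.card P ≠ 1 := by
    intro h
    have h1 := P.card_eq_multiplicity
    rw [h] at h1
    have h2 : p ^ 1 ∣ Nat.card H := by simpa using hdvd
    have h3 := (Nat.Prime.pow_dvd_iff_le_factorization hp.out Nat.card_pos.ne').1 h2
    have h4 : p ^ (Nat.card H).factorization p ≠ 1 := by
      exact (Nat.one_lt_pow (by omega) hp.out.one_lt).ne'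
    exact h4 h1.symm
  haveI : Nontrivial P := Finite.one_lt_card_iff_nontrivial.1 (lt_of_le_of_ne Nat.card_pos hPcard.symm)
  haveI hcnt : Nontrivial (Subgroup.center P) := P.isPGroup'.center_nontrivial
  obtain ⟨z, hz⟩ := exists_ne (1 : Subgroup.center P)
  have hz' : ((z : P) : H) ≠ 1 := by
    intro h
    apply hz
    apply Subtype.ext
    apply Subtype.ext
    exact h
  refine ⟨(((z : P) : H) : G), ⟨((z : P) : H).2, ?_, ?_⟩, fun h => hz' (Subtype.ext h)⟩
  · intro y hy
    have hpz : IsPGroup p (Subgroup.center P) := P.isPGroup'.to_subgroup _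
    obtain ⟨a, b, hab, hcomm, ⟨k, hk⟩, hb, -, -⟩ :=
      Cfsg.Agent.Lib.Core.Residual.exists_pPart_pPrimePart p (⟨y, hy⟩ : H) (isOfFinOrder_of_finite _)
    have haP : a ∈ (P : Subgroup H) :=
      Cfsg.Agent.Lib.SolvStruct.NilpMax.mem_sylow_of_nilpotent hnil P hk
    have h1 : Commute ((z : P) : H) a := by
      have := (Subgroup.mem_center_iff.1 z.2 ⟨a, haP⟩)
      exact (congrArg Subtype.val this).symm
    obtain ⟨j, hj⟩ := hpz z
    have hzj : ((z : P) : H) ^ p ^ j = 1 := by
      have := congrArg Subtype.val (congrArg Subtype.val hj)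
      simpa using this
    have h2 : Commute ((z : P) : H) b :=
      Cfsg.Agent.Lib.SolvStruct.NilpMax.commute_of_nilpotent hnil hzj hb
    have h3 : Commute ((z : P) : H) (⟨y, hy⟩ : H) := by
      rw [← hab]
      exact h1.mul_right h2
    exact congrArg Subtype.val h3
  · obtain ⟨j, hj⟩ := (P.isPGroup' : IsPGroup p P) (z : P)
    have hzj : (((z : P) : H) : G) ^ p ^ j = 1 := by
      have := congrArg Subtype.val (congrArg Subtype.val hj)
      simpa using this
    have h1 : orderOf (((z : P) : H) : G) ∣ p ^ j := orderOf_dvd_of_pow_eq_one hzj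
    obtain ⟨i, hi, hi2⟩ := (Nat.dvd_prime_pow hp.out).1 h1
    have h2 : p ^ i ∣ Nat.card G := by
      rw [← hi2]
      exact orderOf_dvd_natCard _
    have h3 : i ≤ Nat.card G := by
      have h4 := Nat.le_of_dvd Nat.card_pos h2
      have h5 : i < p ^ i := Nat.lt_pow_self hp.out.one_lt
      omega
    apply orderOf_dvd_iff_pow_eq_one.1
    rw [hi2]
    exact pow_dvd_pow p h3

end Torsion

end Aux
section Main

variable {G : Type*} [Group G] [Finite G] {H K : Subgroup G} [hHn : H.Normal] [hKn : K.Normal]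

theorem mixed (hle : H ≤ K) {C : Subgroup K} (hC : IsFrobeniusComplement C)
    (hCk : kernel C = H.subgroupOf K) {D : Subgroup (G ⧸ H)} (hD : IsFrobeniusComplement D)
    (hDk : kernel D = K.map (QuotientGroup.mk' H)) (hnil : Group.IsNilpotent H)
    (hcop : (Nat.card H).Coprime D.index) {p q : ℕ} (hp : p.Prime) (hq : q.Prime) (hpq : p ≠ q)
    (hpH : p ∣ Nat.card H) (hqD : q ∣ Nat.card D) : ∃ g : G, orderOf g = p * q := by
  classical
  haveI : Fact p.Prime := ⟨hp⟩
  haveI : Fact q.Prime := ⟨hq⟩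
  obtain ⟨z, hz, hz1⟩ := exists_mem_torsionCenter H hnil hpH
  letI : CommGroup (torsionCenter H p) :=
    { (inferInstance : Group (torsionCenter H p)) with
      mul_comm := (torsionCenter_comm H p).is_comm.comm }
  haveI : Nontrivial (torsionCenter H p) :=
    ⟨⟨⟨z, hz⟩, 1, fun h => hz1 (congrArg Subtype.val h)⟩⟩
  let φ₀ : G →* MulAut (torsionCenter H p) := MulAut.conjNormal
  have hφ₀ : ∀ (g : G) (v : torsionCenter H p), ((φ₀ g v : torsionCenter H p) : G) = g * v * g⁻¹ :=
    fun g v => MulAut.conjNormal_apply g v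
  have hker : ∀ h ∈ H, φ₀ h = 1 := by
    intro h hh
    ext v
    rw [hφ₀]
    have h1 := v.2.2.1 h hh
    change h * (v : G) * h⁻¹ = v
    rw [← h1]
    group
  let φ : (G ⧸ H) →* MulAut (torsionCenter H p) := QuotientGroup.lift H φ₀ hker
  have hφ : ∀ (g : G) (v : torsionCenter H p), φ (g : G ⧸ H) v = φ₀ g v := fun g v => rfl
  have hCK : ∀ v : torsionCenter H p, (∀ k ∈ kernel D, φ k v = v) → v = 1 := by
    intro v hv
    obtain ⟨c, hc, hc1⟩ : ∃ c ∈ C, c ≠ 1 := (Subgroup.ne_bot_iff_exists_ne_one).1 hC.1 |>.elim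
      (fun c hc => ⟨c.1, c.2, fun h => hc (Subtype.ext h)⟩)
    have h1 : ((c : G) : G ⧸ H) ∈ kernel D := by
      rw [hDk]
      exact ⟨c, c.2, rfl⟩
    have h2 := hv _ h1
    rw [hφ] at h2
    have h3 := congrArg Subtype.val h2
    rw [hφ₀] at h3
    have hvK : (v : G) ∈ K := hle v.2.1
    have h4 : (⟨v, hvK⟩ : K) = 1 := by
      apply eq_one_of_mem_kernel_of_conj_eq hC ?_ hc hc1
      · apply Subtype.ext
        exact h3
      · rw [hCk, Subgroup.mem_subgroupOf]
        exact v.2.1
    apply Subtype.ext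
    exact congrArg (fun x : K => (x : G)) h4
  have hcop' : (Nat.card (torsionCenter H p)).Coprime D.index :=
    Nat.Coprime.coprime_dvd_left (Subgroup.card_dvd_of_le (torsionCenter_le H p)) hcop
  obtain ⟨v, hv1, hv⟩ := Cfsg.Agent.Lib.Frobenius.FixedPoints.exists_fixed hD φ hCK hcop'
  obtain ⟨d, hd⟩ := exists_prime_orderOf_dvd_card' q hqD
  obtain ⟨g, hg⟩ := QuotientGroup.mk_surjective (d : G ⧸ H)
  have hgq : q ∣ orderOf g := by
    have h1 : orderOf (QuotientGroup.mk' H g) ∣ orderOf g := orderOf_map_dvd _ g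
    have h2 : QuotientGroup.mk' H g = (d : G ⧸ H) := hg
    rw [h2, Subgroup.orderOf_coe, hd] at h1
    exact h1
  have hgv : Commute g (v : G) := by
    have h1 := hv d d.2
    rw [← hg, hφ] at h1
    have h3 := congrArg Subtype.val h1
    rw [hφ₀] at h3
    exact mul_inv_eq_iff_eq_mul.1 h3
  have hvp : p ∣ orderOf (v : G) := by
    have h1 : (v : G) ^ p ^ Nat.card G = 1 := v.2.2.2
    obtain ⟨i, -, hi⟩ := (Nat.dvd_prime_pow hp).1 (orderOf_dvd_of_pow_eq_one h1)
    rw [hi]
    rcases i with _ | i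
    · exfalso
      apply hv1
      apply Subtype.ext
      exact orderOf_eq_one_iff.1 (by simpa using hi : orderOf (v : G) = 1)
    · exact dvd_pow_self p (by omega)
  have hw := orderOf_pow_orderOf_div (x := (v : G)) (orderOf_pos _).ne' hvp
  have hg' := orderOf_pow_orderOf_div (x := g) (orderOf_pos _).ne' hgq
  have hcomm : Commute ((v : G) ^ (orderOf (v : G) / p)) (g ^ (orderOf g / q)) :=
    (hgv.symm.pow_pow _ _)
  refine ⟨_, (hcomm.orderOf_mul_eq_mul_orderOf_of_coprime (by
    rw [hw, hg']; exact (Nat.coprime_primes hp hq).2 hpq)).trans (by rw [hw, hg'])⟩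

theorem forward (hle : H ≤ K) {C : Subgroup K} (hC : IsFrobeniusComplement C)
    (hCk : kernel C = H.subgroupOf K) {D : Subgroup (G ⧸ H)} (hD : IsFrobeniusComplement D)
    (hDk : kernel D = K.map (QuotientGroup.mk' H))
    (hc1 : (Nat.card C).Coprime (Nat.card H)) (hc2 : (Nat.card C).Coprime (Nat.card (G ⧸ K)))
    {p q : ℕ} (hp : p.Prime) (hq : q.Prime) (g : G) (hg : orderOf g = p * q)
    (hpC : p ∣ Nat.card C) : q ∣ Nat.card C := by
  have hg0 : orderOf g ≠ 0 := (orderOf_pos g).ne'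
  have ha := orderOf_pow_orderOf_div (x := g) hg0 (n := p) (by rw [hg]; exact dvd_mul_right _ _)
  have hb := orderOf_pow_orderOf_div (x := g) hg0 (n := q) (by rw [hg]; exact dvd_mul_left _ _)
  rw [hg, Nat.mul_div_cancel_left _ hp.pos] at ha
  rw [hg, Nat.mul_div_cancel _ hq.pos] at hb
  set a := g ^ q with hadef
  set b := g ^ p with hbdef
  have hab : Commute a b := (Commute.refl g).pow_pow _ _
  have hpH : ¬ p ∣ Nat.card H := fun h => hp.one_lt.ne' (Nat.eq_one_of_dvd_coprimes hc1 hpC h)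
  have hpQ : ¬ p ∣ Nat.card (G ⧸ K) := fun h => hp.one_lt.ne' (Nat.eq_one_of_dvd_coprimes hc2 hpC h)
  have haK : a ∈ K := by
    have h1 : orderOf (QuotientGroup.mk' K a) ∣ p := by
      rw [← ha]; exact orderOf_map_dvd _ a
    have h2 : orderOf (QuotientGroup.mk' K a) ∣ Nat.card (G ⧸ K) := orderOf_dvd_natCard _
    rcases (Nat.dvd_prime hp).1 h1 with h3 | h3
    · have h4 := orderOf_eq_one_iff.1 h3
      exact (QuotientGroup.eq_one_iff a).1 h4
    · rw [h3] at h2
      exact absurd h2 hpQ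
  have haH : a ∉ H := by
    intro h
    apply hpH
    rw [← ha]
    exact Subgroup.orderOf_dvd_natCard H h
  have hmka : (a : G ⧸ H) ∈ kernel D := by
    rw [hDk]
    exact ⟨a, haK, rfl⟩
  have hmka1 : (a : G ⧸ H) ≠ 1 := fun h => haH ((QuotientGroup.eq_one_iff a).1 h)
  have hmkb : (b : G ⧸ H) ∈ kernel D := by
    apply Cfsg.Agent.Lib.Frobenius.ClassSizes.mem_kernel_of_conj_eq hD hmka hmka1
    have h1 : b * a * b⁻¹ = a := by
      rw [mul_inv_eq_iff_eq_mul]
      exact hab.symm.eq
    have h2 := congrArg (fun x : G => (x : G ⧸ H)) h1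
    simpa using h2
  have hbK : b ∈ K := by
    rw [hDk] at hmkb
    obtain ⟨k, hk, hkb⟩ := hmkb
    have h1 : k⁻¹ * b ∈ H := QuotientGroup.eq.1 hkb
    have h2 : b = k * (k⁻¹ * b) := by group
    rw [h2]
    exact K.mul_mem hk (hle h1)
  have ha'C : (⟨a, haK⟩ : K) ∉ kernel C := by
    rw [hCk, Subgroup.mem_subgroupOf]
    exact haH
  obtain ⟨u, hu⟩ := exists_conj_of_not_mem_kernel hC ha'C
  have ha1 : a ≠ 1 := fun h => haH (h ▸ H.one_mem)
  have hy1 : u⁻¹ * (⟨a, haK⟩ : K) * u ≠ 1 := by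
    intro h
    apply ha1
    have h1 : (⟨a, haK⟩ : K) = 1 := by
      have h2 : (⟨a, haK⟩ : K) = u * (u⁻¹ * (⟨a, haK⟩ : K) * u) * u⁻¹ := by group
      rw [h2, h]
      group
    exact congrArg Subtype.val h1
  have hcomm' : (⟨b, hbK⟩ : K) * (⟨a, haK⟩ : K) = (⟨a, haK⟩ : K) * (⟨b, hbK⟩ : K) :=
    Subtype.ext hab.symm.eq
  have hcC : u⁻¹ * (⟨b, hbK⟩ : K) * u ∈ C := by
    apply mem_of_conj_eq hC hu hy1
    calc (u⁻¹ * (⟨b, hbK⟩ : K) * u) * (u⁻¹ * (⟨a, haK⟩ : K) * u) * (u⁻¹ * (⟨b, hbK⟩ : K) * u)⁻¹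
        = u⁻¹ * ((⟨b, hbK⟩ : K) * (⟨a, haK⟩ : K)) * (⟨b, hbK⟩ : K)⁻¹ * u := by group
      _ = u⁻¹ * ((⟨a, haK⟩ : K) * (⟨b, hbK⟩ : K)) * (⟨b, hbK⟩ : K)⁻¹ * u := by rw [hcomm']
      _ = u⁻¹ * (⟨a, haK⟩ : K) * u := by group
  have hord : orderOf (u⁻¹ * (⟨b, hbK⟩ : K) * u) = q := by
    haveI : Fact q.Prime := ⟨hq⟩
    apply orderOf_eq_prime
    · have h0 : (⟨b, hbK⟩ : K) ^ q = 1 := by
        apply Subtype.ext
        simpa [← hb] using pow_orderOf_eq_one b
      have h1 : u⁻¹ * (⟨b, hbK⟩ : K) * u = u⁻¹ * (⟨b, hbK⟩ : K) * u⁻¹⁻¹ := by group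
      rw [h1, conj_pow, h0]
      group
    · intro h
      have hb1 : b ≠ 1 := by
        intro h1
        rw [h1, orderOf_one] at hb
        exact hq.one_lt.ne hb
      apply hb1
      have h1 : (⟨b, hbK⟩ : K) = 1 := by
        have h2 : (⟨b, hbK⟩ : K) = u * (u⁻¹ * (⟨b, hbK⟩ : K) * u) * u⁻¹ := by group
        rw [h2, h]
        group
      exact congrArg Subtype.val h1
  rw [← hord]
  exact Subgroup.orderOf_dvd_natCard C hcC

end Main

/-- Let G be a 2-Frobenius group: it has normal subgroups H < K with K a Frobenius group with kernel H and G/H a Frobenius group with kernel K/H. Then G is solvable; K/H has odd order coprime to the order of H and to the order of G/K (it is the image of an odd-order Hall subgroup); G/K is cyclic; and the prime graph of G has exactly two connected components, both complete: for distinct primes p, q dividing the order of G, G has an element of order pq exactly when p and q either both divide the order of K/H or both do not. -/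
theorem result {G : Type*} [Group G] [Finite G] (H K : Subgroup G) [H.Normal] [K.Normal] (hlt : H < K)
    (hK : ∃ C : Subgroup ↥K, Cfsg.IsFrobeniusComplement C ∧ Cfsg.frobeniusKernel C = (H.subgroupOf K : Set ↥K))
    (hGH : ∃ C : Subgroup (G ⧸ H), Cfsg.IsFrobeniusComplement C ∧ Cfsg.frobeniusKernel C = (K.map (QuotientGroup.mk' H) : Set (G ⧸ H))) :
    Group.IsSolvable G ∧ Odd (Nat.card (↥K ⧸ H.subgroupOf K)) ∧
      Nat.Coprime (Nat.card (↥K ⧸ H.subgroupOf K)) (Nat.card ↥H * Nat.card (G ⧸ K)) ∧ IsCyclic (G ⧸ K) ∧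
      ∀ p q : ℕ, p.Prime → q.Prime → p ≠ q → p ∣ Nat.card G → q ∣ Nat.card G →
        ((∃ g : G, orderOf g = p * q) ↔ (p ∣ Nat.card (↥K ⧸ H.subgroupOf K) ↔ q ∣ Nat.card (↥K ⧸ H.subgroupOf K))) := by
  obtain ⟨C, hC, hCk⟩ := hK
  obtain ⟨D, hD, hDk⟩ := hGH
  have hle := hlt.le
  have hCk' : kernel C = H.subgroupOf K := kernel_eq_of hC hCk
  have hDk' : kernel D = K.map (QuotientGroup.mk' H) := kernel_eq_of hD hDk
  have hnilH : Group.IsNilpotent H := by
    have h1 := nilp_kernel hC
    rw [hCk'] at h1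
    exact Group.nilpotent_of_mulEquiv (Subgroup.subgroupOfEquivOfLe hle)
  -- the isomorphism of `C` and `K/H`
  let ψ₀ : C →* G ⧸ H := (QuotientGroup.mk' H).comp (K.subtype.comp C.subtype)
  have hψ₀ : ∀ c : C, ψ₀ c = (((c : K) : G) : G ⧸ H) := fun c => rfl
  have hψinj : Function.Injective ψ₀ := by
    rw [injective_iff_map_eq_one]
    intro c hc
    rw [hψ₀, QuotientGroup.eq_one_iff] at hc
    have h1 : (c : K) ∈ kernel C := by
      rw [hCk', Subgroup.mem_subgroupOf]
      exact hc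
    have h2 := kernel_inf_eq_bot hC
    have h3 : (c : K) ∈ kernel C ⊓ C := ⟨h1, c.2⟩
    rw [h2, Subgroup.mem_bot] at h3
    exact Subtype.ext h3
  have hψrange : ψ₀.range = kernel D := by
    rw [hDk']
    ext y
    constructor
    · rintro ⟨c, rfl⟩
      exact ⟨_, (c : K).2, rfl⟩
    · rintro ⟨k, hk, rfl⟩
      obtain ⟨⟨n, c⟩, hnc⟩ := (kernel_isComplement' hC).2 (⟨k, hk⟩ : K)
      refine ⟨c, ?_⟩
      rw [hψ₀]
      have h1 : (n : K) ∈ H.subgroupOf K := by
        rw [← hCk']
        exact n.2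
      rw [Subgroup.mem_subgroupOf] at h1
      have h2 : ((n : K) : G) * ((c : K) : G) = k := congrArg Subtype.val hnc
      change (((c : K) : G) : G ⧸ H) = (k : G ⧸ H)
      rw [← h2, QuotientGroup.mk_mul, (QuotientGroup.eq_one_iff _).2 h1, one_mul]
  let e : C ≃* kernel D := (MonoidHom.ofInjective hψinj).trans (MulEquiv.subgroupCongr hψrange)
  have he : ∀ c : C, ((e c : kernel D) : G ⧸ H) = ψ₀ c := fun c => rfl
  have hCnil : Group.IsNilpotent C := by
    have h1 := nilp_kernel hD
    exact Group.nilpotent_of_mulEquiv e.symm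
  have hCodd : Odd (Nat.card C) := by
    by_contra hodd
    have heven : 2 ∣ Nat.card C := even_iff_two_dvd.1 (Nat.not_odd_iff_even.1 hodd)
    obtain ⟨⟨s, hsC, hs2, huniq, -⟩, -⟩ := Cfsg.Agent.S0068.result (kernel C) C
      (kernel_isComplement' hC) (kernel_ne_bot hC) (hfpf_of hC) heven
    obtain ⟨d, hd, hd1⟩ : ∃ d ∈ D, d ≠ 1 := (Subgroup.ne_bot_iff_exists_ne_one).1 hD.1 |>.elim
      (fun c hc => ⟨c.1, c.2, fun h => hc (Subtype.ext h)⟩)
    have hord : ∀ x : C, orderOf ((e x : kernel D) : G ⧸ H) = orderOf x := by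
      intro x
      rw [Subgroup.orderOf_coe, MulEquiv.orderOf_eq]
    set t : kernel D := e ⟨s, hsC⟩ with ht
    have ht2 : orderOf (t : G ⧸ H) = 2 := by
      rw [ht, hord, Subgroup.orderOf_mk, hs2]
    have hconj : d * (t : G ⧸ H) * d⁻¹ ∈ kernel D := (kernel_normal D).conj_mem _ t.2 d
    have h1 : e.symm ⟨_, hconj⟩ = ⟨s, hsC⟩ := by
      apply Subtype.ext
      apply huniq _ (e.symm ⟨_, hconj⟩).2
      have h2 := hord (e.symm ⟨_, hconj⟩)
      rw [MulEquiv.apply_symm_apply] at h2
      rw [Subgroup.orderOf_coe, ← h2]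
      have h3 : orderOf (d * (t : G ⧸ H) * d⁻¹) = orderOf (t : G ⧸ H) := by
        have := MulEquiv.orderOf_eq (MulAut.conj d) (t : G ⧸ H)
        simpa using this
      rw [h3, ht2]
    have h2 : (⟨_, hconj⟩ : kernel D) = t := by
      have h21 := congrArg e h1
      rwa [MulEquiv.apply_symm_apply] at h21
    have h3 : d * (t : G ⧸ H) * d⁻¹ = t := congrArg Subtype.val h2
    have h4 := eq_one_of_mem_kernel_of_conj_eq hD t.2 hd hd1 h3
    rw [h4, orderOf_one] at ht2
    omega
  haveI hCcyc : IsCyclic C := cyclic_of_nilp_odd hC hCnil hCodd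
  haveI hKbarcyc : IsCyclic (kernel D) := isCyclic_of_surjective e e.surjective
  have hDcomm := comm_of_cyclic_kernel hD hKbarcyc
  haveI hDcyc : IsCyclic D := Cfsg.Agent.Lib.FPF.Complement.isCyclic_of_comm
    (kernel_isComplement' hD) (kernel_ne_bot hD) (hfpf_of hD) D le_rfl hDcomm
  -- the quotient `G/K`
  let π₀ : (G ⧸ H) →* G ⧸ K := QuotientGroup.map H K (MonoidHom.id G) hle
  have hπ₀ : ∀ g : G, π₀ (g : G ⧸ H) = (g : G ⧸ K) := fun g => rfl
  have hπ₀k : ∀ n ∈ kernel D, π₀ n = 1 := by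
    intro n hn
    rw [hDk'] at hn
    obtain ⟨k, hk, rfl⟩ := hn
    change π₀ (k : G ⧸ H) = 1
    rw [hπ₀, QuotientGroup.eq_one_iff]
    exact hk
  have hπsurj : Function.Surjective (π₀.comp D.subtype) := by
    intro x
    obtain ⟨g, rfl⟩ := QuotientGroup.mk_surjective x
    obtain ⟨⟨n, d⟩, hnd⟩ := (kernel_isComplement' hD).2 (g : G ⧸ H)
    refine ⟨d, ?_⟩
    have h1 : (n : G ⧸ H) * (d : G ⧸ H) = (g : G ⧸ H) := hnd
    change π₀ (d : G ⧸ H) = _
    rw [← hπ₀, ← h1, map_mul, hπ₀k _ n.2, one_mul]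
  haveI hGK : IsCyclic (G ⧸ K) := isCyclic_of_surjective _ hπsurj
  -- the numbers
  have hcardH' : Nat.card (H.subgroupOf K) = Nat.card H :=
    Nat.card_congr (Subgroup.subgroupOfEquivOfLe hle).toEquiv
  have hcardCk : Nat.card (kernel C) = Nat.card H := by rw [hCk', hcardH']
  have h1 : Nat.card H * Nat.card C = Nat.card K := by
    rw [← hcardCk]
    exact (kernel_isComplement' hC).card_mul_card
  have h2 : Nat.card K = Nat.card (↥K ⧸ H.subgroupOf K) * Nat.card H := by
    rw [← hcardH']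
    exact Subgroup.card_eq_card_quotient_mul_card_subgroup _
  have hHpos : 0 < Nat.card H := Nat.card_pos
  have hLC : Nat.card (↥K ⧸ H.subgroupOf K) = Nat.card C := by
    have h3 : Nat.card H * Nat.card C = Nat.card H * Nat.card (↥K ⧸ H.subgroupOf K) := by
      rw [h1, h2, mul_comm]
    exact (Nat.eq_of_mul_eq_mul_left hHpos h3).symm
  have hcardKb : Nat.card (kernel D) = Nat.card C := (Nat.card_congr e.toEquiv).symm
  have h3 : Nat.card C * Nat.card D = Nat.card (G ⧸ H) := by
    rw [← hcardKb]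
    exact (kernel_isComplement' hD).card_mul_card
  have h4 : Nat.card G = Nat.card (G ⧸ H) * Nat.card H :=
    Subgroup.card_eq_card_quotient_mul_card_subgroup _
  have h5 : Nat.card G = Nat.card (G ⧸ K) * Nat.card K :=
    Subgroup.card_eq_card_quotient_mul_card_subgroup _
  have hCpos : 0 < Nat.card C := Nat.card_pos
  have hDQ : Nat.card D = Nat.card (G ⧸ K) := by
    have h6 : (Nat.card C * Nat.card H) * Nat.card D = (Nat.card C * Nat.card H) * Nat.card (G ⧸ K) := by
      have h7 : Nat.card (G ⧸ H) * Nat.card H = Nat.card (G ⧸ K) * (Nat.card H * Nat.card C) := by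
        rw [← h4, h5, h1]
      rw [← h3] at h7
      nlinarith
    exact Nat.eq_of_mul_eq_mul_left (Nat.mul_pos hCpos hHpos) h6
  have hGcard : Nat.card G = Nat.card H * Nat.card C * Nat.card D := by
    rw [h4, ← h3]
    ring
  have hc1 : (Nat.card C).Coprime (Nat.card H) := by
    have := coprime_card_kernel hC
    rw [hcardCk] at this
    exact this.symm
  have hc2 : (Nat.card C).Coprime (Nat.card (G ⧸ K)) := by
    have := coprime_card_kernel hD
    rw [hcardKb, hDQ] at this
    exact this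
  have hindD : D.index = Nat.card C := by
    rw [← hcardKb]
    exact (card_kernel hD).symm
  refine ⟨?_, ?_, ?_, hGK, ?_⟩
  · -- solvable
    haveI : Group.IsSolvable H := inferInstance
    haveI hsb : Group.IsSolvable (G ⧸ H) := by
      apply Group.isSolvable_of_ker_le_range (kernel D).subtype π₀
      intro x hx
      obtain ⟨g, rfl⟩ := QuotientGroup.mk_surjective x
      have h6 : ((g : G) : G ⧸ K) = 1 := hx
      have h7 : g ∈ K := (QuotientGroup.eq_one_iff g).1 h6
      have h8 : (g : G ⧸ H) ∈ kernel D := by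
        rw [hDk']
        exact ⟨g, h7, rfl⟩
      exact ⟨⟨_, h8⟩, rfl⟩
    apply Group.isSolvable_of_ker_le_range H.subtype (QuotientGroup.mk' H)
    intro x hx
    have h7 : x ∈ H := (QuotientGroup.eq_one_iff x).1 hx
    exact ⟨⟨x, h7⟩, rfl⟩
  · rw [hLC]
    exact hCodd
  · rw [hLC]
    exact Nat.Coprime.mul_right hc1 hc2
  · intro p q hp hq hpq hpG hqG
    rw [hLC]
    constructor
    · rintro ⟨g, hg⟩
      constructor
      · exact forward hle hC hCk' hD hDk' hc1 hc2 hp hq g hg
      · exact forward hle hC hCk' hD hDk' hc1 hc2 hq hp g (by rw [hg, mul_comm])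
    · intro hiff
      by_cases hpC : p ∣ Nat.card C
      · have hqC := hiff.1 hpC
        -- both divide the order of the cyclic group `C`
        obtain ⟨c, hc⟩ := hCcyc.exists_generator
        have hcord : orderOf c = Nat.card C := orderOf_eq_card_of_forall_mem_zpowers hc
        have hdvd : p * q ∣ orderOf c := by
          rw [hcord]
          exact Nat.Coprime.mul_dvd_of_dvd_of_dvd ((Nat.coprime_primes hp hq).2 hpq) hpC hqC
        have h6 := orderOf_pow_orderOf_div (x := c) (orderOf_pos _).ne' hdvd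
        refine ⟨((c ^ (orderOf c / (p * q)) : C) : K), ?_⟩
        rw [Subgroup.orderOf_coe, Subgroup.orderOf_coe, h6]
      · have hqC : ¬ q ∣ Nat.card C := fun h => hpC (hiff.2 h)
        have hpHD : p ∣ Nat.card H ∨ p ∣ Nat.card D := by
          rw [hGcard] at hpG
          rcases (Nat.Prime.dvd_mul hp).1 hpG with h6 | h6
          · rcases (Nat.Prime.dvd_mul hp).1 h6 with h7 | h7
            · exact Or.inl h7
            · exact absurd h7 hpC
          · exact Or.inr h6
        have hqHD : q ∣ Nat.card H ∨ q ∣ Nat.card D := by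
          rw [hGcard] at hqG
          rcases (Nat.Prime.dvd_mul hq).1 hqG with h6 | h6
          · rcases (Nat.Prime.dvd_mul hq).1 h6 with h7 | h7
            · exact Or.inl h7
            · exact absurd h7 hqC
          · exact Or.inr h6
        have hcopD : (Nat.card H).Coprime D.index := by
          rw [hindD]
          exact hc1.symm
        rcases hpHD with hpH | hpD
        · rcases hqHD with hqH | hqD
          · -- both divide the order of `H`
            haveI : Fact p.Prime := ⟨hp⟩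
            haveI : Fact q.Prime := ⟨hq⟩
            obtain ⟨x, hx⟩ := exists_prime_orderOf_dvd_card' p hpH
            obtain ⟨y, hy⟩ := exists_prime_orderOf_dvd_card' q hqH
            have hxp : x ^ p ^ 1 = 1 := by
              rw [pow_one, ← hx, pow_orderOf_eq_one]
            have hco : (orderOf y).Coprime p := by
              rw [hy]
              exact (Nat.coprime_primes hq hp).2 hpq.symm
            have hcomm := Cfsg.Agent.Lib.SolvStruct.NilpMax.commute_of_nilpotent hnilH hxp hco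
            refine ⟨((x * y : H) : G), ?_⟩
            rw [Subgroup.orderOf_coe, hcomm.orderOf_mul_eq_mul_orderOf_of_coprime (by
              rw [hx, hy]; exact (Nat.coprime_primes hp hq).2 hpq), hx, hy]
          · exact mixed hle hC hCk' hD hDk' hnilH hcopD hp hq hpq hpH hqD
        · rcases hqHD with hqH | hqD
          · obtain ⟨g, hg⟩ := mixed hle hC hCk' hD hDk' hnilH hcopD hq hp hpq.symm hqH hpD
            exact ⟨g, by rw [hg, mul_comm]⟩
          · -- both divide the order of the cyclic group `D`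
            obtain ⟨c, hc⟩ := hDcyc.exists_generator
            have hcord : orderOf c = Nat.card D := orderOf_eq_card_of_forall_mem_zpowers hc
            have hdvd : p * q ∣ orderOf c := by
              rw [hcord]
              exact Nat.Coprime.mul_dvd_of_dvd_of_dvd ((Nat.coprime_primes hp hq).2 hpq) hpD hqD
            obtain ⟨g, hg⟩ := QuotientGroup.mk_surjective (c : G ⧸ H)
            have hg1 : p * q ∣ orderOf g := by
              have h6 : orderOf (QuotientGroup.mk' H g) ∣ orderOf g := orderOf_map_dvd _ g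
              have h7 : QuotientGroup.mk' H g = (c : G ⧸ H) := hg
              rw [h7, Subgroup.orderOf_coe] at h6
              exact hdvd.trans h6
            exact ⟨_, orderOf_pow_orderOf_div (x := g) (orderOf_pos _).ne' hg1⟩

end Cfsg.Agent.S4001
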