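import Cfsg.Statements.S4017
import Cfsg.Agent.Lib.MixedPrime.BranchOne

set_option autoImplicit false
open Cfsg

namespace Cfsg.Agent.S4017

open Cfsg.Agent.Lib.MixedPrime Cfsg.Agent.Lib.Transfer.Frobenius Subgroup

universe u

theorem main_aux : ∀ (n : ℕ) (G : Type u) [Group G] [Finite G], Nat.card G = n →
    ∀ (p q : ℕ), p.Prime → q.Prime → p ≠ q → p ≠ 2 → p ∣ Nat.card G → q ∣ Nat.card G →
    (∀ H : Subgroup G, H ≠ ⊤ → ¬ IsPGroup q H → q ∣ Nat.card H → p ∣ Nat.card H) →
    (q ^ (Nat.card G).factorization q - 1 < p ∨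
      (p = q ^ (Nat.card G).factorization q - 1 ∧ ∀ P : Sylow p G, IsMulCommutative P)) →
    ∀ r : ℕ, r.Prime → r ∣ Nat.card G → r = p ∨ r = q := by
  intro n
  induction n using Nat.strong_induction_on with
  | _ n ih =>
  intro G _ _ hn p q hp hq hpq hp2 hpG hqG hmix hlarge
  rcases hlarge with hl | ⟨hpa, hab⟩
  · exact primes_of_large hp hq hpq hpG hqG hmix hl
  have hq2 : q = 2 := by
    by_contra hq2
    have hodd : Odd q := hq.odd_of_ne_two hq2
    have h1 : Odd (q ^ (Nat.card G).factorization q) := hodd.pow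
    have h2 : 2 ∣ p := by
      rw [hpa]
      have h3 := h1.tsub_odd (odd_one)
      exact h3.two_dvd
    exact hp2 ((Nat.prime_dvd_prime_iff_eq Nat.prime_two hp).1 h2).symm
  subst hq2
  intro r hr hrG
  by_contra hcon
  push Not at hcon
  haveI : Fact p.Prime := ⟨hp⟩
  set a := (Nat.card G).factorization 2 with ha
  have hF1 : ∀ K : Subgroup G, K ≠ ⊤ → 2 ∣ Nat.card K → ∀ r', r'.Prime → r' ∣ Nat.card K →
      r' = p ∨ r' = 2 := by
    intro K hK h2K r' hr' hr'K
    by_cases hKp : IsPGroup 2 K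
    · obtain ⟨k, hk⟩ := IsPGroup.iff_card.1 hKp
      rw [hk] at hr'K
      exact Or.inr ((Nat.prime_dvd_prime_iff_eq hr' Nat.prime_two).1 (hr'.dvd_of_dvd_pow hr'K))
    have hpK := hmix K hK hKp h2K
    have hcard : Nat.card K < n := by
      rw [← hn]
      exact lt_of_le_of_ne (Subgroup.card_le_card_group K)
        (fun h' => hK (Subgroup.eq_top_of_card_eq K h'))
    have hmixK : ∀ H : Subgroup K, H ≠ ⊤ → ¬ IsPGroup 2 H → 2 ∣ Nat.card H → p ∣ Nat.card H := by
      intro H hH hHp h2H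
      have hc : Nat.card (H.map K.subtype) = Nat.card H :=
        Nat.card_congr (H.equivMapOfInjective _ K.subtype_injective).toEquiv.symm
      have hle : H.map K.subtype ≤ K := Subgroup.map_subtype_le H
      have hne : H.map K.subtype ≠ ⊤ := by
        intro h'
        apply hH
        have hKt : K = ⊤ := top_le_iff.1 (h' ▸ hle)
        rw [eq_top_iff]
        intro x _
        have hx : (x : G) ∈ H.map K.subtype := by
          rw [h']
          exact mem_top _
        obtain ⟨z, hz, hzx⟩ := hx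
        have : z = x := Subtype.ext hzx
        rwa [← this]
      have hnP : ¬ IsPGroup 2 (H.map K.subtype) := by
        intro h'
        obtain ⟨k, hk⟩ := IsPGroup.iff_card.1 h'
        rw [hc] at hk
        exact hHp (IsPGroup.of_card hk)
      have := hmix _ hne hnP (by rw [hc]; exact h2H)
      rwa [hc] at this
    have hlargeK : 2 ^ (Nat.card K).factorization 2 - 1 < p ∨
        (p = 2 ^ (Nat.card K).factorization 2 - 1 ∧ ∀ P : Sylow p K, IsMulCommutative P) := by
      have hle : (Nat.card K).factorization 2 ≤ a :=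
        (Nat.factorization_le_iff_dvd Nat.card_pos.ne' Nat.card_pos.ne').2
          (Subgroup.card_subgroup_dvd_card K) 2
      by_cases heq : (Nat.card K).factorization 2 = a
      · right
        rw [heq]
        refine ⟨hpa, ?_⟩
        intro P
        have hP : IsPGroup p ((P : Subgroup K).map K.subtype) := P.isPGroup'.map _
        obtain ⟨P', hP'⟩ := hP.exists_le_sylow
        haveI := hab P'
        refine ⟨⟨fun x y => ?_⟩⟩
        have hx : (x : K).1 ∈ (P' : Subgroup G) := hP' ⟨x.1, x.2, rfl⟩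
        have hy : (y : K).1 ∈ (P' : Subgroup G) := hP' ⟨y.1, y.2, rfl⟩
        have h1 : (⟨_, hx⟩ : (P' : Subgroup G)) * ⟨_, hy⟩ = ⟨_, hy⟩ * ⟨_, hx⟩ := mul_comm' _ _
        have h2 := congrArg Subtype.val h1
        exact Subtype.ext (Subtype.ext h2)
      · left
        have hlt : (Nat.card K).factorization 2 < a := lt_of_le_of_ne hle heq
        have h1 : 2 ^ (Nat.card K).factorization 2 < 2 ^ a :=
          Nat.pow_lt_pow_right (by norm_num) hlt
        have h2 : 1 ≤ 2 ^ (Nat.card K).factorization 2 := Nat.one_le_two_pow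
        rw [hpa]
        omega
    exact ih _ hcard K rfl p 2 hp Nat.prime_two hpq hp2 hpK h2K hmixK hlargeK r' hr' hr'K
  have C : Ctx G p a := ⟨hp, hp2, rfl, hpa, hab, hpG, hqG, hmix, hF1, ⟨r, hr, hrG, hcon.1, hcon.2⟩⟩
  have hnF : ¬ FrobeniusCond 2 G := by
    intro hF
    rcases primes_of_frobeniusCond hp Nat.prime_two hpG hqG hmix hp2 hF r hr hrG with h' | h'
    · exact hcon.1 h'
    · exact hcon.2 h'
  unfold FrobeniusCond at hnF
  push Not at hnF
  obtain ⟨X, hX, g, hg, hco, hgn⟩ := hnF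
  have hX1 : X ≠ ⊥ := by
    rintro rfl
    apply hgn
    rw [Cfsg.Agent.Lib.Transfer.Frobenius.mem_centralizer_iff']
    intro x hx
    rw [Subgroup.mem_bot.1 hx]
    group
  have hpe : PE p g := C.pe_of_nor hX hX1 hg hco
  have hS : ∀ x ∈ (X : Set G) \ {1}, g * x * g⁻¹ ∈ (X : Set G) \ {1} := by
    rintro x ⟨hx, hx1⟩
    refine ⟨(Cfsg.Agent.Lib.Transfer.Frobenius.mem_normalizer_iff'.1 hg x).1 hx, ?_⟩
    intro h'
    apply hx1
    have h'' : g * x * g⁻¹ = 1 := h'
    have h6 : x = g⁻¹ * (g * x * g⁻¹) * g := by group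
    rw [h6, h'']
    simp
  have hSc : ((X : Set G) \ {1}).ncard = Nat.card X - 1 := by
    rw [Set.ncard_sdiff_singleton_of_mem (one_mem X)]
    rfl
  have hmove : ∃ x₀ ∈ (X : Set G) \ {1}, ¬ Commute g x₀ := by
    by_contra hcon2
    push Not at hcon2
    apply hgn
    rw [Cfsg.Agent.Lib.Transfer.Frobenius.mem_centralizer_iff']
    intro x hx
    by_cases hx1 : x = 1
    · rw [hx1]
      group
    have h1 : g * x = x * g := hcon2 x ⟨hx, hx1⟩
    rw [h1]
    group
  obtain ⟨x₀, hx₀, hx₀m⟩ := hmove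
  have hXle : Nat.card X ≤ 2 ^ a := Nat.le_of_dvd (by positivity) (C.card_dvd_two hX)
  have hpow := C.pow_eq
  have hXc : Nat.card X = 2 ^ a := by
    by_contra hne
    have hlt : ((X : Set G) \ {1}).ncard < p := by
      rw [hSc]
      have : 1 ≤ Nat.card X := Nat.card_pos
      omega
    exact hx₀m (conj_trivial hp hpe hS hlt x₀ hx₀)
  have hSp : ((X : Set G) \ {1}).ncard = p := by
    rw [hSc, hXc, hpow]
    simp
  have htr := conj_transitive hp hpe hS hSp hx₀ hx₀m
  have h2X : 2 ∣ Nat.card X := by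
    rw [hXc]
    exact dvd_pow_self 2 (by have := C.two_le; omega)
  obtain ⟨w, hwX, hww, hw1⟩ := Ctx.exists_invol_of_dvd h2X
  have hsq : ∀ x ∈ X, x * x = 1 := by
    intro x hx
    by_cases hx1 : x = 1
    · rw [hx1, one_mul]
    obtain ⟨m, hm⟩ := htr w ⟨hwX, hw1⟩ x ⟨hx, hx1⟩
    rw [← hm]
    calc g ^ m * w * (g ^ m)⁻¹ * (g ^ m * w * (g ^ m)⁻¹) = g ^ m * (w * w) * (g ^ m)⁻¹ := by group
      _ = 1 := by rw [hww]; group
  have hGood : Good p a X g := by
    refine ⟨hXc, hsq, hpe, hg, ?_⟩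
    intro x₁ h₁ h₁' x₂ h₂ h₂'
    exact htr x₁ ⟨h₁, h₁'⟩ x₂ ⟨h₂, h₂'⟩
  by_cases hBI : BI p X
  · exact C.branch_one hGood hBI
  · unfold BI at hBI
    push Not at hBI
    obtain ⟨t, ht, ht1, d, hd, hdt, s, hs, hds⟩ := hBI
    exact C.branch_two hGood ht ht1 hs hd hdt hds

/-- Let G be a finite group and let p and q be distinct primes dividing the order of G, with p odd. Suppose that p divides the order of every proper subgroup of G that is neither a q-group nor of order prime to q. Let q^a be the q-part of the order of G. If p > q^a − 1, or if p = q^a − 1 and the Sylow p-subgroups of G are abelian, then p and q are the only primes dividing the order of G. -/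
theorem result {G : Type*} [Group G] [Finite G]
    {p q : ℕ} (hp : p.Prime) (hq : q.Prime) (hpq : p ≠ q) (hp2 : p ≠ 2)
    (hpG : p ∣ Nat.card G) (hqG : q ∣ Nat.card G)
    (hmix : ∀ H : Subgroup G, H ≠ ⊤ → ¬ IsPGroup q H → q ∣ Nat.card H → p ∣ Nat.card H)
    (hlarge : q ^ (Nat.card G).factorization q - 1 < p ∨
      (p = q ^ (Nat.card G).factorization q - 1 ∧ ∀ P : Sylow p G, IsMulCommutative P)) :
    ∀ r : ℕ, r.Prime → r ∣ Nat.card G → r = p ∨ r = q :=
  main_aux _ G rfl p q hp hq hpq hp2 hpG hqG hmix hlarge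

end Cfsg.Agent.S4017
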