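import Cfsg.Statements.S4039
import Cfsg.Agent.Lib.SolvStruct.NilpMax

set_option autoImplicit false
open Cfsg

namespace Cfsg.Agent.S4039

open scoped commutatorElement

open Cfsg.Agent.Lib.SolvStruct.NilpMax in
theorem aux {G : Type*} [Group G] [Finite G]
    (M : Subgroup G) (hmax : IsCoatom M) (hnil : Group.IsNilpotent M)
    (hcl : ∀ a ∈ M, ∀ b ∈ M, ∀ c ∈ M, ⁅a, b⁆ * c = c * ⁅a, b⁆) :
    Group.IsSolvable G := by
  refine isSolvable_of_step
    (fun (X : Type _) [Group X] (M : Subgroup X) => ∀ a ∈ M, ∀ b ∈ M, ∀ c ∈ M, ⁅a, b⁆ * c = c * ⁅a, b⁆)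
    ?_ ?_ _ G M hmax hnil hcl rfl
  · rintro X Y _ _ _ _ f M h _ ⟨a, ha, rfl⟩ _ ⟨b, hb, rfl⟩ _ ⟨c, hc, rfl⟩
    have := congrArg f (h a ha b hb c hc)
    simpa [map_mul, map_commutatorElement] using this
  · intro X _ _ M q _ P hQ hnil' hPM hcomm hnorm
    exact hasNormalPComplement_of_class_two M P
      (fun a ha b hb c hc => hQ a (hPM ha) b (hPM hb) c (hPM hc)) hcomm hnorm


/-- A finite group possessing a maximal subgroup that is nilpotent of class at most 2 is solvable. -/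
theorem result {G : Type*} [Group G] [Finite G]
    (M : Subgroup G) (hmax : IsCoatom M) (hnil : Group.IsNilpotent M) (hcl : Group.nilpotencyClass ↥M ≤ 2) :
    Group.IsSolvable G := by
  refine aux M hmax hnil ?_
  intro a ha b hb c hc
  have h1 : Subgroup.upperCentralSeries M 2 = ⊤ := by
    rw [Subgroup.upperCentralSeries_eq_top_iff_nilpotencyClass_le]
    exact hcl
  have h2 : (⟨a, ha⟩ : M) ∈ Subgroup.upperCentralSeries M 2 := h1 ▸ Subgroup.mem_top _
  rw [Subgroup.mem_upperCentralSeries_succ_iff] at h2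
  have h3 := h2 ⟨b, hb⟩
  rw [Subgroup.upperCentralSeries_one, Subgroup.mem_center_iff] at h3
  have h4 := congrArg Subtype.val (h3 ⟨c, hc⟩)
  simp only [Subgroup.coe_mul] at h4
  rw [commutatorElement_def]
  exact h4.symm

end Cfsg.Agent.S4039
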