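import Cfsg.Statements.S4040
import Cfsg.Agent.Lib.SolvStruct.NilpMax
import Cfsg.Agent.Lib.Transfer.Basic

set_option autoImplicit false
open Cfsg

namespace Cfsg.Agent.S4040

open Cfsg.Agent.Lib.SolvStruct.NilpMax in
theorem aux {G : Type*} [Group G] [Finite G]
    (M : Subgroup G) (hmax : IsCoatom M) (hnil : Group.IsNilpotent M)
    (hodd : ∀ x ∈ M, Odd (orderOf x)) :
    Group.IsSolvable G := by
  refine isSolvable_of_step
    (fun (X : Type _) [Group X] (M : Subgroup X) => ∀ x ∈ M, Odd (orderOf x))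
    ?_ ?_ _ G M hmax hnil hodd rfl
  · rintro X Y _ _ _ _ f M h _ ⟨a, ha, rfl⟩
    exact Odd.of_dvd_nat (h a ha) (orderOf_map_dvd f a)
  · intro X _ _ M q _ P hQ hnil' hPM hcomm hnorm
    by_cases hP1 : (P : Subgroup X) = ⊥
    · have hq : ¬ q ∣ Nat.card X := by
        intro hq
        exact P.ne_bot_of_dvd_card hq hP1
      exact Cfsg.Agent.Lib.Transfer.Basic.hasNormalPComplement_of_coprime
        ((Fact.out : q.Prime).coprime_iff_not_dvd.mpr hq).symm
    · refine hasNormalPComplement_of_odd ?_ M hnil' P hP1 hnorm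
      rintro rfl
      obtain ⟨x, hxP, hx1⟩ := ((P : Subgroup X).bot_or_exists_ne_one).resolve_left hP1
      obtain ⟨k, hk⟩ := P.isPGroup' ⟨x, hxP⟩
      have hk' : x ^ 2 ^ k = 1 := congrArg Subtype.val hk
      have h1 : orderOf x ∣ 2 ^ k := orderOf_dvd_of_pow_eq_one hk'
      have h2 := hQ x (hPM hxP)
      have h3 : orderOf x = 1 := Nat.Coprime.eq_one_of_dvd
        (Nat.Coprime.pow_right k (Nat.coprime_two_right.2 h2)) h1
      exact hx1 (orderOf_eq_one_iff.1 h3)


/-- A finite group possessing a maximal subgroup that is nilpotent of odd order is solvable. -/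
theorem result {G : Type*} [Group G] [Finite G]
    (M : Subgroup G) (hmax : IsCoatom M) (hnil : Group.IsNilpotent M) (hodd : Odd (Nat.card M)) :
    Group.IsSolvable G := by
  refine aux M hmax hnil ?_
  intro x hx
  have h1 : orderOf (⟨x, hx⟩ : M) ∣ Nat.card M := orderOf_dvd_natCard _
  rw [Subgroup.orderOf_mk] at h1
  exact Odd.of_dvd_nat hodd h1

end Cfsg.Agent.S4040
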