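import Mathlib
import Cfsg.Statements.S4049
import Cfsg.Agent.S4027
import Cfsg.Agent.Lib.Coprime.SchurZassenhaus

set_option autoImplicit false
set_option linter.all false
open Cfsg
open scoped Pointwise

namespace Cfsg.Agent.S4049

open Cfsg.Agent.Lib.Coprime.SchurZassenhaus

universe u

/-- `2`-elements normalizing a nontrivial subgroup of odd order centralize it. -/
def TwoCent (G : Type u) [Group G] : Prop :=
  ∀ H : Subgroup G, H ≠ ⊥ → ¬ 2 ∣ Nat.card H → ∀ v ∈ Subgroup.normalizer (H : Set G),
    (∃ k : ℕ, orderOf v ∣ 2 ^ k) → v ∈ Subgroup.centralizer (H : Set G)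

variable {G : Type u} [Group G]

lemma twoCent_quotient [Finite G] (hG : TwoCent G) (N : Subgroup G) [N.Normal] (hN : IsPGroup 2 N) :
    TwoCent (G ⧸ N) := by
  haveI f2 : Fact (Nat.Prime 2) := ⟨Nat.prime_two⟩
  intro Hb hb1 hbodd ub hub ⟨k, hk⟩
  obtain ⟨u, rfl⟩ := QuotientGroup.mk_surjective ub
  obtain ⟨j, hj⟩ := IsPGroup.iff_card.1 hN
  set L : Subgroup G := Hb.comap (QuotientGroup.mk' N) with hL
  have hNL : N ≤ L := by
    intro n hn
    rw [hL, Subgroup.mem_comap]
    have : (QuotientGroup.mk' N) n = 1 := (QuotientGroup.eq_one_iff n).2 hn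
    rw [this]
    exact Hb.one_mem
  have hmapL : L.map (QuotientGroup.mk' N) = Hb :=
    Subgroup.map_comap_eq_self_of_surjective (QuotientGroup.mk'_surjective N) _
  have hcardL : Nat.card L = Nat.card Hb * Nat.card N := by
    have := card_map_mk_of_le N L hNL
    rw [hmapL] at this
    exact this.symm
  have hcardNL : Nat.card (N.subgroupOf L) = Nat.card N := card_subgroupOf_of_le hNL
  have hidx : (N.subgroupOf L).index = Nat.card Hb := by
    have h1 := (N.subgroupOf L).index_mul_card
    rw [hcardNL, hcardL] at h1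
    exact Nat.eq_of_mul_eq_mul_right Nat.card_pos h1
  have hcopNb : Nat.Coprime (Nat.card N) (Nat.card Hb) := by
    rw [hj]
    exact Nat.Coprime.pow_left j ((Nat.Prime.coprime_iff_not_dvd Nat.prime_two).2 hbodd)
  obtain ⟨H₁, hH₁⟩ := Subgroup.exists_right_complement'_of_coprime (N := N.subgroupOf L)
    (by rw [hcardNL, hidx]; exact hcopNb)
  set H : Subgroup G := H₁.map L.subtype with hH
  have hHL : H ≤ L := Subgroup.map_subtype_le _
  have hcardH₁ : Nat.card H₁ = Nat.card Hb := by
    rw [← hidx]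
    exact hH₁.symm.index_eq_card.symm
  have hcardH : Nat.card H = Nat.card Hb := by
    rw [← hcardH₁]
    exact Subgroup.card_map_of_injective L.subtype_injective
  have hdisj : H ⊓ (QuotientGroup.mk' N).ker = ⊥ := by
    rw [QuotientGroup.ker_mk', inf_comm]
    apply disjoint_of_coprime_card
    rw [hcardH]
    exact hcopNb
  have hmapH : H.map (QuotientGroup.mk' N) = Hb := by
    apply Subgroup.eq_of_le_of_card_ge
    · rw [← hmapL]
      exact Subgroup.map_mono hHL
    · rw [card_map_of_disjoint_ker _ _ hdisj, hcardH]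
  have hH1 : H ≠ ⊥ := by
    intro h
    apply hb1
    rw [← hmapH, h, Subgroup.map_bot]
  have hHodd : ¬ 2 ∣ Nat.card H := by rw [hcardH]; exact hbodd
  -- `u` normalizes `L`
  have huL : ∀ h ∈ L, u * h * u⁻¹ ∈ L := by
    intro h hh
    rw [hL, Subgroup.mem_comap] at hh ⊢
    exact (Subgroup.mem_normalizer_iff.1 hub _).1 hh
  set K : Subgroup G := MulAut.conj u • H with hK
  have hKL : K ≤ L := by
    intro w hw
    rw [hK, mem_conj_smul_iff] at hw
    have h1 := huL _ (hHL hw)
    have h2 : u * (u⁻¹ * w * u) * u⁻¹ = w := by group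
    rwa [h2] at h1
  have hcardK : Nat.card K = Nat.card H := card_conj_smul u H
  haveI : Group.IsSolvable (N.subgroupOf L) := by
    have hp : IsPGroup 2 (N.subgroupOf L) :=
      IsPGroup.comap_of_injective hN _ L.subtype_injective
    haveI : Group.IsNilpotent (N.subgroupOf L) := hp.isNilpotent
    exact inferInstance
  obtain ⟨l, hl⟩ := conj_of_card (N.subgroupOf L) (H.subgroupOf L) (K.subgroupOf L) (Or.inl inferInstance)
    (by rw [hcardNL, card_subgroupOf_of_le hHL, hcardH, hcardL, mul_comm])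
    (by rw [card_subgroupOf_of_le hKL, card_subgroupOf_of_le hHL, hcardK])
    (by rw [hcardNL, card_subgroupOf_of_le hHL, hcardH]; exact hcopNb)
  have hconj : MulAut.conj (l : G) • H = K := conj_of_subgroupOf hHL hKL l hl
  obtain ⟨⟨⟨n, hn⟩, ⟨h, hh⟩⟩, hnh, -⟩ := (Subgroup.isComplement'_def.1 hH₁).existsUnique l
  have hnN : (n : G) ∈ N := Subgroup.mem_subgroupOf.1 hn
  have hhH : (h : G) ∈ H := ⟨h, hh, rfl⟩
  have hlnh : (l : G) = (n : G) * h := (congrArg Subtype.val hnh).symm
  have hHfix : MulAut.conj (h : G) • H = H := by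
    ext w
    rw [mem_conj_smul_iff]
    constructor
    · intro hw
      have h1 := H.mul_mem (H.mul_mem hhH hw) (H.inv_mem hhH)
      have h2 : (h : G) * ((h : G)⁻¹ * w * h) * (h : G)⁻¹ = w := by group
      rwa [h2] at h1
    · intro hw
      exact H.mul_mem (H.mul_mem (H.inv_mem hhH) hw) hhH
  set v : G := (n : G)⁻¹ * u with hv
  have hvH : MulAut.conj v • H = H := by
    have h1 : MulAut.conj ((n : G) : G) • H = K := by
      rw [← hconj, hlnh, conj_mul_smul, hHfix]
    have h2 : MulAut.conj (n : G)⁻¹ • K = H := by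
      rw [← h1, ← conj_mul_smul]
      simp
    rw [hv, conj_mul_smul, ← hK, h2]
  have hvN : v ∈ Subgroup.normalizer (H : Set G) := by
    have hvH' : MulAut.conj v⁻¹ • H = H := by
      have : MulAut.conj v⁻¹ • (MulAut.conj v • H) = H := by
        rw [← conj_mul_smul]
        simp
      rwa [hvH] at this
    rw [Subgroup.mem_normalizer_iff]
    intro w
    have := mem_conj_smul_iff v⁻¹ w H
    rw [hvH', inv_inv] at this
    exact this
  have hvq : ((v : G) : G ⧸ N) = (u : G ⧸ N) := by
    rw [hv, QuotientGroup.mk_mul, QuotientGroup.mk_inv, (QuotientGroup.eq_one_iff (n : G)).2 hnN, inv_one,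
      one_mul]
  have hv2 : ∃ k : ℕ, orderOf v ∣ 2 ^ k := by
    have h1 : v ^ 2 ^ k ∈ N := by
      rw [← QuotientGroup.eq_one_iff, QuotientGroup.mk_pow, hvq]
      exact orderOf_dvd_iff_pow_eq_one.1 hk
    have h2 : (v ^ 2 ^ k) ^ 2 ^ j = 1 := by
      have := pow_card_eq_one' (x := (⟨v ^ 2 ^ k, h1⟩ : N))
      rw [hj] at this
      exact congrArg Subtype.val this
    refine ⟨k + j, orderOf_dvd_of_pow_eq_one ?_⟩
    rw [pow_add, pow_mul]
    exact h2
  have hvC := hG H hH1 hHodd v hvN hv2
  rw [Subgroup.mem_centralizer_iff]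
  intro b hb
  have hb' : b ∈ H.map (QuotientGroup.mk' N) := by rw [hmapH]; exact hb
  obtain ⟨w, hw, rfl⟩ := hb'
  have h1 := Subgroup.mem_centralizer_iff.1 hvC w hw
  rw [← hvq]
  have h2 := congrArg (fun z => ((z : G) : G ⧸ N)) h1
  exact h2

theorem normal_of_twoCent [Finite G] (hG : TwoCent G) (P : Sylow 2 G) : (P : Subgroup G).Normal := by
  haveI f2 : Fact (Nat.Prime 2) := ⟨Nat.prime_two⟩
  induction hn : Nat.card G using Nat.strong_induction_on generalizing G with
  | _ n ih =>
    by_cases h2 : 2 ∣ Nat.card G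
    · obtain ⟨a, ha⟩ := exists_prime_orderOf_dvd_card' (G := G) 2 h2
      have hinv : ∀ z a : G, z ≠ 1 → ¬ 2 ∣ orderOf z → orderOf a = 2 → a * z * a⁻¹ = z⁻¹ → False := by
        intro z a hz hoz ha hazi
        have h4 : a ∈ Subgroup.normalizer ((Subgroup.zpowers z : Subgroup G) : Set G) := by
          rw [Subgroup.mem_normalizer_iff]
          have hainv := Cfsg.Agent.S4027.inv_self ha
          have key : ∀ x ∈ Subgroup.zpowers z, a * x * a⁻¹ ∈ Subgroup.zpowers z := by
            rintro x ⟨k, rfl⟩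
            simp only [← MulAut.conj_apply, map_zpow]
            rw [MulAut.conj_apply, hazi]
            exact Subgroup.zpow_mem _ (Subgroup.inv_mem _ (Subgroup.mem_zpowers z)) k
          intro x
          refine ⟨key x, fun hx => ?_⟩
          have h1 := key _ hx
          have h2 : a * (a * x * a⁻¹) * a⁻¹ = x := by
            have e : a * a = 1 := by
              have h : a ^ 2 = 1 := ha ▸ pow_orderOf_eq_one a
              rwa [pow_two] at h
            rw [hainv]
            calc a * (a * x * a) * a = (a * a) * x * (a * a) := by group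
              _ = x := by rw [e]; group
          rwa [h2] at h1
        have h5 := hG (Subgroup.zpowers z) (by simpa using hz) (by rw [Nat.card_zpowers]; exact hoz)
          a h4 ⟨1, by rw [ha]; norm_num⟩
        have h6 : a * z = z * a := by
          have := Subgroup.mem_centralizer_iff.1 h5 z (Subgroup.mem_zpowers z)
          exact this.symm
        have h7 : a * z * a⁻¹ = z := by rw [h6]; group
        rw [h7] at hazi
        have h8 : z ^ 2 = 1 := by
          rw [pow_two]
          nth_rw 1 [hazi]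
          simp
        have h9 := orderOf_dvd_of_pow_eq_one h8
        rcases (Nat.dvd_prime Nat.prime_two).1 h9 with h | h
        · exact hz (orderOf_eq_one_iff.1 h)
        · rw [h] at hoz
          exact hoz (dvd_refl 2)
      obtain ⟨N, hNn, hN2, haN⟩ := Cfsg.Agent.S4027.exists_normal_two_subgroup hinv ha
      haveI := hNn
      have hN1 : N ≠ ⊥ := by
        rintro rfl
        rw [Subgroup.mem_bot] at haN
        rw [haN, orderOf_one] at ha
        omega
      have hcard : Nat.card (G ⧸ N) < n := by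
        rw [← hn]
        have h3 := Subgroup.card_eq_card_quotient_mul_card_subgroup N
        have h4 : 1 < Nat.card N := by
          have h5 : Nat.card N ≠ 1 := fun h => hN1 (Subgroup.eq_bot_of_card_eq _ h)
          have h6 : 0 < Nat.card N := Nat.card_pos
          omega
        have h7 : 0 < Nat.card (G ⧸ N) := Nat.card_pos
        nlinarith
      have hQ := fun Q : Sylow 2 (G ⧸ N) => ih _ hcard (twoCent_quotient hG N hN2) Q rfl
      exact Cfsg.Agent.S4027.sylow_normal_of_quotient N hN2 hQ P
    · have h3 : Nat.card (P : Subgroup G) = 1 := by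
        obtain ⟨k, hk⟩ := IsPGroup.iff_card.1 P.isPGroup'
        have h4 : k = 0 := by
          by_contra hne
          apply h2
          calc 2 ∣ 2 ^ k := dvd_pow_self 2 hne
            _ = Nat.card (P : Subgroup G) := hk.symm
            _ ∣ Nat.card G := Subgroup.card_subgroup_dvd_card _
        rw [hk, h4, pow_zero]
      rw [Subgroup.eq_bot_of_card_eq _ h3]
      exact Subgroup.normal_bot

/-- Let G be a finite group such that N_G(H)/C_G(H) has odd order for every nontrivial subgroup H of odd order. Then the Sylow 2-subgroups of G are normal. -/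
theorem result {G : Type*} [Group G] [Finite G]
    (hhom : ∀ H : Subgroup G, H ≠ ⊥ → ¬ 2 ∣ Nat.card ↥H →
        ¬ 2 ∣ (Subgroup.centralizer (H : Set G)).relIndex (Subgroup.normalizer (H : Set G))) (P : Sylow 2 G) :
    (P : Subgroup G).Normal := by
  apply normal_of_twoCent _ P
  intro H hH1 hHodd v hv ⟨k, hk⟩
  have hodd := hhom H hH1 hHodd
  set K : Subgroup G := Subgroup.normalizer (H : Set G) with hK
  set Z : Subgroup K := (Subgroup.centralizer (H : Set G)).subgroupOf K with hZ
  have hZn : Z.Normal := by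
    constructor
    rintro ⟨z, hz⟩ hzZ ⟨n, hn⟩
    have hz' : z ∈ Subgroup.centralizer (H : Set G) := Subgroup.mem_subgroupOf.1 hzZ
    rw [Subgroup.mem_subgroupOf]
    change n * z * n⁻¹ ∈ Subgroup.centralizer (H : Set G)
    rw [Subgroup.mem_centralizer_iff]
    intro h hh
    have h1 : n⁻¹ * h * n ∈ H := by
      have := (Subgroup.mem_normalizer_iff.1 (Subgroup.inv_mem _ hn) h).1 hh
      simpa using this
    have h2 := Subgroup.mem_centralizer_iff.1 hz' _ h1
    calc h * (n * z * n⁻¹) = n * ((n⁻¹ * h * n) * z) * n⁻¹ := by group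
      _ = n * (z * (n⁻¹ * h * n)) * n⁻¹ := by rw [h2]
      _ = _ := by group
  have hv' : (⟨v, hv⟩ : K) ^ Z.index ∈ Z := Subgroup.pow_index_mem Z _
  have hZidx : Z.index = (Subgroup.centralizer (H : Set G)).relIndex K := rfl
  rw [← hZidx] at hodd
  have hv2 : (⟨v, hv⟩ : K) ^ 2 ^ k = 1 := by
    apply Subtype.ext
    exact orderOf_dvd_iff_pow_eq_one.1 hk
  have hcop : IsCoprime ((Z.index : ℕ) : ℤ) ((2 ^ k : ℕ) : ℤ) := by
    rw [Nat.isCoprime_iff_coprime]
    exact (Nat.Coprime.pow_left k ((Nat.Prime.coprime_iff_not_dvd Nat.prime_two).2 hodd)).symm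
  obtain ⟨a, b, hab⟩ := hcop
  have h3 : (⟨v, hv⟩ : K) = ((⟨v, hv⟩ : K) ^ Z.index) ^ a * ((⟨v, hv⟩ : K) ^ 2 ^ k) ^ b := by
    rw [← zpow_natCast, ← zpow_natCast _ (2 ^ k), ← zpow_mul, ← zpow_mul, ← zpow_add]
    have : ((Z.index : ℕ) : ℤ) * a + ((2 ^ k : ℕ) : ℤ) * b = 1 := by linarith
    rw [this, zpow_one]
  have h4 : (⟨v, hv⟩ : K) ∈ Z := by
    rw [h3, hv2, one_zpow, mul_one]
    exact Subgroup.zpow_mem _ hv' _
  exact Subgroup.mem_subgroupOf.1 h4

end Cfsg.Agent.S4049
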