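import Cfsg.Statements.S4113
import Mathlib
-- import your own Cfsg.Agent.* helpers here

set_option autoImplicit false
open Cfsg

namespace Cfsg.Agent.S4113



/-- Let G be a finite group, M ≤ N non-trivial proper normal subgroups, and H a subgroup with HM = G and H ∩ M = 1. Then every element of G outside N acts fixed-point-freely on M (C_G(x) ≤ N for every x ∈ M, x ≠ 1) if and only if H ∩ gHg⁻¹ ≤ H ∩ N for every g outside H, with H proper and non-trivial and H ∩ N proper in H. -/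
theorem result {G : Type*} [Group G] [Finite G] (N M : Subgroup G) [N.Normal] [M.Normal] (hMN : M ≤ N) (hM1 : M ≠ ⊥) (hN2 : N ≠ ⊤)
    (H : Subgroup G) (hHM : H ⊔ M = ⊤) (hHM' : H ⊓ M = ⊥) :
    (∀ x ∈ M, x ≠ 1 → Subgroup.centralizer ({x} : Set G) ≤ N) ↔
      (H ≠ ⊥ ∧ H ≠ ⊤ ∧ H ⊓ N < H ∧ ∀ g : G, g ∉ H → H ⊓ H.map (MulAut.conj g).toMonoidHom ≤ N) := by
  classical
  have hH2 : H ≠ ⊤ := by
    rintro rfl
    simp only [top_inf_eq] at hHM'
    exact hM1 hHM'
  have hNleH : ¬ H ≤ N := fun h => hN2 (top_le_iff.1 (hHM ▸ sup_le h hMN))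
  have hH1 : H ≠ ⊥ := by
    rintro rfl
    exact hNleH bot_le
  have hlt : H ⊓ N < H := lt_of_le_of_ne inf_le_left (fun h => hNleH (inf_eq_left.1 h))
  have hfact : ∀ g : G, ∃ m ∈ M, ∃ h ∈ H, g = m * h := by
    intro g
    have h1 : g ∈ ((M ⊔ H : Subgroup G) : Set G) := by
      rw [sup_comm, hHM]; trivial
    rw [Subgroup.normal_mul] at h1
    obtain ⟨m, hm, h, hh, rfl⟩ := Set.mem_mul.1 h1
    exact ⟨m, hm, h, hh, rfl⟩
  have hMH : ∀ z ∈ M, z ∈ H → z = 1 := by
    intro z hz hz'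
    have : z ∈ H ⊓ M := ⟨hz', hz⟩
    rw [hHM'] at this
    exact this
  constructor
  · intro hc
    refine ⟨hH1, hH2, hlt, ?_⟩
    intro g hg y hy
    obtain ⟨hyH, hy2⟩ := hy
    obtain ⟨m, hm, h0, hh0, rfl⟩ := hfact g
    have hm1 : m ≠ 1 := by
      rintro rfl
      apply hg
      simpa using hh0
    obtain ⟨h', hh', rfl⟩ := hy2
    -- y = (m h0) h' (m h0)⁻¹
    set h1 := h0 * h' * h0⁻¹ with hh1
    have hh1H : h1 ∈ H := H.mul_mem (H.mul_mem hh0 hh') (H.inv_mem hh0)
    have hy_eq : (MulAut.conj (m * h0)).toMonoidHom h' = m * h1 * m⁻¹ := by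
      simp [hh1, MulAut.conj_apply]
    rw [hy_eq] at hyH ⊢
    have hz : (m * h1 * m⁻¹) * h1⁻¹ = m * (h1 * m⁻¹ * h1⁻¹) := by group
    have hz1 : (m * h1 * m⁻¹) * h1⁻¹ ∈ M := by
      rw [hz]
      exact M.mul_mem hm (Subgroup.Normal.conj_mem inferInstance _ (M.inv_mem hm) _)
    have hz2 : (m * h1 * m⁻¹) * h1⁻¹ = 1 := hMH _ hz1 (H.mul_mem hyH (H.inv_mem hh1H))
    have hz3 : m * h1 * m⁻¹ = h1 := by
      rw [mul_inv_eq_one] at hz2
      exact hz2
    apply hc m hm hm1
    rw [Subgroup.mem_centralizer_singleton_iff]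
    rw [hz3]
    have : m * h1 = h1 * m := by
      rw [mul_inv_eq_iff_eq_mul] at hz3
      exact hz3
    exact this.symm
  · rintro ⟨-, -, -, hTI⟩ x hx hx1 y hy
    rw [Subgroup.mem_centralizer_singleton_iff] at hy
    by_contra hyN
    obtain ⟨m, hm, h, hh, rfl⟩ := hfact y
    have hhN : h ∉ N := fun hn => hyN (N.mul_mem (hMN hm) hn)
    -- C_M(h) = 1
    have hfpf : ∀ z ∈ M, z * h = h * z → z = 1 := by
      intro z hz hzc
      by_contra hz1
      have hzH : z ∉ H := fun hzH => hz1 (hMH z hz hzH)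
      apply hhN
      apply hTI z hzH
      refine ⟨hh, h, hh, ?_⟩
      simp only [MulAut.conj_apply, MulEquiv.coe_toMonoidHom]
      rw [hzc, mul_inv_cancel_right]
    -- map M → M h surjective
    have hinj : Function.Injective (fun u : M => (⟨(u : G) * h * (u : G)⁻¹ * h⁻¹, by
        have : (u : G) * h * (u : G)⁻¹ * h⁻¹ = (u : G) * (h * (u : G)⁻¹ * h⁻¹) := by group
        rw [this]
        exact M.mul_mem u.2 (Subgroup.Normal.conj_mem inferInstance _ (M.inv_mem u.2) _)⟩ : M)) := by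
      intro u v huv
      have h1 := congrArg Subtype.val huv
      simp only at h1
      have h2 : (u : G) * h * (u : G)⁻¹ = (v : G) * h * (v : G)⁻¹ := mul_right_cancel h1
      have h3 : ((v : G)⁻¹ * u) * h = h * ((v : G)⁻¹ * u) := by
        have : (u : G) * h = (v : G) * h * (v : G)⁻¹ * u := by
          rw [← h2]; group
        calc ((v : G)⁻¹ * u) * h = (v : G)⁻¹ * ((u : G) * h) := by group
          _ = _ := by rw [this]; group
      have h4 := hfpf _ (M.mul_mem (M.inv_mem v.2) u.2) h3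
      apply Subtype.ext
      rw [inv_mul_eq_one] at h4
      exact h4.symm
    have hsurj := (Finite.injective_iff_surjective.1 hinj) ⟨m, hm⟩
    obtain ⟨u, hu⟩ := hsurj
    have hu' : (u : G) * h * (u : G)⁻¹ * h⁻¹ = m := congrArg Subtype.val hu
    have hmh : m * h = (u : G) * h * (u : G)⁻¹ := by
      rw [← hu']; group
    rw [hmh] at hy
    -- h commutes with u⁻¹ x u
    have hz : (u : G)⁻¹ * x * u * h = h * ((u : G)⁻¹ * x * u) := by
      have h5 : x * ((u : G) * h * (u : G)⁻¹) = (u : G) * h * (u : G)⁻¹ * x := hy.symm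
      calc (u : G)⁻¹ * x * u * h = (u : G)⁻¹ * (x * ((u : G) * h * (u : G)⁻¹)) * u := by group
        _ = (u : G)⁻¹ * ((u : G) * h * (u : G)⁻¹ * x) * u := by rw [h5]
        _ = _ := by group
    have h6 : (u : G)⁻¹ * x * u ∈ M := by
      have := Subgroup.Normal.conj_mem (inferInstance : M.Normal) x hx (u : G)⁻¹
      simpa using this
    have h7 := hfpf _ h6 hz
    apply hx1
    have : x = (u : G) * ((u : G)⁻¹ * x * u) * (u : G)⁻¹ := by group
    rw [this, h7]
    group

end Cfsg.Agent.S4113
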