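import Cfsg.Statements.S4249
import Cfsg.Agent.Lib.Kegel.Main

set_option autoImplicit false
open Cfsg

namespace Cfsg.Agent.S4249

/-- Let G be a finite group and p a prime such that G is not a p-group, and suppose the Hughes subgroup H_p(G), generated by all elements g with g^p ≠ 1, is a proper subgroup. Then H_p(G) is nilpotent and has index p in G. -/
theorem result {G : Type*} [Group G] [Finite G] (p : ℕ) (hp : p.Prime) (hG : ¬ IsPGroup p G)
    (hH : Subgroup.closure {g : G | g ^ p ≠ 1} ≠ ⊤) :
    Group.IsNilpotent (Subgroup.closure {g : G | g ^ p ≠ 1}) ∧ (Subgroup.closure {g : G | g ^ p ≠ 1}).index = p := by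
  haveI hfp : Fact p.Prime := ⟨hp⟩
  haveI hn : (Subgroup.closure {g : G | g ^ p ≠ 1}).Normal := by
    constructor
    intro n hn g
    induction hn using Subgroup.closure_induction with
    | mem x hx =>
      apply Subgroup.subset_closure
      intro h
      apply hx
      have h1 : (g * x * g⁻¹) ^ p = g * x ^ p * g⁻¹ := by
        rw [conj_pow]
      rw [h1] at h
      have h2 : x ^ p = g⁻¹ * (g * x ^ p * g⁻¹) * g := by group
      rw [h2, h]
      group
    | one => simp [Subgroup.one_mem]
    | mul x y _ _ hx hy =>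
      have h1 : g * (x * y) * g⁻¹ = (g * x * g⁻¹) * (g * y * g⁻¹) := by group
      rw [h1]
      exact Subgroup.mul_mem _ hx hy
    | inv x _ hx =>
      have h1 : g * x⁻¹ * g⁻¹ = (g * x * g⁻¹)⁻¹ := by group
      rw [h1]
      exact Subgroup.inv_mem _ hx
  have hout : ∀ g, g ∉ Subgroup.closure {g : G | g ^ p ≠ 1} → g ^ p = 1 := by
    intro g hg
    by_contra hcon
    exact hg (Subgroup.subset_closure hcon)
  exact ⟨Cfsg.Agent.Lib.Kegel.Main.nilpotent_of_hughes hp _ G _ hH hout rfl,
    Cfsg.Agent.Lib.Kegel.Main.index_eq _ hH hout hG⟩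

end Cfsg.Agent.S4249
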