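import Cfsg.Statements.S4258
import Cfsg.Agent.S0205
import Cfsg.Agent.Lib.Bry.Frame

set_option autoImplicit false
open Cfsg

namespace Cfsg.Agent.S4258

/-- A 2-soluble finite group is soluble, by the Odd Order Theorem. -/
theorem isSolvable_of_psolvable_two {G : Type*} [Group G] [Finite G] (hG : Cfsg.IsPSolvable 2 G) :
    Group.IsSolvable G := by
  classical
  obtain ⟨n, H, h0, hn, hmono, hnorm, hf⟩ := hG
  have key : ∀ (k : ℕ) (hk : k ≤ n), Group.IsSolvable (H ⟨k, by omega⟩) := by
    intro k
    induction k with
    | zero =>
      intro _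
      have h : H ⟨0, by omega⟩ = ⊥ := h0
      rw [h]
      infer_instance
    | succ k ih =>
      intro hk
      have ih' := ih (by omega)
      set A := H ⟨k, by omega⟩ with hA
      set B := H ⟨k + 1, by omega⟩ with hB
      have hAB : A ≤ B := hmono (by simp [Fin.le_def])
      have hAn : A.Normal := hnorm _
      have hsub : ((A.subgroupOf B).Normal) := by infer_instance
      have hrel := hf ⟨k, by omega⟩
      have hrel' : (∃ m : ℕ, A.relIndex B = 2 ^ m) ∨ (A.relIndex B).Coprime 2 := hrel
      have hcard : Nat.card (B ⧸ A.subgroupOf B) = A.relIndex B := rfl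
      have hQ : Group.IsSolvable (B ⧸ A.subgroupOf B) := by
        rcases hrel' with ⟨m, hm⟩ | hodd
        · have hpg : IsPGroup 2 (B ⧸ A.subgroupOf B) := IsPGroup.of_card (n := m) (by rw [hcard, hm])
          haveI : Fact (Nat.Prime 2) := ⟨Nat.prime_two⟩
          haveI : Group.IsNilpotent (B ⧸ A.subgroupOf B) := hpg.isNilpotent
          infer_instance
        · apply Cfsg.Agent.S0205.result
          rw [hcard]
          exact Nat.odd_iff.mpr (by
            have := Nat.Coprime.symm hodd
            rcases Nat.mod_two_eq_zero_or_one (A.relIndex B) with h | h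
            · exfalso
              have h2 : 2 ∣ A.relIndex B := Nat.dvd_of_mod_eq_zero h
              have := Nat.Coprime.eq_one_of_dvd this h2
              omega
            · exact h)
      have hAsub : Group.IsSolvable (A.subgroupOf B) :=
        Group.isSolvable_of_isSolvable_injective
          (f := (Subgroup.subgroupOfEquivOfLe hAB).toMonoidHom)
          (Subgroup.subgroupOfEquivOfLe hAB).injective
      refine Group.isSolvable_of_ker_le_range (A.subgroupOf B).subtype
        (QuotientGroup.mk' (A.subgroupOf B)) ?_
      rw [QuotientGroup.ker_mk', Subgroup.range_subtype]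
  have hlast := key n le_rfl
  have : H ⟨n, by omega⟩ = ⊤ := hn
  rw [this] at hlast
  exact Group.isSolvable_of_surjective (f := (⊤ : Subgroup G).subtype) (fun g => ⟨⟨g, trivial⟩, rfl⟩)



/-- Let G be a finite 2-soluble group whose Sylow 2-subgroups have exponent dividing 2^e. Then the 2-length of G is at most e. -/
theorem result {G : Type*} [Group G] [Finite G] (hG : Cfsg.IsPSolvable 2 G) (e : ℕ)
    (hexp : ∀ (P : Sylow 2 G), ∀ x ∈ (P : Subgroup G), x ^ 2 ^ e = 1) : Cfsg.PLengthLE 2 e G := by
  classical
  haveI hsolv : Group.IsSolvable G := Cfsg.Agent.S4258.isSolvable_of_psolvable_two hG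
  exact Cfsg.Agent.Lib.Bry.Frame.bryukhanova e hexp

end Cfsg.Agent.S4258
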