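import Cfsg.Statements.S4292
import Cfsg.Agent.Lib.Frobenius.LiftFC
import Cfsg.Agent.Lib.FPF.Basic

set_option autoImplicit false
open Cfsg

namespace Cfsg.Agent.S4292

/-- Let A and B be nontrivial finite groups. Then the direct product A × B occurs as a Frobenius complement if and only if A and B both occur as Frobenius complements and the orders of A and B are coprime. -/
theorem result {A B : Type*} [Group A] [Finite A] [Nontrivial A] [Group B] [Finite B] [Nontrivial B] :
    (∃ (L : Type) (_ : Group L) (_ : Finite L) (H : Subgroup L), Cfsg.IsFrobeniusComplement H ∧ Nonempty ((A × B) ≃* H)) ↔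
    ((∃ (L : Type) (_ : Group L) (_ : Finite L) (H : Subgroup L), Cfsg.IsFrobeniusComplement H ∧ Nonempty (A ≃* H)) ∧
     (∃ (L : Type) (_ : Group L) (_ : Finite L) (H : Subgroup L), Cfsg.IsFrobeniusComplement H ∧ Nonempty (B ≃* H)) ∧
     (Nat.card A).Coprime (Nat.card B)) := by
  classical
  constructor
  · intro hFC
    refine ⟨Cfsg.Agent.Lib.Frobenius.LiftFC.fc_of_injective hFC (MonoidHom.inl A B)
      (fun a b h => (Prod.ext_iff.mp h).1), 
      Cfsg.Agent.Lib.Frobenius.LiftFC.fc_of_injective hFC (MonoidHom.inr A B)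
      (fun a b h => (Prod.ext_iff.mp h).2), ?_⟩
    obtain ⟨r, hr, n, -, hn, τ, hτ⟩ := Cfsg.Agent.Lib.Frobenius.LiftFC.matrix_of_fc hFC
    rw [Nat.coprime_iff_gcd_eq_one] 
    by_contra hne
    obtain ⟨q, hq, hqd⟩ := Nat.exists_prime_and_dvd hne
    haveI : Fact q.Prime := ⟨hq⟩
    have hqA := hqd.trans (Nat.gcd_dvd_left _ _)
    have hqB := hqd.trans (Nat.gcd_dvd_right _ _)
    obtain ⟨a, ha⟩ := exists_prime_orderOf_dvd_card' (G := A) q hqA
    obtain ⟨b, hb⟩ := exists_prime_orderOf_dvd_card' (G := B) q hqB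
    let C : Subgroup (A × B) := (Subgroup.zpowers a).prod (Subgroup.zpowers b)
    haveI : Nonempty (Fin n) := ⟨⟨0, hn⟩⟩
    haveI : NeZero r := ⟨hr.out.ne_zero⟩
    let φ : C →* AddMonoid.End (Fin n → ZMod r) :=
      { toFun := fun c => 
          { toFun := fun v => (τ c : Matrix (Fin n) (Fin n) (ZMod r)).mulVec v
            map_zero' := Matrix.mulVec_zero _
            map_add' := Matrix.mulVec_add _ }
        map_one' := by
          refine AddMonoidHom.ext fun v => ?_
          change (τ ((1 : C) : A × B)).mulVec v = v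
          simp
        map_mul' := fun x y => by
          refine AddMonoidHom.ext fun v => ?_
          change (τ ((x * y : C) : A × B)).mulVec v = (τ x).mulVec ((τ y).mulVec v)
          simp [Matrix.mulVec_mulVec] }
    have hfpf : Cfsg.Agent.Lib.FPF.Basic.IsFPF φ := by
      intro c hc w hw
      exact hτ c (fun h => hc (Subtype.ext h)) w hw
    have hcomm : ∀ x y : C, x * y = y * x := by
      rintro ⟨⟨x1, x2⟩, hx1, hx2⟩ ⟨⟨y1, y2⟩, hy1, hy2⟩
      obtain ⟨i, rfl⟩ := Subgroup.mem_zpowers_iff.mp hx1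
      obtain ⟨j, rfl⟩ := Subgroup.mem_zpowers_iff.mp hx2
      obtain ⟨k, rfl⟩ := Subgroup.mem_zpowers_iff.mp hy1
      obtain ⟨l, rfl⟩ := Subgroup.mem_zpowers_iff.mp hy2
      apply Subtype.ext
      ext
      · exact (Commute.refl a).zpow_zpow i k
      · exact (Commute.refl b).zpow_zpow j l
    haveI := Cfsg.Agent.Lib.FPF.Basic.isCyclic_of_comm hfpf hcomm
    obtain ⟨c, hc⟩ := IsCyclic.exists_generator (α := C)
    have h1 : orderOf c = Nat.card C := orderOf_eq_card_of_forall_mem_zpowers hc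
    have h2 : Nat.card C = q * q := by
      rw [Nat.card_congr (Subgroup.prodEquiv (Subgroup.zpowers a) (Subgroup.zpowers b)).toEquiv,
        Nat.card_prod, Nat.card_zpowers, Nat.card_zpowers, ha, hb]
    have h3 : c ^ q = 1 := by
      obtain ⟨⟨c1, c2⟩, hc1, hc2⟩ := c
      obtain ⟨i, rfl⟩ := Subgroup.mem_zpowers_iff.mp hc1
      obtain ⟨j, rfl⟩ := Subgroup.mem_zpowers_iff.mp hc2
      apply Subtype.ext
      ext
      · change ((a ^ i) ^ q) = 1
        rw [← zpow_natCast, zpow_comm, zpow_natCast, ← ha, pow_orderOf_eq_one, one_zpow]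
      · change ((b ^ j) ^ q) = 1
        rw [← zpow_natCast, zpow_comm, zpow_natCast, ← hb, pow_orderOf_eq_one, one_zpow]
    have h4 : orderOf c ∣ q := orderOf_dvd_of_pow_eq_one h3
    rw [h1, h2] at h4
    have h5 := Nat.le_of_dvd hq.pos h4
    nlinarith [hq.two_le]
  · rintro ⟨hA, hB, hco⟩
    obtain ⟨d, ρA, hd, hfA, -⟩ :=
      Cfsg.Agent.Lib.Frobenius.LiftFC.charZero_of_fc (K := AlgebraicClosure ℚ) hA
    obtain ⟨e, ρB, he, hfB, -⟩ :=
      Cfsg.Agent.Lib.Frobenius.LiftFC.charZero_of_fc (K := AlgebraicClosure ℚ) hB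
    obtain ⟨ρ, hρ⟩ := Cfsg.Agent.Lib.Frobenius.LiftFC.tensor_fpf hco ρA ρB hfA hfB
    haveI : Nonempty (Fin d × Fin e) := ⟨(⟨0, hd⟩, ⟨0, he⟩)⟩
    exact Cfsg.Agent.Lib.Frobenius.LiftFC.fc_of_charZero ρ hρ

end Cfsg.Agent.S4292
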