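import Cfsg.Statements.S4323
import Cfsg.Agent.Lib.FpfPP.Wrap
-- import your own Cfsg.Agent.* helpers here

set_option autoImplicit false
open Cfsg

namespace Cfsg.Agent.S4323

open Cfsg.Agent.Lib.Coprime.Bridge Cfsg.Agent.Lib.FpfPP in
/-- Let `q` be a prime and `A` a non-cyclic group of order `q²` acting by automorphisms on a finite group `G` of order prime to `q`, such that the fixed-point subgroup `C_G(a)` is abelian for every non-identity `a ∈ A`. Then `G` is solvable. -/
theorem result {A G : Type*} [Group A] [Finite A]
    [Group G] [Finite G] [MulDistribMulAction A G] (q : ℕ) (hq : q.Prime) (hA : Nat.card A = q ^ 2) (hnc : ¬ IsCyclic A)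
    (hcop : ¬ q ∣ Nat.card G) (h : ∀ a : A, a ≠ 1 → IsMulCommutative ↥(FixedPoints.subgroup (Subgroup.zpowers a) G)) :
    Group.IsSolvable G := by
  have hb : BaseNT (rangeG A G) (rangeA A G) q := by
    refine ⟨hq, by rw [card_rangeA, hA], ?_, rangeA_le_normalizer_rangeG, by rwa [card_rangeG], ?_⟩
    · intro hc
      apply hnc
      have he : A ≃* rangeA A G := MonoidHom.ofInjective (inA_injective (A := A) (G := G))
      exact isCyclic_of_surjective he.symm.toMonoidHom he.symm.surjective
    · rintro _ ⟨a, rfl⟩ ha1 x hx y hy
      have ha1' : a ≠ 1 := by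
        rintro rfl
        exact ha1 (map_one _)
      obtain ⟨⟨g, rfl⟩, hg⟩ := Subgroup.mem_inf.mp hx
      obtain ⟨⟨k, rfl⟩, hk⟩ := Subgroup.mem_inf.mp hy
      have key : ∀ g : G, (inG g : Gam A G) ∈ Subgroup.centralizer ({(inA a : Gam A G)} : Set (Gam A G)) →
          g ∈ FixedPoints.subgroup (Subgroup.zpowers a) G := by
        intro g hg
        have h1 : a • g = g := by
          apply inG_injective (A := A)
          rw [← inA_conj_inG]
          have := Subgroup.mem_centralizer_iff.mp hg _ rfl
          rw [this]
          group
        rw [FixedPoints.mem_subgroup]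
        rintro ⟨z, n, rfl⟩
        show (a ^ n) • g = g
        have h2 : ∀ m : ℕ, a ^ m • g = g := by
          intro m
          induction m with
          | zero => simp
          | succ m ih => rw [pow_succ, mul_smul, h1, ih]
        cases n with
        | ofNat m => simpa using h2 m
        | negSucc m =>
          have h3 := h2 (m + 1)
          rw [zpow_negSucc, inv_smul_eq_iff, h3]
      have hcomm := (h a ha1').is_comm.comm ⟨g, key g hg⟩ ⟨k, key k hk⟩
      have hgk : g * k = k * g := congrArg Subtype.val hcomm
      rw [← map_mul, ← map_mul, hgk]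
  have hsolv : Group.IsSolvable (rangeG A G) :=
    solvable_internal (Nat.card (rangeG A G)) (Gam A G) (rangeG A G) (rangeA A G) hb le_rfl
  haveI : Group.IsSolvable (inG : G →* Gam A G).range := hsolv
  exact Group.isSolvable_of_isSolvable_injective (f := (inG : G →* Gam A G).rangeRestrict)
    (by
      intro x y hxy
      exact inG_injective (A := A) (by simpa using congrArg Subtype.val hxy))

end Cfsg.Agent.S4323
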