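import Cfsg.Statements.S4347
import Mathlib.GroupTheory.Sylow

set_option autoImplicit false
open Cfsg
open scoped Pointwise

namespace Cfsg.Agent.S4347

/-- Let G be a finite group and p a prime. Say a Sylow p-subgroup Q is redundant when every element of p-power order lies in some Sylow p-subgroup other than Q. Then G has no redundant Sylow p-subgroup if and only if some element of p-power order lies in exactly one Sylow p-subgroup. -/
theorem result {G : Type*} [Group G] [Finite G]
    (p : ℕ) [Fact p.Prime] :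
    (¬ ∃ Q : Sylow p G, ∀ x : G, (∃ k : ℕ, orderOf x = p ^ k) → ∃ P : Sylow p G, P ≠ Q ∧ x ∈ P) ↔
      ∃ x : G, (∃ k : ℕ, orderOf x = p ^ k) ∧ ∃! P : Sylow p G, x ∈ P := by
  constructor
  · intro h
    obtain ⟨Q⟩ : Nonempty (Sylow p G) := inferInstance
    have h' : ∃ x : G, (∃ k : ℕ, orderOf x = p ^ k) ∧ ∀ P : Sylow p G, x ∈ P → P = Q := by
      by_contra hcon
      apply h
      refine ⟨Q, fun x hx => ?_⟩
      by_contra hP
      exact hcon ⟨x, hx, fun P hxP => by
        by_contra hPQ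
        exact hP ⟨P, hPQ, hxP⟩⟩
    obtain ⟨x, hx, hxQ⟩ := h'
    refine ⟨x, hx, ?_⟩
    obtain ⟨k, hk⟩ := hx
    have hP : IsPGroup p (Subgroup.zpowers x) := by
      rw [IsPGroup.iff_card, Nat.card_zpowers]
      exact ⟨k, hk⟩
    obtain ⟨R, hR⟩ := hP.exists_le_sylow
    have hxR : x ∈ R := hR (Subgroup.mem_zpowers x)
    refine ⟨R, hxR, ?_⟩
    intro S hS
    exact (hxQ S hS).trans (hxQ R hxR).symm
  · rintro ⟨x, hx, P₀, hP₀, huniq⟩ ⟨Q, hQ⟩
    obtain ⟨g, hg⟩ := MulAction.exists_smul_eq G P₀ Q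
    have hy : ∃ k : ℕ, orderOf (g * x * g⁻¹) = p ^ k := by
      obtain ⟨k, hk⟩ := hx
      refine ⟨k, ?_⟩
      have : orderOf (g * x * g⁻¹) = orderOf x := by
        have := orderOf_injective (MulAut.conj g).toMonoidHom (MulAut.conj g).injective x
        simpa [MulAut.conj_apply] using this
      rw [this, hk]
    obtain ⟨P, hPQ, hyP⟩ := hQ _ hy
    have h1 : x ∈ g⁻¹ • P := by
      change x ∈ MulAut.conj g⁻¹ • (P : Subgroup G)
      rw [Subgroup.mem_pointwise_smul_iff_inv_smul_mem]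
      have hyP' : g * x * g⁻¹ ∈ (P : Subgroup G) := hyP
      simpa [MulAut.smul_def, MulAut.conj_apply] using hyP'
    have h2 : g⁻¹ • P = P₀ := huniq _ h1
    apply hPQ
    rw [← hg, ← h2, smul_inv_smul]

end Cfsg.Agent.S4347
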