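import Cfsg.Statements.S4348
import Cfsg.Agent.Lib.Core.Basic
import Mathlib.GroupTheory.Sylow

set_option autoImplicit false
open Cfsg

namespace Cfsg.Agent.S4348

/-- Let G be a finite group, p a prime and P a Sylow p-subgroup of G, and let O_p(G) be the largest normal p-subgroup of G. If P/O_p(G) is cyclic, then some element of p-power order of G lies in exactly one Sylow p-subgroup. -/
theorem result {G : Type*} [Group G] [Finite G]
    (p : ℕ) [Fact p.Prime] (P : Sylow p G)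
    [hn : ((Cfsg.pCore p G).subgroupOf (P : Subgroup G)).Normal]
    (hc : IsCyclic ((P : Subgroup G) ⧸ (Cfsg.pCore p G).subgroupOf (P : Subgroup G))) :
    ∃ x : G, (∃ k : ℕ, orderOf x = p ^ k) ∧ ∃! Q : Sylow p G, x ∈ Q := by
  obtain ⟨g, hg⟩ := hc
  obtain ⟨x, rfl⟩ := QuotientGroup.mk_surjective g
  have hxP : ((x : G) : G) ∈ (P : Subgroup G) := x.2
  refine ⟨(x : G), ?_, ?_⟩
  · obtain ⟨k, hk⟩ := IsPGroup.iff_orderOf.mp P.isPGroup' x
    refine ⟨k, ?_⟩
    rw [Subgroup.orderOf_coe, hk]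
  · refine ⟨P, hxP, ?_⟩
    intro Q hQ
    have hPQ : (P : Subgroup G) ≤ (Q : Subgroup G) := by
      intro y hy
      obtain ⟨n, hn⟩ := hg (QuotientGroup.mk (⟨y, hy⟩ : (P : Subgroup G)))
      have h1 : (x ^ n)⁻¹ * ⟨y, hy⟩ ∈ (Cfsg.pCore p G).subgroupOf (P : Subgroup G) := by
        rw [← QuotientGroup.eq]
        rw [← hn]
        simp
      have h2 : ((x : G) ^ n)⁻¹ * y ∈ Cfsg.pCore p G := by
        have := Subgroup.mem_subgroupOf.mp h1
        simpa using this
      have h3 : ((x : G) ^ n)⁻¹ * y ∈ (Q : Subgroup G) :=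
        Cfsg.Agent.Lib.Core.Basic.pCore_le_sylow Q h2
      have h4 : ((x : G) ^ n) ∈ (Q : Subgroup G) := Subgroup.zpow_mem _ hQ n
      have := Subgroup.mul_mem _ h4 h3
      simpa using this
    exact (Sylow.ext (P.is_maximal' Q.isPGroup' hPQ)).symm ▸ rfl

end Cfsg.Agent.S4348
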