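import Cfsg.Statements.S4349
import Mathlib

set_option autoImplicit false
open Cfsg

namespace Cfsg.Agent.S4349

open scoped Pointwise

section forest

variable {Ω : Type*} [Fintype Ω] [DecidableEq Ω]

/-- A laminar family with binary splittings. -/
structure PreForest (𝓕 : Finset (Finset Ω)) : Prop where
  single : ∀ ω, ({ω} : Finset Ω) ∈ 𝓕
  nonempty : ∀ A ∈ 𝓕, A.Nonempty
  laminar : ∀ A ∈ 𝓕, ∀ B ∈ 𝓕, A ⊆ B ∨ B ⊆ A ∨ Disjoint A B
  split : ∀ A ∈ 𝓕, 1 < A.card → ∃ B ∈ 𝓕, ∃ C ∈ 𝓕, Disjoint B C ∧ B ∪ C = A ∧ B.card = C.card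

/-- Maximal members. -/
def IsTop (𝓕 : Finset (Finset Ω)) (A : Finset Ω) : Prop := A ∈ 𝓕 ∧ ∀ C ∈ 𝓕, A ⊆ C → C = A

/-- A forest: maximal members have distinct sizes. -/
structure Forest (𝓕 : Finset (Finset Ω)) : Prop extends PreForest 𝓕 where
  top : ∀ A B, IsTop 𝓕 A → IsTop 𝓕 B → A.card = B.card → A = B

/-- Invariance of a family. -/
def Inv (g : Equiv.Perm Ω) (𝓕 : Finset (Finset Ω)) : Prop := ∀ A ∈ 𝓕, g • A ∈ 𝓕

lemma smul_disjoint (g : Equiv.Perm Ω) {A B : Finset Ω} (h : Disjoint A B) : Disjoint (g • A) (g • B) := by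
  rw [Finset.disjoint_left] at h ⊢
  intro y hy hy'
  obtain ⟨a, ha, rfl⟩ := Finset.mem_smul_finset.1 hy
  exact h ha ((Finset.smul_mem_smul_finset_iff g).1 hy')

namespace PreForest

variable {𝓕 : Finset (Finset Ω)} (F : PreForest 𝓕)
include F

lemma eq_or_disjoint {A B : Finset Ω} (hA : A ∈ 𝓕) (hB : B ∈ 𝓕) (h : A.card = B.card) :
    A = B ∨ Disjoint A B := by
  rcases F.laminar A hA B hB with h1 | h1 | h1
  · exact Or.inl (Finset.eq_of_subset_of_card_le h1 h.ge)
  · exact Or.inl (Finset.eq_of_subset_of_card_le h1 h.le).symm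
  · exact Or.inr h1

lemma eq_of_mem {A B : Finset Ω} (hA : A ∈ 𝓕) (hB : B ∈ 𝓕) (h : A.card = B.card) {ω : Ω}
    (h1 : ω ∈ A) (h2 : ω ∈ B) : A = B :=
  (F.eq_or_disjoint hA hB h).resolve_right (fun hd => Finset.disjoint_left.1 hd h1 h2)

lemma card_pow : ∀ A ∈ 𝓕, ∃ i, A.card = 2 ^ i := by
  intro A
  induction' hn : A.card using Nat.strong_induction_on with n ih generalizing A
  intro hA
  have hpos := (F.nonempty A hA).card_pos
  by_cases h1 : 1 < n
  · obtain ⟨B, hB, C, hC, hd, hu, hc⟩ := F.split A hA (hn ▸ h1)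
    have h2 : A.card = B.card + C.card := by rw [← hu]; exact Finset.card_union_of_disjoint hd
    have hB0 := (F.nonempty B hB).card_pos
    obtain ⟨i, hi⟩ := ih B.card (by omega) B rfl hB
    exact ⟨i + 1, by rw [pow_succ]; omega⟩
  · exact ⟨0, by simp; omega⟩

lemma desc : ∀ B ∈ 𝓕, ∀ ω ∈ B, ∀ i, 2 ^ i ≤ B.card → ∃ C ∈ 𝓕, ω ∈ C ∧ C.card = 2 ^ i ∧ C ⊆ B := by
  intro B
  induction' hn : B.card using Nat.strong_induction_on with n ih generalizing B
  intro hB ω hω i hi
  by_cases h1 : n = 2 ^ i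
  · exact ⟨B, hB, hω, hn.trans h1, subset_rfl⟩
  · have h2 : 2 ^ i < n := by omega
    have h3 : 1 ≤ 2 ^ i := Nat.one_le_two_pow
    obtain ⟨B₁, hB₁, B₂, hB₂, hd, hu, hc⟩ := F.split B hB (by omega)
    have h4 : B.card = B₁.card + B₂.card := by rw [← hu]; exact Finset.card_union_of_disjoint hd
    obtain ⟨m, hm⟩ := F.card_pow B₁ hB₁
    have h5 : n = 2 ^ (m + 1) := by rw [pow_succ]; omega
    have h6 : i < m + 1 := (Nat.pow_lt_pow_iff_right (by norm_num)).1 (h5 ▸ h2)
    have h7 : 2 ^ i ≤ 2 ^ m := Nat.pow_le_pow_right (by norm_num) (by omega)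
    have hpos : 0 < 2 ^ m := by positivity
    rw [← hu, Finset.mem_union] at hω
    rcases hω with hω | hω
    · obtain ⟨C, hC, h8, h9, h10⟩ := ih B₁.card (by omega) B₁ rfl hB₁ ω hω i (by omega)
      exact ⟨C, hC, h8, h9, h10.trans (hu ▸ Finset.subset_union_left)⟩
    · obtain ⟨C, hC, h8, h9, h10⟩ := ih B₂.card (by omega) B₂ rfl hB₂ ω hω i (by omega)
      exact ⟨C, hC, h8, h9, h10.trans (hu ▸ Finset.subset_union_right)⟩

lemma exists_top {A : Finset Ω} (hA : A ∈ 𝓕) : ∃ T, IsTop 𝓕 T ∧ A ⊆ T := by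
  classical
  obtain ⟨T, hT, hmax⟩ := Finset.exists_max_image (𝓕.filter (A ⊆ ·)) Finset.card
    ⟨A, by simp [hA]⟩
  rw [Finset.mem_filter] at hT
  refine ⟨T, ⟨hT.1, fun C hC h => ?_⟩, hT.2⟩
  have : C ∈ 𝓕.filter (A ⊆ ·) := by
    rw [Finset.mem_filter]
    exact ⟨hC, hT.2.trans h⟩
  exact (Finset.eq_of_subset_of_card_le h (hmax C this)).symm

lemma top_eq_or_disjoint {T T' : Finset Ω} (hT : IsTop 𝓕 T) (hT' : IsTop 𝓕 T') :
    T = T' ∨ Disjoint T T' := by
  rcases F.laminar T hT.1 T' hT'.1 with h | h | h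
  · exact Or.inl (hT.2 T' hT'.1 h).symm
  · exact Or.inl (hT'.2 T hT.1 h)
  · exact Or.inr h

lemma parent {A : Finset Ω} (hA : A ∈ 𝓕) (hnt : ¬ IsTop 𝓕 A) :
    ∃ C ∈ 𝓕, ∃ B ∈ 𝓕, Disjoint A B ∧ A ∪ B = C ∧ A.card = B.card := by
  classical
  have h0 : ∃ C₀ ∈ 𝓕, A ⊂ C₀ := by
    by_contra hcon
    push Not at hcon
    apply hnt
    refine ⟨hA, fun C hC h => ?_⟩
    by_contra hne
    exact hcon C hC (Finset.ssubset_iff_subset_ne.2 ⟨h, Ne.symm hne⟩)
  obtain ⟨C₀, hC₀, hAC₀⟩ := h0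
  obtain ⟨C, hC, hmin⟩ := Finset.exists_min_image (𝓕.filter (A ⊂ ·)) Finset.card
    ⟨C₀, by simp [hC₀, hAC₀]⟩
  rw [Finset.mem_filter] at hC
  obtain ⟨hCF, hAC⟩ := hC
  have hApos := (F.nonempty A hA).card_pos
  have hcardC := Finset.card_lt_card hAC
  obtain ⟨B₁, hB₁, B₂, hB₂, hd, hu, hc⟩ := F.split C hCF (by omega)
  obtain ⟨ω, hω⟩ := F.nonempty A hA
  have key : ∀ D₁ ∈ 𝓕, ∀ D₂ ∈ 𝓕, Disjoint D₁ D₂ → D₁ ∪ D₂ = C → D₁.card = D₂.card → ω ∈ D₁ →
      A = D₁ := by
    intro D₁ hD₁ D₂ hD₂ hd' hu' hc' hωD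
    have hcardsum : C.card = D₁.card + D₂.card := by
      rw [← hu']; exact Finset.card_union_of_disjoint hd'
    have hD₂pos := (F.nonempty D₂ hD₂).card_pos
    rcases F.laminar A hA D₁ hD₁ with h | h | h
    · by_contra hne
      have h1 : A ⊂ D₁ := Finset.ssubset_iff_subset_ne.2 ⟨h, hne⟩
      have h2 := hmin D₁ (by simp [hD₁, h1])
      omega
    · by_contra hne
      obtain ⟨y, hy, hy'⟩ := Finset.exists_of_ssubset (Finset.ssubset_iff_subset_ne.2 ⟨h, Ne.symm hne⟩)
      have hyC : y ∈ C := hAC.subset hy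
      rw [← hu', Finset.mem_union] at hyC
      have hyD₂ : y ∈ D₂ := hyC.resolve_left hy'
      rcases F.laminar A hA D₂ hD₂ with h3 | h3 | h3
      · exact Finset.disjoint_left.1 hd' hωD (h3 hω)
      · have h4 : C ⊆ A := by
          rw [← hu']
          exact Finset.union_subset h h3
        exact absurd hAC (by
          intro h5
          exact h5.2 h4)
      · exact Finset.disjoint_left.1 h3 hy hyD₂
    · exact absurd hωD (Finset.disjoint_left.1 h hω)
  have hωC : ω ∈ C := hAC.subset hω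
  rw [← hu, Finset.mem_union] at hωC
  rcases hωC with h | h
  · have := key B₁ hB₁ B₂ hB₂ hd hu hc h
    subst this
    exact ⟨C, hCF, B₂, hB₂, hd, hu, hc⟩
  · have := key B₂ hB₂ B₁ hB₁ hd.symm (by rw [Finset.union_comm]; exact hu) hc.symm h
    subst this
    exact ⟨C, hCF, B₁, hB₁, hd.symm, by rw [Finset.union_comm]; exact hu, hc.symm⟩

lemma child_cases {g : Equiv.Perm Ω} (hg : Inv g 𝓕) {A B C : Finset Ω} (hA : A ∈ 𝓕) (hB : B ∈ 𝓕)
    (hd : Disjoint A B) (hu : A ∪ B = C) (hc : A.card = B.card) (hC : g • C = C) :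
    (g • A = A ∧ g • B = B) ∨ (g • A = B ∧ g • B = A) := by
  have hsub : ∀ y, y ∈ A ∪ B → g • y ∈ A ∪ B := by
    intro y hy
    rw [hu] at hy ⊢
    rw [← hC]
    exact Finset.smul_mem_smul_finset hy
  have hcA : (g • A).card = A.card := Finset.card_smul_finset _ _
  have hcB : (g • B).card = B.card := Finset.card_smul_finset _ _
  obtain ⟨ω, hω⟩ := F.nonempty A hA
  have hωu := hsub ω (Finset.mem_union_left _ hω)
  rw [Finset.mem_union] at hωu
  rcases hωu with h | h
  · left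
    have h1 : g • A = A := F.eq_of_mem (hg A hA) hA hcA (Finset.smul_mem_smul_finset hω) h
    refine ⟨h1, ?_⟩
    apply Finset.eq_of_subset_of_card_le
    · intro y hy
      obtain ⟨z, hz, rfl⟩ := Finset.mem_smul_finset.1 hy
      have h2 := hsub z (Finset.mem_union_right _ hz)
      rw [Finset.mem_union] at h2
      rcases h2 with h2 | h2
      · rw [← h1] at h2
        have h3 := (Finset.smul_mem_smul_finset_iff g).1 h2
        exact absurd hz (Finset.disjoint_left.1 hd h3)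
      · exact h2
    · rw [hcB]
  · right
    have h1 : g • A = B := F.eq_of_mem (hg A hA) hB (hcA.trans hc) (Finset.smul_mem_smul_finset hω) h
    refine ⟨h1, ?_⟩
    apply Finset.eq_of_subset_of_card_le
    · intro y hy
      obtain ⟨z, hz, rfl⟩ := Finset.mem_smul_finset.1 hy
      have h2 := hsub z (Finset.mem_union_right _ hz)
      rw [Finset.mem_union] at h2
      rcases h2 with h2 | h2
      · exact h2
      · rw [← h1] at h2
        have h3 := (Finset.smul_mem_smul_finset_iff g).1 h2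
        exact absurd hz (Finset.disjoint_left.1 hd h3)
    · rw [hcB, hc]

end PreForest

lemma Forest.smul_top {𝓕 : Finset (Finset Ω)} (F : Forest 𝓕) {g : Equiv.Perm Ω} (hg : Inv g 𝓕)
    (hg' : Inv g⁻¹ 𝓕) {T : Finset Ω} (hT : IsTop 𝓕 T) : g • T = T := by
  apply F.top _ _ ?_ hT (Finset.card_smul_finset _ _)
  refine ⟨hg T hT.1, fun C hC h => ?_⟩
  have h1 : T ⊆ g⁻¹ • C := by
    intro y hy
    rw [Finset.mem_inv_smul_finset_iff]
    exact h (Finset.smul_mem_smul_finset hy)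
  have h2 := hT.2 _ (hg' C hC) h1
  rw [← h2, smul_inv_smul]

/-- The automorphism group of a family. -/
def Aut (𝓕 : Finset (Finset Ω)) : Subgroup (Equiv.Perm Ω) where
  carrier := {g | Inv g 𝓕 ∧ Inv g⁻¹ 𝓕}
  mul_mem' := fun {a b} ha hb =>
    ⟨fun A hA => by rw [mul_smul]; exact ha.1 _ (hb.1 A hA),
     fun A hA => by rw [mul_inv_rev, mul_smul]; exact hb.2 _ (ha.2 A hA)⟩
  one_mem' := ⟨fun A hA => by simpa using hA, fun A hA => by simpa using hA⟩
  inv_mem' := fun {a} ha => ⟨ha.2, by rw [inv_inv]; exact ha.1⟩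

lemma odd_eq_one {𝓕 : Finset (Finset Ω)} (F : Forest 𝓕) {g : Equiv.Perm Ω} (hg : g ∈ Aut 𝓕) {m : ℕ}
    (hm : Odd m) (hgm : g ^ m = 1) : g = 1 := by
  have key : ∀ k, ∀ A ∈ 𝓕, Fintype.card Ω - A.card = k → g • A = A := by
    intro k
    induction' k using Nat.strong_induction_on with k ih
    intro A hA hk
    by_cases ht : IsTop 𝓕 A
    · exact F.smul_top hg.1 hg.2 ht
    · obtain ⟨C, hC, B, hB, hd, hu, hc⟩ := F.toPreForest.parent hA ht
      have hcC : C.card = A.card + B.card := by rw [← hu]; exact Finset.card_union_of_disjoint hd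
      have hBpos := (F.nonempty B hB).card_pos
      have hCle : C.card ≤ Fintype.card Ω := Finset.card_le_univ C
      have h1 := ih (Fintype.card Ω - C.card) (by omega) C hC rfl
      rcases F.toPreForest.child_cases hg.1 hA hB hd hu hc h1 with h2 | h2
      · exact h2.1
      · exfalso
        obtain ⟨j, rfl⟩ := hm
        have h3 : ∀ i : ℕ, g ^ (2 * i) • A = A := by
          intro i
          induction i with
          | zero => simp
          | succ i ih' =>
            rw [show 2 * (i + 1) = 2 * i + 1 + 1 by ring, pow_succ, pow_succ, mul_assoc, mul_smul,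
              mul_smul, h2.1, h2.2, ih']
        have h4 : g ^ (2 * j + 1) • A = B := by
          rw [pow_succ', mul_smul, h3, h2.1]
        rw [hgm, one_smul] at h4
        subst h4
        obtain ⟨y, hy⟩ := F.nonempty A hA
        exact Finset.disjoint_left.1 hd hy hy
  apply Equiv.ext
  intro ω
  have h1 := key _ {ω} (F.single ω) rfl
  rw [Finset.smul_finset_singleton, Finset.singleton_inj] at h1
  exact h1

lemma aut_isPGroup {𝓕 : Finset (Finset Ω)} (F : Forest 𝓕) : IsPGroup 2 (Aut 𝓕) := by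
  rintro ⟨g, hg⟩
  obtain ⟨k, m, hm, h⟩ := Nat.exists_eq_two_pow_mul_odd (orderOf_pos g).ne'
  refine ⟨k, Subtype.ext ?_⟩
  have h1 : (g ^ 2 ^ k) ^ m = 1 := by
    rw [← pow_mul, ← h, pow_orderOf_eq_one]
  have h2 : g ^ 2 ^ k ∈ Aut 𝓕 := Subgroup.pow_mem _ hg _
  exact odd_eq_one F h2 hm h1

end forest

section existence

lemma exists_pair {H X : Type*} [Group H] [Finite H] [MulAction H X] (hH : IsPGroup 2 H)
    (𝒳 : Finset X) (h𝒳 : ∀ h : H, ∀ a ∈ 𝒳, h • a ∈ 𝒳) {a b : X} (ha : a ∈ 𝒳) (hb : b ∈ 𝒳)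
    (hab : a ≠ b) :
    ∃ u ∈ 𝒳, ∃ v ∈ 𝒳, u ≠ v ∧ ∀ h : H, (h • u = u ∧ h • v = v) ∨ (h • u = v ∧ h • v = u) ∨
      (h • u ≠ u ∧ h • u ≠ v ∧ h • v ≠ u ∧ h • v ≠ v) := by
  classical
  by_cases hfix : ∀ u ∈ 𝒳, ∀ h : H, h • u = u
  · exact ⟨a, ha, b, hb, hab, fun h => Or.inl ⟨hfix a ha h, hfix b hb h⟩⟩
  push Not at hfix
  obtain ⟨u, hu, h₀, hh₀⟩ := hfix
  haveI : Group.IsNilpotent H := hH.isNilpotent
  obtain ⟨S, hS⟩ : ∃ S : Subgroup H, S = MulAction.stabilizer H u := ⟨_, rfl⟩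
  have hSne : S < ⊤ := by
    rw [lt_top_iff_ne_top]
    intro h
    apply hh₀
    have : h₀ ∈ S := by rw [h]; trivial
    rw [hS] at this
    exact this
  have hN := Group.normalizerCondition_of_isNilpotent S hSne
  obtain ⟨t₀, ht₀N, ht₀S⟩ := SetLike.exists_of_lt hN
  -- an element of square in `S`
  obtain ⟨t, htN, htS, ht2⟩ : ∃ t ∈ Subgroup.normalizer (S : Set H), t ∉ S ∧ t * t ∈ S := by
    obtain ⟨e, he⟩ := hH t₀
    have hex : ∃ i, t₀ ^ 2 ^ i ∈ S := ⟨e, by rw [he]; exact S.one_mem⟩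
    classical
    have hmin := Nat.find_spec hex
    have hne : Nat.find hex ≠ 0 := by
      intro h0
      rw [h0] at hmin
      simp only [pow_zero, pow_one] at hmin
      exact ht₀S hmin
    obtain ⟨i, hi⟩ := Nat.exists_eq_succ_of_ne_zero hne
    refine ⟨t₀ ^ 2 ^ i, Subgroup.pow_mem _ ht₀N _, ?_, ?_⟩
    · exact Nat.find_min hex (by omega)
    · rw [← pow_two, ← pow_mul, ← pow_succ]
      rw [hi] at hmin
      exact hmin
  have memS : ∀ h : H, h ∈ S ↔ h • u = u := by
    intro h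
    rw [hS]
    exact Iff.rfl
  obtain ⟨v, hv⟩ : ∃ v, v = t • u := ⟨_, rfl⟩
  have hSv : ∀ s ∈ S, s • v = v := by
    intro s hs
    have h1 : t⁻¹ * s * t ∈ S := by
      have h2 : t⁻¹ ∈ Subgroup.normalizer (S : Set H) := Subgroup.inv_mem _ htN
      have := (Subgroup.mem_normalizer_iff.1 h2 s).1 hs
      simpa using this
    have h2 := (memS _).1 h1
    rw [hv]
    have : s • t • u = t • (t⁻¹ * s * t) • u := by
      rw [smul_smul, smul_smul]
      congr 1
      group
    rw [this, h2]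
  have htv : t • v = u := by
    rw [hv, smul_smul]
    exact (memS _).1 ht2
  have hne : u ≠ v := by
    intro h
    apply htS
    rw [memS, ← hv]
    exact h.symm
  refine ⟨u, hu, v, ?_, hne, ?_⟩
  · rw [hv]
    exact h𝒳 t u hu
  · intro h
    by_cases h1 : h • u = u
    · exact Or.inl ⟨h1, hSv h ((memS h).2 h1)⟩
    by_cases h2 : h • u = v
    · refine Or.inr (Or.inl ⟨h2, ?_⟩)
      have h3 : t⁻¹ * h ∈ S := by
        rw [memS, mul_smul, h2, hv, inv_smul_smul]
      have h4 := hSv _ h3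
      rw [mul_smul, inv_smul_eq_iff] at h4
      rw [h4, htv]
    by_cases h3 : h • v = u
    · exfalso
      have h4 : h * t ∈ S := by
        rw [memS, mul_smul, ← hv, h3]
      have h5 := hSv _ h4
      rw [mul_smul, htv] at h5
      exact h2 h5
    by_cases h4 : h • v = v
    · exfalso
      have h5 : t⁻¹ * h * t ∈ S := by
        rw [memS, mul_smul, mul_smul, ← hv, h4, hv, inv_smul_smul]
      have h6 : h ∈ S := by
        have := (Subgroup.mem_normalizer_iff.1 htN _).1 h5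
        have e : t * (t⁻¹ * h * t) * t⁻¹ = h := by group
        rwa [e] at this
      exact h1 ((memS h).1 h6)
    exact Or.inr (Or.inr ⟨h1, h2, h3, h4⟩)

variable {Ω : Type*} [Fintype Ω] [DecidableEq Ω]

lemma singletons_preForest : PreForest (Finset.univ.image (fun ω : Ω => ({ω} : Finset Ω))) where
  single := fun ω => Finset.mem_image_of_mem _ (Finset.mem_univ ω)
  nonempty := by
    intro A hA
    obtain ⟨ω, -, rfl⟩ := Finset.mem_image.1 hA
    exact Finset.singleton_nonempty ω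
  laminar := by
    intro A hA B hB
    obtain ⟨a, -, rfl⟩ := Finset.mem_image.1 hA
    obtain ⟨b, -, rfl⟩ := Finset.mem_image.1 hB
    by_cases h : a = b
    · subst h
      exact Or.inl subset_rfl
    · right; right
      simpa using h
  split := by
    intro A hA h
    obtain ⟨a, -, rfl⟩ := Finset.mem_image.1 hA
    simp at h

lemma exists_forest (H : Subgroup (Equiv.Perm Ω)) (hH : IsPGroup 2 H) :
    ∃ 𝓕 : Finset (Finset Ω), Forest 𝓕 ∧ ∀ g ∈ H, Inv g 𝓕 := by
  classical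
  obtain ⟨𝓕, h𝓕⟩ := Set.Finite.exists_maximal
    (Set.toFinite {𝓕 : Finset (Finset Ω) | PreForest 𝓕 ∧ ∀ g ∈ H, Inv g 𝓕})
    ⟨Finset.univ.image (fun ω : Ω => ({ω} : Finset Ω)), singletons_preForest, by
      intro g _ A hA
      obtain ⟨a, -, rfl⟩ := Finset.mem_image.1 hA
      rw [Finset.smul_finset_singleton]
      exact Finset.mem_image_of_mem _ (Finset.mem_univ _)⟩
  obtain ⟨⟨F, hinv⟩, hmax⟩ := h𝓕
  refine ⟨𝓕, ⟨F, ?_⟩, hinv⟩
  intro A B hA hB hAB
  by_contra hne
  -- tops of a given size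
  have htopsmul : ∀ (g : Equiv.Perm Ω), g ∈ H → ∀ T, IsTop 𝓕 T → IsTop 𝓕 (g • T) := by
    intro g hg T hT
    refine ⟨hinv g hg T hT.1, fun C hC h => ?_⟩
    have h1 : T ⊆ g⁻¹ • C := by
      intro y hy
      rw [Finset.mem_inv_smul_finset_iff]
      exact h (Finset.smul_mem_smul_finset hy)
    have h2 := hT.2 _ (hinv g⁻¹ (H.inv_mem hg) C hC) h1
    rw [← h2, smul_inv_smul]
  obtain ⟨U, hU, V, hV, hUV, htri⟩ := exists_pair (H := H) (X := Finset Ω) hH
    (𝓕.filter (fun T => IsTop 𝓕 T ∧ T.card = A.card))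
    (by
      intro h T hT
      rw [Finset.mem_filter] at hT ⊢
      refine ⟨hinv h h.2 T hT.1, htopsmul h h.2 T hT.2.1, ?_⟩
      rw [← hT.2.2]
      exact Finset.card_smul_finset (h : Equiv.Perm Ω) T)
    (a := A) (b := B)
    (by rw [Finset.mem_filter]; exact ⟨hA.1, hA, rfl⟩)
    (by rw [Finset.mem_filter]; exact ⟨hB.1, hB, hAB.symm⟩) hne
  rw [Finset.mem_filter] at hU hV
  have hUt := hU.2.1
  have hVt := hV.2.1
  have hcUV : U.card = V.card := hU.2.2.trans hV.2.2.symm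
  have hdUV : Disjoint U V := (F.top_eq_or_disjoint hUt hVt).resolve_left hUV
  -- the new family
  let 𝓖 : Finset (Finset Ω) := 𝓕 ∪ Finset.univ.filter (fun W => ∃ g ∈ H, W = g • U ∪ g • V)
  have memG : ∀ W, W ∈ 𝓖 ↔ W ∈ 𝓕 ∨ ∃ g ∈ H, W = g • U ∪ g • V := by
    intro W
    simp [𝓖]
  have hsub : 𝓕 ≤ 𝓖 := fun W hW => (memG W).2 (Or.inl hW)
  have hUVnot : U ∪ V ∉ 𝓕 := by
    intro h
    have h1 := hUt.2 _ h Finset.subset_union_left
    have h2 : V ⊆ U := by
      rw [← h1]
      exact Finset.subset_union_right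
    exact hUV (Finset.eq_of_subset_of_card_le h2 hcUV.le).symm
  have hnew : 𝓖 ≤ 𝓕 := by
    apply hmax
    · refine ⟨⟨fun ω => hsub (F.single ω), ?_, ?_, ?_⟩, ?_⟩
      · intro W hW
        rcases (memG W).1 hW with h | ⟨g, hg, rfl⟩
        · exact F.nonempty W h
        · exact ((F.nonempty U hUt.1).smul_finset).mono Finset.subset_union_left
      · -- laminarity
        have hone : ∀ E ∈ 𝓕, ∀ g ∈ H, E ⊆ g • U ∪ g • V ∨ Disjoint E (g • U ∪ g • V) := by
          intro E hE g hg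
          obtain ⟨T, hT, hET⟩ := F.exists_top hE
          rcases F.top_eq_or_disjoint hT (htopsmul g hg U hUt) with h | h
          · left
            rw [← h]
            exact hET.trans Finset.subset_union_left
          · rcases F.top_eq_or_disjoint hT (htopsmul g hg V hVt) with h' | h'
            · left
              rw [← h']
              exact hET.trans Finset.subset_union_right
            · right
              rw [Finset.disjoint_union_right]
              exact ⟨Finset.disjoint_of_subset_left hET h, Finset.disjoint_of_subset_left hET h'⟩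
        intro W hW W' hW'
        rcases (memG W).1 hW with h | ⟨g, hg, rfl⟩
        · rcases (memG W').1 hW' with h' | ⟨g', hg', rfl⟩
          · exact F.laminar W h W' h'
          · rcases hone W h g' hg' with h2 | h2
            · exact Or.inl h2
            · exact Or.inr (Or.inr h2)
        · rcases (memG W').1 hW' with h' | ⟨g', hg', rfl⟩
          · rcases hone W' h' g hg with h2 | h2
            · exact Or.inr (Or.inl h2)
            · exact Or.inr (Or.inr h2.symm)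
          · -- two new sets
            have hk : g⁻¹ * g' ∈ H := H.mul_mem (H.inv_mem hg) hg'
            have e1 : ∀ Y : Finset Ω, g' • Y = g • ((g⁻¹ * g') • Y) := by
              intro Y
              rw [smul_smul, mul_inv_cancel_left]
            rcases htri ⟨_, hk⟩ with ⟨h1, h2⟩ | ⟨h1, h2⟩ | ⟨h1, h2, h3, h4⟩
            · left
              have h1' : (g⁻¹ * g') • U = U := h1
              have h2' : (g⁻¹ * g') • V = V := h2
              rw [e1 U, e1 V, h1', h2']
            · left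
              have h1' : (g⁻¹ * g') • U = V := h1
              have h2' : (g⁻¹ * g') • V = U := h2
              rw [e1 U, e1 V, h1', h2', Finset.union_comm]
            · right; right
              have h1' : (g⁻¹ * g') • U ≠ U := h1
              have h2' : (g⁻¹ * g') • U ≠ V := h2
              have h3' : (g⁻¹ * g') • V ≠ U := h3
              have h4' : (g⁻¹ * g') • V ≠ V := h4
              have hku := htopsmul _ hk U hUt
              have hkv := htopsmul _ hk V hVt
              rw [e1 U, e1 V, ← Finset.smul_finset_union, ← Finset.smul_finset_union]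
              apply smul_disjoint
              rw [Finset.disjoint_union_left, Finset.disjoint_union_right, Finset.disjoint_union_right]
              exact ⟨⟨(F.top_eq_or_disjoint hUt hku).resolve_left (Ne.symm h1'),
                  (F.top_eq_or_disjoint hUt hkv).resolve_left (Ne.symm h3')⟩,
                ⟨(F.top_eq_or_disjoint hVt hku).resolve_left (Ne.symm h2'),
                  (F.top_eq_or_disjoint hVt hkv).resolve_left (Ne.symm h4')⟩⟩
      · -- splitting
        intro W hW hc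
        rcases (memG W).1 hW with h | ⟨g, hg, rfl⟩
        · obtain ⟨B₁, h1, B₂, h2, h3, h4, h5⟩ := F.split W h hc
          exact ⟨B₁, hsub h1, B₂, hsub h2, h3, h4, h5⟩
        · refine ⟨g • U, hsub (hinv g hg U hUt.1), g • V, hsub (hinv g hg V hVt.1),
            smul_disjoint g hdUV, rfl, ?_⟩
          rw [Finset.card_smul_finset, Finset.card_smul_finset, hcUV]
      · -- invariance
        intro g hg W hW
        rcases (memG W).1 hW with h | ⟨k, hk, rfl⟩
        · exact hsub (hinv g hg W h)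
        · refine (memG _).2 (Or.inr ⟨g * k, H.mul_mem hg hk, ?_⟩)
          rw [Finset.smul_finset_union, smul_smul, smul_smul]
    · exact hsub
  apply hUVnot
  apply hnew
  refine (memG _).2 (Or.inr ⟨1, H.one_mem, ?_⟩)
  rw [one_smul, one_smul]

end existence

section numeric

lemma sum_Ico_two (n : ℕ) (h : 1 ≤ n) : ∑ i ∈ Finset.Ico 1 n, 2 ^ i + 2 = 2 ^ n := by
  induction n, h using Nat.le_induction with
  | base => simp
  | succ m hm ih =>
    rw [Finset.sum_Ico_succ_top hm, pow_succ]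
    omega

lemma numeric (T : Finset ℕ) (hT : ∀ e ∈ T, 1 ≤ e) (f b : ℕ) (hf : f ≤ 2)
    (h : ∑ e ∈ T, 2 ^ e + f = 2 ^ b) :
    (f = 0 ∧ T = {b}) ∨ (f = 1 ∧ b = 0) ∨ (f = 2 ∧ T = Finset.Ico 1 b) := by
  have hinj := Finset.geomSum_injective (n := 2) le_rfl
  have hf' : f = 0 ∨ f = 1 ∨ f = 2 := by omega
  rcases hf' with rfl | rfl | rfl
  · left
    refine ⟨rfl, hinj ?_⟩
    simpa using h
  · right; left
    refine ⟨rfl, ?_⟩
    have h0 : 0 ∉ T := fun h0 => by
      have := hT 0 h0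
      omega
    have h1 : insert 0 T = ({b} : Finset ℕ) := by
      apply hinj
      simp only [Finset.sum_insert h0, Finset.sum_singleton, pow_zero]
      omega
    have h2 : (0 : ℕ) ∈ ({b} : Finset ℕ) := by
      rw [← h1]
      exact Finset.mem_insert_self _ _
    simpa [eq_comm] using h2
  · right; right
    refine ⟨rfl, ?_⟩
    have hb : 1 ≤ b := by
      by_contra h1
      have : b = 0 := by omega
      subst this
      simp at h
    apply hinj
    have := sum_Ico_two b hb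
    simp only
    omega

end numeric

section classify

variable {Ω : Type*} [Fintype Ω] [DecidableEq Ω] (x : Equiv.Perm Ω)

/-- The cycle through a point, as a set. -/
def cyc (ω : Ω) : Finset Ω := Finset.univ.filter (fun y => x.SameCycle ω y)

lemma mem_cyc {ω y : Ω} : y ∈ cyc x ω ↔ x.SameCycle ω y := by simp [cyc]

/-- The set of fixed points. -/
def Fx : Finset Ω := Finset.univ.filter (fun ω => x ω = ω)

lemma mem_Fx {ω : Ω} : ω ∈ Fx x ↔ x ω = ω := by simp [Fx]

/-- The hypotheses on `x`. -/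
structure Hyp : Prop where
  fix_le : (Fx x).card ≤ 2
  pow2 : ∀ ω, ∃ e, (cyc x ω).card = 2 ^ e
  inj : ∀ ω ω', x ω ≠ ω → x ω' ≠ ω' → (cyc x ω).card = (cyc x ω').card → x.SameCycle ω ω'

variable {x}

lemma self_mem_cyc (ω : Ω) : ω ∈ cyc x ω := (mem_cyc x).2 (Equiv.Perm.SameCycle.refl _ _)

lemma cyc_fixed {ω : Ω} (h : x ω = ω) : cyc x ω = {ω} := by
  ext y
  rw [mem_cyc, Finset.mem_singleton]
  constructor
  · rintro ⟨i, rfl⟩
    exact Equiv.Perm.zpow_apply_eq_self_of_apply_eq_self h i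
  · rintro rfl
    exact Equiv.Perm.SameCycle.refl _ _

lemma two_le_card_cyc {ω : Ω} (h : x ω ≠ ω) : 2 ≤ (cyc x ω).card := by
  have h1 : 1 < (cyc x ω).card := Finset.one_lt_card.2
    ⟨ω, self_mem_cyc ω, x ω, (mem_cyc x).2 (Equiv.Perm.sameCycle_apply_right.2 (Equiv.Perm.SameCycle.refl _ _)),
      Ne.symm h⟩
  exact h1

lemma cyc_sub {A : Finset Ω} (hA : x • A = A) {ω : Ω} (hω : ω ∈ A) : cyc x ω ⊆ A := by
  intro y hy
  obtain ⟨i, rfl⟩ := (mem_cyc x).1 hy
  have h1 : x ∈ MulAction.stabilizer (Equiv.Perm Ω) A := hA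
  have h2 : (x ^ i) • A = A := Subgroup.zpow_mem _ h1 i
  rw [← h2]
  exact Finset.smul_mem_smul_finset hω

lemma cyc_eq_of_sameCycle {ω y : Ω} (h : x.SameCycle ω y) : cyc x ω = cyc x y := by
  ext z
  rw [mem_cyc, mem_cyc]
  exact ⟨fun h1 => h.symm.trans h1, fun h1 => h.trans h1⟩

variable (H : Hyp x)
include H

lemma pow_log (ω : Ω) : 2 ^ Nat.log 2 (cyc x ω).card = (cyc x ω).card := by
  obtain ⟨e, he⟩ := H.pow2 ω
  rw [he, Nat.log_pow (by norm_num)]

lemma invariant_cases {A : Finset Ω} (hA : x • A = A) {b : ℕ} (hb : A.card = 2 ^ b) :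
    (Disjoint A (Fx x) ∧ ∀ ω ∈ A, A = cyc x ω) ∨ (A.card = 1) ∨
      (Fx x ⊆ A ∧ (Fx x).card = 2 ∧ (∀ ω ∈ A, x ω ≠ ω → (cyc x ω).card < A.card) ∧
        (∀ j, 1 ≤ j → j < b → ∃ ω ∈ A, x ω ≠ ω ∧ (cyc x ω).card = 2 ^ j)) := by
  classical
  obtain ⟨M, hM⟩ : ∃ M, M = A.filter (fun ω => x ω ≠ ω) := ⟨_, rfl⟩
  obtain ⟨f, hf⟩ : ∃ f, f = A.filter (fun ω => x ω = ω) := ⟨_, rfl⟩
  have hsum : f.card + M.card = A.card := by
    have := Finset.card_filter_add_card_filter_not (s := A) (fun ω => x ω = ω)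
    rw [hf, hM]
    exact this
  have hfF : f ⊆ Fx x := by
    intro y hy
    rw [hf, Finset.mem_filter] at hy
    exact (mem_Fx x).2 hy.2
  have hfle : f.card ≤ 2 := (Finset.card_le_card hfF).trans H.fix_le
  let e : Ω → ℕ := fun ω => Nat.log 2 (cyc x ω).card
  have he : ∀ ω, 2 ^ e ω = (cyc x ω).card := pow_log H
  have hmoved : ∀ ω ∈ M, x ω ≠ ω ∧ ω ∈ A := by
    intro ω hω
    rw [hM, Finset.mem_filter] at hω
    exact ⟨hω.2, hω.1⟩
  have hfib : ∀ ω₀ ∈ M, M.filter (fun ω => e ω = e ω₀) = cyc x ω₀ := by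
    intro ω₀ hω₀
    obtain ⟨h1, h2⟩ := hmoved ω₀ hω₀
    ext y
    rw [Finset.mem_filter]
    constructor
    · rintro ⟨hy, hey⟩
      obtain ⟨h3, h4⟩ := hmoved y hy
      have h5 : (cyc x ω₀).card = (cyc x y).card := by
        rw [← he, ← he, hey]
      exact (mem_cyc x).2 (H.inj _ _ h1 h3 h5)
    · intro hy
      have h3 : x.SameCycle ω₀ y := (mem_cyc x).1 hy
      have h4 : y ∈ A := cyc_sub hA h2 hy
      have h5 : x y ≠ y := fun h => h1 (h3.apply_eq_self_iff.2 h)
      refine ⟨?_, ?_⟩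
      · rw [hM, Finset.mem_filter]
        exact ⟨h4, h5⟩
      · show Nat.log 2 _ = Nat.log 2 _
        rw [cyc_eq_of_sameCycle h3]
  have hsumM : ∑ i ∈ M.image e, 2 ^ i = M.card := by
    rw [Finset.card_eq_sum_card_image e M]
    apply Finset.sum_congr rfl
    intro i hi
    obtain ⟨ω₀, hω₀, rfl⟩ := Finset.mem_image.1 hi
    rw [hfib ω₀ hω₀, he]
  have hT : ∀ i ∈ M.image e, 1 ≤ i := by
    intro i hi
    obtain ⟨ω₀, hω₀, rfl⟩ := Finset.mem_image.1 hi
    have h1 := two_le_card_cyc (hmoved ω₀ hω₀).1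
    rw [← he] at h1
    by_contra h2
    have h3 : e ω₀ = 0 := by omega
    rw [h3] at h1
    simp at h1
  have hnum : ∑ i ∈ M.image e, 2 ^ i + f.card = 2 ^ b := by
    rw [hsumM, ← hb, ← hsum]
    ring
  rcases numeric (M.image e) hT f.card b hfle hnum with ⟨h1, h2⟩ | ⟨h1, h2⟩ | ⟨h1, h2⟩
  · left
    have hempty : f = ∅ := Finset.card_eq_zero.1 h1
    have hmv : ∀ ω ∈ A, x ω ≠ ω := by
      intro ω hω h
      have : ω ∈ f := by
        rw [hf, Finset.mem_filter]
        exact ⟨hω, h⟩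
      rw [hempty] at this
      simp at this
    constructor
    · rw [Finset.disjoint_left]
      intro ω hω hω'
      exact hmv ω hω ((mem_Fx x).1 hω')
    · intro ω hω
      have h3 : ω ∈ M := by
        rw [hM, Finset.mem_filter]
        exact ⟨hω, hmv ω hω⟩
      have h4 : e ω ∈ M.image e := Finset.mem_image_of_mem _ h3
      rw [h2, Finset.mem_singleton] at h4
      symm
      apply Finset.eq_of_subset_of_card_le (cyc_sub hA hω)
      rw [← he, h4, hb]
  · right; left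
    rw [hb, h2, pow_zero]
  · right; right
    have h3 : f = Fx x := by
      apply Finset.eq_of_subset_of_card_le hfF
      rw [h1]
      exact H.fix_le
    refine ⟨?_, ?_, ?_, ?_⟩
    · rw [← h3]
      intro y hy
      rw [hf, Finset.mem_filter] at hy
      exact hy.1
    · rw [← h3, h1]
    · intro ω hω hmv
      have h4 : ω ∈ M := by
        rw [hM, Finset.mem_filter]
        exact ⟨hω, hmv⟩
      have h5 : e ω ∈ M.image e := Finset.mem_image_of_mem _ h4
      rw [h2, Finset.mem_Ico] at h5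
      rw [← he, hb]
      exact Nat.pow_lt_pow_right (by norm_num) h5.2
    · intro j hj1 hj2
      have h4 : j ∈ M.image e := by
        rw [h2, Finset.mem_Ico]
        exact ⟨hj1, hj2⟩
      obtain ⟨ω, hω, rfl⟩ := Finset.mem_image.1 h4
      obtain ⟨h5, h6⟩ := hmoved ω hω
      exact ⟨ω, h6, h5, (he ω).symm⟩

variable {𝓕 : Finset (Finset Ω)} (F : Forest 𝓕) (hx : Inv x 𝓕) (hx' : Inv x⁻¹ 𝓕)
include F hx hx'

lemma noninv : ∀ k, ∀ A ∈ 𝓕, Fintype.card Ω - A.card = k → x • A ≠ A →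
    ∃ B ∈ 𝓕, A ⊆ B ∧ x • B = B ∧ Disjoint B (Fx x) := by
  intro k
  induction' k using Nat.strong_induction_on with k ih
  intro A hA hk hne
  have ht : ¬ IsTop 𝓕 A := fun ht => hne (F.smul_top hx hx' ht)
  obtain ⟨C, hC, B, hB, hd, hu, hc⟩ := F.toPreForest.parent hA ht
  have hcC : C.card = A.card + B.card := by rw [← hu]; exact Finset.card_union_of_disjoint hd
  have hBpos := (F.nonempty B hB).card_pos
  have hCle : C.card ≤ Fintype.card Ω := Finset.card_le_univ C
  have hAC : A ⊆ C := hu ▸ Finset.subset_union_left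
  by_cases hCinv : x • C = C
  · rcases F.toPreForest.child_cases hx hA hB hd hu hc hCinv with h | h
    · exact absurd h.1 hne
    · refine ⟨C, hC, hAC, hCinv, ?_⟩
      rw [Finset.disjoint_left]
      intro y hy hy'
      have hfix : x • y = y := (mem_Fx x).1 hy'
      rw [← hu, Finset.mem_union] at hy
      rcases hy with hy | hy
      · have h1 : x • y ∈ x • A := Finset.smul_mem_smul_finset hy
        rw [hfix, h.1] at h1
        exact Finset.disjoint_left.1 hd hy h1
      · have h1 : x • y ∈ x • B := Finset.smul_mem_smul_finset hy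
        rw [hfix, h.2] at h1
        exact Finset.disjoint_left.1 hd h1 hy
  · obtain ⟨D, hD, h1, h2, h3⟩ := ih (Fintype.card Ω - C.card) (by omega) C hC rfl hCinv
    exact ⟨D, hD, hAC.trans h1, h2, h3⟩

lemma sub_cyc_of_noninv {A : Finset Ω} (hA : A ∈ 𝓕) (hne : x • A ≠ A) {ω : Ω} (hω : ω ∈ A) :
    A ⊆ cyc x ω := by
  obtain ⟨B, hB, hAB, hBinv, hBd⟩ := noninv H F hx hx' _ A hA rfl hne
  obtain ⟨b, hb⟩ := F.toPreForest.card_pow B hB
  rcases invariant_cases H hBinv hb with h | h | h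
  · rw [← h.2 ω (hAB hω)]
    exact hAB
  · exfalso
    obtain ⟨y, hy⟩ := Finset.card_eq_one.1 h
    have hAy : A = B := by
      apply Finset.eq_of_subset_of_card_le hAB
      rw [h]
      exact (F.nonempty A hA).card_pos
    exact hne (hAy ▸ hBinv)
  · exfalso
    have h1 : (Fx x).Nonempty := by
      rw [← Finset.card_pos, h.2.1]
      norm_num
    obtain ⟨y, hy⟩ := h1
    exact Finset.disjoint_left.1 hBd (h.1 hy) hy

lemma kind_le {A : Finset Ω} (hA : A ∈ 𝓕) {ω : Ω} (hω : ω ∈ A) (hle : A.card ≤ (cyc x ω).card) :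
    A ⊆ cyc x ω := by
  by_cases hinv : x • A = A
  · obtain ⟨b, hb⟩ := F.toPreForest.card_pow A hA
    rcases invariant_cases H hinv hb with h | h | h
    · rw [← h.2 ω hω]
    · obtain ⟨y, hy⟩ := Finset.card_eq_one.1 h
      rw [hy] at hω ⊢
      rw [Finset.mem_singleton] at hω
      subst hω
      rw [Finset.singleton_subset_iff]
      exact self_mem_cyc _
    · exfalso
      by_cases hfix : x ω = ω
      · rw [cyc_fixed hfix, Finset.card_singleton] at hle
        have := Finset.card_le_card h.1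
        rw [h.2.1] at this
        omega
      · have := h.2.2.1 ω hω hfix
        omega
  · exact sub_cyc_of_noninv H F hx hx' hA hinv hω

lemma kind_gt {A : Finset Ω} (hA : A ∈ 𝓕) {ω : Ω} (hω : ω ∈ A) (hgt : (cyc x ω).card < A.card) :
    x • A = A ∧ Fx x ⊆ A ∧ (Fx x).card = 2 ∧ (∀ y ∈ A, x y ≠ y → (cyc x y).card < A.card) ∧
      (∀ j, 1 ≤ j → 2 ^ j < A.card → ∃ y ∈ A, x y ≠ y ∧ (cyc x y).card = 2 ^ j) := by
  have hinv : x • A = A := by
    by_contra hne
    have := Finset.card_le_card (sub_cyc_of_noninv H F hx hx' hA hne hω)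
    omega
  obtain ⟨b, hb⟩ := F.toPreForest.card_pow A hA
  rcases invariant_cases H hinv hb with h | h | h
  · rw [← h.2 ω hω] at hgt
    omega
  · have := (Finset.card_pos.2 ⟨ω, self_mem_cyc ω⟩ : 0 < (cyc x ω).card)
    omega
  · refine ⟨hinv, h.1, h.2.1, h.2.2.1, ?_⟩
    intro j hj1 hj2
    rw [hb] at hj2
    exact h.2.2.2 j hj1 ((Nat.pow_lt_pow_iff_right (by norm_num)).1 hj2)

end classify

section cyclic

lemma subgroup_eq_of_card {Γ : Type*} [Group Γ] [Finite Γ] [IsCyclic Γ] (S S' : Subgroup Γ)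
    (h : Nat.card S = Nat.card S') : S = S' := by
  classical
  haveI := Fintype.ofFinite Γ
  have key : ∀ (S : Subgroup Γ) (y : Γ), y ∈ S ↔ y ^ (Nat.card S) = 1 := by
    intro S y
    constructor
    · intro hy
      exact orderOf_dvd_iff_pow_eq_one.1 (Subgroup.orderOf_dvd_natCard S hy)
    · intro hy
      have hpos : 0 < Nat.card S := Nat.card_pos
      have hle := IsCyclic.card_pow_eq_one_le (α := Γ) hpos
      have hsub : (Finset.univ.filter (fun a => a ∈ S)) ⊆
          Finset.univ.filter (fun a : Γ => a ^ Nat.card S = 1) := by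
        intro a ha
        rw [Finset.mem_filter] at ha ⊢
        exact ⟨ha.1, orderOf_dvd_iff_pow_eq_one.1 (Subgroup.orderOf_dvd_natCard S ha.2)⟩
      have hcard : (Finset.univ.filter (fun a => a ∈ S)).card = Nat.card S := by
        rw [Nat.card_eq_fintype_card, Fintype.card_subtype]
      have heq := Finset.eq_of_subset_of_card_le hsub (by rw [hcard]; exact hle)
      have h1 : y ∈ Finset.univ.filter (fun a : Γ => a ^ Nat.card S = 1) := by
        rw [Finset.mem_filter]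
        exact ⟨Finset.mem_univ _, hy⟩
      rw [← heq, Finset.mem_filter] at h1
      exact h1.2
  ext y
  rw [key S, key S', h]

lemma block_unique {Γ Y : Type*} [Group Γ] [Finite Γ] [IsCyclic Γ] [MulAction Γ Y] [DecidableEq Y]
    (ω : Y) (hfree : ∀ γ : Γ, γ • ω = ω → γ = 1) (A A' : Finset Y) (hω : ω ∈ A) (hω' : ω ∈ A')
    (hA : ∀ a ∈ A, ∃ γ : Γ, γ • ω = a ∧ γ • A = A)
    (hA' : ∀ a ∈ A', ∃ γ : Γ, γ • ω = a ∧ γ • A' = A') (hc : A.card = A'.card) : A = A' := by
  have hcard : ∀ B : Finset Y, ω ∈ B → (∀ a ∈ B, ∃ γ : Γ, γ • ω = a ∧ γ • B = B) →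
      Nat.card (MulAction.stabilizer Γ B) = B.card := by
    intro B hB hB'
    have hmem : ∀ γ : MulAction.stabilizer Γ B, (γ : Γ) • ω ∈ B := by
      rintro ⟨γ, hγ⟩
      have hγ' : γ • B = B := hγ
      have h1 : γ • ω ∈ γ • B := Finset.smul_mem_smul_finset hB
      rw [hγ'] at h1
      exact h1
    let f : MulAction.stabilizer Γ B → B := fun γ => ⟨(γ : Γ) • ω, hmem γ⟩
    have hf : Function.Bijective f := by
      constructor
      · rintro ⟨γ, hγ⟩ ⟨γ', hγ'⟩ h
        have h1 : γ • ω = γ' • ω := congrArg Subtype.val h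
        have h2 : γ'⁻¹ * γ = 1 := hfree _ (by rw [mul_smul, h1, inv_smul_smul])
        apply Subtype.ext
        show γ = γ'
        rw [← mul_left_cancel_iff (a := γ'⁻¹), h2, inv_mul_cancel]
      · rintro ⟨a, ha⟩
        obtain ⟨γ, h1, h2⟩ := hB' a ha
        exact ⟨⟨γ, h2⟩, Subtype.ext h1⟩
    rw [Nat.card_congr (Equiv.ofBijective f hf), Nat.card_eq_fintype_card, Fintype.card_coe]
  have hS := subgroup_eq_of_card _ _ ((hcard A hω hA).trans (hc.trans (hcard A' hω' hA').symm))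
  apply Finset.eq_of_subset_of_card_le _ hc.ge
  intro a ha
  obtain ⟨γ, h1, h2⟩ := hA a ha
  have h3 : γ ∈ MulAction.stabilizer Γ A' := by
    rw [← hS]
    exact h2
  have h3' : γ • A' = A' := h3
  rw [← h3', ← h1]
  exact Finset.smul_mem_smul_finset hω'

variable {Ω : Type*} [Fintype Ω] [DecidableEq Ω] {x : Equiv.Perm Ω}

lemma inv_pow {𝓕 : Finset (Finset Ω)} (hx : Inv x 𝓕) (i : ℕ) : Inv (x ^ i) 𝓕 := by
  induction i with
  | zero =>
    intro A hA
    simpa using hA
  | succ i ih =>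
    intro A hA
    rw [pow_succ, mul_smul]
    exact ih _ (hx A hA)

lemma block_eq {𝓕 𝓕' : Finset (Finset Ω)} (F : Forest 𝓕) (F' : Forest 𝓕') (hx : Inv x 𝓕)
    (hy : Inv x 𝓕') {A A' : Finset Ω} (hA : A ∈ 𝓕) (hA' : A' ∈ 𝓕') {ω : Ω} (hω : ω ∈ A)
    (hω' : ω ∈ A') (hc : A.card = A'.card) (hs : A ⊆ cyc x ω) (hs' : A' ⊆ cyc x ω) : A = A' := by
  by_cases hfix : x ω = ω
  · rw [cyc_fixed hfix] at hs hs'
    have h1 : A = {ω} := Finset.Subset.antisymm hs (Finset.singleton_subset_iff.2 hω)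
    have h2 : A' = {ω} := Finset.Subset.antisymm hs' (Finset.singleton_subset_iff.2 hω')
    rw [h1, h2]
  obtain ⟨c, hcdef⟩ : ∃ c, c = x.cycleOf ω := ⟨_, rfl⟩
  have hcyc : c.IsCycle := hcdef ▸ Equiv.Perm.isCycle_cycleOf x hfix
  have hcω : c ω ≠ ω := by
    rw [hcdef, Equiv.Perm.cycleOf_apply_self]
    exact hfix
  have hfree : ∀ γ : Subgroup.zpowers c, γ • ω = ω → γ = 1 := by
    rintro ⟨g, hg⟩ h
    obtain ⟨k, rfl⟩ := Submonoid.mem_powers_iff _ _ |>.1 (mem_powers_iff_mem_zpowers.2 hg)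
    have h1 : (c ^ k) ω = ω := h
    apply Subtype.ext
    exact (hcyc.pow_eq_one_iff' hcω).2 h1
  have hgen : ∀ (𝓖 : Finset (Finset Ω)) (_ : Forest 𝓖) (_ : Inv x 𝓖) (B : Finset Ω) (_ : B ∈ 𝓖) (_ : B ⊆ cyc x ω)
      (_ : ω ∈ B), ∀ a ∈ B, ∃ γ : Subgroup.zpowers c, γ • ω = a ∧ γ • B = B := by
    intro 𝓖 G hG B hB hBs hωB a ha
    obtain ⟨i, -, hi⟩ := ((mem_cyc x).1 (hBs ha)).exists_pow_eq'
    have hpow : ∀ y ∈ B, (c ^ i) y = (x ^ i) y := by
      intro y hyB
      have h1 : x.SameCycle ω y := (mem_cyc x).1 (hBs hyB)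
      rw [hcdef, h1.cycleOf_eq, Equiv.Perm.cycleOf_pow_apply_self]
    have hBB : (x ^ i) • B = B := by
      apply G.toPreForest.eq_of_mem (inv_pow hG i B hB) hB (Finset.card_smul_finset _ _) (ω := a) _ ha
      rw [← hi]
      exact Finset.smul_mem_smul_finset hωB
    refine ⟨⟨c ^ i, Subgroup.pow_mem _ (Subgroup.mem_zpowers c) i⟩, ?_, ?_⟩
    · show (c ^ i) ω = a
      rw [hcdef, Equiv.Perm.cycleOf_pow_apply_self, hi]
    · conv_rhs => rw [← hBB]
      ext z
      simp only [Finset.mem_smul_finset]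
      constructor
      · rintro ⟨y, hyB, rfl⟩
        exact ⟨y, hyB, (hpow y hyB).symm⟩
      · rintro ⟨y, hyB, rfl⟩
        exact ⟨y, hyB, hpow y hyB⟩
  exact block_unique (Γ := Subgroup.zpowers c) ω hfree A A' hω hω'
    (hgen 𝓕 F hx A hA hs hω) (hgen 𝓕' F' hy A' hA' hs' hω') hc

lemma forest_subset (H : Hyp x) {𝓕 𝓕' : Finset (Finset Ω)} (F : Forest 𝓕) (F' : Forest 𝓕')
    (hx : Inv x 𝓕) (hx' : Inv x⁻¹ 𝓕) (hy : Inv x 𝓕') (hy' : Inv x⁻¹ 𝓕') : 𝓕 ⊆ 𝓕' := by
  intro A hA
  obtain ⟨ω, hω⟩ := F.nonempty A hA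
  obtain ⟨a, ha⟩ := F.toPreForest.card_pow A hA
  have hmemcard : ∀ y, x y ≠ y → ∃ j, 1 ≤ j ∧ (cyc x y).card = 2 ^ j := by
    intro y hy0
    obtain ⟨j, hj⟩ := H.pow2 y
    refine ⟨j, ?_, hj⟩
    have := two_le_card_cyc hy0
    rw [hj] at this
    by_contra h0
    have : j = 0 := by omega
    subst this
    simp at *
  by_cases hle : A.card ≤ (cyc x ω).card
  · have hAsub := kind_le H F hx hx' hA hω hle
    obtain ⟨T, hT, hTs⟩ := F'.toPreForest.exists_top (F'.single ω)
    have hωT : ω ∈ T := hTs (Finset.mem_singleton_self ω)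
    have hTinv := F'.smul_top hy hy' hT
    have hcT : (cyc x ω).card ≤ T.card := Finset.card_le_card (cyc_sub hTinv hωT)
    obtain ⟨A', hA', hωA', hcA', -⟩ := F'.toPreForest.desc T hT.1 ω hωT a (by rw [← ha]; omega)
    have hA'sub : A' ⊆ cyc x ω := kind_le H F' hy hy' hA' hωA' (by omega)
    have := block_eq F F' hx hy hA hA' hω hωA' (by omega) hAsub hA'sub
    rw [this]
    exact hA'
  · have hgt : (cyc x ω).card < A.card := by omega
    obtain ⟨hinv, hF, hF2, hlt, hex⟩ := kind_gt H F hx hx' hA hω hgt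
    obtain ⟨ω₀, hω₀⟩ : (Fx x).Nonempty := by
      rw [← Finset.card_pos, hF2]
      norm_num
    have hfx : ∀ y ∈ Fx x, x y = y := fun y hy => (mem_Fx x).1 hy
    obtain ⟨T, hT, hTs⟩ := F'.toPreForest.exists_top (F'.single ω₀)
    have hωT : ω₀ ∈ T := hTs (Finset.mem_singleton_self ω₀)
    have hTinv := F'.smul_top hy hy' hT
    obtain ⟨t, ht⟩ := F'.toPreForest.card_pow T hT.1
    -- `T` contains all fixed points
    obtain ⟨hT1, hT2, hT3⟩ : Fx x ⊆ T ∧ (∀ y ∈ T, x y ≠ y → (cyc x y).card < T.card) ∧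
        (∀ j, 1 ≤ j → j < t → ∃ y ∈ T, x y ≠ y ∧ (cyc x y).card = 2 ^ j) := by
      rcases invariant_cases H hTinv ht with h | h | h
      · exact absurd hω₀ (Finset.disjoint_left.1 h.1 hωT)
      · exfalso
        obtain ⟨ω₁, hω₁, hne⟩ := Finset.exists_mem_ne (by rw [hF2]; norm_num) ω₀
        obtain ⟨T₁, hT₁, hT₁s⟩ := F'.toPreForest.exists_top (F'.single ω₁)
        have hωT₁ : ω₁ ∈ T₁ := hT₁s (Finset.mem_singleton_self ω₁)
        have hT₁inv := F'.smul_top hy hy' hT₁
        obtain ⟨t₁, ht₁⟩ := F'.toPreForest.card_pow T₁ hT₁.1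
        obtain ⟨z, hz⟩ := Finset.card_eq_one.1 h
        rcases invariant_cases H hT₁inv ht₁ with h' | h' | h'
        · exact Finset.disjoint_left.1 h'.1 hωT₁ hω₁
        · have h1 := F'.top T T₁ hT hT₁ (by omega)
          rw [← h1, hz, Finset.mem_singleton] at hωT₁
          rw [hz, Finset.mem_singleton] at hωT
          exact hne (hωT₁.trans hωT.symm)
        · have h1 : ω₀ ∈ T₁ := h'.1 hω₀
          have h2 := (F'.toPreForest.top_eq_or_disjoint hT hT₁).resolve_right
            (fun hd => Finset.disjoint_left.1 hd hωT h1)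
          have h3 : ω₁ ∈ T := by rw [h2]; exact hωT₁
          rw [hz, Finset.mem_singleton] at h3 hωT
          exact hne (h3.trans hωT.symm)
      · exact ⟨h.1, h.2.2.1, h.2.2.2⟩
    have hTcard : 2 ≤ T.card := by
      have := Finset.card_le_card hT1
      omega
    have hAT : A.card ≤ T.card := by
      by_contra hcon
      have ht1 : 1 ≤ t := by
        by_contra h0
        have : t = 0 := by omega
        subst this
        simp at ht
        omega
      obtain ⟨y, hyA, hymv, hycard⟩ := hex t ht1 (by rw [← ht]; omega)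
      have hyT : y ∉ T := by
        intro h
        have := hT2 y h hymv
        omega
      obtain ⟨T₂, hT₂, hT₂s⟩ := F'.toPreForest.exists_top (F'.single y)
      have hyT₂ : y ∈ T₂ := hT₂s (Finset.mem_singleton_self y)
      have hT₂inv := F'.smul_top hy hy' hT₂
      obtain ⟨t₂, ht₂⟩ := F'.toPreForest.card_pow T₂ hT₂.1
      rcases invariant_cases H hT₂inv ht₂ with h' | h' | h'
      · have h1 := h'.2 y hyT₂
        have h2 := F'.top T T₂ hT hT₂ (by rw [h1, hycard, ht])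
        rw [h2] at hyT
        exact hyT hyT₂
      · have h1 := Finset.card_le_card (cyc_sub hT₂inv hyT₂)
        have h2 := two_le_card_cyc hymv
        omega
      · have h1 : ω₀ ∈ T₂ := h'.1 hω₀
        have h2 := (F'.toPreForest.top_eq_or_disjoint hT hT₂).resolve_right
          (fun hd => Finset.disjoint_left.1 hd hωT h1)
        rw [h2] at hyT
        exact hyT hyT₂
    have hωT' : ω ∈ T := by
      by_cases hfix : x ω = ω
      · exact hT1 ((mem_Fx x).2 hfix)
      · obtain ⟨j, hj1, hj2⟩ := hmemcard ω hfix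
        have hj3 : j < t := by
          rw [← Nat.pow_lt_pow_iff_right (a := 2) (by norm_num), ← hj2, ← ht]
          omega
        obtain ⟨y, hyT, hymv, hyc⟩ := hT3 j hj1 hj3
        have h1 : x.SameCycle y ω := H.inj y ω hymv hfix (by rw [hyc, hj2])
        exact cyc_sub hTinv hyT ((mem_cyc x).2 h1)
    obtain ⟨A', hA', hωA', hcA', -⟩ := F'.toPreForest.desc T hT.1 ω hωT' a (by rw [← ha]; exact hAT)
    have hgt' : (cyc x ω).card < A'.card := by omega
    obtain ⟨hinv', hF', -, -, hex'⟩ := kind_gt H F' hy hy' hA' hωA' hgt'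
    have hsub : A ⊆ A' := by
      intro y hyA
      by_cases hfix : x y = y
      · exact hF' ((mem_Fx x).2 hfix)
      · obtain ⟨j, hj1, hj2⟩ := hmemcard y hfix
        have h1 := hlt y hyA hfix
        obtain ⟨z, hzA, hzmv, hzc⟩ := hex' j hj1 (by rw [← hj2]; omega)
        have h2 : x.SameCycle z y := H.inj z y hzmv hfix (by rw [hzc, hj2])
        exact cyc_sub hinv' hzA ((mem_cyc x).2 h2)
    have := Finset.eq_of_subset_of_card_le hsub (by omega)
    rw [this]
    exact hA'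

theorem unique_sylow (H : Hyp x) (P P' : Sylow 2 (Equiv.Perm Ω)) (hP : x ∈ P) (hP' : x ∈ P') :
    P = P' := by
  have key : ∀ Q : Sylow 2 (Equiv.Perm Ω), x ∈ Q → ∃ 𝓕 : Finset (Finset Ω), Forest 𝓕 ∧
      Inv x 𝓕 ∧ Inv x⁻¹ 𝓕 ∧ (Q : Subgroup (Equiv.Perm Ω)) = Aut 𝓕 := by
    intro Q hQ
    obtain ⟨𝓕, F, hinv⟩ := exists_forest (Q : Subgroup (Equiv.Perm Ω)) Q.isPGroup'
    refine ⟨𝓕, F, hinv x hQ, hinv x⁻¹ (Subgroup.inv_mem _ hQ), ?_⟩
    symm
    apply Q.is_maximal' (aut_isPGroup F)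
    intro g hg
    exact ⟨hinv g hg, hinv g⁻¹ (Subgroup.inv_mem _ hg)⟩
  obtain ⟨𝓕, F, h1, h2, h3⟩ := key P hP
  obtain ⟨𝓕', F', h1', h2', h3'⟩ := key P' hP'
  have h4 : 𝓕 = 𝓕' := Finset.Subset.antisymm (forest_subset H F F' h1 h2 h1' h2')
    (forest_subset H F' F h1' h2' h1 h2)
  apply Sylow.ext
  rw [h3, h3', h4]

end cyclic

section final

variable {Ω : Type*} [Fintype Ω] [DecidableEq Ω] {x : Equiv.Perm Ω}

lemma fx_add_support (x : Equiv.Perm Ω) : (Fx x).card + x.support.card = Fintype.card Ω := by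
  have h := Finset.card_filter_add_card_filter_not (s := (Finset.univ : Finset Ω)) (fun ω => x ω = ω)
  rw [Finset.card_univ] at h
  rw [← h]
  congr 1

lemma cyc_eq_support {ω : Ω} (h : x ω ≠ ω) : cyc x ω = (x.cycleOf ω).support := by
  ext y
  rw [mem_cyc, Equiv.Perm.mem_support_cycleOf_iff]
  constructor
  · intro h1
    exact ⟨h1, Equiv.Perm.mem_support.2 h⟩
  · intro h1
    exact h1.1

lemma hyp_of (hk : ∃ k : ℕ, orderOf x = 2 ^ k) (h1 : Fintype.card Ω ≤ x.support.card + 2)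
    (h2 : x.cycleType.Nodup) : Hyp x := by
  obtain ⟨k, hk⟩ := hk
  refine ⟨?_, ?_, ?_⟩
  · have := fx_add_support x
    omega
  · intro ω
    by_cases hfix : x ω = ω
    · exact ⟨0, by rw [cyc_fixed hfix]; simp⟩
    · rw [cyc_eq_support hfix, ← (Equiv.Perm.isCycle_cycleOf x hfix).orderOf]
      have h3 := Equiv.Perm.orderOf_cycleOf_dvd_orderOf x ω
      rw [hk] at h3
      obtain ⟨j, -, hj⟩ := (Nat.dvd_prime_pow Nat.prime_two).1 h3
      exact ⟨j, hj⟩
  · intro ω ω' h3 h4 h5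
    rw [cyc_eq_support h3, cyc_eq_support h4] at h5
    rw [Equiv.Perm.cycleType_def] at h2
    have h6 := Multiset.inj_on_of_nodup_map h2 (x.cycleOf ω)
      (Equiv.Perm.cycleOf_mem_cycleFactorsFinset_iff.2 (Equiv.Perm.mem_support.2 h3))
      (x.cycleOf ω') (Equiv.Perm.cycleOf_mem_cycleFactorsFinset_iff.2 (Equiv.Perm.mem_support.2 h4))
      h5
    have h7 : ω' ∈ (x.cycleOf ω).support := by
      rw [h6, Equiv.Perm.mem_support, Equiv.Perm.cycleOf_apply_self]
      exact h4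
    exact (Equiv.Perm.mem_support_cycleOf_iff.1 h7).1

lemma mem_normalizer_of_commute {G : Type*} [Group G] {y z : G} (hc : Commute y z) :
    y ∈ Subgroup.normalizer ((Subgroup.zpowers z : Subgroup G) : Set G) := by
  rw [Subgroup.mem_normalizer_iff]
  intro w
  have hi : ∀ i : ℤ, y * z ^ i * y⁻¹ = z ^ i := by
    intro i
    rw [((hc.zpow_right i).eq), mul_assoc, mul_inv_cancel, mul_one]
  constructor
  · rintro ⟨i, rfl⟩
    show y * z ^ i * y⁻¹ ∈ _
    rw [hi]
    exact Subgroup.zpow_mem _ (Subgroup.mem_zpowers z) _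
  · rintro ⟨i, hi'⟩
    have h1 : z ^ i = y * w * y⁻¹ := hi'
    have h2 : w = z ^ i := by
      have h3 : y * w * y⁻¹ = y * z ^ i * y⁻¹ := by rw [hi, h1]
      simpa using h3
    rw [h2]
    exact Subgroup.zpow_mem _ (Subgroup.mem_zpowers z) _

lemma two_group_sup {G : Type*} [Group G] {y z : G} {j k : ℕ} (hy : orderOf y = 2 ^ j)
    (hz : orderOf z = 2 ^ k) (hc : Commute y z) :
    IsPGroup 2 ↥(Subgroup.zpowers y ⊔ Subgroup.zpowers z) := by
  haveI : Fact (Nat.Prime 2) := ⟨Nat.prime_two⟩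
  apply IsPGroup.to_sup_of_normal_right'
  · exact IsPGroup.of_card (n := j) (by rw [Nat.card_zpowers, hy])
  · exact IsPGroup.of_card (n := k) (by rw [Nat.card_zpowers, hz])
  · exact Subgroup.zpowers_le.2 (mem_normalizer_of_commute hc)

lemma no_three (P : Sylow 2 (Equiv.Perm Ω)) {a b c : Ω} (h1 : a ≠ b) (h2 : a ≠ c) (h3 : b ≠ c)
    (h4 : Equiv.swap a b ∈ P) (h5 : Equiv.swap a c ∈ P) : False := by
  haveI : Fact (Nat.Prime 2) := ⟨Nat.prime_two⟩
  have h6 : Equiv.swap a b * Equiv.swap a c ∈ (P : Subgroup (Equiv.Perm Ω)) :=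
    Subgroup.mul_mem _ h4 h5
  obtain ⟨n, hn⟩ := (IsPGroup.iff_orderOf.1 P.isPGroup') ⟨_, h6⟩
  rw [Subgroup.orderOf_mk, (Equiv.Perm.isThreeCycle_swap_mul_swap_same h1 h2 h3).orderOf] at hn
  cases n with
  | zero => simp at hn
  | succ n =>
    rw [pow_succ] at hn
    omega

lemma transfer_eq {c d : Equiv.Perm Ω} (hc : c.IsCycle) (hd : d.IsCycle) (ho : orderOf c = orderOf d)
    {s t : Ω} (hs : c s ≠ s) {i j : ℕ} (h : (c ^ i) s = (c ^ j) s) : (d ^ i) t = (d ^ j) t := by
  have h1 : c ^ i = c ^ j := hc.pow_eq_pow_iff.2 ⟨s, hs, h⟩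
  rw [pow_eq_pow_iff_modEq, ho, ← pow_eq_pow_iff_modEq] at h1
  rw [h1]

lemma conj_mem_normalizer {G : Type*} [Group G] [Finite G] (E : Subgroup G) (y : G)
    (h : ∀ z ∈ E, y * z * y⁻¹ ∈ E) : y ∈ Subgroup.normalizer (E : Set G) := by
  have hpow : ∀ n : ℕ, ∀ z ∈ E, y ^ n * z * (y ^ n)⁻¹ ∈ E := by
    intro n
    induction n with
    | zero =>
      intro z hz
      simpa using hz
    | succ n ih =>
      intro z hz
      have h1 := h _ (ih z hz)
      have e : y ^ (n + 1) * z * (y ^ (n + 1))⁻¹ = y * (y ^ n * z * (y ^ n)⁻¹) * y⁻¹ := by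
        rw [pow_succ']
        group
      rw [e]
      exact h1
  have hinv : y⁻¹ = y ^ (orderOf y - 1) := by
    apply inv_eq_of_mul_eq_one_left
    rw [← pow_succ, Nat.sub_add_cancel (orderOf_pos y), pow_orderOf_eq_one]
  rw [Subgroup.mem_normalizer_iff]
  intro z
  refine ⟨h z, fun hz => ?_⟩
  have h1 := hpow (orderOf y - 1) _ hz
  rw [← hinv] at h1
  have e : y⁻¹ * (y * z * y⁻¹) * y⁻¹⁻¹ = z := by group
  rwa [e] at h1

theorem forward (hx : ∃ k : ℕ, orderOf x = 2 ^ k) (hu : ∃! P : Sylow 2 (Equiv.Perm Ω), x ∈ P) :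
    Fintype.card Ω ≤ x.support.card + 2 ∧ x.cycleType.Nodup := by
  haveI : Fact (Nat.Prime 2) := ⟨Nat.prime_two⟩
  obtain ⟨P, hP, huniq⟩ := hu
  obtain ⟨k, hk⟩ := hx
  have hsub : ∀ K : Subgroup (Equiv.Perm Ω), IsPGroup 2 K → x ∈ K → K ≤ P := by
    intro K hK hxK
    obtain ⟨R, hR⟩ := hK.exists_le_sylow
    rw [← huniq R (hR hxK)]
    exact hR
  have hcomm_mem : ∀ y : Equiv.Perm Ω, (∃ j : ℕ, orderOf y = 2 ^ j) → Commute y x → y ∈ P := by
    rintro y ⟨j, hj⟩ hc
    have := hsub _ (two_group_sup hj hk hc) (Subgroup.mem_sup_right (Subgroup.mem_zpowers x))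
    exact this (Subgroup.mem_sup_left (Subgroup.mem_zpowers y))
  constructor
  · by_contra hcon
    have h1 := fx_add_support x
    obtain ⟨a, ha, b, hb, c, hc, hab, hac, hbc⟩ := Finset.two_lt_card.1
      (show 2 < (Fx x).card by omega)
    have hfix : ∀ u ∈ Fx x, ∀ v ∈ Fx x, Commute (Equiv.swap u v) x := by
      intro u hu v hv
      have h2 := Equiv.swap_apply_apply x u v
      rw [(mem_Fx x).1 hu, (mem_Fx x).1 hv] at h2
      exact (mul_inv_eq_iff_eq_mul.1 h2.symm).symm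
    have hsw : ∀ u v : Ω, u ≠ v → ∃ j : ℕ, orderOf (Equiv.swap u v) = 2 ^ j := by
      intro u v huv
      refine ⟨1, ?_⟩
      rw [pow_one]
      apply orderOf_eq_prime
      · rw [pow_two, Equiv.swap_mul_self]
      · intro h
        exact huv (Equiv.swap_eq_one_iff.1 h)
    exact no_three P hab hac hbc (hcomm_mem _ (hsw a b hab) (hfix a ha b hb))
      (hcomm_mem _ (hsw a c hac) (hfix a ha c hc))
  · by_contra hnd
    rw [Equiv.Perm.cycleType_def] at hnd
    have h1 : ¬ ∀ c₁ ∈ x.cycleFactorsFinset.val, ∀ c₂ ∈ x.cycleFactorsFinset.val,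
        (Finset.card ∘ Equiv.Perm.support) c₁ = (Finset.card ∘ Equiv.Perm.support) c₂ → c₁ = c₂ :=
      fun h => hnd (Multiset.Nodup.map_on h x.cycleFactorsFinset.nodup)
    push Not at h1
    obtain ⟨c₁, hc₁, c₂, hc₂, hcard, hne⟩ := h1
    have hc₁' : c₁ ∈ x.cycleFactorsFinset := hc₁
    have hc₂' : c₂ ∈ x.cycleFactorsFinset := hc₂
    have hcyc₁ := (Equiv.Perm.mem_cycleFactorsFinset_iff.1 hc₁').1
    have hcyc₂ := (Equiv.Perm.mem_cycleFactorsFinset_iff.1 hc₂').1
    have hdisj : c₁.Disjoint c₂ := Equiv.Perm.cycleFactorsFinset_pairwise_disjoint x hc₁' hc₂' hne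
    have hdisj' : ∀ y, y ∈ c₁.support → y ∉ c₂.support := fun y h1 h2 =>
      Finset.disjoint_left.1 (Equiv.Perm.disjoint_iff_disjoint_support.1 hdisj) h1 h2
    obtain ⟨s₀, hs₀⟩ := hcyc₁.nonempty_support
    obtain ⟨t₀, ht₀⟩ := hcyc₂.nonempty_support
    have he₁ : c₁ = x.cycleOf s₀ := Equiv.Perm.cycle_is_cycleOf hs₀ hc₁'
    have he₂ : c₂ = x.cycleOf t₀ := Equiv.Perm.cycle_is_cycleOf ht₀ hc₂'
    have ho : orderOf c₁ = orderOf c₂ := by
      rw [hcyc₁.orderOf, hcyc₂.orderOf]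
      exact hcard
    have hpow₁ : ∀ i : ℕ, (x ^ i) s₀ = (c₁ ^ i) s₀ := fun i => by
      rw [he₁, Equiv.Perm.cycleOf_pow_apply_self]
    have hpow₂ : ∀ i : ℕ, (x ^ i) t₀ = (c₂ ^ i) t₀ := fun i => by
      rw [he₂, Equiv.Perm.cycleOf_pow_apply_self]
    have hmem₁ : ∀ i : ℕ, (x ^ i) s₀ ∈ c₁.support := fun i => by
      rw [hpow₁]
      exact Equiv.Perm.pow_apply_mem_support.2 hs₀
    have hmem₂ : ∀ i : ℕ, (x ^ i) t₀ ∈ c₂.support := fun i => by
      rw [hpow₂]
      exact Equiv.Perm.pow_apply_mem_support.2 ht₀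
    have hne₁ : c₁ s₀ ≠ s₀ := Equiv.Perm.mem_support.1 hs₀
    have hne₂ : c₂ t₀ ≠ t₀ := Equiv.Perm.mem_support.1 ht₀
    have htrans₁ : ∀ i j : ℕ, (x ^ i) s₀ = (x ^ j) s₀ → (x ^ i) t₀ = (x ^ j) t₀ := by
      intro i j h
      rw [hpow₁, hpow₁] at h
      rw [hpow₂, hpow₂]
      exact transfer_eq hcyc₁ hcyc₂ ho hne₁ h
    have htrans₂ : ∀ i j : ℕ, (x ^ i) t₀ = (x ^ j) t₀ → (x ^ i) s₀ = (x ^ j) s₀ := by
      intro i j h
      rw [hpow₂, hpow₂] at h
      rw [hpow₁, hpow₁]
      exact transfer_eq hcyc₂ hcyc₁ ho.symm hne₂ h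
    let τ : ℕ → Equiv.Perm Ω := fun i => Equiv.swap ((x ^ i) s₀) ((x ^ i) t₀)
    have hτcomm : ∀ i j, Commute (τ i) (τ j) := by
      intro i j
      by_cases h : (x ^ i) s₀ = (x ^ j) s₀
      · have h2 := htrans₁ i j h
        show Commute (Equiv.swap _ _) (Equiv.swap _ _)
        rw [h, h2]
      · have h2 : (x ^ i) t₀ ≠ (x ^ j) t₀ := fun h3 => h (htrans₂ i j h3)
        apply Equiv.Perm.Disjoint.commute
        apply Equiv.Perm.disjoint_swap_swap
        have a1 := hdisj' _ (hmem₁ i)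
        have a2 := hdisj' _ (hmem₁ j)
        simp only [List.nodup_cons, List.mem_cons, List.not_mem_nil, or_false, not_or,
          List.nodup_nil, and_true, not_false_eq_true]
        refine ⟨⟨?_, h, ?_⟩, ⟨?_, h2⟩, ?_⟩
        · intro h3
          apply a1
          rw [h3]
          exact hmem₂ i
        · intro h3
          apply a1
          rw [h3]
          exact hmem₂ j
        · intro h3
          apply a2
          rw [← h3]
          exact hmem₂ i
        · intro h3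
          apply a2
          rw [h3]
          exact hmem₂ j
    let E : Subgroup (Equiv.Perm Ω) := Subgroup.closure (Set.range τ)
    have hEle : E ≤ Subgroup.centralizer (Set.range τ) := by
      rw [Subgroup.closure_le]
      rintro _ ⟨i, rfl⟩
      rw [SetLike.mem_coe, Subgroup.mem_centralizer_iff]
      rintro _ ⟨j, rfl⟩
      exact (hτcomm j i).eq
    have hEcomm : ∀ y ∈ E, ∀ z ∈ E, y * z = z * y := by
      intro y hy z hz
      have h1 : y ∈ Subgroup.centralizer ((E : Subgroup (Equiv.Perm Ω)) : Set (Equiv.Perm Ω)) := by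
        rw [Subgroup.centralizer_closure]
        exact hEle hy
      exact ((Subgroup.mem_centralizer_iff.1 h1) z hz).symm
    have hEsq : ∀ y ∈ E, y * y = 1 := by
      intro y hy
      induction hy using Subgroup.closure_induction with
      | mem y hy =>
        obtain ⟨i, rfl⟩ := hy
        exact Equiv.swap_mul_self _ _
      | one => simp
      | mul y z hy hz h1 h2 =>
        calc y * z * (y * z) = y * (z * y) * z := by group
          _ = y * (y * z) * z := by rw [hEcomm z hz y hy]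
          _ = (y * y) * (z * z) := by group
          _ = 1 := by rw [h1, h2, one_mul]
      | inv y hy h1 =>
        rw [← mul_inv_rev, h1, inv_one]
    have hEp : IsPGroup 2 E := by
      rintro ⟨y, hy⟩
      refine ⟨1, Subtype.ext ?_⟩
      show y ^ 2 ^ 1 = 1
      rw [pow_one, pow_two]
      exact hEsq y hy
    have hNE : x ∈ Subgroup.normalizer (E : Set (Equiv.Perm Ω)) := by
      apply conj_mem_normalizer
      intro z hz
      induction hz using Subgroup.closure_induction with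
      | mem y hy =>
        obtain ⟨i, rfl⟩ := hy
        apply Subgroup.subset_closure
        refine ⟨i + 1, ?_⟩
        show Equiv.swap _ _ = x * Equiv.swap _ _ * x⁻¹
        rw [← Equiv.swap_apply_apply, pow_succ', Equiv.Perm.mul_apply, Equiv.Perm.mul_apply]
      | one => simp [E, Subgroup.one_mem]
      | mul y z hy hz h1 h2 =>
        have e : x * (y * z) * x⁻¹ = (x * y * x⁻¹) * (x * z * x⁻¹) := by group
        rw [e]
        exact Subgroup.mul_mem _ h1 h2
      | inv y hy h1 =>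
        have e : x * y⁻¹ * x⁻¹ = (x * y * x⁻¹)⁻¹ := by group
        rw [e]
        exact Subgroup.inv_mem _ h1
    have hX : IsPGroup 2 (Subgroup.zpowers x) :=
      IsPGroup.of_card (n := k) (by rw [Nat.card_zpowers, hk])
    have hB : IsPGroup 2 ↥(Subgroup.zpowers x ⊔ E) :=
      IsPGroup.to_sup_of_normal_right' hX hEp (Subgroup.zpowers_le.2 hNE)
    have hBle := hsub _ hB (Subgroup.mem_sup_left (Subgroup.mem_zpowers x))
    have hτ0 : Equiv.swap s₀ t₀ ∈ P := by
      have h1 : τ 0 ∈ E := Subgroup.subset_closure ⟨0, rfl⟩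
      have h2 := hBle (Subgroup.mem_sup_right h1)
      have h3 : Equiv.swap s₀ t₀ = τ 0 := by simp [τ]
      rw [h3]
      exact h2
    have hc₁P : c₁ ∈ P := by
      apply hcomm_mem
      · have h1 : orderOf c₁ ∣ 2 ^ k := by
          rw [← hk, he₁]
          exact Equiv.Perm.orderOf_cycleOf_dvd_orderOf x s₀
        obtain ⟨j, -, hj⟩ := (Nat.dvd_prime_pow Nat.prime_two).1 h1
        exact ⟨j, hj⟩
      · exact Equiv.Perm.self_mem_cycle_factors_commute hc₁'
    have ht₀fix : c₁ t₀ = t₀ := by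
      by_contra h
      exact hdisj' t₀ (Equiv.Perm.mem_support.2 h) ht₀
    have hτ' : Equiv.swap (c₁ s₀) t₀ ∈ P := by
      have h1 : c₁ * Equiv.swap s₀ t₀ * c₁⁻¹ ∈ (P : Subgroup (Equiv.Perm Ω)) :=
        Subgroup.mul_mem _ (Subgroup.mul_mem _ hc₁P hτ0) (Subgroup.inv_mem _ hc₁P)
      rw [← Equiv.swap_apply_apply, ht₀fix] at h1
      exact h1
    have hs₁ : c₁ s₀ ∈ c₁.support := Equiv.Perm.apply_mem_support.2 hs₀
    have n1 : t₀ ≠ s₀ := fun h => hdisj' s₀ hs₀ (h ▸ ht₀)
    have n2 : t₀ ≠ c₁ s₀ := fun h => hdisj' _ hs₁ (h ▸ ht₀)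
    have n3 : s₀ ≠ c₁ s₀ := Ne.symm hne₁
    exact no_three P n1 n2 n3 (by rw [Equiv.swap_comm]; exact hτ0)
      (by rw [Equiv.swap_comm]; exact hτ')

end final

/-- Let n ≥ 2 and let x be an element of 2-power order of the symmetric group of degree n. Then x lies in exactly one Sylow 2-subgroup if and only if x has at most two fixed points and the nontrivial cycles of x have pairwise different lengths. -/
theorem result (n : ℕ) (hn : 2 ≤ n)
    (x : Equiv.Perm (Fin n)) (hx : ∃ k : ℕ, orderOf x = 2 ^ k) :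
    (∃! P : Sylow 2 (Equiv.Perm (Fin n)), x ∈ P) ↔ (n ≤ x.support.card + 2 ∧ x.cycleType.Nodup) := by
  have hcard : Fintype.card (Fin n) = n := Fintype.card_fin n
  constructor
  · intro h
    have := forward hx h
    rwa [hcard] at this
  · rintro ⟨h1, h2⟩
    have H : Hyp x := hyp_of hx (by rwa [hcard]) h2
    haveI : Fact (Nat.Prime 2) := ⟨Nat.prime_two⟩
    obtain ⟨k, hk⟩ := hx
    have hX : IsPGroup 2 (Subgroup.zpowers x) :=
      IsPGroup.of_card (n := k) (by rw [Nat.card_zpowers, hk])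
    obtain ⟨P, hP⟩ := hX.exists_le_sylow
    have hxP : x ∈ P := hP (Subgroup.mem_zpowers x)
    exact ⟨P, hxP, fun P' hP' => unique_sylow H P' P hP' hxP⟩

end Cfsg.Agent.S4349
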