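import Cfsg.Statements.S4357
import Cfsg.Agent.Lib.SLn.SL2Gen
import Mathlib

set_option autoImplicit false
open Cfsg

namespace Cfsg.Agent.S4357

section abstract

open scoped Pointwise

variable {G : Type*} [Group G] [Finite G] {p : ℕ} [hp : Fact p.Prime]

lemma mem_smul_iff {Q : Sylow p G} {g x : G} : x ∈ g • Q ↔ g⁻¹ * x * g ∈ Q := by
  have h : x ∈ g • Q ↔ x ∈ MulAut.conj g • (Q : Subgroup G) := by
    rw [← Sylow.coe_subgroup_smul]
    rfl
  rw [h, Subgroup.mem_pointwise_smul_iff_inv_smul_mem, MulAut.smul_def, MulAut.conj_inv_apply]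
  exact Iff.rfl

lemma orderOf_conj' (g x : G) : orderOf (g * x * g⁻¹) = orderOf x :=
  orderOf_injective (MulAut.conj g).toMonoidHom (MulAut.conj g).injective x

lemma no_red_of_unique (x : G) (hx : ∃ k : ℕ, orderOf x = p ^ k)
    (hu : ∀ P P' : Sylow p G, x ∈ P → x ∈ P' → P = P') :
    ¬ ∃ Q : Sylow p G, ∀ x : G, (∃ k : ℕ, orderOf x = p ^ k) → ∃ P : Sylow p G, P ≠ Q ∧ x ∈ P := by
  rintro ⟨Q, hQ⟩
  obtain ⟨k, hk⟩ := hx
  have hpg : IsPGroup p (Subgroup.zpowers x) :=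
    IsPGroup.of_card (n := k) (by rw [Nat.card_zpowers, hk])
  obtain ⟨P₀, hP₀⟩ := hpg.exists_le_sylow
  have hxP₀ : x ∈ P₀ := hP₀ (Subgroup.mem_zpowers x)
  obtain ⟨g, rfl⟩ := MulAction.exists_smul_eq G P₀ Q
  obtain ⟨P, hne, hP⟩ := hQ (g * x * g⁻¹) ⟨k, by rw [orderOf_conj', hk]⟩
  have h1 : x ∈ g⁻¹ • P := by
    rw [mem_smul_iff]
    simpa [mul_assoc] using hP
  have h2 := hu _ _ h1 hxP₀
  apply hne
  rw [← h2, smul_inv_smul]

lemma unique_of_order (x : G) (hx : orderOf x = p ^ (Nat.card G).factorization p) :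
    ∀ P P' : Sylow p G, x ∈ P → x ∈ P' → P = P' := by
  have key : ∀ P : Sylow p G, x ∈ P → (P : Subgroup G) = Subgroup.zpowers x := by
    intro P hP
    symm
    apply Subgroup.eq_of_le_of_card_ge
    · exact Subgroup.zpowers_le.2 hP
    · rw [Nat.card_zpowers, hx, Sylow.card_eq_multiplicity]
  intro P P' h1 h2
  apply Sylow.ext
  rw [key P h1, key P' h2]

lemma exists_elt_of_cyclic (T : Subgroup G) [IsCyclic T]
    (h : (Nat.card G).factorization p = (Nat.card T).factorization p) :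
    ∃ x : G, orderOf x = p ^ (Nat.card G).factorization p := by
  obtain ⟨y, hy⟩ := IsCyclic.exists_ofOrder_eq_natCard (α := T)
  have hT0 : Nat.card T ≠ 0 := Nat.card_pos.ne'
  refine ⟨((y : T) : G) ^ (Nat.card T / p ^ (Nat.card T).factorization p), ?_⟩
  rw [orderOf_pow_of_dvd, Subgroup.orderOf_coe, hy, h]
  · have h1 : p ^ (Nat.card T).factorization p ∣ Nat.card T := Nat.ordProj_dvd _ _
    exact Nat.div_div_self h1 hT0
  · have h1 := Nat.ordCompl_pos p hT0
    exact h1.ne'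
  · rw [Subgroup.orderOf_coe, hy]
    exact Nat.ordCompl_dvd _ _

lemma unique_of_torus {k : ℕ} (x w : G) (hT : orderOf x = 2 ^ k)
    (hG : (Nat.card G).factorization 2 = k + 1)
    (hN : ∀ g, g ∈ Subgroup.normalizer ((Subgroup.zpowers x : Subgroup G) : Set G) →
      g ∈ Subgroup.zpowers x ∨ w⁻¹ * g ∈ Subgroup.zpowers x) :
    ∀ P P' : Sylow 2 G, x ∈ P → x ∈ P' → P = P' := by
  haveI : Fact (Nat.Prime 2) := ⟨Nat.prime_two⟩
  have hcardT : Nat.card (Subgroup.zpowers x) = 2 ^ k := by rw [Nat.card_zpowers, hT]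
  have hnorm : ∀ P : Sylow 2 G, x ∈ P → (P : Subgroup G) ≤
      Subgroup.normalizer ((Subgroup.zpowers x : Subgroup G) : Set G) := by
    intro P hP
    have hle : Subgroup.zpowers x ≤ (P : Subgroup G) := Subgroup.zpowers_le.2 hP
    rw [← Subgroup.normal_subgroupOf_iff_le_normalizer hle]
    apply Subgroup.normal_of_index_eq_two
    have h1 := Subgroup.card_mul_index ((Subgroup.zpowers x).subgroupOf (P : Subgroup G))
    have h2 : Nat.card ((Subgroup.zpowers x).subgroupOf (P : Subgroup G)) = 2 ^ k := by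
      rw [← hcardT]
      exact Nat.card_congr (Subgroup.subgroupOfEquivOfLe hle).toEquiv
    rw [h2, Sylow.card_eq_multiplicity, hG, pow_succ] at h1
    exact Nat.eq_of_mul_eq_mul_left (by positivity) h1
  have hle : ∀ P P' : Sylow 2 G, x ∈ P → x ∈ P' → (P' : Subgroup G) ≤ P := by
    intro P P' h1 h2 g hg
    obtain ⟨a, ha, ha'⟩ : ∃ a ∈ (P : Subgroup G), a ∉ Subgroup.zpowers x := by
      by_contra hcon
      push Not at hcon
      have h3 : (P : Subgroup G) ≤ Subgroup.zpowers x := hcon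
      have h4 := Subgroup.card_le_of_le h3
      rw [Sylow.card_eq_multiplicity, hG, hcardT, pow_succ] at h4
      have : 0 < 2 ^ k := by positivity
      omega
    have hle' : Subgroup.zpowers x ≤ (P : Subgroup G) := Subgroup.zpowers_le.2 h1
    rcases hN g (hnorm P' h2 hg) with h5 | h5
    · exact hle' h5
    · have h6 := (hN a (hnorm P h1 ha)).resolve_left ha'
      have h7 : a⁻¹ * g ∈ Subgroup.zpowers x := by
        have := Subgroup.mul_mem _ (Subgroup.inv_mem _ h6) h5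
        have e : (w⁻¹ * a)⁻¹ * (w⁻¹ * g) = a⁻¹ * g := by group
        rwa [e] at this
      have h8 : a * (a⁻¹ * g) ∈ (P : Subgroup G) := Subgroup.mul_mem _ ha (hle' h7)
      simpa using h8
  intro P P' h1 h2
  apply Sylow.ext
  exact le_antisymm (hle P' P h2 h1) (hle P P' h1 h2)

lemma two_sylows (x w g : G) {k j r : ℕ} (hx : orderOf x = 2 ^ k) (hw : orderOf w = 2 ^ j)
    (hcomm : g * x = x * g) (hwx : w * x * w⁻¹ = x⁻¹) (hwg : w * g * w⁻¹ = g⁻¹) (hr : Odd r)
    (hgr : g ^ r = 1) (hg : g ≠ 1) : ∃ P Q : Sylow 2 G, P ≠ Q ∧ x ∈ P ∧ x ∈ Q := by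
  haveI : Fact (Nat.Prime 2) := ⟨Nat.prime_two⟩
  have hX : IsPGroup 2 (Subgroup.zpowers x) :=
    IsPGroup.of_card (n := k) (by rw [Nat.card_zpowers, hx])
  have hW : IsPGroup 2 (Subgroup.zpowers w) :=
    IsPGroup.of_card (n := j) (by rw [Nat.card_zpowers, hw])
  have hz : ∀ n : ℤ, w * x ^ n * w⁻¹ = (x⁻¹) ^ n := by
    intro n
    rw [← hwx, conj_zpow]
  have hwN : w ∈ Subgroup.normalizer ((Subgroup.zpowers x : Subgroup G) : Set G) := by
    rw [Subgroup.mem_normalizer_iff]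
    intro y
    constructor
    · rintro ⟨n, rfl⟩
      show w * x ^ n * w⁻¹ ∈ Subgroup.zpowers x
      rw [hz]
      exact Subgroup.zpow_mem _ (Subgroup.inv_mem _ (Subgroup.mem_zpowers x)) _
    · rintro ⟨n, hn⟩
      have hn' : x ^ n = w * y * w⁻¹ := hn
      have h1 : w * y * w⁻¹ = w * x ^ (-n) * w⁻¹ := by
        rw [hz, ← hn', inv_zpow', neg_neg]
      have h2 : y = x ^ (-n) := by simpa using h1
      rw [h2]
      exact Subgroup.zpow_mem _ (Subgroup.mem_zpowers x) _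
  have hD : IsPGroup 2 ↥(Subgroup.zpowers w ⊔ Subgroup.zpowers x) :=
    IsPGroup.to_sup_of_normal_right' hW hX (Subgroup.zpowers_le.2 hwN)
  obtain ⟨Q, hQ⟩ := hD.exists_le_sylow
  have hxQ : x ∈ Q := hQ (Subgroup.mem_sup_right (Subgroup.mem_zpowers x))
  have hwQ : w ∈ Q := hQ (Subgroup.mem_sup_left (Subgroup.mem_zpowers w))
  refine ⟨g • Q, Q, ?_, ?_, hxQ⟩
  · intro h
    have h' : g ∈ Subgroup.normalizer (((Q : Subgroup G)) : Set G) :=
      Sylow.smul_eq_iff_mem_normalizer.1 h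
    rw [Subgroup.mem_normalizer_iff] at h'
    have h1 : g * w * g⁻¹ ∈ (Q : Subgroup G) := (h' w).1 hwQ
    have h2 : g * w * g⁻¹ * w⁻¹ ∈ (Q : Subgroup G) :=
      Subgroup.mul_mem _ h1 (Subgroup.inv_mem _ hwQ)
    have h3 : w * g⁻¹ * w⁻¹ = g := by
      have : w * g⁻¹ * w⁻¹ = (w * g * w⁻¹)⁻¹ := by group
      rw [this, hwg, inv_inv]
    have h4 : g * w * g⁻¹ * w⁻¹ = g * g := by
      calc g * w * g⁻¹ * w⁻¹ = g * (w * g⁻¹ * w⁻¹) := by group
        _ = g * g := by rw [h3]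
    rw [h4] at h2
    obtain ⟨n, hn⟩ := (IsPGroup.iff_orderOf.1 Q.isPGroup') ⟨g * g, h2⟩
    rw [Subgroup.orderOf_mk] at hn
    have h5 : g ^ (2 ^ (n + 1)) = 1 := by
      have := pow_orderOf_eq_one (g * g)
      rw [hn, ← pow_two, ← pow_mul] at this
      rw [pow_succ, mul_comm]
      exact this
    have h6 : orderOf g ∣ 2 ^ (n + 1) := orderOf_dvd_of_pow_eq_one h5
    have h7 : orderOf g ∣ r := orderOf_dvd_of_pow_eq_one hgr
    have h8 : Nat.Coprime (2 ^ (n + 1)) r := Nat.Coprime.pow_left _ (Nat.coprime_two_left.2 hr)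
    have h9 : orderOf g = 1 := Nat.eq_one_of_dvd_coprimes h8 h6 h7
    exact hg (orderOf_eq_one_iff.1 h9)
  · rw [mem_smul_iff]
    have : g⁻¹ * x * g = x := by
      rw [mul_assoc, inv_mul_eq_iff_eq_mul]
      exact hcomm.symm
    rw [this]
    exact hxQ

lemma two_of_torus (T : Subgroup G) (hc : ∀ a ∈ T, ∀ b ∈ T, a * b = b * a) (W : G)
    (hW : ∀ t ∈ T, W * t * W⁻¹ = t⁻¹) (hW4 : W ^ 4 = 1) (g : G) (hgT : g ∈ T) {r : ℕ} (hr : Odd r)
    (hgr : g ^ r = 1) (hg : g ≠ 1) (d : G) (hd : d ∈ T) (c x : G) (hx : x = c * d * c⁻¹) {k : ℕ}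
    (hxo : orderOf x = 2 ^ k) : ∃ P Q : Sylow 2 G, P ≠ Q ∧ x ∈ P ∧ x ∈ Q := by
  obtain ⟨j, hj⟩ : ∃ j : ℕ, orderOf (c * W * c⁻¹) = 2 ^ j := by
    rw [orderOf_conj']
    have h1 : orderOf W ∣ 2 ^ 2 := orderOf_dvd_of_pow_eq_one (by simpa using hW4)
    obtain ⟨j, -, hj⟩ := (Nat.dvd_prime_pow Nat.prime_two).1 h1
    exact ⟨j, hj⟩
  apply two_sylows x (c * W * c⁻¹) (c * g * c⁻¹) hxo hj (r := r) _ _ _ hr _ _
  · rw [hx]
    calc c * g * c⁻¹ * (c * d * c⁻¹) = c * (g * d) * c⁻¹ := by group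
      _ = c * (d * g) * c⁻¹ := by rw [hc g hgT d hd]
      _ = _ := by group
  · rw [hx]
    calc c * W * c⁻¹ * (c * d * c⁻¹) * (c * W * c⁻¹)⁻¹ = c * (W * d * W⁻¹) * c⁻¹ := by group
      _ = c * d⁻¹ * c⁻¹ := by rw [hW d hd]
      _ = _ := by group
  · calc c * W * c⁻¹ * (c * g * c⁻¹) * (c * W * c⁻¹)⁻¹ = c * (W * g * W⁻¹) * c⁻¹ := by group
      _ = c * g⁻¹ * c⁻¹ := by rw [hW g hgT]
      _ = _ := by group
  · rw [conj_pow, hgr]
    group
  · intro h
    apply hg
    have : g = c⁻¹ * (c * g * c⁻¹) * c := by group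
    rw [this, h]
    group

end abstract


section concrete

open Matrix
open Cfsg.Agent.Lib.Classical.SL2Sylow Cfsg.Agent.Lib.Classical.SL2Tori
open Cfsg.Agent.Lib.SLn.SL2Gen Cfsg.Agent.Lib.GL2.SL2Classes Cfsg.Agent.Lib.GL2.SL2
open MatrixGroups

variable {F : Type*} [Field F] [Fintype F]

lemma card_G : Nat.card (SpecialLinearGroup (Fin 2) F) =
    Fintype.card F * ((Fintype.card F - 1) * (Fintype.card F + 1)) := card_SL2

/-- the characteristic `p` case -/
lemma char_case (p : ℕ) [Fact p.Prime] [CharP F p] :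
    ¬ ∃ Q : Sylow p (SpecialLinearGroup (Fin 2) F), ∀ x : SpecialLinearGroup (Fin 2) F,
      (∃ k : ℕ, orderOf x = p ^ k) → ∃ P : Sylow p (SpecialLinearGroup (Fin 2) F), P ≠ Q ∧ x ∈ P := by
  have hkey : ∀ P : Sylow p (SpecialLinearGroup (Fin 2) F), upS (1 : F) ∈ P → P = sylowUS p := by
    intro P hP
    obtain ⟨h, rfl⟩ := exists_conj_US (F := F) p P
    rw [mem_smul_sylowUS_iff] at hP
    obtain ⟨t, ht⟩ := hP
    have ht0 : t ≠ 0 := by
      rintro rfl
      have h1 : upS (0 : F) = 1 := upS_zero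
      rw [h1] at ht
      simp only [mul_one, mul_inv_cancel] at ht
      have h2 := val_congr ht 0 1
      simp at h2
    have h1 : h * upS t = upS 1 * h := by
      rw [← ht]
      group
    have h2 := entry_eq_zero_of_conj ht0 h1
    apply Sylow.smul_eq_iff_mem_normalizer.2
    exact BS_le_normalizer h2
  apply no_red_of_unique (upS (1 : F))
  · refine ⟨1, ?_⟩
    rw [pow_one]
    apply orderOf_eq_prime
    · have h1 : ∀ n : ℕ, upS (1 : F) ^ n = upS (n : F) := by
        intro n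
        induction n with
        | zero => simpa using upS_zero.symm
        | succ n ih =>
          rw [pow_succ, ih, Nat.cast_succ, upS_add]
      rw [h1, CharP.cast_eq_zero, upS_zero]
    · intro h
      have h2 := val_congr h 0 1
      simp at h2
  · intro P P' h1 h2
    rw [hkey P h1, hkey P' h2]

lemma card_pow_cases {c : ℕ} (hc : c.Prime) [CharP F c] :
    ∃ n : ℕ, Fintype.card F = c ^ n := by
  haveI : Fact c.Prime := ⟨hc⟩
  obtain ⟨n, -, hn⟩ := FiniteField.card F c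
  exact ⟨n, hn⟩

/-- the case of odd `p` different from the characteristic -/
lemma odd_case (p : ℕ) [Fact p.Prime] (hp2 : p ≠ 2) (hpq : ¬ p ∣ Fintype.card F) :
    ¬ ∃ Q : Sylow p (SpecialLinearGroup (Fin 2) F), ∀ x : SpecialLinearGroup (Fin 2) F,
      (∃ k : ℕ, orderOf x = p ^ k) → ∃ P : Sylow p (SpecialLinearGroup (Fin 2) F), P ≠ Q ∧ x ∈ P := by
  have hpp : p.Prime := Fact.out
  have hq : 2 ≤ Fintype.card F := Fintype.one_lt_card
  have hq1 : Fintype.card F - 1 ≠ 0 := by omega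
  have hq2 : Fintype.card F + 1 ≠ 0 := by omega
  have hq0 : Fintype.card F ≠ 0 := by omega
  have hf : (Nat.card (SpecialLinearGroup (Fin 2) F)).factorization p =
      (Fintype.card F - 1).factorization p + (Fintype.card F + 1).factorization p := by
    rw [card_G, Nat.factorization_mul hq0 (mul_ne_zero hq1 hq2), Nat.factorization_mul hq1 hq2]
    simp [Nat.factorization_eq_zero_of_not_dvd hpq]
  obtain ⟨x, hx⟩ : ∃ x : SpecialLinearGroup (Fin 2) F,
      orderOf x = p ^ (Nat.card (SpecialLinearGroup (Fin 2) F)).factorization p := by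
    by_cases h : p ∣ Fintype.card F + 1
    · obtain ⟨T, hT, hTc⟩ := exists_T2 (F := F)
      apply exists_elt_of_cyclic T
      rw [hTc, hf]
      have h2 : ¬ p ∣ Fintype.card F - 1 := by
        intro h3
        have h4 : p ∣ (Fintype.card F + 1) - (Fintype.card F - 1) := Nat.dvd_sub h h3
        have h5 : (Fintype.card F + 1) - (Fintype.card F - 1) = 2 := by omega
        rw [h5] at h4
        exact hp2 ((Nat.prime_dvd_prime_iff_eq hpp Nat.prime_two).1 h4)
      rw [Nat.factorization_eq_zero_of_not_dvd h2, zero_add]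
    · obtain ⟨T, hT, hTc⟩ := exists_T1 (F := F)
      apply exists_elt_of_cyclic T
      rw [hTc, hf, Nat.factorization_eq_zero_of_not_dvd h, add_zero]
  apply no_red_of_unique x ⟨_, hx⟩ (unique_of_order x hx)

lemma fact_two_of_eq {u v k : ℕ} (hu : Odd u) (h : v = 2 ^ (k + 1) * u) (hv : v ≠ 0) :
    v.factorization 2 = k + 1 := by
  subst h
  have hu0 : u ≠ 0 := by rintro rfl; simp at hv
  rw [Nat.factorization_mul (by positivity) hu0]
  have : ¬ 2 ∣ u := by
    rw [Nat.two_dvd_ne_zero]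
    exact Nat.odd_iff.1 hu
  simp [Nat.factorization_eq_zero_of_not_dvd this, Nat.Prime.factorization_pow Nat.prime_two]

lemma exists_irred' : ∃ a : F, ∀ r : F, r ^ 2 ≠ a + 1 * r := exists_irred

/-- `q + 1 = 2 ^ k` (`k ≥ 2`) gives an element in a unique Sylow `2`-subgroup -/
lemma ns_case (k : ℕ) (hq : Fintype.card F + 1 = 2 ^ k) (hk : 2 ≤ k)
    (h2 : ∀ x : ℕ, Fintype.card F - 1 = x → x % 4 = 2) :
    ¬ ∃ Q : Sylow 2 (SpecialLinearGroup (Fin 2) F), ∀ x : SpecialLinearGroup (Fin 2) F,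
      (∃ k : ℕ, orderOf x = 2 ^ k) → ∃ P : Sylow 2 (SpecialLinearGroup (Fin 2) F), P ≠ Q ∧ x ∈ P := by
  haveI : Fact (Nat.Prime 2) := ⟨Nat.prime_two⟩
  obtain ⟨a, ha⟩ := exists_irred (F := F)
  haveI : Fact (∀ r : F, r ^ 2 ≠ a + 1 * r) := ⟨ha⟩
  have hqq : 2 ≤ Fintype.card F := Fintype.one_lt_card
  obtain ⟨w, hw, -, -, -⟩ := exists_weyl (F := F) (a := a) (b := 1)
  obtain ⟨y, hy⟩ := IsCyclic.exists_ofOrder_eq_natCard (α := nsT a (1 : F))
  rw [card_nsT, hq] at hy
  have hxo : orderOf ((y : nsT a (1 : F)) : SpecialLinearGroup (Fin 2) F) = 2 ^ k := by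
    rw [Subgroup.orderOf_coe, hy]
  have hT : Subgroup.zpowers ((y : nsT a (1 : F)) : SpecialLinearGroup (Fin 2) F) = nsT a (1 : F) := by
    apply Subgroup.eq_of_le_of_card_ge
    · exact Subgroup.zpowers_le.2 y.2
    · rw [Nat.card_zpowers, hxo, card_nsT, hq]
  have hcard : (Nat.card (SpecialLinearGroup (Fin 2) F)).factorization 2 = k + 1 := by
    obtain ⟨u, hu⟩ : ∃ u, Fintype.card F - 1 = 2 * u ∧ Odd u := by
      have h3 := h2 _ rfl
      refine ⟨(Fintype.card F - 1) / 2, by omega, ?_⟩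
      rw [Nat.odd_iff]
      omega
    apply fact_two_of_eq (u := Fintype.card F * u)
    · apply Odd.mul _ hu.2
      rw [Nat.odd_iff]
      have h3 := h2 _ rfl
      omega
    · rw [card_G, hu.1, hq, pow_succ]
      ring
    · rw [card_G]
      have : Fintype.card F - 1 ≠ 0 := by omega
      positivity
  apply no_red_of_unique ((y : nsT a (1 : F)) : SpecialLinearGroup (Fin 2) F) ⟨k, hxo⟩
    (unique_of_torus _ w hxo hcard _)
  rw [hT]
  intro g hg
  exact nsT_norm_cases hw hg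

/-- `q - 1 = 2 ^ k` (`k ≥ 2`) gives an element in a unique Sylow `2`-subgroup -/
lemma split_case (k : ℕ) (hq : Fintype.card F - 1 = 2 ^ k) (hk : 2 ≤ k) :
    ¬ ∃ Q : Sylow 2 (SpecialLinearGroup (Fin 2) F), ∀ x : SpecialLinearGroup (Fin 2) F,
      (∃ k : ℕ, orderOf x = 2 ^ k) → ∃ P : Sylow 2 (SpecialLinearGroup (Fin 2) F), P ≠ Q ∧ x ∈ P := by
  haveI : Fact (Nat.Prime 2) := ⟨Nat.prime_two⟩
  have hqq : 2 ≤ Fintype.card F := Fintype.one_lt_card
  haveI : IsCyclic (splitT F) :=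
    isCyclic_of_surjective (diagHom : Fˣ →* SL(2, F)).rangeRestrict (MonoidHom.rangeRestrict_surjective _)
  obtain ⟨y, hy⟩ := IsCyclic.exists_ofOrder_eq_natCard (α := splitT F)
  rw [card_splitT, hq] at hy
  have hxo : orderOf ((y : splitT F) : SpecialLinearGroup (Fin 2) F) = 2 ^ k := by
    rw [Subgroup.orderOf_coe, hy]
  have hT : Subgroup.zpowers ((y : splitT F) : SpecialLinearGroup (Fin 2) F) = splitT F := by
    apply Subgroup.eq_of_le_of_card_ge
    · exact Subgroup.zpowers_le.2 y.2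
    · rw [Nat.card_zpowers, hxo, card_splitT, hq]
  have h4 : 4 ∣ 2 ^ k := by
    have := pow_dvd_pow 2 hk
    simpa using this
  have hcard : (Nat.card (SpecialLinearGroup (Fin 2) F)).factorization 2 = k + 1 := by
    obtain ⟨u, hu⟩ : ∃ u, Fintype.card F + 1 = 2 * u ∧ Odd u := by
      obtain ⟨v, hv⟩ := h4
      refine ⟨2 * v + 1, by omega, ?_⟩
      simp
    apply fact_two_of_eq (u := Fintype.card F * u)
    · apply Odd.mul _ hu.2
      rw [Nat.odd_iff]
      omega
    · rw [card_G, hu.1, hq, pow_succ]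
      ring
    · rw [card_G, hq]
      positivity
  apply no_red_of_unique ((y : splitT F) : SpecialLinearGroup (Fin 2) F) ⟨k, hxo⟩
    (unique_of_torus _ weylS hxo hcard _)
  rw [hT]
  intro g hg
  obtain ⟨y1, y2⟩ := y
  obtain ⟨u, rfl⟩ := id y2
  have hd1 := (mem_splitT_iff (g := diagHom u)).1 y2
  have hd3 : ((diagHom u : SL(2, F)) : Matrix (Fin 2) (Fin 2) F) 0 0 ^ 2 ≠ 1 := by
    intro h
    have h5 : (u : F) ^ 2 = 1 := h
    have h6 : u ^ 2 = 1 := Units.ext (by simpa using h5)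
    have h7 : (diagHom u : SL(2, F)) ^ 2 = 1 := by rw [← map_pow, h6, map_one]
    have h8 := orderOf_dvd_of_pow_eq_one h7
    rw [hxo] at h8
    have h9 := Nat.le_of_dvd (by norm_num) h8
    have h10 : 2 ^ 2 ≤ 2 ^ k := Nat.pow_le_pow_right (by norm_num) hk
    omega
  have hm : g * diagHom u * g⁻¹ ∈ splitT F := (Subgroup.mem_normalizer_iff.1 hg _).1 ⟨u, rfl⟩
  have h11 : g * diagHom u = (g * diagHom u * g⁻¹) * g := by group
  rcases normalizer_split_cases hd1.1 hd1.2 hd3 hm h11 with h | h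
  · exact Or.inl h
  · exact Or.inr (weyl_inv_mul_mem h.1 h.2)

/-- a `2`-element of trace `±2` is central -/
lemma mem_split_of_tr (x : SpecialLinearGroup (Fin 2) F) (h2 : (2 : F) ≠ 0) (ht : (tr x) ^ 2 = 4)
    {k : ℕ} (hk : orderOf x = 2 ^ k) : x ∈ splitT F := by
  rcases Nat.eq_zero_or_pos k with rfl | hk0
  · rw [pow_zero, orderOf_eq_one_iff] at hk
    rw [hk]
    exact Subgroup.one_mem _
  obtain ⟨ε, hε⟩ : ∃ ε : F, ε = tr x / 2 := ⟨_, rfl⟩
  have htε : tr x = 2 * ε := by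
    rw [hε]
    field_simp
  have hε2 : ε ^ 2 = 1 := by
    rw [htε] at ht
    have h4 : (4 : F) ≠ 0 := by
      have : (4 : F) = 2 * 2 := by norm_num
      rw [this]
      exact mul_ne_zero h2 h2
    have : (4 : F) * ε ^ 2 = 4 * 1 := by
      have e : (2 * ε) ^ 2 = 4 * ε ^ 2 := by ring
      rw [← e, ht, mul_one]
    exact mul_left_cancel₀ h4 this
  have hε0 : ε ≠ 0 := by
    rintro rfl
    simp at hε2
  obtain ⟨X, hX⟩ : ∃ X : Matrix (Fin 2) (Fin 2) F, X = (x : Matrix (Fin 2) (Fin 2) F) := ⟨_, rfl⟩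
  have hCH : X * X = tr x • X - 1 := by
    rw [hX]
    exact sq_eq_tr x
  obtain ⟨N, hN⟩ : ∃ N : Matrix (Fin 2) (Fin 2) F, N = ε • X - 1 := ⟨_, rfl⟩
  have hNN : N * N = 0 := by
    rw [hN]
    have : (ε • X - 1) * (ε • X - 1) = ε ^ 2 • (X * X) - (2 * ε) • X + 1 := by
      rw [sub_mul, mul_sub, mul_sub, smul_mul_smul_comm, mul_one, one_mul, mul_one, two_mul, add_smul,
        pow_two]
      abel
    rw [this, hε2, one_smul, hCH, htε]
    abel
  have hpow : ∀ n : ℕ, (ε • X) ^ n = 1 + (n : F) • N := by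
    intro n
    have h1 : ε • X = 1 + N := by rw [hN]; abel
    induction n with
    | zero => simp
    | succ n ih =>
      rw [pow_succ, ih, h1, mul_add, add_mul, add_mul, mul_one, mul_one, one_mul, smul_mul_assoc, hNN,
        smul_zero, add_zero, Nat.cast_succ, add_smul, one_smul, add_assoc]
  have hone : X ^ (2 ^ k) = 1 := by
    have h1 : x ^ (2 ^ k) = 1 := by
      rw [← hk]
      exact pow_orderOf_eq_one x
    rw [hX]
    have h2' := congrArg (fun y : SpecialLinearGroup (Fin 2) F => (y : Matrix (Fin 2) (Fin 2) F)) h1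
    simpa using h2'
  have hεk : ε ^ (2 ^ k) = 1 := by
    obtain ⟨m, rfl⟩ : ∃ m, k = m + 1 := ⟨k - 1, by omega⟩
    rw [pow_succ, mul_comm, pow_mul, hε2, one_pow]
  have h3 := hpow (2 ^ k)
  rw [smul_pow, hone, hεk, one_smul] at h3
  have h4 : ((2 ^ k : ℕ) : F) • N = 0 := by
    have := h3.symm
    simpa using this
  have h5 : ((2 ^ k : ℕ) : F) ≠ 0 := by
    rw [Nat.cast_pow, Nat.cast_ofNat]
    exact pow_ne_zero _ h2
  have hN0 : N = 0 := by
    rcases smul_eq_zero.1 h4 with h6 | h6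
    · exact absurd h6 h5
    · exact h6
  have h6 : ε • X = 1 := by
    rw [hN, sub_eq_zero] at hN0
    exact hN0
  rw [mem_splitT_iff, ← hX]
  constructor
  · have := congrFun (congrFun h6 0) 1
    simpa [hε0] using this
  · have := congrFun (congrFun h6 1) 0
    simpa [hε0] using this

/-- every `2`-element lies in two Sylow `2`-subgroups -/
lemma two_of_two_element (h2 : (2 : F) ≠ 0) (h1 : ¬ ∃ k : ℕ, Fintype.card F - 1 = 2 ^ k)
    (h3 : ¬ ∃ k : ℕ, Fintype.card F + 1 = 2 ^ k)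
    (x : SpecialLinearGroup (Fin 2) F) {k : ℕ} (hk : orderOf x = 2 ^ k) :
    ∃ P Q : Sylow 2 (SpecialLinearGroup (Fin 2) F), P ≠ Q ∧ x ∈ P ∧ x ∈ Q := by
  haveI : Fact (Nat.Prime 2) := ⟨Nat.prime_two⟩
  -- data for the split torus
  obtain ⟨r₁, hr₁, hr₁d, hr₁o⟩ := (Nat.eq_two_pow_or_exists_odd_prime_and_dvd
    (Fintype.card F - 1)).resolve_left h1
  haveI : Fact r₁.Prime := ⟨hr₁⟩
  obtain ⟨g₁, hg₁⟩ := exists_prime_orderOf_dvd_card' (G := splitT F) r₁ (by rwa [card_splitT])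
  have hW4 : (weylS : SL(2, F)) ^ 4 = 1 := by
    apply Subtype.ext
    ext i j
    fin_cases i <;> fin_cases j <;> simp [pow_succ, Matrix.mul_apply, Fin.sum_univ_two]
  have hsplit : ∀ (d c : SpecialLinearGroup (Fin 2) F), d ∈ splitT F → x = c * d * c⁻¹ →
      ∃ P Q : Sylow 2 (SpecialLinearGroup (Fin 2) F), P ≠ Q ∧ x ∈ P ∧ x ∈ Q := by
    intro d c hd hx
    refine two_of_torus (splitT F) (fun a ha b hb => splitT_comm ha hb) weylS ?_ hW4
      (g₁ : SpecialLinearGroup (Fin 2) F) g₁.2 (r := r₁) hr₁o ?_ ?_ d hd c x hx hk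
    · rintro _ ⟨u, rfl⟩
      exact weylS_conj u
    · rw [← Subgroup.orderOf_coe] at hg₁
      rw [← hg₁]
      exact pow_orderOf_eq_one _
    · intro h
      rw [← Subgroup.orderOf_coe, h, orderOf_one] at hg₁
      exact hr₁.one_lt.ne hg₁
  have hmem : x ∈ splitT F → ∃ P Q : Sylow 2 (SpecialLinearGroup (Fin 2) F), P ≠ Q ∧ x ∈ P ∧ x ∈ Q := by
    intro hx
    exact hsplit x 1 hx (by group)
  by_cases htr : (tr x) ^ 2 = 4
  · exact hmem (mem_split_of_tr x h2 htr hk)
  have hconj : ∀ d : SpecialLinearGroup (Fin 2) F, tr x = tr d → ∃ c, x = c * d * c⁻¹ := by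
    intro d hd
    obtain ⟨c, hc⟩ := isConj_iff.1 (isConj_of_tr_eq (g := d) (g' := x) hd.symm (by rwa [← hd]))
    exact ⟨c, hc.symm⟩
  by_cases hroot : ∃ r : F, r ^ 2 - tr x * r + 1 = 0
  · obtain ⟨r, hr⟩ := hroot
    have hr0 : r ≠ 0 := by
      rintro rfl
      simp at hr
    obtain ⟨c, hc⟩ := hconj (diagHom (Units.mk0 r hr0)) (by
      show _ = r + r⁻¹
      field_simp
      linear_combination -hr)
    exact hsplit _ c ⟨_, rfl⟩ hc
  · push Not at hroot
    obtain ⟨a, ha⟩ := exists_irred (F := F)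
    haveI : Fact (∀ r : F, r ^ 2 ≠ a + 1 * r) := ⟨ha⟩
    obtain ⟨r₂, hr₂, hr₂d, hr₂o⟩ := (Nat.eq_two_pow_or_exists_odd_prime_and_dvd
      (Fintype.card F + 1)).resolve_left h3
    haveI : Fact r₂.Prime := ⟨hr₂⟩
    obtain ⟨g₂, hg₂⟩ := exists_prime_orderOf_dvd_card' (G := nsT a (1 : F)) r₂ (by rwa [card_nsT])
    obtain ⟨w, hw, -, hww, -⟩ := exists_weyl (F := F) (a := a) (b := 1)
    obtain ⟨u, hu⟩ := exists_normOne_tr (a := a) (b := 1) hroot
    obtain ⟨c, hc⟩ := hconj (regHom a 1 u) hu.symm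
    refine two_of_torus (nsT a (1 : F)) (fun a ha b hb => nsT_comm ha hb) w hw ?_
      (g₂ : SpecialLinearGroup (Fin 2) F) g₂.2 (r := r₂) hr₂o ?_ ?_ (regHom a 1 u) ⟨u, rfl⟩ c x hc hk
    · apply Subtype.ext
      have : w ^ 4 = (w * w) * (w * w) := by
        rw [pow_succ, pow_succ, pow_two]
        group
      rw [this]
      change ((w * w : SL(2, F)) : Matrix (Fin 2) (Fin 2) F) * ((w * w : SL(2, F)) : Matrix (Fin 2) (Fin 2) F) = 1
      rw [hww]
      simp
    · rw [← Subgroup.orderOf_coe] at hg₂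
      rw [← hg₂]
      exact pow_orderOf_eq_one _
    · intro h
      rw [← Subgroup.orderOf_coe, h, orderOf_one] at hg₂
      exact hr₂.one_lt.ne hg₂

end concrete

/-- Let F be a finite field with q elements, p a prime and G = SL(2, F). Say a Sylow p-subgroup Q of G is redundant when every element of p-power order lies in some Sylow p-subgroup other than Q. Then G has a redundant Sylow p-subgroup if and only if p = 2 and q is not of any of the forms 2ᵏ - 1, 2ᵏ, 2ᵏ + 1. -/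
theorem result {F : Type*} [Field F] [Fintype F] (p : ℕ) [Fact p.Prime] :
    (∃ Q : Sylow p (Matrix.SpecialLinearGroup (Fin 2) F), ∀ x : Matrix.SpecialLinearGroup (Fin 2) F,
        (∃ k : ℕ, orderOf x = p ^ k) → ∃ P : Sylow p (Matrix.SpecialLinearGroup (Fin 2) F), P ≠ Q ∧ x ∈ P) ↔
      (p = 2 ∧ (¬ ∃ k : ℕ, Fintype.card F + 1 = 2 ^ k) ∧ (¬ ∃ k : ℕ, Fintype.card F = 2 ^ k) ∧
        ¬ ∃ k : ℕ, Fintype.card F = 2 ^ k + 1) := by
  have hpp : p.Prime := Fact.out
  have hqq : 2 ≤ Fintype.card F := Fintype.one_lt_card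
  obtain ⟨c, hc⟩ := CharP.exists F
  have hcp : c.Prime := CharP.char_is_prime F c
  haveI : Fact c.Prime := ⟨hcp⟩
  obtain ⟨n, hn⟩ := card_pow_cases (F := F) hcp
  constructor
  · intro hred
    have hpc : p ≠ c := by
      rintro rfl
      exact char_case (F := F) p hred
    have hpq : ¬ p ∣ Fintype.card F := by
      intro h
      rw [hn] at h
      exact hpc ((Nat.prime_dvd_prime_iff_eq hpp hcp).1 (hpp.dvd_of_dvd_pow h))
    have hp2 : p = 2 := by
      by_contra h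
      exact odd_case (F := F) p h hpq hred
    subst hp2
    have hodd : Fintype.card F % 2 = 1 := by
      have : ¬ 2 ∣ Fintype.card F := hpq
      omega
    refine ⟨rfl, ?_, ?_, ?_⟩
    · rintro ⟨k, hk⟩
      have hk2 : 2 ≤ k := by
        by_contra h
        have : k = 0 ∨ k = 1 := by omega
        rcases this with rfl | rfl <;> simp at hk <;> omega
      refine ns_case k hk hk2 ?_ hred
      rintro x rfl
      have h4 : 4 ∣ 2 ^ k := by
        have := pow_dvd_pow 2 hk2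
        simpa using this
      omega
    · rintro ⟨k, hk⟩
      rcases Nat.eq_zero_or_pos k with rfl | hk0
      · simp at hk
        omega
      · obtain ⟨m, rfl⟩ : ∃ m, k = m + 1 := ⟨k - 1, by omega⟩
        rw [pow_succ] at hk
        omega
    · rintro ⟨k, hk⟩
      have hk1 : Fintype.card F - 1 = 2 ^ k := by omega
      rcases Nat.lt_or_ge k 2 with h | h
      · have : k = 0 ∨ k = 1 := by omega
        rcases this with rfl | rfl
        · simp at hk
          omega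
        · simp at hk
          refine ns_case 2 (by rw [hk]; norm_num) le_rfl ?_ hred
          rintro x rfl
          omega
      · exact split_case k hk1 h hred
  · rintro ⟨rfl, h1, h2, h3⟩
    have hF2 : (2 : F) ≠ 0 := by
      intro h
      have h4 : ((2 : ℕ) : F) = 0 := by simpa using h
      rw [CharP.cast_eq_zero_iff F c] at h4
      have h5 : c = 2 := (Nat.prime_dvd_prime_iff_eq hcp Nat.prime_two).1 h4
      exact h2 ⟨n, by rw [hn, h5]⟩
    obtain ⟨Q⟩ : Nonempty (Sylow 2 (Matrix.SpecialLinearGroup (Fin 2) F)) := inferInstance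
    refine ⟨Q, ?_⟩
    rintro x ⟨k, hk⟩
    obtain ⟨P, P', hne, hP, hP'⟩ := two_of_two_element hF2 (by
      rintro ⟨k, hk⟩
      exact h3 ⟨k, by omega⟩) h1 x hk
    by_cases h : P = Q
    · refine ⟨P', ?_, hP'⟩
      intro h'
      exact hne (h.trans h'.symm)
    · exact ⟨P, h, hP⟩

end Cfsg.Agent.S4357
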