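import Cfsg.Statements.S4356
import Cfsg.Agent.S4357
import Mathlib

set_option autoImplicit false
open Cfsg

namespace Cfsg.Agent.S4356

section abstract

variable {G H : Type*} [Group G] [Group H] [Finite G] [Finite H] {p : ℕ} [hp : Fact p.Prime]

lemma mem_of_map_mem (φ : G →* H) (hφ : Function.Surjective φ) (hker : φ.ker ≤ Subgroup.center G)
    (P : Sylow p G) {x : G} {k : ℕ} (hx : orderOf x = p ^ k)
    (h : φ x ∈ Sylow.mapSurjective hφ P) : x ∈ P := by
  have h' : φ x ∈ (P : Subgroup G).map φ := by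
    rw [← Sylow.coe_mapSurjective hφ]
    exact h
  obtain ⟨y, hy, hxy⟩ := h'
  obtain ⟨z, hz⟩ : ∃ z, z = y⁻¹ * x := ⟨_, rfl⟩
  have hzker : z ∈ φ.ker := by
    rw [MonoidHom.mem_ker, hz, map_mul, map_inv, hxy, inv_mul_cancel]
  have hzc : z ∈ Subgroup.center G := hker hzker
  have hxyz : x = y * z := by rw [hz]; group
  have hzcomm : ∀ a : G, a * z = z * a := fun a => (Subgroup.mem_center_iff.1 hzc a)
  -- `z` is a `p`-element
  have hcomm : Commute y⁻¹ x := by
    show y⁻¹ * x = x * y⁻¹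
    rw [hxyz]
    calc y⁻¹ * (y * z) = z := by group
      _ = y * z * y⁻¹ := by
        rw [hzcomm y, mul_assoc, mul_inv_cancel, mul_one]
  have hyo : ∃ n : ℕ, orderOf y = p ^ n := by
    obtain ⟨n, hn⟩ := (IsPGroup.iff_orderOf.1 P.isPGroup') ⟨y, hy⟩
    rw [Subgroup.orderOf_mk] at hn
    exact ⟨n, hn⟩
  obtain ⟨n, hn⟩ := hyo
  have hzo : ∃ n : ℕ, orderOf z = p ^ n := by
    have h1 : orderOf z ∣ (orderOf y⁻¹).lcm (orderOf x) := by
      rw [hz]
      exact hcomm.orderOf_mul_dvd_lcm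
    rw [orderOf_inv, hn, hx] at h1
    have h2 : (p ^ n).lcm (p ^ k) ∣ p ^ (max n k) :=
      Nat.lcm_dvd (pow_dvd_pow _ (le_max_left _ _)) (pow_dvd_pow _ (le_max_right _ _))
    obtain ⟨m, -, hm⟩ := (Nat.dvd_prime_pow hp.out).1 (h1.trans h2)
    exact ⟨m, hm⟩
  obtain ⟨m, hm⟩ := hzo
  have hzg : IsPGroup p (Subgroup.zpowers z) :=
    IsPGroup.of_card (n := m) (by rw [Nat.card_zpowers, hm])
  have hnorm : (P : Subgroup G) ≤ Subgroup.normalizer ((Subgroup.zpowers z : Subgroup G) : Set G) := by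
    intro a _
    rw [Subgroup.mem_normalizer_iff]
    intro b
    constructor
    · rintro ⟨i, rfl⟩
      have h3 : a * z ^ i * a⁻¹ = z ^ i := by
        rw [conj_zpow.symm, hzcomm a, mul_assoc, mul_inv_cancel, mul_one]
      show a * z ^ i * a⁻¹ ∈ _
      rw [h3]
      exact Subgroup.zpow_mem _ (Subgroup.mem_zpowers z) _
    · rintro ⟨i, hi⟩
      have hi' : z ^ i = a * b * a⁻¹ := hi
      have h3 : a * z ^ i * a⁻¹ = z ^ i := by
        rw [conj_zpow.symm, hzcomm a, mul_assoc, mul_inv_cancel, mul_one]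
      have h4 : b = z ^ i := by
        have h5 : a * b * a⁻¹ = a * z ^ i * a⁻¹ := by rw [h3, hi']
        simpa using h5
      rw [h4]
      exact Subgroup.zpow_mem _ (Subgroup.mem_zpowers z) _
  have hsup : IsPGroup p ↥((P : Subgroup G) ⊔ Subgroup.zpowers z) :=
    IsPGroup.to_sup_of_normal_right' P.isPGroup' hzg hnorm
  have hmax := P.is_maximal' hsup le_sup_left
  have hzP : z ∈ (P : Subgroup G) := by
    rw [← hmax]
    exact Subgroup.mem_sup_right (Subgroup.mem_zpowers z)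
  rw [hxyz]
  exact Subgroup.mul_mem _ hy hzP

lemma map_injective (φ : G →* H) (hφ : Function.Surjective φ) (hker : φ.ker ≤ Subgroup.center G) :
    Function.Injective (Sylow.mapSurjective hφ : Sylow p G → Sylow p H) := by
  have key : ∀ P P' : Sylow p G, Sylow.mapSurjective hφ P = Sylow.mapSurjective hφ P' →
      (P : Subgroup G) ≤ P' := by
    intro P P' h x hx
    obtain ⟨k, hk⟩ := (IsPGroup.iff_orderOf.1 P.isPGroup') ⟨x, hx⟩
    rw [Subgroup.orderOf_mk] at hk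
    apply mem_of_map_mem φ hφ hker P' hk
    rw [← h]
    show φ x ∈ ((Sylow.mapSurjective hφ P : Sylow p H) : Subgroup H)
    rw [Sylow.coe_mapSurjective]
    exact ⟨x, hx, rfl⟩
  intro P P' h
  apply Sylow.ext
  exact le_antisymm (key P P' h) (key P' P h.symm)

lemma transfer (φ : G →* H) (hφ : Function.Surjective φ) (hker : φ.ker ≤ Subgroup.center G) :
    (∃ Q : Sylow p G, ∀ x : G, (∃ k : ℕ, orderOf x = p ^ k) → ∃ P : Sylow p G, P ≠ Q ∧ x ∈ P) ↔
    (∃ Q : Sylow p H, ∀ x : H, (∃ k : ℕ, orderOf x = p ^ k) → ∃ P : Sylow p H, P ≠ Q ∧ x ∈ P) := by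
  constructor
  · rintro ⟨Q, hQ⟩
    refine ⟨Sylow.mapSurjective hφ Q, ?_⟩
    rintro y ⟨k, hk⟩
    have hpg : IsPGroup p (Subgroup.zpowers y) :=
      IsPGroup.of_card (n := k) (by rw [Nat.card_zpowers, hk])
    obtain ⟨R, hR⟩ := hpg.exists_le_sylow
    obtain ⟨P₀, rfl⟩ := Sylow.mapSurjective_surjective hφ p R
    have hy : y ∈ ((Sylow.mapSurjective hφ P₀ : Sylow p H) : Subgroup H) :=
      hR (Subgroup.mem_zpowers y)
    rw [Sylow.coe_mapSurjective] at hy
    obtain ⟨x, hx, rfl⟩ := hy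
    obtain ⟨j, hj⟩ := (IsPGroup.iff_orderOf.1 P₀.isPGroup') ⟨x, hx⟩
    rw [Subgroup.orderOf_mk] at hj
    obtain ⟨P, hne, hP⟩ := hQ x ⟨j, hj⟩
    refine ⟨Sylow.mapSurjective hφ P, ?_, ?_⟩
    · intro h
      exact hne (map_injective φ hφ hker h)
    · show φ x ∈ ((Sylow.mapSurjective hφ P : Sylow p H) : Subgroup H)
      rw [Sylow.coe_mapSurjective]
      exact ⟨x, hP, rfl⟩
  · rintro ⟨Q', hQ'⟩
    obtain ⟨Q, rfl⟩ := Sylow.mapSurjective_surjective hφ p Q'
    refine ⟨Q, ?_⟩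
    rintro x ⟨k, hk⟩
    have h1 : orderOf (φ x) ∣ p ^ k := by
      rw [← hk]
      exact orderOf_map_dvd φ x
    obtain ⟨j, -, hj⟩ := (Nat.dvd_prime_pow hp.out).1 h1
    obtain ⟨R, hne, hR⟩ := hQ' (φ x) ⟨j, hj⟩
    obtain ⟨P, rfl⟩ := Sylow.mapSurjective_surjective hφ p R
    refine ⟨P, ?_, mem_of_map_mem φ hφ hker P hk hR⟩
    rintro rfl
    exact hne rfl

end abstract

/-- Let F be a finite field with q elements, p a prime and G = PSL(2, F). Say a Sylow p-subgroup Q of G is redundant when every element of p-power order lies in some Sylow p-subgroup other than Q. Then G has a redundant Sylow p-subgroup if and only if p = 2 and q is not of any of the forms 2ᵏ - 1, 2ᵏ, 2ᵏ + 1. -/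
theorem result {F : Type*} [Field F] [Fintype F] (p : ℕ) [Fact p.Prime] :
    (∃ Q : Sylow p (Matrix.ProjectiveSpecialLinearGroup (Fin 2) F), ∀ x : Matrix.ProjectiveSpecialLinearGroup (Fin 2) F,
        (∃ k : ℕ, orderOf x = p ^ k) → ∃ P : Sylow p (Matrix.ProjectiveSpecialLinearGroup (Fin 2) F), P ≠ Q ∧ x ∈ P) ↔
      (p = 2 ∧ (¬ ∃ k : ℕ, Fintype.card F + 1 = 2 ^ k) ∧ (¬ ∃ k : ℕ, Fintype.card F = 2 ^ k) ∧
        ¬ ∃ k : ℕ, Fintype.card F = 2 ^ k + 1) := by
  rw [← Cfsg.Agent.S4357.result]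
  symm
  exact transfer (QuotientGroup.mk' (Subgroup.center (Matrix.SpecialLinearGroup (Fin 2) F)))
    (QuotientGroup.mk'_surjective _) (by rw [QuotientGroup.ker_mk'])

end Cfsg.Agent.S4356
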