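import Cfsg.Statements.S4358
import Mathlib

set_option autoImplicit false
open Cfsg

namespace Cfsg.Agent.S4358

open Matrix
open scoped Pointwise

section mon

variable {F : Type*} [Field F] {p : ℕ} [NeZero p]

/-- Monomial matrices in a cyclic pattern. -/
def mon (δ : Fin p → F) (s : Fin p) : Matrix (Fin p) (Fin p) F :=
  Matrix.of fun j k => if k = j + s then δ j else 0

lemma mon_apply (δ : Fin p → F) (s j k : Fin p) : mon δ s j k = if k = j + s then δ j else 0 := rfl

lemma mon_mul_apply (δ : Fin p → F) (s : Fin p) (A : Matrix (Fin p) (Fin p) F) (j k : Fin p) :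
    (mon δ s * A) j k = δ j * A (j + s) k := by
  rw [Matrix.mul_apply, Finset.sum_eq_single (j + s)]
  · rw [mon_apply, if_pos rfl]
  · intro b _ hb
    rw [mon_apply, if_neg hb, zero_mul]
  · intro h
    exact absurd (Finset.mem_univ _) h

lemma mul_mon_apply (δ : Fin p → F) (s : Fin p) (A : Matrix (Fin p) (Fin p) F) (j k : Fin p) :
    (A * mon δ s) j k = A j (k - s) * δ (k - s) := by
  rw [Matrix.mul_apply, Finset.sum_eq_single (k - s)]
  · rw [mon_apply, if_pos (by abel)]
  · intro b _ hb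
    rw [mon_apply, if_neg, mul_zero]
    rintro rfl
    apply hb
    abel
  · intro h
    exact absurd (Finset.mem_univ _) h

lemma mon_mul (δ δ' : Fin p → F) (s s' : Fin p) :
    mon δ s * mon δ' s' = mon (fun j => δ j * δ' (j + s)) (s + s') := by
  ext j k
  rw [mon_mul_apply, mon_apply, mon_apply, add_assoc]
  split_ifs <;> simp

lemma mon_one : mon (fun _ => (1 : F)) (0 : Fin p) = 1 := by
  ext j k
  rw [mon_apply, add_zero, Matrix.one_apply]
  by_cases h : j = k
  · simp [h]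
  · rw [if_neg h, if_neg (Ne.symm h)]

lemma mon_eq_iff {δ δ' : Fin p → F} {s s' : Fin p} (h0 : ∀ j, δ j ≠ 0) (h : mon δ s = mon δ' s') :
    s = s' ∧ δ = δ' := by
  have h1 : s = s' := by
    by_contra hne
    have h2 := congrFun (congrFun h 0) (0 + s)
    rw [mon_apply, mon_apply, if_pos rfl, if_neg (by simpa using hne)] at h2
    exact h0 _ h2
  subst h1
  refine ⟨rfl, ?_⟩
  funext j
  have h2 := congrFun (congrFun h j) (j + s)
  rwa [mon_apply, mon_apply, if_pos rfl, if_pos rfl] at h2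

/-- The predicate of being in the wreath product. -/
def IsQ (p : ℕ) [NeZero p] (A : Matrix (Fin p) (Fin p) F) : Prop :=
  ∃ (δ : Fin p → F) (s : Fin p), (∀ j, δ j ^ p = 1) ∧ A = mon δ s

lemma ne_zero_of_pow {a : F} (h : a ^ p = 1) : a ≠ 0 := by
  rintro rfl
  rw [zero_pow (NeZero.ne p)] at h
  exact zero_ne_one h

lemma IsQ.mul {A B : Matrix (Fin p) (Fin p) F} (hA : IsQ p A) (hB : IsQ p B) : IsQ p (A * B) := by
  obtain ⟨δ, s, h1, rfl⟩ := hA
  obtain ⟨δ', s', h2, rfl⟩ := hB
  refine ⟨_, _, ?_, mon_mul δ δ' s s'⟩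
  intro j
  rw [mul_pow, h1, h2, one_mul]

lemma IsQ.one : IsQ p (1 : Matrix (Fin p) (Fin p) F) :=
  ⟨fun _ => 1, 0, fun _ => one_pow _, mon_one.symm⟩

lemma mon_inv (δ : Fin p → F) (s : Fin p) (h0 : ∀ j, δ j ≠ 0) :
    mon δ s * mon (fun j => (δ (j - s))⁻¹) (-s) = 1 := by
  rw [mon_mul, ← mon_one]
  congr 1
  · funext j
    rw [add_sub_cancel_right, mul_inv_cancel₀ (h0 j)]
  · abel

/-- Units from right inverses. -/
def mkU (A B : Matrix (Fin p) (Fin p) F) (h : A * B = 1) : GL (Fin p) F :=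
  ⟨A, B, h, mul_eq_one_comm.1 h⟩

@[simp] lemma mkU_coe (A B : Matrix (Fin p) (Fin p) F) (h : A * B = 1) :
    ((mkU A B h : GL (Fin p) F) : Matrix (Fin p) (Fin p) F) = A := rfl

/-- The wreath product as a subgroup. -/
def QQ (F : Type*) [Field F] (p : ℕ) [NeZero p] : Subgroup (GL (Fin p) F) where
  carrier := {g | IsQ p (g : Matrix (Fin p) (Fin p) F)}
  mul_mem' := fun {a b} ha hb => by
    show IsQ p ((a * b : GL (Fin p) F) : Matrix (Fin p) (Fin p) F)
    rw [Units.val_mul]
    exact IsQ.mul ha hb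
  one_mem' := by
    show IsQ p ((1 : GL (Fin p) F) : Matrix (Fin p) (Fin p) F)
    rw [Units.val_one]
    exact IsQ.one
  inv_mem' := fun {a} ha => by
    obtain ⟨δ, s, h1, h2⟩ := ha
    show IsQ p ((a⁻¹ : GL (Fin p) F) : Matrix (Fin p) (Fin p) F)
    have h3 := mon_inv δ s (fun j => ne_zero_of_pow (h1 j))
    have h4 : ((a⁻¹ : GL (Fin p) F) : Matrix (Fin p) (Fin p) F) =
        mon (fun j => (δ (j - s))⁻¹) (-s) := by
      have h5 : (a : Matrix (Fin p) (Fin p) F) * mon (fun j => (δ (j - s))⁻¹) (-s) = 1 := by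
        rw [h2, h3]
      calc ((a⁻¹ : GL (Fin p) F) : Matrix (Fin p) (Fin p) F)
          = ((a⁻¹ : GL (Fin p) F) : Matrix (Fin p) (Fin p) F) *
            ((a : Matrix (Fin p) (Fin p) F) * mon (fun j => (δ (j - s))⁻¹) (-s)) := by
              rw [h5, mul_one]
        _ = mon (fun j => (δ (j - s))⁻¹) (-s) := by
              rw [← mul_assoc, Units.inv_mul, one_mul]
    rw [h4]
    exact ⟨_, _, fun j => by rw [inv_pow, h1, inv_one], rfl⟩

lemma mem_QQ {g : GL (Fin p) F} : g ∈ QQ F p ↔ IsQ p (g : Matrix (Fin p) (Fin p) F) := Iff.rfl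

/-- The element of the wreath product from a monomial matrix. -/
def monU (δ : Fin p → F) (s : Fin p) (h0 : ∀ j, δ j ≠ 0) : GL (Fin p) F :=
  mkU (mon δ s) _ (mon_inv δ s h0)

lemma card_QQ [Finite F] {ζ : F} (hζ : IsPrimitiveRoot ζ p) :
    Nat.card (QQ F p) = p ^ (p + 1) := by
  classical
  let f : ((Fin p → rootsOfUnity p F) × Fin p) → QQ F p := fun d =>
    ⟨monU (fun j => ((d.1 j : Fˣ) : F)) d.2 (fun j => Units.ne_zero _), by
      refine ⟨_, _, ?_, rfl⟩
      intro j
      have h := (d.1 j).2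
      rw [mem_rootsOfUnity] at h
      rw [← Units.val_pow_eq_pow_val, h, Units.val_one]⟩
  have hf : Function.Bijective f := by
    constructor
    · intro d d' h
      have h1 : mon (fun j => ((d.1 j : Fˣ) : F)) d.2 = mon (fun j => ((d'.1 j : Fˣ) : F)) d'.2 :=
        congrArg (fun g : QQ F p => ((g : GL (Fin p) F) : Matrix (Fin p) (Fin p) F)) h
      obtain ⟨h2, h3⟩ := mon_eq_iff (fun j => Units.ne_zero _) h1
      apply Prod.ext
      · funext j
        apply Subtype.ext
        apply Units.ext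
        exact congrFun h3 j
      · exact h2
    · rintro ⟨g, δ, s, h1, h2⟩
      have hne : ∀ j, δ j ≠ 0 := fun j => ne_zero_of_pow (h1 j)
      refine ⟨(fun j => rootsOfUnity.mkOfPowEq (δ j) (h1 j), s), ?_⟩
      apply Subtype.ext
      apply Units.ext
      show mon _ s = _
      rw [h2]
      rfl
  rw [← Nat.card_congr (Equiv.ofBijective f hf), Nat.card_prod, Nat.card_fun, Nat.card_eq_fintype_card (α := Fin p),
    Fintype.card_fin, hζ.card_rootsOfUnity, pow_succ]

lemma reflection_not_mem (hp3 : 3 ≤ p) {ζ : F} (hζ1 : ζ ≠ 1) (hζp : ζ ^ p = 1) (h : GL (Fin p) F)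
    (k a b : Fin p) (hab : a ≠ b) (ha : (h : Matrix (Fin p) (Fin p) F) a k ≠ 0)
    (hb : (h : Matrix (Fin p) (Fin p) F) b k ≠ 0) :
    ∃ t ∈ QQ F p, h * t * h⁻¹ ∉ QQ F p := by
  have hδ : ∀ j : Fin p, (if j = k then ζ else 1) ^ p = 1 := by
    intro j
    split_ifs
    · exact hζp
    · exact one_pow _
  refine ⟨monU (fun j => if j = k then ζ else 1) 0 (fun j => ne_zero_of_pow (hδ j)),
    ⟨_, _, hδ, rfl⟩, ?_⟩
  rintro ⟨δ, s, hδ', hM⟩
  obtain ⟨H, hH⟩ : ∃ H : Matrix (Fin p) (Fin p) F, H = (h : Matrix (Fin p) (Fin p) F) := ⟨_, rfl⟩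
  obtain ⟨H', hH'⟩ : ∃ H' : Matrix (Fin p) (Fin p) F,
      H' = ((h⁻¹ : GL (Fin p) F) : Matrix (Fin p) (Fin p) F) := ⟨_, rfl⟩
  have hHH' : H * H' = 1 := by rw [hH, hH', Units.mul_inv]
  have hH'H : H' * H = 1 := by rw [hH, hH', Units.inv_mul]
  rw [← hH] at ha hb
  have hM' : H * mon (fun j => if j = k then ζ else 1) 0 * H' = mon δ s := by
    rw [← hM, hH, hH']
    rfl
  have hentry : ∀ j l, (mon δ s) j l = (1 : Matrix (Fin p) (Fin p) F) j l +
      (ζ - 1) * (H j k * H' k l) := by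
    intro j l
    rw [← hM', Matrix.mul_apply]
    have h1 : ∀ m, (H * mon (fun j => if j = k then ζ else 1) 0) j m * H' m l =
        H j m * H' m l + (if m = k then (ζ - 1) * (H j k * H' k l) else 0) := by
      intro m
      rw [mul_mon_apply, sub_zero]
      by_cases hm : m = k
      · subst hm
        rw [if_pos rfl, if_pos rfl]
        ring
      · rw [if_neg hm, if_neg hm]
        ring
    rw [Finset.sum_congr rfl (fun m _ => h1 m), Finset.sum_add_distrib, Finset.sum_ite_eq' Finset.univ k,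
      if_pos (Finset.mem_univ _), ← Matrix.mul_apply, hHH']
  have hζ' : ζ - 1 ≠ 0 := sub_ne_zero.2 hζ1
  obtain ⟨l, hl⟩ : ∃ l, H' k l ≠ 0 := by
    by_contra hcon
    push Not at hcon
    have h1 := congrFun (congrFun hH'H k) k
    rw [Matrix.mul_apply, Finset.sum_eq_zero (fun m _ => by rw [hcon m, zero_mul]),
      Matrix.one_apply_eq] at h1
    exact zero_ne_one h1
  by_cases hs : s = 0
  · subst hs
    have hoff : ∀ j, j ≠ l → H j k * H' k l = 0 := by
      intro j hj
      have h1 := hentry j l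
      rw [mon_apply, add_zero, if_neg (Ne.symm hj), Matrix.one_apply_ne hj, zero_add] at h1
      rcases mul_eq_zero.1 h1.symm with h2 | h2
      · exact absurd h2 hζ'
      · exact h2
    by_cases hal : a = l
    · have h1 := hoff b (by rw [← hal]; exact Ne.symm hab)
      rcases mul_eq_zero.1 h1 with h2 | h2
      · exact hb h2
      · exact hl h2
    · have h1 := hoff a hal
      rcases mul_eq_zero.1 h1 with h2 | h2
      · exact ha h2
      · exact hl h2
  · have hdiag : ∀ j, 1 + (ζ - 1) * (H j k * H' k j) = 0 := by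
      intro j
      have h1 := hentry j j
      rw [mon_apply, if_neg (by simpa using hs), Matrix.one_apply_eq] at h1
      exact h1.symm
    have hnz1 : ∀ j, H j k ≠ 0 := by
      intro j h0
      have := hdiag j
      rw [h0, zero_mul, mul_zero, add_zero] at this
      exact one_ne_zero this
    have hnz2 : ∀ j, H' k j ≠ 0 := by
      intro j h0
      have := hdiag j
      rw [h0, mul_zero, mul_zero, add_zero] at this
      exact one_ne_zero this
    -- a third index
    obtain ⟨m, hm1, hm2⟩ : ∃ m : Fin p, m ≠ 0 ∧ m ≠ 0 + s := by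
      by_contra hcon
      push Not at hcon
      have h1 : (Finset.univ : Finset (Fin p)) ⊆ {0, 0 + s} := by
        intro m _
        by_cases hm : m = 0
        · simp [hm]
        · simp [hcon m hm]
      have h2 := Finset.card_le_card h1
      rw [Finset.card_univ, Fintype.card_fin] at h2
      have h3 := Finset.card_le_two (a := (0 : Fin p)) (b := 0 + s)
      omega
    have h1 := hentry 0 m
    rw [mon_apply, if_neg hm2, Matrix.one_apply_ne (Ne.symm hm1), zero_add] at h1
    exact (mul_ne_zero hζ' (mul_ne_zero (hnz1 0) (hnz2 m))) h1.symm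

end mon

section cases

variable {F : Type*} [Field F] {p : ℕ} [NeZero p]

lemma mon_pow (δ : Fin p → F) (s : Fin p) (hδ : ∀ j, δ j ^ p = 1) (n : ℕ) :
    ∃ c : Fin p → F, (∀ j, c j ^ p = 1) ∧ (mon δ s) ^ n = mon c (n • s) := by
  induction n with
  | zero =>
    refine ⟨fun _ => 1, fun _ => one_pow _, ?_⟩
    rw [pow_zero, zero_nsmul, mon_one]
  | succ n ih =>
    obtain ⟨c, h1, h2⟩ := ih
    refine ⟨fun j => c j * δ (j + n • s), ?_, ?_⟩
    · intro j
      rw [mul_pow, h1, hδ, one_mul]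
    · rw [pow_succ, h2, mon_mul, succ_nsmul]

/-- The conclusion of the case analysis. -/
def Good (x u : GL (Fin p) F) : Prop :=
  u⁻¹ * x * u ∈ QQ F p ∧ ∃ k a b : Fin p, a ≠ b ∧ (u : Matrix (Fin p) (Fin p) F) a k ≠ 0 ∧
    (u : Matrix (Fin p) (Fin p) F) b k ≠ 0

lemma conj_mem_of_comm {x u : GL (Fin p) F} (hx : x ∈ QQ F p)
    (h : (x : Matrix (Fin p) (Fin p) F) * u = u * x) : u⁻¹ * x * u ∈ QQ F p := by
  have : u⁻¹ * x * u = x := by
    have h1 : x * u = u * x := Units.ext h
    rw [mul_assoc, h1, ← mul_assoc, inv_mul_cancel, one_mul]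
  rwa [this]

lemma case_rep (x : GL (Fin p) F) (hx : x ∈ QQ F p) (δ : Fin p → F)
    (hX : (x : Matrix (Fin p) (Fin p) F) = mon δ 0) {a b : Fin p} (hab : a ≠ b) (hδ : δ a = δ b) :
    ∃ u, Good x u := by
  have hT : transvection a b (1 : F) * transvection a b (-1) = 1 := by
    rw [transvection_mul_transvection_same a b hab, add_neg_cancel, transvection_zero]
  have hentry : ∀ j k, (transvection a b (1 : F)) j k =
      (1 : Matrix (Fin p) (Fin p) F) j k + (if j = a ∧ k = b then 1 else 0) := by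
    intro j k
    rw [transvection, Matrix.add_apply, Matrix.single_apply]
    congr 1
    by_cases h : a = j ∧ b = k
    · rw [if_pos h, if_pos ⟨h.1.symm, h.2.symm⟩]
    · rw [if_neg h, if_neg (fun h' => h ⟨h'.1.symm, h'.2.symm⟩)]
  refine ⟨mkU _ _ hT, conj_mem_of_comm hx ?_, b, a, b, hab, ?_, ?_⟩
  · rw [mkU_coe, hX]
    ext j k
    rw [mon_mul_apply, mul_mon_apply, add_zero, sub_zero, hentry]
    by_cases hjk : j = k
    · subst hjk
      ring
    · rw [Matrix.one_apply_ne hjk, zero_add]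
      by_cases h : j = a ∧ k = b
      · rw [if_pos h, h.1, h.2, hδ]
        ring
      · rw [if_neg h]
        ring
  · rw [mkU_coe, hentry, Matrix.one_apply_ne hab, zero_add, if_pos ⟨rfl, rfl⟩]
    exact one_ne_zero
  · rw [mkU_coe, hentry, Matrix.one_apply_eq, if_neg (fun h => hab h.1.symm), add_zero]
    exact one_ne_zero

lemma case_inj (hp2 : 2 ≤ p) (x : GL (Fin p) F) (δ : Fin p → F)
    (hX : (x : Matrix (Fin p) (Fin p) F) = mon δ 0) (hδ : ∀ j, δ j ^ p = 1)
    (hinj : Function.Injective δ) : ∃ u, Good x u := by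
  have hdet : (vandermonde δ).det ≠ 0 := det_vandermonde_ne_zero_iff.2 hinj
  have hu : IsUnit (vandermonde δ) :=
    (Matrix.isUnit_iff_isUnit_det _).2 (isUnit_iff_ne_zero.2 hdet)
  obtain ⟨V, hV⟩ : ∃ V : GL (Fin p) F, (V : Matrix (Fin p) (Fin p) F) = vandermonde δ :=
    ⟨hu.unit, hu.unit_spec⟩
  have hone : ((1 : Fin p) : ℕ) = 1 := by
    rw [Fin.val_one', Nat.mod_eq_of_lt (by omega)]
  refine ⟨V, ?_, 0, 0, 1, ?_, ?_, ?_⟩
  · have hC : (x : Matrix (Fin p) (Fin p) F) * vandermonde δ =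
        vandermonde δ * mon (fun _ => 1) (-1) := by
      rw [hX]
      ext j t
      rw [mon_mul_apply, mul_mon_apply, add_zero, mul_one, sub_neg_eq_add, vandermonde_apply,
        vandermonde_apply, Fin.val_add, hone, ← pow_eq_pow_mod _ (hδ j), pow_succ]
      ring
    show IsQ p ((V⁻¹ * x * V : GL (Fin p) F) : Matrix (Fin p) (Fin p) F)
    rw [Units.val_mul, Units.val_mul, mul_assoc, hV, hC, ← mul_assoc, ← hV,
      Units.inv_mul, one_mul]
    exact ⟨_, _, fun _ => one_pow _, rfl⟩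
  · intro h
    have := congrArg Fin.val h
    rw [hone] at this
    simp at this
  · rw [hV, vandermonde_apply]
    simp
  · rw [hV, vandermonde_apply]
    simp

lemma addOrder_aux [Fact p.Prime] {s : Fin p} (hs : s ≠ 0) {l : ℕ} (hl : l • s = 0) : p ∣ l := by
  have hpp : p.Prime := Fact.out
  have h1 : addOrderOf s ∣ Nat.card (Fin p) := addOrderOf_dvd_natCard s
  rw [Nat.card_eq_fintype_card, Fintype.card_fin] at h1
  rcases (Nat.dvd_prime hpp).1 h1 with h2 | h2
  · rw [AddMonoid.addOrderOf_eq_one_iff] at h2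
    exact absurd h2 hs
  · rw [← h2]
    exact addOrderOf_dvd_of_nsmul_eq_zero hl

lemma case_one [Fact p.Prime] (hp3 : 3 ≤ p) (hodd : Odd p) {ζ : F} (hζ1 : ζ ≠ 1) (hζ0 : ζ ≠ 0)
    (hpF : (p : F) ≠ 0) (x : GL (Fin p) F)
    (hx : x ∈ QQ F p) (δ : Fin p → F) (s : Fin p) (hs : s ≠ 0)
    (hX : (x : Matrix (Fin p) (Fin p) F) = mon δ s) (hδ : ∀ j, δ j ^ p = 1)
    (hXp : (mon δ s) ^ p = 1) : ∃ u, Good x u := by
  obtain ⟨X, hXdef⟩ : ∃ X : Matrix (Fin p) (Fin p) F, X = mon δ s := ⟨_, rfl⟩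
  rw [← hXdef] at hX hXp
  obtain ⟨S, hS⟩ : ∃ S : Matrix (Fin p) (Fin p) F, S = ∑ l ∈ Finset.range p, X ^ l := ⟨_, rfl⟩
  have hXS : X * S = S := by
    have h1 := mul_geom_sum X p
    rw [← hS, hXp, sub_self, sub_mul, one_mul, sub_eq_zero] at h1
    exact h1
  have hSX : S * X = S := by
    have h1 := geom_sum_mul X p
    rw [← hS, hXp, sub_self, mul_sub, mul_one, sub_eq_zero] at h1
    exact h1
  have hXlS : ∀ l : ℕ, X ^ l * S = S := by
    intro l
    induction l with
    | zero => simp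
    | succ l ih => rw [pow_succ, mul_assoc, hXS, ih]
  have hSS : S * S = (p : F) • S := by
    have h1 : S * S = (∑ l ∈ Finset.range p, X ^ l) * S := by rw [← hS]
    rw [h1, Finset.sum_mul, Finset.sum_congr rfl (fun l _ => hXlS l), Finset.sum_const, Finset.card_range,
      Nat.cast_smul_eq_nsmul]
  obtain ⟨E, hE⟩ : ∃ E : Matrix (Fin p) (Fin p) F, E = (p : F)⁻¹ • S := ⟨_, rfl⟩
  have hEE : E * E = E := by
    rw [hE, smul_mul_smul_comm, hSS, smul_smul]
    congr 1
    field_simp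
  have hXE : X * E = E := by rw [hE, mul_smul_comm, hXS]
  have hEX : E * X = E := by rw [hE, smul_mul_assoc, hSX]
  have hg : (1 + (ζ - 1) • E) * (1 + (ζ⁻¹ - 1) • E) = 1 := by
    have h0 : (ζ - 1) + (ζ⁻¹ - 1) + (ζ - 1) * (ζ⁻¹ - 1) = 0 := by
      field_simp
      ring
    have h1 : (1 + (ζ - 1) • E) * (1 + (ζ⁻¹ - 1) • E) =
        1 + ((ζ - 1) + (ζ⁻¹ - 1) + (ζ - 1) * (ζ⁻¹ - 1)) • E := by
      rw [mul_add, add_mul, add_mul, one_mul, one_mul, mul_one, smul_mul_smul_comm, hEE, add_smul,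
        add_smul]
      abel
    rw [h1, h0, zero_smul, add_zero]
  have hS00 : S 0 0 = 1 := by
    rw [hS, Matrix.sum_apply, Finset.sum_eq_single 0]
    · simp
    · intro l hl hl0
      obtain ⟨c, -, hc⟩ := mon_pow δ s hδ l
      rw [hXdef, hc, mon_apply, if_neg, ]
      intro h
      rw [zero_add] at h
      have h1 := addOrder_aux hs h.symm
      have h2 := Nat.le_of_dvd (Nat.pos_of_ne_zero hl0) h1
      have h3 := Finset.mem_range.1 hl
      omega
    · intro h
      exact absurd (Finset.mem_range.2 (NeZero.pos p)) h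
  have hstep : ∀ j, S j 0 ≠ 0 → S (j + s) 0 ≠ 0 := by
    intro j hj h0
    apply hj
    have h3 := congrFun (congrFun hXS j) 0
    rw [hXdef, mon_mul_apply, h0, mul_zero] at h3
    exact h3.symm
  have h1 : S (0 + s) 0 ≠ 0 := hstep 0 (by rw [hS00]; exact one_ne_zero)
  have h2 : S (0 + s + s) 0 ≠ 0 := hstep _ h1
  have hss : s + s ≠ 0 := by
    intro h
    have h3 : 2 • s = 0 := by rw [two_nsmul]; exact h
    have h4 := Nat.le_of_dvd (by norm_num) (addOrder_aux hs h3)
    omega
  have hentry : ∀ j, j ≠ 0 → (1 + (ζ - 1) • E) j 0 = (ζ - 1) * ((p : F)⁻¹ * S j 0) := by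
    intro j hj
    rw [Matrix.add_apply, Matrix.one_apply_ne hj, zero_add, Matrix.smul_apply, hE, Matrix.smul_apply]
    simp
  have hζ' : ζ - 1 ≠ 0 := sub_ne_zero.2 hζ1
  have hpF' : (p : F)⁻¹ ≠ 0 := inv_ne_zero hpF
  refine ⟨mkU _ _ hg, conj_mem_of_comm hx ?_, 0, 0 + s, 0 + s + s, ?_, ?_, ?_⟩
  · rw [mkU_coe, hX, mul_add, add_mul, mul_one, one_mul, mul_smul_comm, smul_mul_assoc, hXE, hEX]
  · rw [zero_add]
    intro h
    apply hs
    have : s + 0 = s + s := by simpa using h
    exact (add_left_cancel this).symm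
  · rw [mkU_coe, hentry _ (by simpa using hs)]
    exact mul_ne_zero hζ' (mul_ne_zero hpF' h1)
  · rw [mkU_coe, hentry _ (by simpa using hss)]
    exact mul_ne_zero hζ' (mul_ne_zero hpF' h2)

lemma case_ne (hodd : Odd p) {c : F} (hc : c + 1 ≠ 0) (x : GL (Fin p) F)
    (hx : x ∈ QQ F p) (δ : Fin p → F) (s : Fin p) (hs : s ≠ 0)
    (hX : (x : Matrix (Fin p) (Fin p) F) = mon δ s) (hδ : ∀ j, δ j ^ p = 1)
    (hXp : (mon δ s) ^ p = c • 1) : ∃ u, Good x u := by
  obtain ⟨X, hXdef⟩ : ∃ X : Matrix (Fin p) (Fin p) F, X = mon δ s := ⟨_, rfl⟩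
  rw [← hXdef] at hX hXp
  have hg : (1 + X) * ((c + 1)⁻¹ • ∑ l ∈ Finset.range p, (-X) ^ l) = 1 := by
    have h1 := mul_geom_sum (-X) p
    rw [hodd.neg_pow, hXp] at h1
    have h2 : (1 + X) * ∑ l ∈ Finset.range p, (-X) ^ l = (c + 1) • 1 := by
      have h3 : (1 + X) = -(-X - 1) := by abel
      rw [h3, neg_mul, h1, add_smul, one_smul]
      abel
    rw [mul_smul_comm, h2, smul_smul, inv_mul_cancel₀ hc, one_smul]
  have h00 : X 0 0 = 0 := by
    rw [hXdef, mon_apply, if_neg]
    simpa using Ne.symm hs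
  have hns : -s ≠ 0 := neg_ne_zero.2 hs
  refine ⟨mkU _ _ hg, conj_mem_of_comm hx ?_, 0, 0, -s, Ne.symm hns, ?_, ?_⟩
  · rw [mkU_coe, hX, mul_add, add_mul, mul_one, one_mul]
  · rw [mkU_coe, Matrix.add_apply, Matrix.one_apply_eq, h00, add_zero]
    exact one_ne_zero
  · rw [mkU_coe, Matrix.add_apply, Matrix.one_apply_ne hns, zero_add, hXdef, mon_apply, if_pos (by abel)]
    exact ne_zero_of_pow (hδ _)

lemma good_of_mem [Fact p.Prime] (hp3 : 3 ≤ p) (hodd : Odd p) {ζ : F} (hζ1 : ζ ≠ 1) (hζ0 : ζ ≠ 0)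
    (hpF : (p : F) ≠ 0) (x : GL (Fin p) F) (hx : x ∈ QQ F p) : ∃ u, Good x u := by
  obtain ⟨δ, s, hδ, hX⟩ := hx
  have hx' : x ∈ QQ F p := ⟨δ, s, hδ, hX⟩
  by_cases hs : s = 0
  · subst hs
    by_cases hinj : Function.Injective δ
    · exact case_inj (by omega) x δ hX hδ hinj
    · obtain ⟨a, b, hab, hne⟩ := Function.not_injective_iff.1 hinj
      exact case_rep x hx' δ hX hne hab
  · obtain ⟨c, hc1, hc2⟩ := mon_pow δ s hδ p
    have hps : p • s = 0 := by
      have := card_nsmul_eq_zero' (G := Fin p) (x := s)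
      rwa [Nat.card_eq_fintype_card, Fintype.card_fin] at this
    rw [hps] at hc2
    have hstep : ∀ j, c (j + s) = c j := by
      intro j
      have h1 : mon δ s * mon c 0 = mon c 0 * mon δ s := by
        rw [← hc2, ← pow_succ, ← pow_succ']
      rw [mon_mul, mon_mul] at h1
      obtain ⟨-, h2⟩ := mon_eq_iff (fun j => mul_ne_zero (ne_zero_of_pow (hδ j))
        (ne_zero_of_pow (hc1 _))) h1
      have h3 := congrFun h2 j
      simp only [add_zero] at h3
      have h4 : δ j * c (j + s) = δ j * c j := by rw [h3]; ring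
      exact mul_left_cancel₀ (ne_zero_of_pow (hδ j)) h4
    have hpow : ∀ l : ℕ, c (l • s) = c 0 := by
      intro l
      induction l with
      | zero => rw [zero_nsmul]
      | succ l ih => rw [succ_nsmul, hstep, ih]
    have hconst : ∀ j, c j = c 0 := by
      intro j
      have hcard : Nat.card (Fin p) = p := by
        rw [Nat.card_eq_fintype_card, Fintype.card_fin]
      obtain ⟨l, hl⟩ := mem_multiples_of_prime_card hcard (g := s) (g' := j) hs
      rw [← hl]
      exact hpow l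
    have hmon : mon c 0 = c 0 • (1 : Matrix (Fin p) (Fin p) F) := by
      ext j k
      rw [mon_apply, add_zero, Matrix.smul_apply, Matrix.one_apply, hconst j]
      by_cases h : j = k
      · simp [h]
      · rw [if_neg h, if_neg (Ne.symm h)]
        simp
    by_cases hc0 : c 0 = 1
    · refine case_one hp3 hodd hζ1 hζ0 hpF x hx' δ s hs hX hδ ?_
      rw [hc2, hmon, hc0, one_smul]
    · refine case_ne hodd (c := c 0) ?_ x hx' δ s hs hX hδ (hc2.trans hmon)
      intro h
      have h1 : c 0 = -1 := eq_neg_of_add_eq_zero_left h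
      have h2 := hc1 0
      rw [h1, hodd.neg_one_pow] at h2
      apply hc0
      rw [h1, h2]

end cases

section numeric

lemma val_aux {p q : ℕ} [Fact p.Prime] (h1 : p ∣ q - 1) (h2 : ¬ p ^ 2 ∣ q - 1) (hq : 2 ≤ q) :
    padicValNat p (q - 1) = 1 := by
  have h0 : q - 1 ≠ 0 := by omega
  have h3 : 1 ≤ padicValNat p (q - 1) := (padicValNat_dvd_iff_le h0).1 (by simpa using h1)
  have h4 : ¬ 2 ≤ padicValNat p (q - 1) := fun h => h2 ((padicValNat_dvd_iff_le h0).2 h)
  omega

lemma fact_term {p q : ℕ} [hp : Fact p.Prime] (hodd : Odd p) (h1 : p ∣ q - 1) (h2 : ¬ p ^ 2 ∣ q - 1)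
    (hq : 2 ≤ q) (i : ℕ) (hi : i < p) :
    (q ^ p - q ^ i).factorization p = 1 + (if i = 0 then 1 else 0) := by
  have hpp : p.Prime := hp.out
  have hpq : ¬ p ∣ q := by
    intro h
    have h3 : p ∣ q - (q - 1) := Nat.dvd_sub h h1
    have h4 : q - (q - 1) = 1 := by omega
    rw [h4] at h3
    exact hpp.one_lt.ne' (Nat.dvd_one.1 h3)
  have hfac : q ^ p - q ^ i = q ^ i * (q ^ (p - i) - 1 ^ (p - i)) := by
    rw [one_pow, Nat.mul_sub, mul_one, ← pow_add]
    congr 2
    omega
  have hgt : 1 ^ (p - i) < q ^ (p - i) := by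
    rw [one_pow]
    exact Nat.one_lt_pow (by omega) (by omega)
  rw [hfac, Nat.factorization_mul (by positivity) (by omega), Finsupp.add_apply,
    Nat.factorization_pow, Finsupp.smul_apply, Nat.factorization_eq_zero_of_not_dvd hpq, smul_zero,
    zero_add, Nat.factorization_def _ hpp,
    padicValNat.pow_sub_pow hodd (by omega) (by simpa using h1) hpq (by omega), val_aux h1 h2 hq]
  congr 1
  by_cases h0 : i = 0
  · subst h0
    rw [if_pos rfl, Nat.sub_zero, padicValNat_self]
  · rw [if_neg h0]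
    apply padicValNat.eq_zero_of_not_dvd
    intro h3
    have h4 := Nat.le_of_dvd (by omega) h3
    omega

lemma fact_GL {F : Type*} [Field F] [Fintype F] {p : ℕ} [hp : Fact p.Prime] (hodd : Odd p)
    (h1 : p ∣ Fintype.card F - 1) (h2 : ¬ p ^ 2 ∣ Fintype.card F - 1) :
    (Nat.card (GL (Fin p) F)).factorization p = p + 1 := by
  have hq : 2 ≤ Fintype.card F := Fintype.one_lt_card
  have hpp : p.Prime := hp.out
  have hterm : ∀ i : Fin p, (Fintype.card F ^ p - Fintype.card F ^ (i : ℕ)).factorization p =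
      1 + (if (i : ℕ) = 0 then 1 else 0) := fun i => fact_term hodd h1 h2 hq (i : ℕ) i.2
  rw [Matrix.card_GL_field, Nat.factorization_prod, Finsupp.finsetSum_apply,
    Finset.sum_congr rfl (fun i _ => hterm i), Finset.sum_add_distrib,
    Finset.sum_const, Finset.card_univ, Fintype.card_fin, smul_eq_mul, mul_one]
  · congr 1
    haveI : NeZero p := ⟨hpp.ne_zero⟩
    rw [Finset.sum_eq_single (0 : Fin p)]
    · simp
    · intro b _ hb
      rw [if_neg]
      intro h
      apply hb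
      apply Fin.ext
      simpa using h
    · intro h
      exact absurd (Finset.mem_univ _) h
  · intro i _
    have : Fintype.card F ^ (i : ℕ) < Fintype.card F ^ p := Nat.pow_lt_pow_right (by omega) i.2
    omega

end numeric

/-- Let p be an odd prime and F a finite field with q elements such that p divides q - 1 but p² does not. Then GL(p, F) has a Sylow p-subgroup Q such that every element of p-power order lies in some Sylow p-subgroup other than Q (a redundant Sylow p-subgroup). -/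
theorem result {F : Type*} [Field F] [Fintype F] (p : ℕ) [Fact p.Prime]
    (hp : p ≠ 2) (h1 : p ∣ Fintype.card F - 1) (h2 : ¬ p ^ 2 ∣ Fintype.card F - 1) :
    ∃ Q : Sylow p (Matrix.GeneralLinearGroup (Fin p) F), ∀ x : Matrix.GeneralLinearGroup (Fin p) F,
      (∃ k : ℕ, orderOf x = p ^ k) → ∃ P : Sylow p (Matrix.GeneralLinearGroup (Fin p) F), P ≠ Q ∧ x ∈ P := by
  classical
  have hpp : p.Prime := Fact.out
  haveI : NeZero p := ⟨hpp.ne_zero⟩
  have hodd : Odd p := hpp.odd_of_ne_two hp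
  have hp3 : 3 ≤ p := by
    have := hpp.two_le
    omega
  have hq : 2 ≤ Fintype.card F := Fintype.one_lt_card
  -- a root of unity
  obtain ⟨u, hu⟩ : ∃ u : Fˣ, orderOf u = p := exists_prime_orderOf_dvd_card' p (by
    rw [Nat.card_eq_fintype_card, Fintype.card_units]
    exact h1)
  have hζp : IsPrimitiveRoot (u : F) p :=
    (IsPrimitiveRoot.coe_units_iff).2 (hu ▸ IsPrimitiveRoot.orderOf u)
  have hζ1 : (u : F) ≠ 1 := hζp.ne_one hpp.one_lt
  have hζ0 : (u : F) ≠ 0 := Units.ne_zero u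
  have hpF : (p : F) ≠ 0 := by
    intro h
    obtain ⟨m, hm⟩ := h1
    have h3 : Fintype.card F = p * m + 1 := by omega
    have h5 : ((p * m + 1 : ℕ) : F) = 0 := by
      rw [← h3]
      exact Nat.cast_card_eq_zero F
    push_cast at h5
    rw [h, zero_mul, zero_add] at h5
    exact one_ne_zero h5
  have hcard : Nat.card (QQ F p) = p ^ (Nat.card (GL (Fin p) F)).factorization p := by
    rw [card_QQ hζp, fact_GL hodd h1 h2]
  refine ⟨Sylow.ofCard (QQ F p) hcard, ?_⟩
  rintro x ⟨k, hk⟩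
  by_cases hx : x ∈ QQ F p
  · obtain ⟨v, h3, c, a, b, hab, hA, hB⟩ := good_of_mem hp3 hodd hζ1 hζ0 hpF x hx
    obtain ⟨t, ht, ht'⟩ := reflection_not_mem hp3 hζ1 hζp.pow_eq_one v c a b hab hA hB
    refine ⟨v • Sylow.ofCard (QQ F p) hcard, ?_, ?_⟩
    · intro h
      have h4 : v ∈ Subgroup.normalizer
          (((Sylow.ofCard (QQ F p) hcard : Sylow p (GL (Fin p) F)) : Subgroup (GL (Fin p) F)) :
            Set (GL (Fin p) F)) := Sylow.smul_eq_iff_mem_normalizer.1 h
      rw [Subgroup.mem_normalizer_iff] at h4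
      exact ht' ((h4 t).1 ht)
    · have hmem : ∀ {Q : Sylow p (GL (Fin p) F)} {g y : GL (Fin p) F}, y ∈ g • Q ↔ g⁻¹ * y * g ∈ Q := by
        intro Q g y
        have h : y ∈ g • Q ↔ y ∈ MulAut.conj g • (Q : Subgroup (GL (Fin p) F)) := by
          rw [← Sylow.coe_subgroup_smul]
          rfl
        rw [h, Subgroup.mem_pointwise_smul_iff_inv_smul_mem, MulAut.smul_def, MulAut.conj_inv_apply]
        exact Iff.rfl
      exact hmem.2 h3
  · have hpg : IsPGroup p (Subgroup.zpowers x) :=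
      IsPGroup.of_card (n := k) (by rw [Nat.card_zpowers, hk])
    obtain ⟨P, hP⟩ := hpg.exists_le_sylow
    refine ⟨P, ?_, hP (Subgroup.mem_zpowers x)⟩
    rintro rfl
    exact hx (hP (Subgroup.mem_zpowers x))

end Cfsg.Agent.S4358
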