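import Cfsg.Statements.S4394
import Cfsg.Agent.Lib.FG85.SchmidtMain
-- import your own Cfsg.Agent.* helpers here

set_option autoImplicit false
open Cfsg

namespace Cfsg.Agent.S4394


section helpers
open Cfsg Cfsg.Agent.Lib.FG85.SchmidtKernel Cfsg.Agent.Lib.Core.Basic Cfsg.Agent.Lib.Core.PSolvable Cfsg.Agent.Lib.Core.PLength
end helpers

open Cfsg Cfsg.Agent.Lib.FG85.SchmidtKernel Cfsg.Agent.Lib.Core.Basic Cfsg.Agent.Lib.Core.PSolvable Cfsg.Agent.Lib.Core.PLength in


/-- Let X be a finite minimal non-nilpotent group (not nilpotent, every proper subgroup nilpotent) with a nontrivial normal Sylow p-subgroup P. If G is a finite p-solvable group whose Sylow p-subgroups are isomorphic to P, then G has p-length at most 1. -/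
theorem result {G X : Type*} [Group G] [Finite G] [Group X] [Finite X] (p : ℕ) [Fact p.Prime]
    (hX : Cfsg.IsMinimalNonNilpotent X) (P : Sylow p X) (hPn : (P : Subgroup X).Normal) (hP1 : (P : Subgroup X) ≠ ⊥)
    (hG : Cfsg.IsPSolvable p G) (Q : Sylow p G) (hQ : Nonempty (↥(Q : Subgroup G) ≃* ↥(P : Subgroup X))) : Cfsg.PLengthLE p 1 G := by
  classical
  obtain ⟨r, α, h⟩ := exists_SK hX P hPn hP1
  obtain ⟨e⟩ := hQ
  have hSKQ := h.of_equiv e
  set N := pPrimeCore p G with hN
  have hNn : N.Normal := inferInstanceAs (pPrimeCore p G).Normal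
  let f := QuotientGroup.mk' N
  have hf : Function.Surjective f := QuotientGroup.mk'_surjective N
  have hS₁ : IsPSolvable p (G ⧸ N) := isPSolvable_of_surjective f hf hG
  have hred : pPrimeCore p (G ⧸ N) = ⊥ := pPrimeCore_quotient_eq_bot
  let Sb : Sylow p (G ⧸ N) := Q.mapSurjective hf
  have hSb : (Sb : Subgroup (G ⧸ N)) = (Q : Subgroup G).map f := rfl
  have hinj : Function.Injective (f.subgroupMap (Q : Subgroup G)) := by
    rw [injective_iff_map_eq_one]
    intro a ha
    have h1 : f (a : G) = 1 := congrArg Subtype.val ha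
    have h2 : (a : G) ∈ N := (QuotientGroup.eq_one_iff _).mp h1
    have h3 : orderOf (a : G) ∣ Nat.card N := Subgroup.orderOf_dvd_natCard _ h2
    have h4 : orderOf (a : G) ∣ Nat.card (Q : Subgroup G) := Subgroup.orderOf_dvd_natCard _ a.2
    obtain ⟨k, hk⟩ := IsPGroup.iff_card.mp Q.isPGroup'
    rw [hk] at h4
    have h5 : Nat.Coprime (Nat.card N) (p ^ k) := Nat.Coprime.pow_right k pPrimeCore_coprime
    have h6 := Nat.eq_one_of_dvd_coprimes h5 h3 h4
    exact Subtype.ext (orderOf_eq_one_iff.mp h6)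
  let e₂ : (Q : Subgroup G) ≃* ((Q : Subgroup G).map f : Subgroup (G ⧸ N)) :=
    MulEquiv.ofBijective (f.subgroupMap (Q : Subgroup G)) ⟨hinj, f.subgroupMap_surjective _⟩
  have hSKb := hSKQ.of_equiv e₂.symm
  have hle := sylow_le_pCore hS₁ hred Sb (α := _) hSKb
  set T := pCore p (G ⧸ N) with hT
  have hTn : T.Normal := inferInstanceAs (pCore p (G ⧸ N)).Normal
  let f₂ := QuotientGroup.mk' T
  have hf₂ : Function.Surjective f₂ := QuotientGroup.mk'_surjective T
  have hcop : (Nat.card ((G ⧸ N) ⧸ T)).Coprime p := by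
    rw [Nat.coprime_comm, Nat.Prime.coprime_iff_not_dvd (Fact.out : p.Prime)]
    intro hd
    apply Sb.not_dvd_index
    have h1 : T.index ∣ (Sb : Subgroup (G ⧸ N)).index := Subgroup.index_dvd_of_le hle
    exact hd.trans h1
  have h0 : PLengthLE p 0 ((G ⧸ N) ⧸ T) := pLengthLE_zero_iff.mpr hcop
  have h1 : PLengthLE p (1 + 0) (G ⧸ N) := by
    refine PLengthLE.of_ker f₂ hf₂ ?_ h0
    rw [QuotientGroup.ker_mk']
    exact pLengthLE_one_of_isPGroup pCore_isPGroup
  have h2 : PLengthLE p (0 + (1 + 0)) G := by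
    refine PLengthLE.of_ker f hf ?_ h1
    rw [QuotientGroup.ker_mk']
    exact pLengthLE_zero_iff.mpr pPrimeCore_coprime
  simpa using h2

end Cfsg.Agent.S4394
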