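import Cfsg.Statements.S4419
import Cfsg.Agent.Lib.Transfer.Frobenius
import Cfsg.Agent.Lib.FG7.BurnsideBasis
import Cfsg.Agent.Lib.Core.Basic
import Cfsg.Agent.Lib.Coprime.MetaAction
import Mathlib

set_option autoImplicit false
open Cfsg

namespace Cfsg.Agent.S4419

open Cfsg.Agent.Lib.Transfer.Frobenius Cfsg.Agent.Lib.Core.Basic

theorem prime_dvd {Q : Type*} [Group Q] [Finite Q] {p q : ℕ} [hp : Fact p.Prime] (hq : q.Prime)
    (hqp : q ≠ p) (hQ : IsPGroup p Q) (hM : Cfsg.IsMetacyclic Q) (α : MulAut Q) (hα : orderOf α = q) :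
    q ∣ p ^ 2 - 1 := by
  classical
  haveI : Fact q.Prime := ⟨hq⟩
  have hpp : p.Prime := hp.out
  obtain ⟨a, b, hab⟩ := Cfsg.Agent.Lib.Metacyclic.Basic.exists_setup hM
  set Φ : Subgroup Q := frattini Q with hΦ
  have hpow : ∀ x : Q, ((x : Q ⧸ Φ)) ^ p = 1 := by
    intro x
    rw [← QuotientGroup.mk_pow, QuotientGroup.eq_one_iff]
    exact Cfsg.Agent.Lib.PGroups.Basic.pow_mem_frattini hQ x
  -- the quotient has at most `p²` elements
  have hcardV : Nat.card (Q ⧸ Φ) ≤ p ^ 2 := by
    haveI : NeZero p := ⟨hpp.ne_zero⟩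
    let F : Fin p × Fin p → Q ⧸ Φ := fun t => ((a : Q) : Q ⧸ Φ) ^ (t.1 : ℕ) * ((b : Q) : Q ⧸ Φ) ^ (t.2 : ℕ)
    have hF : Function.Surjective F := by
      intro v
      obtain ⟨x, rfl⟩ := QuotientGroup.mk_surjective v
      obtain ⟨i, j, rfl⟩ := hab.gen x
      refine ⟨(⟨i % p, Nat.mod_lt _ hpp.pos⟩, ⟨j % p, Nat.mod_lt _ hpp.pos⟩), ?_⟩
      simp only [F]
      rw [QuotientGroup.mk_mul, QuotientGroup.mk_pow, QuotientGroup.mk_pow,
        pow_eq_pow_mod i (hpow a), pow_eq_pow_mod j (hpow b)]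
    have := Nat.card_le_card_of_surjective F hF
    simpa [pow_two] using this
  -- the induced map
  have hchar : Φ.map α.toMonoidHom = Φ := by
    have h1 : (frattini Q).Characteristic := inferInstance
    exact Subgroup.characteristic_iff_map_eq.mp h1 α
  let f : (Q ⧸ Φ) ≃* (Q ⧸ Φ) := QuotientGroup.congr Φ Φ α hchar
  have hf : ∀ x : Q, f (x : Q ⧸ Φ) = (α x : Q) := fun x => rfl
  let g : Function.End (Q ⧸ Φ) := fun v => f v
  have hgpow : ∀ (k : ℕ) (x : Q), (g ^ k) ((x : Q ⧸ Φ)) = (((α ^ k) x : Q) : Q ⧸ Φ) := by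
    intro k
    induction k with
    | zero => intro x; rfl
    | succ k ih =>
      intro x
      rw [pow_succ', pow_succ']
      show g ((g ^ k) (x : Q ⧸ Φ)) = _
      rw [ih]
      rfl
  have hgq : g ^ q ^ 1 = 1 := by
    rw [pow_one]
    funext v
    obtain ⟨x, rfl⟩ := QuotientGroup.mk_surjective v
    rw [hgpow, ← hα, pow_orderOf_eq_one]
    rfl
  haveI : Fintype (Q ⧸ Φ) := Fintype.ofFinite _
  let F0 : Subgroup (Q ⧸ Φ) := MonoidHom.eqLocus f.toMonoidHom (MonoidHom.id _)
  have hmod : Nat.card (Q ⧸ Φ) ≡ Nat.card F0 [MOD q] := by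
    have h1 := Equiv.Perm.card_fixedPoints_modEq (p := q) (f := g) (n := 1) hgq
    rw [← Nat.card_eq_fintype_card, ← Nat.card_eq_fintype_card] at h1
    exact h1
  have hVp : IsPGroup p (Q ⧸ Φ) := hQ.to_quotient Φ
  obtain ⟨k, hk⟩ := IsPGroup.iff_card.mp hVp
  obtain ⟨l, -, hl⟩ := (Nat.dvd_prime_pow hpp).mp (hk ▸ Subgroup.card_subgroup_dvd_card F0)
  have hk2 : k ≤ 2 := by
    rw [hk] at hcardV
    exact (Nat.pow_le_pow_iff_right hpp.one_lt).mp hcardV
  have hlk : l ≤ k := by
    have h1 : Nat.card F0 ≤ Nat.card (Q ⧸ Φ) := Nat.card_le_card_of_injective _ Subtype.val_injective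
    rw [hk, hl] at h1
    exact (Nat.pow_le_pow_iff_right hpp.one_lt).mp h1
  have hne : l ≠ k := by
    rintro rfl
    have hF0 : F0 = ⊤ := Subgroup.eq_top_of_card_eq _ (by rw [hk, hl])
    have htriv : ∀ x : Q, α x * x⁻¹ ∈ Φ := by
      intro x
      have h1 : ((x : Q) : Q ⧸ Φ) ∈ F0 := by
        rw [hF0]
        exact Subgroup.mem_top _
      have h2 : f (x : Q ⧸ Φ) = (x : Q ⧸ Φ) := h1
      rw [← QuotientGroup.eq_one_iff, QuotientGroup.mk_mul, QuotientGroup.mk_inv, ← hf, h2, mul_inv_cancel]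
    have htriv' : ∀ β ∈ Subgroup.zpowers α, ∀ x : Q, β x * x⁻¹ ∈ Φ := by
      intro β hβ x
      obtain ⟨n, rfl⟩ := Cfsg.Agent.Lib.Metacyclic.Basic.exists_natPow_of_mem_zpowers hβ
      clear hβ
      induction n with
      | zero => simp [Φ.one_mem]
      | succ n ih =>
        rw [pow_succ']
        have h4 := Φ.mul_mem (htriv ((α ^ n) x)) ih
        simpa [mul_assoc] using h4
    obtain ⟨n, hn⟩ := IsPGroup.iff_card.mp hQ
    have hr : Φ.index = p ^ l := by
      rw [← hk]
      rfl
    have h5 := Cfsg.Agent.Lib.FG7.BurnsideBasis.card_dvd hn hr (Subgroup.zpowers α) htriv'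
    rw [Nat.card_zpowers, hα] at h5
    exact hqp ((Nat.prime_dvd_prime_iff_eq hq hpp).mp (hq.dvd_of_dvd_pow h5))
  rw [hk, hl] at hmod
  have hdvd : q ∣ p ^ k - p ^ l := (Nat.modEq_iff_dvd' (Nat.pow_le_pow_right hpp.pos hlk)).mp hmod.symm
  have e2 : p ^ 2 - 1 = (p - 1) * (p + 1) := by
    obtain ⟨p', hp'⟩ : ∃ p', p = p' + 1 := ⟨p - 1, by have := hpp.pos; omega⟩
    subst hp'
    simp only [Nat.add_sub_cancel]
    ring_nf
    omega
  have hlt : l < k := lt_of_le_of_ne hlk hne
  interval_cases k <;> interval_cases l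
  · simp only [pow_one, pow_zero] at hdvd
    rw [e2]
    exact hdvd.mul_right _
  · simpa using hdvd
  · have e3 : p ^ 2 - p ^ 1 = p * (p - 1) := by
      rw [pow_one, Nat.mul_sub, mul_one, pow_two]
    rw [e3] at hdvd
    rcases (Nat.Prime.dvd_mul hq).mp hdvd with h | h
    · exact (hqp ((Nat.prime_dvd_prime_iff_eq hq hpp).mp h)).elim
    · rw [e2]
      exact h.mul_right _

/-- Conjugation by an element of the normalizer. -/
theorem conjAut_pow {G : Type*} [Group G] (R : Subgroup G) {a : G} (ha : a ∈ Subgroup.normalizer (R : Set G))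
    (k : ℕ) (x : R) : (((Cfsg.Agent.Lib.Coprime.MetaAction.conjAut R ha) ^ k) x : G) = a ^ k * x * (a ^ k)⁻¹ := by
  induction k generalizing x with
  | zero => simp
  | succ k ih =>
    rw [pow_succ, MulAut.mul_apply, ih, Cfsg.Agent.Lib.Coprime.MetaAction.conjAut_coe, pow_succ]
    group

/-- Let p be a prime and G a finite group whose Sylow p-subgroups are metacyclic (a cyclic normal subgroup with cyclic quotient). Then G has a normal p-complement if and only if the order of G/O_{p′,p}(G) is coprime to p² − 1. -/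
theorem result {G : Type*} [Group G] [Finite G] (p : ℕ) [Fact p.Prime] (S : Sylow p G) (hS : Cfsg.IsMetacyclic ↥(S : Subgroup G)) : Cfsg.HasNormalPComplement p G ↔ Nat.Coprime (Nat.card (G ⧸ Cfsg.pPrimePCore p G)) (p ^ 2 - 1) := by
  classical
  have hpp : p.Prime := Fact.out
  have hNM : (Cfsg.pPrimePCore p G).Normal := by
    unfold Cfsg.pPrimePCore
    exact Subgroup.Normal.comap inferInstance _
  constructor
  · rintro ⟨P, N, hN, hc⟩
    have hcard : Nat.card N * Nat.card P = Nat.card G := hc.card_mul_card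
    have hPpos : 0 < Nat.card P := Nat.card_pos
    have hNpos : 0 < Nat.card N := Nat.card_pos
    have hNcop : (Nat.card N).Coprime p := by
      rw [Nat.coprime_comm, hpp.coprime_iff_not_dvd]
      have h1 : (P : Subgroup G).index * Nat.card P = Nat.card G := Subgroup.index_mul_card _
      have h2 : (P : Subgroup G).index = Nat.card N := by
        apply Nat.eq_of_mul_eq_mul_right hPpos
        rw [h1, hcard]
      rw [← h2]
      exact P.not_dvd_index
    have hNK : N ≤ pPrimeCore p G := le_pPrimeCore hN hNcop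
    have hdvd : (pPrimeCore p G).index ∣ Nat.card P := by
      have h3 : N.index = Nat.card P := by
        apply Nat.eq_of_mul_eq_mul_right hNpos
        rw [Subgroup.index_mul_card, ← hcard, mul_comm]
      rw [← h3]
      exact Subgroup.index_dvd_of_le hNK
    have hquot : IsPGroup p (G ⧸ pPrimeCore p G) := by
      obtain ⟨k, hk⟩ := IsPGroup.iff_card.mp P.2
      rw [hk] at hdvd
      obtain ⟨l, -, hl⟩ := (Nat.dvd_prime_pow hpp).mp hdvd
      exact IsPGroup.of_card hl
    have hM : Cfsg.pPrimePCore p G = ⊤ := by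
      unfold Cfsg.pPrimePCore
      rw [pCore_eq_of_isPGroup hquot, Subgroup.comap_top]
    have hone : Nat.card (G ⧸ Cfsg.pPrimePCore p G) = 1 := by
      show (Cfsg.pPrimePCore p G).index = 1
      rw [hM, Subgroup.index_top]
    rw [hone]
    exact Nat.coprime_one_left _
  · intro hcop
    apply hasNormalPComplement_of_frobeniusCond
    apply frobeniusCond_of_sylow S
    intro Q hQS g hg hco
    let α : MulAut Q := Cfsg.Agent.Lib.Coprime.MetaAction.conjAut Q hg
    have hαpow : ∀ (k : ℕ) (x : Q), (((α ^ k) x : Q) : G) = g ^ k * x * (g ^ k)⁻¹ := fun k x =>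
      conjAut_pow Q hg k x
    have hαo : orderOf α ∣ orderOf g := by
      apply orderOf_dvd_of_pow_eq_one
      ext x
      rw [hαpow, pow_orderOf_eq_one]
      simp
    have hα1 : α = 1 := by
      by_contra hne
      have hm1 : orderOf α ≠ 1 := fun h => hne (orderOf_eq_one_iff.mp h)
      obtain ⟨q, hq, hqm⟩ := Nat.exists_prime_and_dvd hm1
      have hβ : orderOf (α ^ (orderOf α / q)) = q :=
        orderOf_pow_orderOf_div (orderOf_pos α).ne' hqm
      have hqg : q ∣ orderOf g := hqm.trans hαo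
      have hqp : q ≠ p := by
        rintro rfl
        have h1 : q ∣ Nat.gcd (orderOf g) q := Nat.dvd_gcd hqg dvd_rfl
        rw [hco] at h1
        exact hq.one_lt.ne' (Nat.dvd_one.mp h1)
      have hQp : IsPGroup p Q := S.2.to_le hQS
      have hQm : Cfsg.IsMetacyclic Q :=
        Cfsg.Agent.Lib.Coprime.MetaAction.isMetacyclic_of_surjective
          (Subgroup.subgroupOfEquivOfLe hQS).toMonoidHom (Subgroup.subgroupOfEquivOfLe hQS).surjective
          (Cfsg.Agent.Lib.Coprime.MetaAction.isMetacyclic_subgroup hS (Q.subgroupOf S))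
      have hqd := prime_dvd hq hqp hQp hQm _ hβ
      set c := Nat.card (G ⧸ Cfsg.pPrimePCore p G) with hc
      have hcq : Nat.Coprime c q := hcop.coprime_dvd_right hqd
      set y := g ^ (orderOf α / q * c) with hy
      have hyM : y ∈ Cfsg.pPrimePCore p G := by
        rw [← QuotientGroup.eq_one_iff, hy, pow_mul, QuotientGroup.mk_pow]
        exact pow_card_eq_one'
      have hyo : (orderOf y).Coprime p := hco.coprime_dvd_left (orderOf_pow_dvd _)
      have hyK : y ∈ pPrimeCore p G := by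
        have h1 : (QuotientGroup.mk' (pPrimeCore p G) y) ∈ pCore p (G ⧸ pPrimeCore p G) := hyM
        have h2 := eq_one_of_coprime_of_mem_isPGroup (pCore_isPGroup (p := p)) h1
          (hyo.coprime_dvd_left (orderOf_map_dvd _ _))
        exact (QuotientGroup.eq_one_iff _).mp h2
      have hyN : y ∈ Subgroup.normalizer (Q : Set G) := Subgroup.pow_mem _ hg _
      have hyc : ∀ x : Q, y * x * y⁻¹ = x := by
        intro x
        have h1 : y * x * y⁻¹ * (x : G)⁻¹ ∈ pPrimeCore p G := by
          have h2 : (x : G) * y⁻¹ * (x : G)⁻¹ ∈ pPrimeCore p G :=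
            (inferInstance : (pPrimeCore p G).Normal).conj_mem _ (Subgroup.inv_mem _ hyK) _
          have h3 := Subgroup.mul_mem _ hyK h2
          simpa [mul_assoc] using h3
        have h2 : y * x * y⁻¹ * (x : G)⁻¹ ∈ Q := by
          apply Subgroup.mul_mem _ _ (Q.inv_mem x.2)
          exact (Subgroup.mem_normalizer_iff.mp hyN x).mp x.2
        have h3 := eq_one_of_coprime_of_mem_isPGroup hQp h2 (orderOf_coprime_of_mem_pPrimeCore h1)
        exact mul_inv_eq_one.mp h3
      have hβc : (α ^ (orderOf α / q)) ^ c = 1 := by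
        ext x
        rw [← pow_mul, hαpow, ← hy, hyc]
        rfl
      have h5 := orderOf_dvd_of_pow_eq_one hβc
      rw [hβ] at h5
      have h6 : q ∣ Nat.gcd c q := Nat.dvd_gcd h5 dvd_rfl
      rw [hcq] at h6
      exact hq.one_lt.ne' (Nat.dvd_one.mp h6)
    rw [mem_centralizer_iff']
    intro x hx
    have h7 : ((α ⟨x, hx⟩ : Q) : G) = x := by
      rw [hα1]
      rfl
    exact h7

end Cfsg.Agent.S4419
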