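import Cfsg.Statements.S4441
import Cfsg.Agent.Lib.ModRep.Princ2
import Cfsg.Agent.Lib.ModRep.Inner

set_option autoImplicit false
open Cfsg
open Cfsg.Agent.Lib.ExcP.Gram Cfsg.Agent.Lib.ExcP.Inst
open scoped ComplexConjugate
set_option linter.style.haveILetI false

namespace Cfsg.Agent.S4441

/-- Let p be an odd prime and G a finite group whose Sylow p-subgroup P has order p; let C = C_G(P), N = N_G(P), e the index of C in N and t = (p − 1)/e; fix a maximal ideal M of the algebraic integers containing p and let B₀ be the principal block. Then B₀ is the disjoint union of a set X of e characters and a set Y of t characters such that: each χ ∈ X has a sign ε_χ with χ(1) ≡ ε_χ (mod p) and χ(x y) = ε_χ for every non-identity x ∈ P and every p-regular y ∈ C; all members of Y agree on the p-regular elements of G; there is one sign ε with θ(1) ≡ ε e (mod p) for every θ ∈ Y; and for every θ ∈ Y and every p-regular g, ε θ(g) = Σ_{χ ∈ X} ε_χ χ(g). -/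
theorem result {G : Type*} [Group G] [Fintype G] (p : ℕ) [Fact p.Prime] (M : Ideal Cfsg.AlgInt) (hM : Cfsg.IsPModular p M) (hodd : p ≠ 2) (P : Sylow p G) (hP : Nat.card P = p) (e : ℕ) (he : (Subgroup.centralizer ((P : Subgroup G) : Set G)).relIndex (Subgroup.normalizer ((P : Subgroup G) : Set G)) = e) : ∃ X Y : Set (Cfsg.IrrCharacter G), Cfsg.principalBlock M G = X ∪ Y ∧ Disjoint X Y ∧ Nat.card X = e ∧ Nat.card Y = (p - 1) / e ∧ ∃ (εX : Cfsg.IrrCharacter G → ℤ) (ε : ℤ), (∀ χ ∈ X, (εX χ = 1 ∨ εX χ = -1) ∧ (Cfsg.charDegree (χ : G → ℂ) : ℤ) ≡ εX χ [ZMOD p] ∧ ∀ x : G, x ∈ (P : Subgroup G) → x ≠ 1 → ∀ y : G, y ∈ Subgroup.centralizer ((P : Subgroup G) : Set G) → ¬ p ∣ orderOf y → (χ : G → ℂ) (x * y) = (εX χ : ℂ)) ∧ (ε = 1 ∨ ε = -1) ∧ (∀ θ ∈ Y, (Cfsg.charDegree (θ : G → ℂ) : ℤ) ≡ ε * (e : ℤ) [ZMOD p]) ∧ (∀ θ ∈ Y, ∀ θ' ∈ Y, ∀ g : G, ¬ p ∣ orderOf g → (θ : G → ℂ) g = (θ' : G → ℂ) g) ∧ ∀ θ ∈ Y, ∀ g : G, ¬ p ∣ orderOf g → (ε : ℂ) * (θ : G → ℂ) g = ∑ᶠ χ ∈ X, (εX χ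 : ℂ) * (χ : G → ℂ) g := by
  classical
  set Q : Subgroup G := (P : Subgroup G) with hQ
  have hQcard : Nat.card Q = p := hP
  have hpp : p.Prime := Fact.out
  have hp2 : ¬ p ^ 2 ∣ Nat.card G := by
    intro h
    have h1 : Nat.card P = p ^ (Nat.card G).factorization p := P.card_eq_multiplicity
    have h2 : 2 ≤ (Nat.card G).factorization p :=
      (hpp.pow_dvd_iff_le_factorization Nat.card_pos.ne').mp h
    rw [hP] at h1
    have h3 : p ^ 1 = p ^ (Nat.card G).factorization p := by rw [pow_one]; exact h1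
    have h4 := Nat.pow_right_injective hpp.two_le h3
    omega
  haveI := Cfsg.Agent.Lib.Blocks.Local.isPrime_of_pModular hM
  haveI := Cfsg.Agent.Lib.Char.Ortho.finite_irrCharacter (G := G)
  letI := Fintype.ofFinite (IrrCharacter G)
  letI : Fintype Q := Fintype.ofFinite _
  letI : Fintype (Cn Q) := Fintype.ofFinite _
  letI : Fintype (Nn Q) := Fintype.ofFinite _
  haveI := finite_DD (p := p) (P := Q) hQcard hp2
  letI : Fintype (DD Q p) := Fintype.ofFinite _
  obtain ⟨X, Y, εX, ε, ν, hB, hdisj, hXcard, hYcard, hεX, hε, hν, hνY, hform, hdX, hdY⟩ :=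
    Cfsg.Agent.Lib.ModRep.Princ2.structure_principal (P := Q) hM hQcard hp2 e he
  have he0 : 0 < e := by
    rcases Nat.eq_zero_or_pos e with h | h
    · rw [h, mul_zero] at hYcard
      have := hpp.two_le
      omega
    · exact h
  have hε0 : (ε : ℂ) ≠ 0 := by
    rcases hε with h | h <;> rw [h] <;> norm_num
  obtain ⟨K, hK, hKcard, hKidx⟩ := Cfsg.Agent.Lib.ModRep.Prime.exists_complement (P := Q) hQcard hp2
  have hrel : ∀ θ ∈ Y, ∀ g : G, ¬ p ∣ orderOf g → (ε : ℂ) * (θ : G → ℂ) g = ∑ χ ∈ X, (εX χ : ℂ) * (χ : G → ℂ) g := by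
    intro θ hθ g hg
    obtain ⟨d, rfl⟩ := (hνY θ).mp hθ
    have h1 : Th Q d.1 g = _ := hform d g
    have h2 : Th Q d.1 g = 0 := Cfsg.Agent.Lib.ModRep.Princ.Th_regular d.2.1 hg
    rw [h2] at h1
    linear_combination -h1
  refine ⟨(X : Set (IrrCharacter G)), (Y : Set (IrrCharacter G)), ?_, ?_, ?_, ?_, εX, ε, ?_, hε, ?_, ?_, ?_⟩
  · ext j
    rw [hB j]
    simp
  · exact Finset.disjoint_coe.mpr hdisj
  · rw [Nat.card_coe_set_eq, Set.ncard_coe_finset, hXcard]
  · rw [Nat.card_coe_set_eq, Set.ncard_coe_finset, ← hYcard, Nat.mul_div_cancel _ he0]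
  · intro χ hχ
    have hχX : χ ∈ X := hχ
    refine ⟨hεX χ hχX, ?_, ?_⟩
    · rw [Int.modEq_iff_dvd, dvd_sub_comm]
      have := hdX χ hχX
      rwa [one_mul] at this
    · intro x hx hx1 y hy hyreg
      have hχB : χ ∈ principalBlock M G := (hB χ).mpr (Finset.mem_union_left _ hχX)
      -- the value on `P`
      have hval : (χ : G → ℂ) x = (εX χ : ℂ) := by
        have h1 := Cfsg.Agent.Lib.ModRep.Princ2.value_of_inner_eq (P := Q) hQcard hp2
          (fun u : Q => conj ((χ : G → ℂ) u)) (- (εX χ : ℂ)) (by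
            intro d
            have h2 := (Cfsg.Agent.Lib.ModRep.Prime.inner_alternative hQcard hp2 hM d.2.1 χ).1 hχB
            rw [Ak] at h2
            rw [← h2]
            have h3 := Cfsg.Agent.Lib.ModRep.Inner.inner_eq_of_formula (fun j => εX j) ε (ν d)
              (Th Q d.1) (hform d) χ
            rw [h3, if_pos hχX, if_neg]
            · simp
            · intro h
              apply Finset.disjoint_left.mp hdisj hχX
              rw [← h]
              exact (hνY _).mpr ⟨d, rfl⟩) ⟨x, hx⟩ (fun h => hx1 (congrArg Subtype.val h))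
        have h2 : conj ((χ : G → ℂ) x) = (εX χ : ℂ) := by
          rw [neg_neg] at h1
          exact h1
        have h3 := congrArg conj h2
        rw [Complex.conj_conj] at h3
        rw [h3]
        simp
      -- the section
      have hyK : (⟨y, hy⟩ : Cn Q) ∈ K := by
        haveI := hK
        haveI := Cfsg.Agent.Lib.Char.Ortho.finite_irrCharacter (G := Cn Q)
        letI := Fintype.ofFinite (IrrCharacter (Cn Q))
        apply Cfsg.Agent.Lib.Blocks.NormSum.mem_of_not_dvd_of_index (p := p) (k := 1)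
          (by rw [hKidx, pow_one]) hpp
        rwa [Subgroup.orderOf_mk]
      have hord : ∃ k : ℕ, orderOf x = p ^ k := by
        refine ⟨1, ?_⟩
        rw [pow_one]
        have hzp := Cfsg.Agent.Lib.ExcP.Gram.eq_zpowers_of_mem hQcard hx hx1
        rw [← Nat.card_zpowers, ← hzp, hQcard]
      have hC := Cfsg.Agent.Lib.ModRep.Prime.centralizer_eq hQcard hx hx1
      have h4 := Cfsg.Agent.Lib.ModRep.Prime.value_eq_of_mem hM hord hC hK hKcard hχB hyK
      rw [← hval]
      exact h4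
  · intro θ hθ
    obtain ⟨d, rfl⟩ := (hνY θ).mp hθ
    have h1 := hdY d
    rw [Int.modEq_iff_dvd, dvd_sub_comm]
    rwa [mul_one] at h1
  · intro θ hθ θ' hθ' g hg
    have h1 := hrel θ hθ g hg
    have h2 := hrel θ' hθ' g hg
    rw [← h2] at h1
    exact mul_left_cancel₀ hε0 h1
  · intro θ hθ g hg
    rw [finsum_mem_coe_finset]
    exact hrel θ hθ g hg

end Cfsg.Agent.S4441
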