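import Cfsg.Statements.S4627
import Cfsg.Agent.Lib.SpWreath.SLTower

set_option autoImplicit false
open Cfsg

namespace Cfsg.Agent.S4627

universe uu
open Module Cfsg.Agent.Lib.SpWreath.Group Cfsg.Agent.Lib.SpWreath.NRank Cfsg.Agent.Lib.SpWreath.NPow Cfsg.Agent.Lib.SpWreath.GenTower Cfsg.Agent.Lib.SpWreath.DetW Cfsg.Agent.Lib.SpWreath.GLVal Cfsg.Agent.S4015 RegularWreathProduct in
/-- The level tower over a Sylow subgroup of `GL₂`. -/
theorem exists_L {F : Type uu} [Field F] [Fintype F] (hodd : Odd (Fintype.card F)) (j : ℕ) :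
    ∃ (D V : Type uu) (_ : Group D) (_ : Finite D) (_ : AddCommGroup V) (_ : Module F V)
      (_ : FiniteDimensional F V) (f : D →* Module.End F V), Function.Injective f ∧ finrank F V = 2 * 2 ^ j ∧
      Nat.card D = 2 ^ (2 ^ j * (Nat.card (Matrix.GeneralLinearGroup (Fin 2) F)).factorization 2 + (2 ^ j - 1)) ∧
      NPow (detHom f) := by
  classical
  haveI : Fact (Nat.Prime 2) := ⟨Nat.prime_two⟩
  induction j with
  | zero =>
    obtain ⟨P₀⟩ : Nonempty (Sylow 2 (Matrix.GeneralLinearGroup (Fin 2) F)) := inferInstance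
    let f₀ : ↥(P₀ : Subgroup (Matrix.GeneralLinearGroup (Fin 2) F)) →* Module.End F (Fin 2 → F) :=
      ((Matrix.toLinAlgEquiv' (R := F) (n := Fin 2)).toAlgHom.toMonoidHom).comp
        ((Units.coeHom _).comp (P₀ : Subgroup (Matrix.GeneralLinearGroup (Fin 2) F)).subtype)
    have hf₀ : Function.Injective f₀ := by
      intro a b hab
      have h1 := (Matrix.toLinAlgEquiv' (R := F) (n := Fin 2)).injective hab
      exact Subtype.ext (Units.ext h1)
    have hc₀ : Nat.card ↥(P₀ : Subgroup (Matrix.GeneralLinearGroup (Fin 2) F)) =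
        2 ^ (Nat.card (Matrix.GeneralLinearGroup (Fin 2) F)).factorization 2 := P₀.card_eq_multiplicity
    refine ⟨↥(P₀ : Subgroup (Matrix.GeneralLinearGroup (Fin 2) F)), Fin 2 → F, inferInstance, inferInstance,
      inferInstance, inferInstance, inferInstance, f₀, hf₀, by simp, ?_, npow_base hodd f₀ hf₀ (by simp) hc₀⟩
    rw [hc₀]
    simp
  | succ j ih =>
    obtain ⟨D, V, _, _, _, _, _, f, hf, hV, hc, hP⟩ := ih
    haveI : Nontrivial V := by
      apply Module.nontrivial_of_finrank_pos (R := F)
      rw [hV]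
      positivity
    refine ⟨D ≀ᵣ C2, C2 → V, inferInstance, inferInstance, inferInstance, inferInstance, inferInstance,
      wreathRep f, wreathRep_injective f hf, ?_, ?_, npow_wreathRep f (by rw [hV]; exact even_two_mul _) hP⟩
    · rw [Module.finrank_pi_fintype]
      simp only [Finset.sum_const, Finset.card_univ, smul_eq_mul, hV]
      rw [← Nat.card_eq_fintype_card, card_C2, pow_succ]
      ring
    · rw [RegularWreathProduct.card, hc, card_C2, ← pow_mul, ← pow_succ]
      congr 1
      have hpos : 1 ≤ 2 ^ j := Nat.one_le_two_pow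
      rw [pow_succ]
      generalize 2 ^ j = t at hpos
      generalize (Nat.card (Matrix.GeneralLinearGroup (Fin 2) F)).factorization 2 = s
      have : t * 2 * s = 2 * (t * s) := by ring
      rw [this]
      generalize t * s = u
      omega

/-- Let F be a finite field of odd order q and m ≥ 1. If 4 divides q + 1, or if 4 divides q − 1 and m is a power of 2, then a Sylow 2-subgroup P of SL_{2m}(F) has P/P' elementary abelian: the square of every element of P lies in the derived subgroup of P. -/
theorem result {F : Type*} [Field F] [Fintype F] (hF : Odd (Fintype.card F)) (m : ℕ) (hm : 1 ≤ m)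
    (hq : 4 ∣ Fintype.card F + 1 ∨ (4 ∣ Fintype.card F - 1 ∧ ∃ j : ℕ, m = 2 ^ j)) (P : Sylow 2 (Matrix.SpecialLinearGroup (Fin (2 * m)) F)) :
    ∀ x : (P : Subgroup (Matrix.SpecialLinearGroup (Fin (2 * m)) F)), x ^ 2 ∈ commutator (P : Subgroup (Matrix.SpecialLinearGroup (Fin (2 * m)) F)) := by
  classical
  haveI : Fact (Nat.Prime 2) := ⟨Nat.prime_two⟩
  have hq1 : 1 < Fintype.card F := Fintype.one_lt_card
  obtain ⟨c, hc⟩ := hF
  by_cases h3 : Fintype.card F % 4 = 3
  · exact Cfsg.Agent.Lib.SpWreath.SLTower.sq_SL_even F ⟨c, hc⟩ h3 m hm P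
  · have h1 : Fintype.card F % 4 = 1 := by omega
    rcases hq with hq | ⟨-, j, rfl⟩
    · exfalso
      omega
    · obtain ⟨D, V, _, _, _, _, _, f, hf, hV, hcD, hN⟩ := exists_L (F := F) ⟨c, hc⟩ j
      have hcard : Nat.card D = 2 ^ (Nat.card (Matrix.GeneralLinearGroup (Fin (2 * 2 ^ j)) F)).factorization 2 := by
        rw [hcD]
        congr 1
        have e1 : ∀ n, (Nat.card (Matrix.GeneralLinearGroup (Fin n) F)).factorization 2 =
            n * padicValNat 2 (Fintype.card F - 1) + padicValNat 2 (Nat.factorial n) := by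
          intro n
          rw [Nat.factorization_def _ Nat.prime_two, Matrix.card_GL_field]
          exact Cfsg.Agent.Lib.SpWreath.GLVal.val_glp_one _ h1 hq1 n
        rw [e1, e1]
        have e2 : padicValNat 2 (Nat.factorial 2) = 1 := by
          simp [Nat.factorial]
        have e3 := Cfsg.Agent.Lib.SpWreath.Tower.legendre_split (j + 1) 0 (by positivity)
        simp only [add_zero, Nat.factorial_zero, padicValNat_one_right] at e3
        rw [pow_succ'] at e3
        rw [e2, e3]
        have hpos : 1 ≤ 2 ^ j := Nat.one_le_two_pow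
        generalize 2 ^ j = t at hpos
        generalize padicValNat 2 (Fintype.card F - 1) = s
        have e4 : t * (2 * s + 1) = 2 * (t * s) + t := by ring
        have e5 : 2 * t * s = 2 * (t * s) := by ring
        rw [e4, e5]
        omega
      obtain ⟨e⟩ := Cfsg.Agent.Lib.SpWreath.DetW.sylow_ker_det (2 * 2 ^ j) (by
        have : 1 ≤ 2 ^ j := Nat.one_le_two_pow
        omega) f hf hV hcard P
      exact Cfsg.Agent.Lib.SpWreath.DetW.sq_of_equiv e hN.sq_mem

end Cfsg.Agent.S4627
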