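import Cfsg.Statements.S4700
import Cfsg.Agent.Lib.BrauerU.Main

set_option autoImplicit false
open Cfsg

namespace Cfsg.Agent.S4700

/-- Let G be a finite perfect group and p a prime such that a Sylow p-subgroup of G has order p, and write the number of Sylow p-subgroups as 1 + np. Let H = O_p'(G). Then either p > 3 and G/H is isomorphic to PSL(2, p); or p = 2^m + 1 > 3 and G/H is isomorphic to SL(2, 2^m); or n = (hup + u^2 + u + h)/(u + 1) for some positive integers h and u. -/
theorem result {G : Type*} [Group G] [Finite G] (hperf : commutator G = ⊤) (p : ℕ) [Fact p.Prime] (P : Sylow p G) (hP : Nat.card P = p) (n : ℕ) (hn : Nat.card (Sylow p G) = 1 + n * p) : (∃ (F : Type) (_ : Field F) (_ : Fintype F), Fintype.card F = p ∧ 3 < p ∧ Nonempty (G ⧸ Cfsg.pPrimeCore p G ≃* Matrix.ProjectiveSpecialLinearGroup (Fin 2) F)) ∨ (∃ (m : ℕ) (F : Type) (_ : Field F) (_ : Fintype F), Fintype.card F = 2 ^ m ∧ p = 2 ^ m + 1 ∧ 3 < p ∧ Nonempty (G ⧸ Cfsg.pPrimeCore p G ≃* Matrix.SpecialLinearGroup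 (Fin 2) F)) ∨ (∃ h u : ℕ, 0 < h ∧ 0 < u ∧ n * (u + 1) = h * u * p + u ^ 2 + u + h) := by
  classical
  have hp := (Fact.out : p.Prime)
  by_cases h3 : ∃ h u : ℕ, 0 < h ∧ 0 < u ∧ n * (u + 1) = h * u * p + u ^ 2 + u + h
  · exact Or.inr (Or.inr h3)
  have hF : Cfsg.Agent.Lib.BrauerU.Arith.NoThird p n := h3
  -- the quotient by the core
  let Γ := G ⧸ pPrimeCore p G
  let φ : G →* Γ := QuotientGroup.mk' (pPrimeCore p G)
  have hφ : Function.Surjective φ := QuotientGroup.mk'_surjective _
  have hperfΓ : commutator Γ = ⊤ := by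
    rw [eq_top_iff]
    intro x _
    obtain ⟨g, rfl⟩ := hφ x
    have h1 : g ∈ commutator G := by
      rw [hperf]
      trivial
    have h2 : (commutator G).map φ ≤ commutator Γ := by
      rw [commutator_def, commutator_def, Subgroup.map_commutator]
      exact Subgroup.commutator_mono le_top le_top
    exact h2 ⟨g, h1, rfl⟩
  have hcoreΓ : pPrimeCore p Γ = ⊥ := Cfsg.Agent.Lib.Core.Basic.pPrimeCore_quotient_eq_bot
  have hpH : ¬ p ∣ Nat.card (pPrimeCore p G) :=
    (Nat.Prime.coprime_iff_not_dvd hp).mp (Cfsg.Agent.Lib.Core.Basic.pPrimeCore_coprime (p := p) (G := G)).symm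
  have hcard : Nat.card G = Nat.card Γ * Nat.card (pPrimeCore p G) :=
    Subgroup.card_eq_card_quotient_mul_card_subgroup _
  -- the Sylow subgroup of the quotient
  let Q : Sylow p Γ := P.mapSurjective hφ
  have hp2G : ¬ p ^ 2 ∣ Nat.card G := by
    intro h
    have h1 : Nat.card P = p ^ (Nat.card G).factorization p := P.card_eq_multiplicity
    have h2 : 2 ≤ (Nat.card G).factorization p :=
      (hp.pow_dvd_iff_le_factorization Nat.card_pos.ne').mp h
    rw [hP] at h1
    have h3 : p ^ 1 = p ^ (Nat.card G).factorization p := by rw [pow_one]; exact h1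
    have h4 := Nat.pow_right_injective hp.two_le h3
    omega
  have hQc : Nat.card Q = p := by
    have hdvd : p ∣ Nat.card Γ := by
      have h1 : p ∣ Nat.card G := by
        rw [← hP]
        exact Subgroup.card_subgroup_dvd_card _
      rw [hcard] at h1
      exact (hp.dvd_mul.mp h1).resolve_right hpH
    have hp2 : ¬ p ^ 2 ∣ Nat.card Γ := by
      intro h
      apply hp2G
      rw [hcard]
      exact h.trans (dvd_mul_right _ _)
    have h1 : Nat.card Q = p ^ (Nat.card Γ).factorization p := Q.card_eq_multiplicity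
    have h2 : 1 ≤ (Nat.card Γ).factorization p :=
      (hp.dvd_iff_one_le_factorization Nat.card_pos.ne').mp hdvd
    have h3 : ¬ 2 ≤ (Nat.card Γ).factorization p := fun h =>
      hp2 ((hp.pow_dvd_iff_le_factorization Nat.card_pos.ne').mpr h)
    have h4 : (Nat.card Γ).factorization p = 1 := by omega
    rw [h1, h4, pow_one]
  -- the number of Sylow subgroups of the quotient divides the number in `G`
  have hdvdS : Nat.card (Sylow p Γ) ∣ Nat.card (Sylow p G) := by
    have h1 : Subgroup.normalizer ((P : Subgroup G) : Set G) ≤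
        (Subgroup.normalizer ((Q : Subgroup Γ) : Set Γ)).comap φ := by
      intro g hg
      rw [Subgroup.mem_comap, Subgroup.mem_normalizer_iff]
      intro x
      obtain ⟨y, rfl⟩ := hφ x
      have hQ : (Q : Subgroup Γ) = (P : Subgroup G).map φ := rfl
      constructor
      · intro hx
        rw [hQ] at hx ⊢
        obtain ⟨y', hy', hyy'⟩ := hx
        refine ⟨g * y' * g⁻¹, (Subgroup.mem_normalizer_iff.mp hg y').mp hy', ?_⟩
        rw [map_mul, map_mul, map_inv, hyy']
      · intro hx
        rw [hQ] at hx ⊢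
        obtain ⟨y', hy', hyy'⟩ := hx
        refine ⟨g⁻¹ * y' * g, ?_, ?_⟩
        · have h2 := (Subgroup.mem_normalizer_iff.mp (Subgroup.inv_mem _ hg) y').mp hy'
          have h3 : g⁻¹ * y' * g = g⁻¹ * y' * g⁻¹⁻¹ := by simp
          rw [h3]
          exact h2
        · rw [map_mul, map_mul, map_inv, hyy']
          group
    have h2 := Subgroup.index_dvd_of_le h1
    rw [Subgroup.index_comap_of_surjective _ hφ] at h2
    rw [Sylow.card_eq_index_normalizer Q, Sylow.card_eq_index_normalizer P]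
    exact h2
  obtain ⟨k, hk⟩ : ∃ k : ℕ, Nat.card (Sylow p Γ) = 1 + k * p := by
    have h1 : Nat.card (Sylow p Γ) ≡ 1 [MOD p] := card_sylow_modEq_one p Γ
    have h2 : 1 ≤ Nat.card (Sylow p Γ) := Nat.card_pos
    obtain ⟨k, hk⟩ := (Nat.modEq_iff_dvd' h2).mp h1.symm
    exact ⟨k, by rw [mul_comm]; omega⟩
  obtain ⟨w, hw⟩ := hdvdS
  have hkn : k = 0 ∨ k = n := by
    apply Cfsg.Agent.Lib.BrauerU.Arith.eq_of_dvd (q := (p - 1) * w) hp hF
    rw [← hn, hw, hk]
    ring
  have hk' : k = n := by
    rcases hkn with h0 | h0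
    · exfalso
      rw [h0, zero_mul, add_zero] at hk
      have : Subsingleton (Sylow p Γ) := (Nat.card_eq_one_iff_unique.mp hk).1
      have hnorm : (Q : Subgroup Γ).Normal := Sylow.normal_of_subsingleton Q
      have hp2 : ¬ p ^ 2 ∣ Nat.card Γ := by
        intro h
        apply hp2G
        rw [hcard]
        exact h.trans (dvd_mul_right _ _)
      exact Cfsg.Agent.S4701.false_of_normal hperfΓ (Q : Subgroup Γ) hnorm hQc hp2
    · exact h0
  subst hk'
  rcases Cfsg.Agent.Lib.BrauerU.Main.main hperfΓ hcoreΓ Q hQc hk hF with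
    ⟨F, i1, i2, h1, h2, h4⟩ | ⟨m, F, i1, i2, h1, h2, h5, ⟨e⟩⟩
  · exact Or.inl ⟨F, i1, i2, h1, h2, h4⟩
  · letI := i1
    letI := i2
    refine Or.inr (Or.inl ⟨m, F, i1, i2, h1, h2, h5, ?_⟩)
    have h20 : (2 : F) = 0 := by
      have hm : m ≠ 0 := by
        rintro rfl
        omega
      have h6 : ((Fintype.card F : ℕ) : F) = 0 := Nat.cast_card_eq_zero F
      rw [h1] at h6
      push_cast at h6
      exact pow_eq_zero_iff hm |>.mp h6
    obtain ⟨e2⟩ := Cfsg.Agent.S4701.psl_iso F h20
    exact ⟨e.trans e2⟩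

end Cfsg.Agent.S4700
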