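import Cfsg.Statements.S4705
import Cfsg.Agent.Lib.Blk89.DegP2J

set_option autoImplicit false
open Cfsg
set_option linter.style.haveILetI false

namespace Cfsg.Agent.S4705

/-- Let G be a finite group with centre Z and p > 5 a prime such that a Sylow p-subgroup of G has order p and is not normal. If G has a faithful irreducible character of degree p − 2, then p = 2^a + 1 for some a and G is isomorphic to the direct product of SL(2, 2^a) with Z. -/
theorem result {G : Type*} [Group G] [Finite G] (p : ℕ) [Fact p.Prime] (hp : 5 < p) (P : Sylow p G) (hP : Nat.card P = p) (hnn : ¬ (P : Subgroup G).Normal) (ζ : G → ℂ) (hζ : Cfsg.IsIrrCharacter G ζ) (hfaith : ∀ g : G, ζ g = ζ 1 → g = 1) (hdeg : Cfsg.charDegree ζ = p - 2) : ∃ (a : ℕ) (F : Type) (_ : Field F) (_ : Fintype F), p = 2 ^ a + 1 ∧ Fintype.card F = 2 ^ a ∧ Nonempty (G ≃* Matrix.SpecialLinearGroup (Fin 2) F × Subgroup.center G) := by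
  classical
  letI := Fintype.ofFinite G
  have hQcard : Nat.card (P : Subgroup G) = p := hP
  have hpp : p.Prime := Fact.out
  have hp2 : ¬ p ^ 2 ∣ Nat.card G := by
    intro h
    have h1 : Nat.card P = p ^ (Nat.card G).factorization p := P.card_eq_multiplicity
    have h2 : 2 ≤ (Nat.card G).factorization p :=
      (hpp.pow_dvd_iff_le_factorization Nat.card_pos.ne').mp h
    rw [hP] at h1
    have h3 : p ^ 1 = p ^ (Nat.card G).factorization p := by rw [pow_one]; exact h1
    have h4 := Nat.pow_right_injective hpp.two_le h3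
    omega
  haveI := Cfsg.Agent.Lib.Char.Ortho.finite_irrCharacter (G := G)
  letI := Fintype.ofFinite (IrrCharacter G)
  letI : Fintype (P : Subgroup G) := Fintype.ofFinite _
  letI : Fintype (Cfsg.Agent.Lib.ExcP.Gram.Cn (P : Subgroup G)) := Fintype.ofFinite _
  letI : Fintype (Cfsg.Agent.Lib.ExcP.Gram.Nn (P : Subgroup G)) := Fintype.ofFinite _
  haveI := Cfsg.Agent.Lib.Char.Ortho.finite_irrCharacter (G := Cfsg.Agent.Lib.ExcP.Gram.Cn (P : Subgroup G))
  letI := Fintype.ofFinite (IrrCharacter (Cfsg.Agent.Lib.ExcP.Gram.Cn (P : Subgroup G)))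
  haveI := Cfsg.Agent.Lib.ExcP.Inst.finite_DD (p := p) (P := (P : Subgroup G)) hQcard hp2
  letI : Fintype (Cfsg.Agent.Lib.ExcP.Inst.DD (P : Subgroup G) p) := Fintype.ofFinite _
  letI : Fintype (Subgroup.center G) := Fintype.ofFinite _
  obtain ⟨M, hM⟩ := Cfsg.Agent.Lib.BlockH.Basic.exists_isPModular hpp
  have hp7 : 7 ≤ p := by
    by_contra hcon
    have h6 : p = 6 := by omega
    rw [h6] at hpp
    exact absurd hpp (by norm_num)
  have hd2 : Cfsg.charDegree ζ + 2 = p := by omega
  let ζ' : IrrCharacter G := ⟨ζ, hζ⟩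
  obtain ⟨S⟩ := Cfsg.Agent.Lib.Blk89.DegP2A.exists_S1 hM hQcard hp2 hp7 hnn ζ' hfaith hd2
  exact Cfsg.Agent.Lib.Blk89.DegP2J.main_J hM S hQcard hp2 hnn hp7 hfaith hd2

end Cfsg.Agent.S4705
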