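import Cfsg.Statements.S4724
import Cfsg.Agent.Lib.Perm7.OddEnd
import Cfsg.Agent.Lib.Perm7.Even5
import Cfsg.Agent.Lib.Perm7.PermSetup
import Cfsg.Agent.Lib.Perm7.PrimeList

set_option autoImplicit false
open Cfsg

namespace Cfsg.Agent.S4724

open Cfsg.Agent.Lib.Perm7.PermSetup Cfsg.Agent.Lib.Perm7.Core Cfsg.Agent.Lib.Perm7.PrimeList
open Cfsg.Agent.Lib.Char.Degree

theorem five_le {p : ℕ} (hpp : p.Prime) (h : p ^ 2 ≤ p.factorial) : 5 ≤ p := by
  by_contra hlt
  have h5 : p < 5 := by omega
  have := hpp.two_le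
  interval_cases p
  · simp [Nat.factorial] at h
  · simp [Nat.factorial] at h
  · exact absurd hpp (by norm_num)

/-- Let G be a transitive permutation group of prime degree p having exactly one irreducible character of degree p. Let P be a Sylow p-subgroup and suppose N_G(P) = P·E for a subgroup E with P ∩ E = 1, such that the normalizer of E has order 2·#E and E meets each of its conjugates by elements outside its normalizer trivially. Then p is 5, 7 or 11 and G is isomorphic to PSL(2, p). -/
theorem result {α : Type*} [Fintype α] [DecidableEq α] {p : ℕ} [Fact p.Prime] (hα : Fintype.card α = p) (G : Subgroup (Equiv.Perm α)) [MulAction.IsPretransitive G α] (huniq : ∃! χ : Cfsg.IrrCharacter G, Cfsg.charDegree (χ : G → ℂ) = p) (P : Sylow p G) (E : Subgroup G) (hPE : (P : Subgroup G) ⊔ E = Subgroup.normalizer ((P : Subgroup G) : Set G)) (hPE' : (P : Subgroup G) ⊓ E = ⊥) (hNE : Nat.card (Subgroup.normalizer (E : Set G)) = 2 * Nat.card E) (hTI : ∀ g : G, g ∉ Subgroup.normalizer (E : Set G) → E ⊓ E.map (MulAut.conj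 g).toMonoidHom = ⊥) : (p = 5 ∨ p = 7 ∨ p = 11) ∧ ∃ (F : Type) (_ : Field F) (_ : Fintype F), Fintype.card F = p ∧ Nonempty (G ≃* Matrix.ProjectiveSpecialLinearGroup (Fin 2) F) := by
  classical
  obtain ⟨χ, hχd, huniq'⟩ := huniq
  have hpp : p.Prime := Fact.out
  letI : Fintype G := Fintype.ofFinite _
  obtain ⟨u, hu, huE⟩ : ∃ u ∈ Subgroup.normalizer (E : Set G), u ∉ E := by
    by_contra hall
    push Not at hall
    have h1 : Subgroup.normalizer (E : Set G) = E := le_antisymm hall Subgroup.le_normalizer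
    rw [h1] at hNE
    have h2 : 0 < Nat.card E := Nat.card_pos
    omega
  have S := sys_of_perm hα G χ hχd huniq' P E hPE hPE' hNE hTI hu huE
  have hN : ∀ K : Subgroup G, K.Normal → K ≠ ⊥ → p ∣ Nat.card K := by
    intro K hK hne
    haveI := Cfsg.Agent.Lib.PermMod.PrimeNormal.isPretransitive_normal hα G K hK hne
    exact Cfsg.Agent.Lib.PermMod.PrimeNormal.dvd_card_of_transitive hα
  -- the degree is at least five
  have hp5 : 5 ≤ p := by
    have hd : Nat.card G ∣ p.factorial := by
      have h1 := Subgroup.card_subgroup_dvd_card G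
      rwa [Nat.card_perm, Nat.card_eq_fintype_card (α := α), hα] at h1
    haveI := Cfsg.Agent.Lib.Char.Ortho.finite_irrCharacter (G := G)
    letI := Fintype.ofFinite (IrrCharacter G)
    have h2 := sum_charDegree_sq (G := G)
    have h3 : Cfsg.charDegree (χ : G → ℂ) ^ 2 ≤ ∑ ψ : IrrCharacter G, Cfsg.charDegree (ψ : G → ℂ) ^ 2 :=
      Finset.single_le_sum (f := fun ψ : IrrCharacter G => Cfsg.charDegree (ψ : G → ℂ) ^ 2) (fun _ _ => Nat.zero_le _)
        (Finset.mem_univ χ)
    rw [h2, hχd] at h3
    have h4 := Nat.le_of_dvd (Nat.factorial_pos _) hd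
    exact five_le hpp (h3.trans h4)
  have hiso : Nonempty (G ≃* Matrix.ProjectiveSpecialLinearGroup (Fin 2) (ZMod p)) := by
    by_cases hodd : Odd (Nat.card E)
    · -- an involution
      have h2 : 2 ∣ Nat.card (Subgroup.normalizer (E : Set G)) := by
        rw [hNE]
        exact dvd_mul_right _ _
      haveI : Fact (Nat.Prime 2) := ⟨Nat.prime_two⟩
      obtain ⟨t, ht⟩ := exists_prime_orderOf_dvd_card' 2 h2
      have ht2 : ((t : Subgroup.normalizer (E : Set G)) : G) * t = 1 := by
        have h3 : t ^ 2 = 1 := by rw [← ht]; exact pow_orderOf_eq_one t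
        have h4 := congrArg Subtype.val h3
        simpa [sq] using h4
      have htE : ((t : Subgroup.normalizer (E : Set G)) : G) ∉ E := by
        intro h
        have h3 : orderOf (⟨t, h⟩ : E) = 2 := by
          rw [Subgroup.orderOf_mk, Subgroup.orderOf_coe, ht]
        have h4 := orderOf_dvd_natCard (⟨t, h⟩ : E)
        rw [h3] at h4
        exact (Nat.not_even_iff_odd.mpr hodd) (even_iff_two_dvd.mpr h4)
      have S' := sys_of_perm hα G χ hχd huniq' P E hPE hPE' hNE hTI t.2 htE
      exact S'.odd_final hodd ht2 hN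
    · exact S.even_final hodd hNE hN hp5
  obtain ⟨e⟩ := hiso
  refine ⟨?_, ZMod p, inferInstance, inferInstance, ZMod.card p, ⟨e⟩⟩
  obtain ⟨a⟩ : Nonempty α := by
    apply Fintype.card_pos_iff.mp
    rw [hα]
    exact hpp.pos
  let H : Subgroup (Matrix.ProjectiveSpecialLinearGroup (Fin 2) (ZMod p)) := (MulAction.stabilizer G a).map e.toMonoidHom
  have hidx : H.index = p := by
    have h1 : H.index = (MulAction.stabilizer G a).index := by
      apply Subgroup.index_map_of_bijective e.bijective
    rw [h1]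
    exact Cfsg.Agent.Lib.PermMod.PrimeNormal.index_stabilizer_eq hα G a
  apply prime_list hp5 H hidx
  intro K hK
  haveI : IsSimpleGroup (Matrix.ProjectiveSpecialLinearGroup (Fin 2) (ZMod p)) :=
    Matrix.ProjectiveSpecialLinearGroup.rank_two_simple (by
      rw [Nat.card_eq_fintype_card, ZMod.card]
      omega)
  exact hK.eq_bot_or_eq_top

end Cfsg.Agent.S4724
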