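import Cfsg.Statements.S4783
import Cfsg.Agent.Lib.FourDeg.Main
import Mathlib

set_option autoImplicit false
open Cfsg

namespace Cfsg.Agent.S4783

/-- A finite solvable group with exactly four distinct irreducible complex character degrees has trivial fourth derived subgroup (derived length at most 4). -/
theorem result {G : Type*} [Group G] [Finite G] [Group.IsSolvable G] (hcd : Nat.card ↥(Cfsg.charDegrees G) = 4) : derivedSeries G 4 = ⊥ := by
  classical
  letI := Fintype.ofFinite G
  refine Cfsg.Agent.Lib.FourDeg.Main.derived_of_hyp4 ?_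
  haveI hfin : Finite ↥(Cfsg.charDegrees G) := by
    by_contra hinf
    rw [not_finite_iff_infinite] at hinf
    rw [Nat.card_eq_zero_of_infinite] at hcd
    omega
  letI hft : Fintype ↥(Cfsg.charDegrees G) := Fintype.ofFinite _
  refine ⟨(Finset.univ : Finset ↥(Cfsg.charDegrees G)).map
    ⟨Subtype.val, Subtype.val_injective⟩, ?_, ?_⟩
  · rw [Finset.card_map, Finset.card_univ, ← Nat.card_eq_fintype_card]
    exact hcd.le
  · intro χ
    rw [Finset.mem_map]
    exact ⟨⟨_, χ, rfl⟩, Finset.mem_univ _, rfl⟩

end Cfsg.Agent.S4783
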