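import Cfsg.Statements.S4811
import Cfsg.Agent.Lib.FG85.DegComp
import Mathlib
-- import your own Cfsg.Agent.* helpers here

set_option autoImplicit false
open Cfsg

namespace Cfsg.Agent.S4811


section helpers
end helpers



/-- For every finite solvable group G the character degree graph of G (vertices: the primes dividing some irreducible complex character degree; edges: distinct primes whose product divides some degree) has at most two connected components. -/
theorem result {G : Type*} [Group G] [Finite G] [Group.IsSolvable G] : Nat.card ((Cfsg.degreeGraph G).induce (Cfsg.degreePrimes G)).ConnectedComponent ≤ 2 := by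
  classical
  by_contra hlt
  push Not at hlt
  set Γ := (Cfsg.degreeGraph G).induce (Cfsg.degreePrimes G) with hΓ
  haveI : Finite Γ.ConnectedComponent := Nat.finite_of_card_ne_zero (by omega)
  letI := Fintype.ofFinite Γ.ConnectedComponent
  rw [Nat.card_eq_fintype_card, Fintype.two_lt_card_iff] at hlt
  obtain ⟨c₁, c₂, c₃, h12, h13, h23⟩ := hlt
  obtain ⟨⟨p₁, hp₁⟩, rfl⟩ := c₁.exists_rep
  obtain ⟨⟨p₂, hp₂⟩, rfl⟩ := c₂.exists_rep
  obtain ⟨⟨p₃, hp₃⟩, rfl⟩ := c₃.exists_rep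
  let col : ℕ → Option Γ.ConnectedComponent := fun a =>
    if h : a ∈ Cfsg.degreePrimes G then some (Γ.connectedComponentMk ⟨a, h⟩) else none
  have hcol : ∀ (a : ℕ) (h : a ∈ Cfsg.degreePrimes G), col a = some (Γ.connectedComponentMk ⟨a, h⟩) := by
    intro a h
    simp only [col, dif_pos h]
  have hOK : Cfsg.Agent.Lib.FG85.DegComp.ColOK col G := by
    intro χ hχ a b ha hb hda hdb
    have hamem : a ∈ Cfsg.degreePrimes G := ⟨ha, _, ⟨⟨χ, hχ⟩, rfl⟩, hda⟩
    have hbmem : b ∈ Cfsg.degreePrimes G := ⟨hb, _, ⟨⟨χ, hχ⟩, rfl⟩, hdb⟩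
    rw [hcol a hamem, hcol b hbmem]
    by_cases hab : a = b
    · subst hab
      rfl
    · congr 1
      apply SimpleGraph.ConnectedComponent.sound
      apply SimpleGraph.Adj.reachable
      have hcop : Nat.Coprime a b := (Nat.coprime_primes ha hb).mpr hab
      exact ⟨hab, ha, hb, _, ⟨⟨χ, hχ⟩, rfl⟩, hcop.mul_dvd_of_dvd_of_dvd hda hdb⟩
  have hd : ∀ p ∈ Cfsg.degreePrimes G, ∃ χ : G → ℂ, Cfsg.IsIrrCharacter G χ ∧ p ∣ Cfsg.charDegree χ := by
    rintro p ⟨-, d, ⟨χ, rfl⟩, hpd⟩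
    exact ⟨χ, χ.2, hpd⟩
  have hne : ∀ (a b : ℕ) (ha : a ∈ Cfsg.degreePrimes G) (hb : b ∈ Cfsg.degreePrimes G),
      Γ.connectedComponentMk ⟨a, ha⟩ ≠ Γ.connectedComponentMk ⟨b, hb⟩ → col a ≠ col b := by
    intro a b ha hb hn
    rw [hcol a ha, hcol b hb]
    exact fun h => hn (Option.some.inj h)
  exact Cfsg.Agent.Lib.FG85.DegComp.top hOK hp₁.1 hp₂.1 hp₃.1 (hne _ _ _ _ h12) (hne _ _ _ _ h13)
    (hne _ _ _ _ h23) (hd _ hp₁) (hd _ hp₂) (hd _ hp₃)

end Cfsg.Agent.S4811
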