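import Cfsg.Statements.S4840
import Cfsg.Agent.S4835
import Cfsg.Agent.S4837
import Cfsg.Agent.Lib.GagolaSol.Linear
import Cfsg.Agent.Lib.Gagola.Split

set_option autoImplicit false
open Cfsg

namespace Cfsg.Agent.S4840

open Cfsg Cfsg.Agent.Lib.GagolaSol.Linear Cfsg.Agent.Lib.Core.Basic in
theorem aux {G : Type*} [Group G] [Finite G] [hs : Group.IsSolvable G] (hG : 2 < Nat.card G) (χ : Cfsg.IrrCharacter G) (hχ : Nat.card {C : ConjClasses G // ∃ g ∈ C.carrier, (χ : G → ℂ) g ≠ 0} = 2) :
    ∃ p : ℕ, p.Prime ∧ (∀ q : ℕ, q.Prime → (Cfsg.pCore q G ≠ ⊥ ↔ q = p)) ∧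
      Cfsg.HasNormalPComplement p (G ⧸ Cfsg.pCore p G) ∧ ∀ Q : Sylow p (G ⧸ Cfsg.pCore p G), IsMulCommutative (Q : Subgroup (G ⧸ Cfsg.pCore p G)) := by
  classical
  obtain ⟨N, hNn, hN1, hmin, ⟨p, hp, hE⟩, hsupp, htrans⟩ := Cfsg.Agent.S4835.result hG χ hχ
  haveI : Fact p.Prime := ⟨hp⟩
  haveI := hNn
  have hNp : IsPGroup p N := fun a => ⟨1, Subtype.ext (by simpa using hE.2 a a.2)⟩
  have hN : ∀ g : G, g ∈ N ↔ (χ : G → ℂ) g ≠ 0 := fun g => (hsupp g).symm
  have D : Cfsg.Agent.Lib.Gagola.Split.Data χ p N := ⟨hG, hχ, hN, hNp, hN1⟩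
  have hcen := Cfsg.Agent.Lib.Gagola.Split.centralizer_eq_pCore D
  have hpr : ∀ q : ℕ, q.Prime → (pCore q G ≠ ⊥ ↔ q = p) := by
    intro q hq
    constructor
    · intro hne
      haveI : Fact q.Prime := ⟨hq⟩
      have h1 : N ≤ pCore q G := hmin _ (pCore_normal q G) hne
      obtain ⟨⟨x, hxN⟩, hx1⟩ := Subgroup.ne_bot_iff_exists_ne_one.mp hN1
      have hx1' : x ≠ 1 := fun h => hx1 (Subtype.ext h)
      have ho : orderOf x = p := orderOf_eq_prime (hE.2 x hxN) hx1'
      obtain ⟨n, hn⟩ := IsPGroup.iff_orderOf.mp (pCore_isPGroup (p := q) (G := G)) ⟨x, h1 hxN⟩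
      rw [Subgroup.orderOf_mk, ho] at hn
      have hn0 : n ≠ 0 := by
        rintro rfl
        rw [pow_zero] at hn
        exact (Fact.out : p.Prime).one_lt.ne' hn
      have h2 : q ∣ p := by
        rw [hn]
        exact dvd_pow_self q hn0
      exact (Nat.prime_dvd_prime_iff_eq hq hp).mp h2
    · rintro rfl
      intro h
      apply hN1
      rw [eq_bot_iff, ← h]
      exact Cfsg.Agent.Lib.Gagola.Split.le_pCore_N D
  letI cg : CommGroup N := { (inferInstance : Group N) with mul_comm := fun a b => hE.1.is_comm.comm a b }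
  haveI : Nontrivial N := (Subgroup.nontrivial_iff_ne_bot N).mpr hN1
  set P₀ := pCore p G with hP₀
  haveI : P₀.Normal := pCore_normal p G
  let conj : G →* MulAut N := MulAut.conjNormal
  have hker : ∀ x ∈ P₀, conj x = 1 := by
    intro x hx
    ext n
    have h1 : x ∈ Subgroup.centralizer (N : Set G) := by rw [hcen]; exact hx
    have h2 := Subgroup.mem_centralizer_iff.mp h1 n n.2
    change x * (n : G) * x⁻¹ = n
    rw [← h2]
    group
  let act : (G ⧸ P₀) →* MulAut N := QuotientGroup.lift P₀ conj hker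
  have hact : ∀ (g : G) (n : N), ((act (g : G ⧸ P₀) n : N) : G) = g * n * g⁻¹ := fun g n => rfl
  have T : TL act p :=
    { exp := fun k => Subtype.ext (hE.2 k k.2)
      inj := by
        rw [injective_iff_map_eq_one]
        intro g
        induction g using QuotientGroup.induction_on with
        | H g =>
          intro h1
          rw [QuotientGroup.eq_one_iff]
          change g ∈ P₀
          rw [← hcen, Subgroup.mem_centralizer_iff]
          intro n hn
          have h2 : act (g : G ⧸ P₀) ⟨n, hn⟩ = ⟨n, hn⟩ := by rw [h1]; rfl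
          have h3 := congrArg Subtype.val h2
          rw [hact] at h3
          exact (mul_inv_eq_iff_eq_mul.mp h3).symm
      trans := by
        intro k k' hk hk'
        obtain ⟨g, hg⟩ := htrans k k.2 k' k'.2 (fun h => hk (Subtype.ext h)) (fun h => hk' (Subtype.ext h))
        exact ⟨(g : G ⧸ P₀), Subtype.ext ((hact g k).trans hg)⟩
      stab := by
        intro g k hk h1
        induction g using QuotientGroup.induction_on with
        | H g =>
          have h2 := congrArg Subtype.val h1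
          rw [hact] at h2
          obtain ⟨P, hP⟩ := (Cfsg.Agent.S4837.result hG χ hχ p N hN hNp hN1).1 k k.2 (fun h => hk (Subtype.ext h))
          have h3 : g ∈ (P : Subgroup G) := by
            rw [← hP, Subgroup.mem_centralizer_singleton_iff]
            exact mul_inv_eq_iff_eq_mul.mp h2
          obtain ⟨n, hn⟩ := P.isPGroup' ⟨g, h3⟩
          refine ⟨n, ?_⟩
          rw [← QuotientGroup.mk_pow]
          have h4 : g ^ p ^ n = 1 := congrArg Subtype.val hn
          rw [h4]
          rfl }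
  exact ⟨p, hp, hpr, main T⟩

/-- Let G be a finite solvable group of order greater than 2 with an irreducible character nonzero on exactly two conjugacy classes. Then there is exactly one prime p with O_p(G) ≠ 1, and the quotient G/O_p(G) has a normal p-complement and commutative Sylow p-subgroups. -/
theorem result {G : Type*} [Group G] [Finite G] [hs : Group.IsSolvable G] (hG : 2 < Nat.card G) (χ : Cfsg.IrrCharacter G) (hχ : Nat.card {C : ConjClasses G // ∃ g ∈ C.carrier, (χ : G → ℂ) g ≠ 0} = 2) :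
    ∃ p : ℕ, p.Prime ∧ (∀ q : ℕ, q.Prime → (Cfsg.pCore q G ≠ ⊥ ↔ q = p)) ∧
      Cfsg.HasNormalPComplement p (G ⧸ Cfsg.pCore p G) ∧ ∀ Q : Sylow p (G ⧸ Cfsg.pCore p G), IsMulCommutative (Q : Subgroup (G ⧸ Cfsg.pCore p G)) := by
  exact aux hG χ hχ

end Cfsg.Agent.S4840
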