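import Cfsg.Statements.S4885
import Cfsg.Agent.Lib.TwoPrimes.Y
import Cfsg.Agent.Lib.Blocks.Third

set_option autoImplicit false
open Cfsg

namespace Cfsg.Agent.S4885
open Cfsg.Agent.Lib.TwoPrimes.Y Cfsg.Agent.Lib.Core.Basic Cfsg.Agent.Lib.Char.Basic Cfsg.Agent.Lib.Char.Ortho
open Cfsg.Agent.Lib.Char.Degree
open scoped Classical

theorem aux {G : Type*} [Group G] [Finite G] (p q : ℕ) [hpp : Fact p.Prime] [hqp : Fact q.Prime]
    (hpq : p ≠ q) (hp : p ∣ Nat.card G) (hps : Cfsg.IsPSolvable p G) (hqs : Cfsg.IsPSolvable q G)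
    (Mp Mq : Ideal Cfsg.AlgInt) (hMp : Cfsg.IsPModular p Mp) (hMq : Cfsg.IsPModular q Mq)
    (h : ∀ χ : Cfsg.IrrCharacter G, (χ ∈ Cfsg.principalBlock Mp G ∧ ¬ p ∣ Cfsg.charDegree (χ : G → ℂ)) ↔
      (χ ∈ Cfsg.principalBlock Mq G ∧ ¬ q ∣ Cfsg.charDegree (χ : G → ℂ))) : False := by
  have h₂ : ¬ p ∣ (pPrimeCore q G).index := not_dvd_index_of_hyp hpq.symm hqs hps (hyp_of_block hMq hqs
    fun χ h1 h2 => ((h χ).mpr ⟨h1, h2⟩).2)
  letI : Fintype G := Fintype.ofFinite G
  have := finite_irrCharacter (G := G)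
  letI : Fintype (IrrCharacter G) := Fintype.ofFinite _
  let A := pPrimeCore p G
  let B := pPrimeCore q G
  haveI hAn : A.Normal := inferInstance
  haveI hBn : B.Normal := inferInstance
  let D : Subgroup G := A ⊔ B
  haveI hDn : D.Normal := inferInstance
  let π := QuotientGroup.mk' D
  have hπ : Function.Surjective π := QuotientGroup.mk'_surjective D
  have hDp : ¬ p ∣ Nat.card (G ⧸ D) := fun hd => h₂ (hd.trans (Subgroup.index_dvd_of_le le_sup_right))
  have hsum := Cfsg.Agent.Lib.BlockCover.Basic.dvd_sum_sq_of_dvd_card hMp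
    (Cfsg.Agent.Lib.Blocks.Third.isPBlock_principal Mp) hp
  letI : Fintype (G ⧸ D) := Fintype.ofFinite _
  have := finite_irrCharacter (G := G ⧸ D)
  letI : Fintype (IrrCharacter (G ⧸ D)) := Fintype.ofFinite _
  let infl : IrrCharacter (G ⧸ D) → IrrCharacter G := fun β =>
    ⟨(β : G ⧸ D → ℂ) ∘ π, Cfsg.Agent.Lib.Char.Linear.isIrrCharacter_comp π hπ β.2⟩
  have hinj : Function.Injective infl := by
    intro β₁ β₂ he
    apply Subtype.ext
    funext x
    obtain ⟨g, rfl⟩ := hπ x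
    exact congrFun (congrArg Subtype.val he) g
  let S : Finset (IrrCharacter G) := Finset.univ.filter fun χ =>
    χ ∈ Cfsg.principalBlock Mp G ∧ ¬ p ∣ Cfsg.charDegree (χ : G → ℂ)
  have hS : S = Finset.univ.image infl := by
    ext χ
    simp only [S, Finset.mem_filter, Finset.mem_univ, true_and, Finset.mem_image]
    constructor
    · intro hχ
      have h1 := (Cfsg.Agent.Lib.Blk89.PrinBlock.mem_principal_iff_of_isPSolvable hMp hps χ).mp hχ.1
      have h2 := (Cfsg.Agent.Lib.Blk89.PrinBlock.mem_principal_iff_of_isPSolvable hMq hqs χ).mp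
        ((h χ).mp hχ).1
      have hD : D ≤ charKer (isCharacter_of_isIrrCharacter χ.2) := sup_le h1 h2
      obtain ⟨φ, hφ, hχφ⟩ := Cfsg.Agent.Lib.Char.Linear.isIrrCharacter_descend π hπ χ.2 (fun k hk => by
        rw [QuotientGroup.ker_mk'] at hk
        exact hD hk)
      exact ⟨⟨φ, hφ⟩, Subtype.ext hχφ.symm⟩
    · rintro ⟨β, -, rfl⟩
      refine ⟨(Cfsg.Agent.Lib.Blk89.PrinBlock.mem_principal_iff_of_isPSolvable hMp hps _).mpr
        (fun n hn => ?_), ?_⟩
      · have e : π n = 1 := (QuotientGroup.eq_one_iff n).mpr (Subgroup.mem_sup_left hn)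
        simp only [infl, Function.comp_apply, map_one, e]
      · change ¬ p ∣ Cfsg.charDegree ((β : G ⧸ D → ℂ) ∘ π)
        rw [charDegree_comp]
        exact fun hd => hDp (hd.trans (charDegree_dvd_card β.2))
  have hS2 : ∑ χ ∈ S, Cfsg.charDegree (χ : G → ℂ) ^ 2 = Nat.card (G ⧸ D) := by
    rw [hS, Finset.sum_image (fun a _ b _ he => hinj he)]
    have h3 := Cfsg.Agent.Lib.Char.Complete.sum_deg_sq_eq_card (G := G ⧸ D)
    have h4 : ((∑ β : IrrCharacter (G ⧸ D), Cfsg.charDegree ((infl β : IrrCharacter G) : G → ℂ) ^ 2 : ℕ) : ℂ) =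
        ((Nat.card (G ⧸ D) : ℕ) : ℂ) := by
      rw [← h3]
      push_cast
      refine Finset.sum_congr rfl fun β _ => ?_
      change ((Cfsg.charDegree ((β : G ⧸ D → ℂ) ∘ π) : ℕ) : ℂ) ^ 2 = _
      rw [charDegree_comp, charDegree_natCast (isCharacter_of_isIrrCharacter β.2)]
    exact_mod_cast h4
  apply hDp
  rw [← hS2]
  have hdec : (∑ χ : IrrCharacter G, if χ ∈ Cfsg.principalBlock Mp G then Cfsg.charDegree (χ : G → ℂ) ^ 2 else 0) =
      ∑ χ ∈ S, Cfsg.charDegree (χ : G → ℂ) ^ 2 +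
      ∑ χ ∈ Finset.univ.filter (fun χ : IrrCharacter G => χ ∈ Cfsg.principalBlock Mp G ∧ p ∣ Cfsg.charDegree (χ : G → ℂ)),
        Cfsg.charDegree (χ : G → ℂ) ^ 2 := by
    rw [Finset.sum_filter, Finset.sum_filter, ← Finset.sum_add_distrib]
    refine Finset.sum_congr rfl fun χ _ => ?_
    by_cases h1 : χ ∈ Cfsg.principalBlock Mp G <;> by_cases h2 : p ∣ Cfsg.charDegree (χ : G → ℂ) <;>
      simp [h1, h2]
  rw [hdec] at hsum
  refine (Nat.dvd_add_left (Finset.dvd_sum fun χ hχ => ?_)).mp hsum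
  exact Dvd.dvd.pow (Finset.mem_filter.mp hχ).2.2 two_ne_zero


/-- Let p and q be primes dividing the order of the finite group G, and suppose G is p-solvable and q-solvable. Fix maximal ideals of the algebraic integers containing p and q, defining the principal p-block and the principal q-block. If the irreducible characters of degree prime to p in the principal p-block are exactly the irreducible characters of degree prime to q in the principal q-block, then p = q. -/
theorem result {G : Type*} [Group G] [Finite G] (p q : ℕ) [Fact p.Prime] [Fact q.Prime] (hp : p ∣ Nat.card G) (hq : q ∣ Nat.card G) (hps : Cfsg.IsPSolvable p G) (hqs : Cfsg.IsPSolvable q G) (Mp Mq : Ideal Cfsg.AlgInt) (hMp : Cfsg.IsPModular p Mp) (hMq : Cfsg.IsPModular q Mq) (h : ∀ χ : Cfsg.IrrCharacter G, (χ ∈ Cfsg.principalBlock Mp G ∧ ¬ p ∣ Cfsg.charDegree (χ : G → ℂ)) ↔ (χ ∈ Cfsg.principalBlock Mq G ∧ ¬ q ∣ Cfsg.charDegree (χ : G → ℂ))) : p = q := by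
  by_contra hpq
  exact aux p q hpq hp hps hqs Mp Mq hMp hMq h

end Cfsg.Agent.S4885
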