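import Cfsg.Statements.S4993
import Cfsg.Agent.Lib.FG85.PrimClass3
import Cfsg.Agent.Lib.Core.Basic
-- import your own Cfsg.Agent.* helpers here

set_option autoImplicit false
open Cfsg

namespace Cfsg.Agent.S4993




/-- Let G be a group of odd order whose order has exactly two prime divisors and whose quotient by its Fitting subgroup is nilpotent (G is metanilpotent), and let χ be a primitive irreducible complex character of G (not induced from a character of any proper subgroup). Then χ(1) divides the size of some conjugacy class of G. -/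
theorem result {G : Type*} [Group G] [Fintype G] (hodd : Odd (Nat.card G)) (h2 : (Nat.card G).primeFactors.card = 2) [hF : (Cfsg.fittingSubgroup G).Normal] (hmeta : Group.IsNilpotent (G ⧸ Cfsg.fittingSubgroup G)) (χ : Cfsg.IrrCharacter G) (hprim : ¬ ∃ (H : Subgroup G), H ≠ ⊤ ∧ ∃ θ : ↥H → ℂ, Cfsg.IsCharacter ↥H θ ∧ Cfsg.indFun H θ = (χ : G → ℂ)) : ∃ g : G, Cfsg.charDegree (χ : G → ℂ) ∣ (Subgroup.centralizer ({g} : Set G)).index := by
  obtain ⟨p, q, hpq, hpf⟩ := Finset.card_eq_two.mp h2
  have hp : p.Prime := Nat.prime_of_mem_primeFactors (by rw [hpf]; simp)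
  have hq : q.Prime := Nat.prime_of_mem_primeFactors (by rw [hpf]; simp)
  haveI : Fact p.Prime := ⟨hp⟩
  haveI : Fact q.Prime := ⟨hq⟩
  have hprimes : ∀ r : ℕ, r.Prime → r ∣ Nat.card G → r = p ∨ r = q := by
    intro r hr hrd
    have : r ∈ (Nat.card G).primeFactors :=
      Nat.mem_primeFactors.mpr ⟨hr, hrd, Nat.card_pos.ne'⟩
    rw [hpf] at this
    simpa using this
  haveI hNil : Group.IsNilpotent (Cfsg.fittingSubgroup G) :=
    Cfsg.Agent.Lib.Core.Basic.fittingSubgroup_isNilpotent
  exact Cfsg.Agent.Lib.FG85.PrimClass.exists_class_of_metanilpotent χ.2 p q hpq hprimes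
    (Cfsg.fittingSubgroup G) hmeta (Cfsg.Agent.Lib.FG85.PrimClass.qp_of_not_induced χ.2 hprim)

end Cfsg.Agent.S4993
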