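import Cfsg.Statements.S4997
import Mathlib
import Cfsg.Agent.Lib.Vanish.OneClass

set_option autoImplicit false
open Cfsg

namespace Cfsg.Agent.S4997

/-- Let p be an odd prime and G a finite solvable group with exactly one conjugacy class consisting of vanishing elements (elements at which some irreducible complex character is zero) of order divisible by p. Let P be a Sylow p-subgroup of G. Then the order of P is at most p times the order of the largest normal p-subgroup of G. -/
theorem result {G : Type*} [Group G] [Finite G] (hsolv : Group.IsSolvable G) (p : ℕ) [Fact p.Prime] (hp : p ≠ 2) (h1 : Set.ncard {C : ConjClasses G | (∀ g ∈ C.carrier, ∃ χ : Cfsg.IrrCharacter G, (χ : G → ℂ) g = 0) ∧ ∃ g ∈ C.carrier, p ∣ orderOf g} = 1) (P : Sylow p G) : Nat.card ↥(P : Subgroup G) ≤ p * Nat.card ↥(Cfsg.pCore p G) := by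
  classical
  haveI := hsolv
  obtain ⟨C₀, hC₀⟩ := Set.ncard_eq_one.mp h1
  have hmem : ∀ g : G, (∃ χ : Cfsg.IrrCharacter G, (χ : G → ℂ) g = 0) → p ∣ orderOf g →
      ConjClasses.mk g = C₀ := by
    rintro g ⟨χ, hχ⟩ hd
    have : ConjClasses.mk g ∈ ({C₀} : Set (ConjClasses G)) := by
      rw [← hC₀]
      refine ⟨?_, g, ConjClasses.mem_carrier_mk, hd⟩
      intro g' hg'
      refine ⟨χ, ?_⟩
      have h2 : IsConj g g' := ConjClasses.mk_eq_mk_iff_isConj.mp (ConjClasses.mem_carrier_iff_mk_eq.mp hg').symm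
      obtain ⟨c, rfl⟩ := isConj_iff.mp h2
      rw [Cfsg.Agent.Lib.Char.Basic.isClassFunction_of_isIrrCharacter χ.2]
      exact hχ
    exact this
  have Hv : ∀ z w : G, (∃ χ : Cfsg.IrrCharacter G, (χ : G → ℂ) z = 0) → p ∣ orderOf z →
      (∃ χ : Cfsg.IrrCharacter G, (χ : G → ℂ) w = 0) → p ∣ orderOf w → orderOf z = orderOf w := by
    intro z w hz hzd hw hwd
    have h2 : ConjClasses.mk z = ConjClasses.mk w := by rw [hmem z hz hzd, hmem w hw hwd]
    obtain ⟨c, rfl⟩ := isConj_iff.mp (ConjClasses.mk_eq_mk_iff_isConj.mp h2)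
    have h3 : c * z * c⁻¹ = MulAut.conj c z := rfl
    rw [h3, MulEquiv.orderOf_eq]
  have h2 := Cfsg.Agent.Lib.Vanish.OneClass.card_map_le_of_sameOrder hp Hv P
  rw [Cfsg.Agent.Lib.Vanish.OneClass.card_sylow_eq P]
  exact Nat.mul_le_mul_right _ h2

end Cfsg.Agent.S4997
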