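import Cfsg.Statements.S5008
import Cfsg.Agent.S4888
import Cfsg.Agent.Lib.Blk89.PrinBlock
import Cfsg.Agent.Lib.Char.Zeros
import Cfsg.Agent.Lib.Char.Linear
import Cfsg.Agent.Lib.CycPairs.Basic
-- import your own Cfsg.Agent.* helpers here

set_option autoImplicit false
open Cfsg

namespace Cfsg.Agent.S5008

/-- Let `G` be a finite group and `p` a prime dividing the size of no vanishing conjugacy class of `G` (a class of an element on which some irreducible complex character takes the value zero). Then `G` has a normal `p`-complement and abelian Sylow `p`-subgroups. The known proof uses the classification of finite simple groups. -/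
theorem result {G : Type*} [Group G] [Finite G] (p : ℕ) [Fact p.Prime]
    (h : ∀ x : G, (∃ χ : Cfsg.IrrCharacter G, (χ : G → ℂ) x = 0) → ¬ p ∣ (Subgroup.centralizer ({x} : Set G)).index) :
    Cfsg.HasNormalPComplement p G ∧ ∀ P : Sylow p G, IsMulCommutative (P : Subgroup G) := by
  classical
  have hpp : p.Prime := Fact.out
  obtain ⟨M, hM⟩ := Cfsg.Agent.Lib.BlockH.Basic.exists_isPModular hpp
  haveI := Cfsg.Agent.Lib.Blocks.Local.isPrime_of_pModular hM
  -- every member of the principal block is linear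
  have hlin : ∀ χ : Cfsg.IrrCharacter G, χ ∈ Cfsg.principalBlock M G → (χ : G → ℂ) 1 = 1 := by
    intro χ hχ
    by_contra hne
    obtain ⟨n, ρ, hirr, hρ⟩ := χ.2
    have hone : ρ.character 1 = (n : ℂ) := by
      simp [Representation.character]
    have hn0 : n ≠ 0 := by
      rintro rfl
      exact Cfsg.Agent.Lib.Char.Complete.irr_one_ne_zero χ.2 (by rw [← hρ, hone]; simp)
    have hn1 : n ≠ 1 := by
      rintro rfl
      apply hne
      rw [← hρ, hone]
      simp
    have hdeg : 1 < Module.finrank ℂ (Fin n → ℂ) := by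
      simp only [Module.finrank_fin_fun]
      omega
    haveI := hirr
    obtain ⟨x, hx⟩ := Cfsg.Agent.Lib.Char.Zeros.exists_character_eq_zero ρ hdeg
    have hx' : (χ : G → ℂ) x = 0 := by rw [← hρ]; exact hx
    have hnd := h x ⟨χ, hx'⟩
    apply hnd
    have hs := hχ x
    have hc1 : Cfsg.centralChar (χ : G → ℂ) x = 0 := by
      simp [Cfsg.centralChar, hx']
    have hc0 : Cfsg.centralChar (fun _ : G => (1 : ℂ)) x
        = (((Subgroup.centralizer ({x} : Set G)).index : ℕ) : ℂ) := by
      simp [Cfsg.centralChar]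
    rw [hc1, hc0, sub_zero] at hs
    exact (Cfsg.Agent.Lib.Blocks.Local.natCast_memLocalIdeal_iff hM _).mp hs
  have hcomp : Cfsg.HasNormalPComplement p G := by
    refine (Cfsg.Agent.S4888.result p M hM).mp ⟨1, fun χ hχ _ => ?_⟩
    exact Cfsg.Agent.Lib.Char.Degree.charDegree_eq_of_eq_natCast (by
      rw [hlin χ hχ]; simp)
  refine ⟨hcomp, ?_⟩
  have hsolv : Cfsg.IsPSolvable p G := Cfsg.Agent.Lib.CycPairs.Basic.isPSolvable_of_complement hcomp
  -- `G / O_{p'}(G)` is commutative
  have hab : ∀ a b : G ⧸ Cfsg.pPrimeCore p G, a * b = b * a := by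
    refine Cfsg.Agent.Lib.Char.Linear.comm_iff_all_deg_one.mpr fun φ => ?_
    have hmem : Cfsg.Agent.Lib.Blk89.PrinBlock.inflate φ ∈ Cfsg.principalBlock M G := by
      refine (Cfsg.Agent.Lib.Blk89.PrinBlock.mem_principal_iff_of_isPSolvable hM hsolv _).mpr ?_
      intro n hn
      have : (QuotientGroup.mk n : G ⧸ Cfsg.pPrimeCore p G) = 1 :=
        (QuotientGroup.eq_one_iff n).mpr hn
      simp only [Cfsg.Agent.Lib.Blk89.PrinBlock.inflate_apply, this, QuotientGroup.mk_one]
    have := hlin _ hmem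
    simpa using this
  intro P
  refine ⟨⟨fun a b => ?_⟩⟩
  apply Subtype.ext
  have h1 : (QuotientGroup.mk ((a : G) * b * (a : G)⁻¹ * (b : G)⁻¹) : G ⧸ Cfsg.pPrimeCore p G) = 1 := by
    simp only [QuotientGroup.mk_mul, QuotientGroup.mk_inv]
    rw [hab (QuotientGroup.mk (a : G)) (QuotientGroup.mk (b : G))]
    group
  have h2 : (a : G) * b * (a : G)⁻¹ * (b : G)⁻¹ ∈ Cfsg.pPrimeCore p G := (QuotientGroup.eq_one_iff _).mp h1
  have h3 : (a : G) * b * (a : G)⁻¹ * (b : G)⁻¹ ∈ (P : Subgroup G) :=
    (P : Subgroup G).mul_mem ((P : Subgroup G).mul_mem ((P : Subgroup G).mul_mem a.2 b.2)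
      ((P : Subgroup G).inv_mem a.2)) ((P : Subgroup G).inv_mem b.2)
  have h4 : (a : G) * b * (a : G)⁻¹ * (b : G)⁻¹ = 1 := by
    have hc := Cfsg.Agent.Lib.Core.Basic.pPrimeCore_coprime (p := p) (G := G)
    set c := (a : G) * b * (a : G)⁻¹ * (b : G)⁻¹ with hcdef
    obtain ⟨k, hk⟩ := IsPGroup.iff_orderOf.mp P.isPGroup' ⟨c, h3⟩
    have hkc : orderOf c = p ^ k := by
      have := Subgroup.orderOf_mk c h3
      rw [← this]; exact hk
    have hd : orderOf c ∣ Nat.card (Cfsg.pPrimeCore p G) := by
      have := Subgroup.orderOf_dvd_natCard (Cfsg.pPrimeCore p G) h2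
      exact this
    have hone : orderOf c = 1 := by
      by_contra hne
      have hk0 : k ≠ 0 := by
        rintro rfl
        exact hne (by simpa using hkc)
      have hpd : p ∣ orderOf c := by rw [hkc]; exact dvd_pow_self p hk0
      have := Nat.dvd_gcd (hpd.trans hd) (dvd_refl p)
      rw [Nat.Coprime.gcd_eq_one hc] at this
      exact hpp.one_lt.ne' (Nat.dvd_one.mp this)
    exact orderOf_eq_one_iff.mp hone
  have : (a : G) * b = (b : G) * a := by
    have h5 : (a : G) * b * (a : G)⁻¹ = b := by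
      rw [mul_inv_eq_one] at h4
      exact h4
    rw [mul_inv_eq_iff_eq_mul] at h5
    exact h5
  exact this

end Cfsg.Agent.S5008
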