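import Cfsg.Statements.S5162
import Cfsg.Agent.Lib.FusionExt.Layer

set_option autoImplicit false
open Cfsg

namespace Cfsg.Agent.S5162

open Cfsg.FusionSystem Cfsg.Agent.Lib.Fusion.Basic Cfsg.Agent.Lib.FusionExt.MapApi Cfsg.Agent.Lib.FusionExt.PowerE Cfsg.Agent.Lib.FusionExt.Normal
open Cfsg.Agent.Lib.FusionExt.Layer Cfsg.Agent.Lib.FusionExt.CentP Cfsg.Agent.Lib.Fusion.GenFit Cfsg.Agent.Lib.FusionExt.Comp1 Cfsg.Agent.Lib.FusionExt.QS3
open Cfsg.Agent.Lib.FusionExt.CenQ Cfsg.Agent.Lib.Fusion.Center Cfsg.Agent.Lib.FusionExt.CProd3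


/-- Let F be a saturated fusion system over a finite p-group S that is a central product of two saturated subsystems F₁ (over S₁) and F₂ (over S₂) inside S. Then every component of F is a component of F₁ or a component of F₂. -/
theorem result {Ω : Type*} [Group Ω] {S : Subgroup Ω} [Finite S] (p : ℕ) [Fact p.Prime] (hS : IsPGroup p S) (F : Cfsg.FusionSystem S) (hF : F.IsSaturated p) {S₁ S₂ : Subgroup Ω} (F₁ : Cfsg.FusionSystem S₁) (F₂ : Cfsg.FusionSystem S₂) (h₁ : F₁.IsSaturated p) (h₂ : F₂.IsSaturated p) (h₁F : F₁.IsSubsystemOf F) (h₂F : F₂.IsSubsystemOf F) (hc : Cfsg.FusionSystem.IsCentralProductOf F₁ F₂ F) {T : Subgroup Ω} (C : Cfsg.FusionSystem T) (hC : C.IsComponentIn F p) : C.IsComponentIn F₁ p ∨ C.IsComponentIn F₂ p := by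
  obtain ⟨hcomm, hT, -, -⟩ := cp_factor hc
  have hS₁S : S₁ ≤ S := hT ▸ le_sup_left
  have hS₂S : S₂ ≤ S := hT ▸ le_sup_right
  haveI : Finite S₁ := finite_of_le hS₁S
  haveI : Finite S₂ := finite_of_le hS₂S
  have hS₁p := hS.to_le hS₁S
  have hS₂p := hS.to_le hS₂S
  have hN₁ : F₁.IsNormalIn F p := normal_left hS hF hc (isNormalIn_self hS₁p h₁)
  have hN₂ : F₂.IsNormalIn F p := normal_right hS hF hc (isNormalIn_self hS₂p h₂)
  have hTS : T ≤ S := (F.le_of_mem (subnormal_sub hC.1 T (subtype_mem C le_rfl))).1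
  haveI : Finite T := finite_of_le hTS
  have hcomp₁ : C.IsSubsystemOf F₁ → C.IsComponentIn F₁ p := fun h =>
    ⟨subn_reach hC.1 inferInstance inferInstance hS hC.2 F₁ hN₁ (F₁.le_of_mem (h T (subtype_mem C le_rfl))).1, hC.2⟩
  have hcomp₂ : C.IsSubsystemOf F₂ → C.IsComponentIn F₂ p := fun h =>
    ⟨subn_reach hC.1 inferInstance inferInstance hS hC.2 F₂ hN₂ (F₂.le_of_mem (h T (subtype_mem C le_rfl))).1, hC.2⟩
  rcases comp_or_cen hS hC hN₁ with h | hc₁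
  · exact Or.inl (hcomp₁ h)
  rcases comp_or_cen hS hC hN₂ with h | hc₂
  · exact Or.inr (hcomp₂ h)
  exfalso
  have hS₁sc := hN₁.1.2.2.2.1
  have hS₂sc := hN₂.1.2.2.2.1
  -- the hyperfocal subgroup lies in both groups
  have key : ∀ {A B : Subgroup Ω}, B ≤ S → F.StronglyClosed B → (∀ a ∈ A, ∀ b ∈ B, a * b = b * a) → A ⊔ B = S → Cen F C A →
      ∀ P f, Mp C P f → ∀ x ∈ P, x⁻¹ * f x ∈ B := by
    rintro A B hBS hBsc hAB hABS ⟨-, hcen⟩ P f hf x hx
    obtain ⟨g, hg, hge, hgq⟩ := hcen P f hf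
    have hPS : P ≤ S := hf.le.trans hTS
    have hxS : x ∈ A ⊔ B := by
      rw [hABS]
      exact hPS hx
    obtain ⟨a, ha, b, hb, rfl⟩ := exists_mul_of_mem_sup' (le_norm_of_comm hAB) hxS
    have hxU : a * b ∈ P ⊔ A := Subgroup.mem_sup_left hx
    have haU : a ∈ P ⊔ A := Subgroup.mem_sup_right ha
    have hbU : b ∈ P ⊔ A := by
      have e : b = a⁻¹ * (a * b) := by group
      rw [e]
      exact Subgroup.mul_mem _ (Subgroup.inv_mem _ haU) hxU
    have hgb : g b ∈ B := sc_mp hBsc (hg.restrict inf_le_left) (inf_le_right : (P ⊔ A) ⊓ B ≤ B) (⟨hbU, hb⟩ : b ∈ (P ⊔ A) ⊓ B)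
    rw [← hge _ hx, hg.map_mul haU hbU, hgq a ha]
    have e : (a * b)⁻¹ * (a * g b) = b⁻¹ * g b := by group
    rw [e]
    exact B.mul_mem (B.inv_mem hb) hgb
  have hle₁ : T ≤ S₂ := by
    rw [← hC.2.2.1]
    exact hyperfocal_le_of_gen (fun P _ f hf x hx => key hS₂S hS₂sc hcomm hT.symm hc₁ P f hf.1 x hx)
  have hle₂ : T ≤ S₁ := by
    rw [← hC.2.2.1]
    exact hyperfocal_le_of_gen (fun P _ f hf x hx => key hS₁S hS₁sc (fun b hb a ha => (hcomm a ha b hb).symm)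
      (by rw [sup_comm]; exact hT.symm) hc₂ P f hf.1 x hx)
  refine false_of_identity hC.2 (fun X f hf x hx => ?_)
  have hXT : X ≤ T := hf.le
  have hm : Mp F₁ X f := cp_mp_left hc (mp_sub (subnormal_sub hC.1) hf) (hXT.trans hle₂)
  exact fix_central (isCentral_center F₁) hm hx (cp_center_left hc ⟨hle₂ (hXT hx), hle₁ (hXT hx)⟩)

end Cfsg.Agent.S5162
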