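import Cfsg.Statements.S5178
import Cfsg.Agent.Lib.FusionTheory.ClassTwo

set_option autoImplicit false
universe u
open Cfsg

namespace Cfsg.Agent.S5178

open Cfsg.Agent.Lib.FusionTheory.ClassTwo Cfsg.Agent.Lib.Fusion.Basic

/-- Let p be an odd prime, S a finite p-group containing an extraspecial subgroup Q of index p, and F a saturated fusion system over S whose largest subgroup normal in F is trivial. Then the centre of S equals the centre of Q. -/
theorem result {Ω : Type u} [Group Ω] {S : Subgroup Ω} [Finite S] (p : ℕ) [Fact p.Prime] (hp : Odd p) (hS : IsPGroup p S)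
    (Q : Subgroup Ω) (hQS : Q ≤ S) (hQ : Cfsg.IsExtraspecial p ↥Q) (hQi : (Q.subgroupOf S).index = p)
    (F : Cfsg.FusionSystem S) (hF : F.IsSaturated p) (hO : F.core = ⊥) :
    S ⊓ Subgroup.centralizer (S : Set Ω) = Q ⊓ Subgroup.centralizer (Q : Set Ω) := by
  classical
  have hpp := (Fact.out : p.Prime)
  have hfinQ : Finite Q := finite_of_le hQS
  obtain ⟨⟨hQp, -, hcomm⟩, hZc⟩ := hQ
  have hc : commutator Q ≤ Subgroup.center Q := hcomm.le
  let Z : Subgroup Ω := Q ⊓ Subgroup.centralizer (Q : Set Ω)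
  have hmap : (Subgroup.center Q).map Q.subtype = Z := by
    ext z
    constructor
    · rintro ⟨y, hy, rfl⟩
      exact mem_center_iff.1 hy
    · intro hz
      exact ⟨⟨z, hz.1⟩, mem_center_iff.2 hz, rfl⟩
  have hZcard : Nat.card Z = p := by
    rw [← hmap, ← hZc]
    exact Nat.card_congr (Subgroup.equivMapOfInjective _ _ Q.subtype_injective).symm.toEquiv
  have hcommQ : ∀ a ∈ Q, ∀ b ∈ Q, a * b * a⁻¹ * b⁻¹ ∈ Z := by
    intro a ha b hb
    have : (⟨a, ha⟩ : Q) * ⟨b, hb⟩ * (⟨a, ha⟩ : Q)⁻¹ * (⟨b, hb⟩ : Q)⁻¹ ∈ Subgroup.center Q :=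
      hc (Subgroup.commutator_mem_commutator (Subgroup.mem_top _) (Subgroup.mem_top _))
    exact mem_center_iff.1 this
  by_cases hZS : S ⊓ Subgroup.centralizer (S : Set Ω) ≤ Q
  · -- the centre of `S` lies in `Z(Q)`
    have hle : S ⊓ Subgroup.centralizer (S : Set Ω) ≤ Z := by
      intro y hy
      exact ⟨hZS hy, Subgroup.mem_centralizer_iff.2 fun g hg => Subgroup.mem_centralizer_iff.1 hy.2 g (hQS hg)⟩
    have hne : Nat.card (S ⊓ Subgroup.centralizer (S : Set Ω) : Subgroup Ω) ≠ 1 := by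
      have : Nontrivial S := by
        have hQnt : Nat.card Q ≠ 1 := by
          intro h
          have h2 : Nat.card (Subgroup.center Q) ∣ Nat.card Q := Subgroup.card_subgroup_dvd_card _
          rw [h, hZc] at h2
          exact hpp.one_lt.ne' (Nat.dvd_one.1 h2)
        have h3 : Nat.card Q ∣ Nat.card S := by
          exact (Nat.card_congr (Subgroup.subgroupOfEquivOfLe hQS).toEquiv).symm ▸ Subgroup.card_subgroup_dvd_card _
        refine Finite.one_lt_card_iff_nontrivial.1 ?_
        have h4 : Nat.card S ≠ 1 := fun h => hQnt (Nat.dvd_one.1 (h ▸ h3))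
        have h5 : Nat.card S ≠ 0 := Nat.card_pos.ne'
        omega
      have hn := hS.center_nontrivial
      intro h1
      have h2 : (S ⊓ Subgroup.centralizer (S : Set Ω) : Subgroup Ω) = ⊥ := (Subgroup.card_eq_one).1 h1
      obtain ⟨y, hy, hy1⟩ := (Subgroup.nontrivial_iff_exists_ne_one _).1 hn
      apply hy1
      have h3 := mem_center_iff.1 hy
      rw [h2, Subgroup.mem_bot] at h3
      exact Subtype.ext h3
    have hdvd : Nat.card (S ⊓ Subgroup.centralizer (S : Set Ω) : Subgroup Ω) ∣ Nat.card Z := Subgroup.card_dvd_of_le hle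
    rw [hZcard] at hdvd
    have hcard := ((Nat.dvd_prime hpp).1 hdvd).resolve_left hne
    have hfinZ : Finite Z := finite_of_le (inf_le_left.trans hQS)
    exact Subgroup.eq_of_le_of_card_ge hle (by rw [hZcard, hcard])
  · -- the centre of `S` is not in `Q`
    obtain ⟨y, hy, hyQ⟩ := SetLike.not_le_iff_exists.1 hZS
    have hyS := hy.1
    have hycen : ∀ s ∈ S, s * y = y * s := fun s hs => Subgroup.mem_centralizer_iff.1 hy.2 s hs
    have hgen := exists_zpow_mul hS hQS hQi hyS hyQ
    have hs : Setup p S Z := by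
      refine ⟨inf_le_left.trans hQS, hZcard, ?_, ?_⟩
      · intro z hz s hs'
        obtain ⟨k, e, he, rfl⟩ := hgen s hs'
        have h1 : Commute (y ^ k) z := by
          refine Commute.zpow_left ?_ k
          exact (hycen z (hQS hz.1)).symm
        have h2 : e * z = z * e := Subgroup.mem_centralizer_iff.1 hz.2 e he
        calc y ^ k * e * z = y ^ k * (e * z) := by group
          _ = y ^ k * (z * e) := by rw [h2]
          _ = (y ^ k * z) * e := by group
          _ = (z * y ^ k) * e := by rw [h1.eq]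
          _ = _ := by group
      · intro a ha b hb
        obtain ⟨k, e, he, rfl⟩ := hgen a ha
        obtain ⟨l, f, hf, rfl⟩ := hgen b hb
        have hZy : ∀ (m : ℤ) (s : Ω), s ∈ S → y ^ m * s = s * y ^ m := by
          intro m s hs'
          have h1 : Commute y s := (hycen s hs').symm
          exact (h1.zpow_left m).eq
        have he' := hQS he
        have hf' := hQS hf
        have hw : e * f * e⁻¹ ∈ S := S.mul_mem (S.mul_mem he' hf') (S.inv_mem he')
        have hw2 : e * f * e⁻¹ * f⁻¹ ∈ S := S.mul_mem hw (S.inv_mem hf')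
        have h1 : y ^ l * e = e * y ^ l := hZy l e he'
        have h2 : (y ^ k)⁻¹ * (e * f * e⁻¹) = (e * f * e⁻¹) * (y ^ k)⁻¹ := by
          have h : Commute (y ^ k) (e * f * e⁻¹) := hZy k _ hw
          exact h.inv_left.eq
        have h3 : y ^ k * y ^ l * (y ^ k)⁻¹ = y ^ l := by
          rw [← zpow_add, ← zpow_neg, ← zpow_add]
          congr 1
          ring
        have h4 : y ^ l * (e * f * e⁻¹ * f⁻¹) * (y ^ l)⁻¹ = e * f * e⁻¹ * f⁻¹ := by
          rw [hZy l _ hw2, mul_inv_cancel_right]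
        have e1 : y ^ k * e * (y ^ l * f) * (y ^ k * e)⁻¹ * (y ^ l * f)⁻¹ = e * f * e⁻¹ * f⁻¹ := by
          calc y ^ k * e * (y ^ l * f) * (y ^ k * e)⁻¹ * (y ^ l * f)⁻¹
              = y ^ k * (e * y ^ l) * f * e⁻¹ * (y ^ k)⁻¹ * f⁻¹ * (y ^ l)⁻¹ := by group
            _ = y ^ k * (y ^ l * e) * f * e⁻¹ * (y ^ k)⁻¹ * f⁻¹ * (y ^ l)⁻¹ := by rw [h1]
            _ = y ^ k * y ^ l * ((e * f * e⁻¹) * (y ^ k)⁻¹) * f⁻¹ * (y ^ l)⁻¹ := by group
            _ = y ^ k * y ^ l * ((y ^ k)⁻¹ * (e * f * e⁻¹)) * f⁻¹ * (y ^ l)⁻¹ := by rw [h2]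
            _ = (y ^ k * y ^ l * (y ^ k)⁻¹) * (e * f * e⁻¹ * f⁻¹) * (y ^ l)⁻¹ := by group
            _ = y ^ l * (e * f * e⁻¹ * f⁻¹) * (y ^ l)⁻¹ := by rw [h3]
            _ = _ := h4
        rw [e1]
        exact hcommQ e he f hf
    exact hs.center_eq F hp hS hF hO

end Cfsg.Agent.S5178
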