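import Cfsg.Statements.S5179
import Cfsg.Agent.Lib.FusionTheory.Transvect

set_option autoImplicit false
universe u
open Cfsg

namespace Cfsg.Agent.S5179

open Cfsg.Agent.Lib.Fusion.Basic Cfsg.Agent.Lib.FusionTheory.Transvect Cfsg.FusionSystem

section grp
variable {G : Type*} [Group G]

/-- The commutator map with `w` in a group of class two. -/
def commHom (hc : commutator G ≤ Subgroup.center G) (w : G) : G →* Subgroup.center G where
  toFun y := ⟨y * w * y⁻¹ * w⁻¹, hc (Subgroup.commutator_mem_commutator (Subgroup.mem_top y) (Subgroup.mem_top w))⟩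
  map_one' := by ext; simp
  map_mul' a b := by
    have h : Subgroup.center G := ⟨b * w * b⁻¹ * w⁻¹, hc (Subgroup.commutator_mem_commutator (Subgroup.mem_top b) (Subgroup.mem_top w))⟩
    ext
    show a * b * w * (a * b)⁻¹ * w⁻¹ = a * w * a⁻¹ * w⁻¹ * (b * w * b⁻¹ * w⁻¹)
    have hb : b * w * b⁻¹ * w⁻¹ ∈ Subgroup.center G := hc (Subgroup.commutator_mem_commutator (Subgroup.mem_top b) (Subgroup.mem_top w))
    have hcomm := Subgroup.mem_center_iff.1 hb (a * w * a⁻¹ * w⁻¹)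
    rw [hcomm]
    have e1 := Subgroup.mem_center_iff.1 hb a
    calc a * b * w * (a * b)⁻¹ * w⁻¹ = a * (b * w * b⁻¹ * w⁻¹) * w * a⁻¹ * w⁻¹ := by group
      _ = (b * w * b⁻¹ * w⁻¹) * a * w * a⁻¹ * w⁻¹ := by rw [e1]
      _ = _ := by group

theorem commHom_apply (hc : commutator G ≤ Subgroup.center G) (w y : G) :
    ((commHom hc w y : Subgroup.center G) : G) = y * w * y⁻¹ * w⁻¹ := rfl

theorem mem_ker_commHom (hc : commutator G ≤ Subgroup.center G) (w y : G) :
    y ∈ (commHom hc w).ker ↔ y * w = w * y := by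
  rw [MonoidHom.mem_ker, Subtype.ext_iff, commHom_apply]
  show y * w * y⁻¹ * w⁻¹ = 1 ↔ _
  constructor
  · intro h
    have h2 : y * w * y⁻¹ = w := mul_inv_eq_one.1 h
    exact mul_inv_eq_iff_eq_mul.1 h2
  · intro h
    rw [h]
    group

theorem exists_commuting_outside [Finite G] {p : ℕ} [hp : Fact p.Prime] (hc : commutator G ≤ Subgroup.center G)
    (hZ : Nat.card (Subgroup.center G) = p) (E : Subgroup G) (hEne : E ≠ ⊤) (hEab : ∀ a ∈ E, ∀ b ∈ E, a * b = b * a)
    (hcard : p ^ 3 < Nat.card G) (w : G) (hw : w ∈ E) : ∃ y, y ∉ E ∧ y * w = w * y := by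
  by_contra hno
  push Not at hno
  have hle : (commHom hc w).ker ≤ E := by
    intro y hy
    by_contra hyE
    exact hno y hyE ((mem_ker_commHom hc w y).1 hy)
  have hi : E.index ∣ p := by
    refine (Subgroup.index_dvd_of_le hle).trans ?_
    rw [Subgroup.index_ker, ← hZ]
    exact Subgroup.card_subgroup_dvd_card _
  have hi1 : E.index ≠ 1 := fun h => hEne (Subgroup.index_eq_one.1 h)
  have hip : E.index = p := ((Nat.dvd_prime hp.out).1 hi).resolve_left hi1
  have hco := Cfsg.Agent.Lib.PGroups.Basic.isCoatom_of_index_prime (hip ▸ hp.out : E.index.Prime)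
  obtain ⟨-, y, -, hy⟩ := SetLike.lt_iff_le_and_exists.1 (lt_top_iff_ne_top.2 hEne)
  let ψ : E →* Subgroup.center G := (commHom hc y).comp E.subtype
  have hker : ∀ e : E, e ∈ ψ.ker → (e : G) ∈ Subgroup.center G := by
    intro e he
    have he' : (e : G) * y = y * (e : G) := (mem_ker_commHom hc y _).1 he
    have hC : E < Subgroup.centralizer ({(e : G)} : Set G) := by
      refine SetLike.lt_iff_le_and_exists.2 ⟨fun a ha => ?_, y, ?_, hy⟩
      · rw [Subgroup.mem_centralizer_singleton_iff]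
        exact hEab a ha _ e.2
      · rw [Subgroup.mem_centralizer_singleton_iff]
        exact he'.symm
    have htop := hco.2 _ hC
    rw [Subgroup.mem_center_iff]
    intro g
    have : g ∈ Subgroup.centralizer ({(e : G)} : Set G) := by rw [htop]; trivial
    rw [Subgroup.mem_centralizer_singleton_iff] at this
    exact this
  have h1 : Nat.card ψ.ker ≤ p := by
    rw [← hZ]
    refine Nat.card_le_card_of_injective (fun e : ψ.ker => (⟨(e : E), hker _ e.2⟩ : Subgroup.center G)) ?_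
    intro a b hab
    have := congrArg Subtype.val hab
    exact Subtype.ext (Subtype.ext this)
  have h2 : Nat.card ψ.range ≤ p := by
    rw [← hZ]
    exact Subgroup.card_le_card_group _
  have h3 : Nat.card E = Nat.card ψ.ker * Nat.card ψ.range := by
    have := Subgroup.card_eq_card_quotient_mul_card_subgroup ψ.ker
    rw [this, mul_comm]
    congr 1
    exact Nat.card_congr (QuotientGroup.quotientKerEquivRange ψ).toEquiv
  have h4 : Nat.card G = Nat.card E * p := by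
    rw [← hip]
    exact (Subgroup.card_mul_index E).symm
  have h5 : Nat.card E ≤ p * p := by
    rw [h3]
    exact Nat.mul_le_mul h1 h2
  have h6 : Nat.card G ≤ p ^ 3 := by
    rw [h4]
    calc Nat.card E * p ≤ p * p * p := Nat.mul_le_mul_right _ h5
      _ = p ^ 3 := by ring
  omega

theorem hzpow {p : ℕ} [hp : Fact p.Prime] (Z₀ : Subgroup G) (h : Nat.card Z₀ = p) {c a : G} (hc : c ∈ Z₀) (hc1 : c ≠ 1)
    (ha : a ∈ Z₀) : a ∈ Subgroup.zpowers c := by
  have : Finite Z₀ := Nat.finite_of_card_ne_zero (by rw [h]; exact hp.out.ne_zero)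
  have hle : Subgroup.zpowers c ≤ Z₀ := by
    rw [Subgroup.zpowers_le]
    exact hc
  have hd : Nat.card (Subgroup.zpowers c) ∣ p := by
    rw [← h]
    exact Subgroup.card_dvd_of_le hle
  have h1 : Nat.card (Subgroup.zpowers c) ≠ 1 := by
    intro h1
    rw [Subgroup.card_eq_one] at h1
    exact hc1 (Subgroup.zpowers_eq_bot.1 h1)
  have h2 : Nat.card (Subgroup.zpowers c) = p := ((Nat.dvd_prime hp.out).1 hd).resolve_left h1
  have e : Subgroup.zpowers c = Z₀ := Subgroup.eq_of_le_of_card_ge hle (by rw [h, h2])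
  rw [e]
  exact ha

end grp

/-- Let p be an odd prime, S a finite p-group of order at least p⁶ containing an extraspecial subgroup Q of index p, and F a saturated fusion system over S whose largest subgroup normal in F is trivial. Then no proper subgroup of Q is essential in F: an essential subgroup of F contained in Q equals Q. -/
theorem result {Ω : Type u} [Group Ω] {S : Subgroup Ω} [Finite S] (p : ℕ) [Fact p.Prime] (hp : Odd p) (hS : IsPGroup p S)
    (Q : Subgroup Ω) (hQS : Q ≤ S) (hQ : Cfsg.IsExtraspecial p ↥Q) (hQi : (Q.subgroupOf S).index = p)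
    (h6 : p ^ 6 ≤ Nat.card S)
    (F : Cfsg.FusionSystem S) (hF : F.IsSaturated p) (hO : F.core = ⊥)
    (E : Subgroup Ω) (hEQ : E ≤ Q) (hE : F.IsEssential p E) : E = Q := by
  classical
  by_contra hne
  have hpp := (Fact.out : p.Prime)
  have hlt : E < Q := lt_of_le_of_ne hEQ hne
  have hES : E ≤ S := hEQ.trans hQS
  have hfinQ : Finite Q := finite_of_le hQS
  have hfinE : Finite E := finite_of_le hES
  obtain ⟨⟨hQp, -, hcomm⟩, hZc⟩ := hQ
  have hc : commutator Q ≤ Subgroup.center Q := hcomm.le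
  let Z : Subgroup Ω := (Subgroup.center Q).map Q.subtype
  have hZQ : ∀ z ∈ Z, z ∈ Q := by
    rintro _ ⟨z, -, rfl⟩
    exact z.2
  have hZcomm : ∀ z ∈ Z, ∀ y ∈ Q, y * z * y⁻¹ = z := by
    rintro _ ⟨z, hz, rfl⟩ y hy
    have := Subgroup.mem_center_iff.1 hz ⟨y, hy⟩
    have h2 : y * (z : Ω) = (z : Ω) * y := congrArg Subtype.val this
    show y * (z : Ω) * y⁻¹ = z
    rw [h2]
    group
  have hZE : Z ≤ E := by
    intro z hz
    refine hE.1.2 E (isConj_refl F hES) ⟨hQS (hZQ z hz), ?_⟩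
    refine Subgroup.mem_centralizer_iff.2 fun e he => ?_
    have := hZcomm z hz e (hEQ he)
    rw [mul_inv_eq_iff_eq_mul] at this
    exact this
  have hcommZ : ∀ a ∈ Q, ∀ b ∈ Q, a * b * a⁻¹ * b⁻¹ ∈ Z := by
    intro a ha b hb
    have : (⟨a, ha⟩ : Q) * ⟨b, hb⟩ * (⟨a, ha⟩ : Q)⁻¹ * (⟨b, hb⟩ : Q)⁻¹ ∈ Subgroup.center Q :=
      hc (Subgroup.commutator_mem_commutator (Subgroup.mem_top _) (Subgroup.mem_top _))
    exact ⟨_, this, rfl⟩
  have hconj : ∀ y ∈ Q, ∀ e ∈ E, y * e * y⁻¹ ∈ E := by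
    intro y hy e he
    have h1 := hZE (hcommZ y hy e (hEQ he))
    have h2 := E.mul_mem h1 he
    have e1 : y * e * y⁻¹ * e⁻¹ * e = y * e * y⁻¹ := by group
    rwa [e1] at h2
  have hQn : ∀ y ∈ Q, y ∈ Subgroup.normalizer (E : Set Ω) := by
    intro y hy
    rw [Subgroup.mem_normalizer_iff]
    intro e
    refine ⟨hconj y hy e, fun h => ?_⟩
    have := hconj y⁻¹ (Q.inv_mem hy) _ h
    have e1 : y⁻¹ * (y * e * y⁻¹) * y⁻¹⁻¹ = e := by group
    rwa [e1] at this
  -- the card of `Q` is large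
  have hQcard : p ^ 3 < Nat.card Q := by
    have h1 : Nat.card S = Nat.card (Q.subgroupOf S) * p := by
      rw [← hQi]
      exact (Subgroup.card_mul_index _).symm
    have h2 : Nat.card (Q.subgroupOf S) = Nat.card Q := by
      exact Nat.card_congr (Subgroup.subgroupOfEquivOfLe hQS).toEquiv
    rw [h2] at h1
    have h3 : p ^ 5 * p ≤ Nat.card Q * p := by
      rw [← h1]
      calc p ^ 5 * p = p ^ 6 := by ring
        _ ≤ _ := h6
    have h4 : p ^ 5 ≤ Nat.card Q := Nat.le_of_mul_le_mul_right h3 hpp.pos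
    have h5 : p ^ 3 < p ^ 5 := Nat.pow_lt_pow_right hpp.one_lt (by norm_num)
    omega
  -- pick a nontrivial element of the centre, adapted to `E`
  let Z₀ : Subgroup E := Z.subgroupOf E
  have hZ₀mem : ∀ z : E, z ∈ Z₀ ↔ (z : Ω) ∈ Z := fun z => Subgroup.mem_subgroupOf
  have hZ₀card : Nat.card Z₀ = p := by
    have h1 : Nat.card Z₀ = Nat.card Z := Nat.card_congr (Subgroup.subgroupOfEquivOfLe hZE).toEquiv
    have h2 : Nat.card Z = Nat.card (Subgroup.center Q) := Nat.card_congr (Subgroup.equivMapOfInjective _ _ Q.subtype_injective).symm.toEquiv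
    rw [h1, h2, hZc]
  have hgen : ∃ c ∈ Z₀, c ≠ 1 ∧ (∀ a ∈ Z₀, a ∈ Subgroup.zpowers c) ∧ ((∀ a b : E, a * b = b * a) ∨ ∀ g ∈ F.autGroup E, ∀ k : ℤ, (((g c) ^ k : E) : Ω) ∈ Z) := by
    by_cases habel : ∀ a b : E, a * b = b * a
    · have : Fact (Nat.card Z₀).Prime := ⟨hZ₀card ▸ hpp⟩
      have : Nontrivial Z₀ := Finite.one_lt_card_iff_nontrivial.1 (by rw [hZ₀card]; exact hpp.one_lt)
      obtain ⟨c, hc⟩ := exists_ne (1 : Z₀)
      refine ⟨c, c.2, fun h => hc (Subtype.ext h), fun a ha => ?_, Or.inl habel⟩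
      exact hzpow Z₀ hZ₀card c.2 (fun h => hc (Subtype.ext h)) ha
    · push Not at habel
      obtain ⟨a, b, hab⟩ := habel
      have hne : a * b * a⁻¹ * b⁻¹ ≠ 1 := by
        intro h
        apply hab
        have h2 : a * b * a⁻¹ = b := mul_inv_eq_one.1 h
        exact mul_inv_eq_iff_eq_mul.1 h2
      have hmem : a * b * a⁻¹ * b⁻¹ ∈ Z₀ := by
        rw [hZ₀mem]
        exact hcommZ _ (hEQ a.2) _ (hEQ b.2)
      refine ⟨_, hmem, hne, fun x hx => hzpow Z₀ hZ₀card hmem hne hx, Or.inr fun g hg k => ?_⟩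
      have h3 : ((g (a * b * a⁻¹ * b⁻¹) : E) : Ω) ∈ Z := by
        have e : g (a * b * a⁻¹ * b⁻¹) = g a * g b * (g a)⁻¹ * (g b)⁻¹ := by simp [map_mul, map_inv]
        rw [e]
        exact hcommZ _ (hEQ (g a).2) _ (hEQ (g b).2)
      have e2 : (((g (a * b * a⁻¹ * b⁻¹)) ^ k : E) : Ω) = ((g (a * b * a⁻¹ * b⁻¹) : E) : Ω) ^ k := by simp
      rw [e2]
      exact Z.zpow_mem h3 k
  obtain ⟨c, hcZ, hc1, hcgen, hcase⟩ := hgen
  -- for every automorphism, an element outside `E` commuting with the image of `c`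
  have hbig : ∀ g ∈ F.autGroup E, ∃ y ∈ Q, y ∉ E ∧ ∀ z ∈ Z₀, y * (g z : Ω) * y⁻¹ = g z := by
    intro g hg
    have hzk : ∀ z ∈ Z₀, ∃ k : ℤ, g z = (g c) ^ k := by
      intro z hz
      obtain ⟨k, hk⟩ := Subgroup.mem_zpowers_iff.1 (hcgen z hz)
      exact ⟨k, by rw [← hk, map_zpow]⟩
    rcases hcase with habel | hnon
    · have hEne : E.subgroupOf Q ≠ ⊤ := by
        intro h
        apply hne
        exact le_antisymm hEQ (Subgroup.subgroupOf_eq_top.1 h)
      have hEab : ∀ a ∈ E.subgroupOf Q, ∀ b ∈ E.subgroupOf Q, a * b = b * a := by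
        intro a ha b hb
        have h0 := habel ⟨a, ha⟩ ⟨b, hb⟩
        have h1 := congrArg (fun x : E => (x : Ω)) h0
        exact Subtype.ext h1
      obtain ⟨y, hyE, hy⟩ := exists_commuting_outside hc hZc (E.subgroupOf Q) hEne hEab hQcard
        ⟨(g c : Ω), hEQ (g c).2⟩ (Subgroup.mem_subgroupOf.2 (g c).2)
      refine ⟨y, y.2, fun h => hyE (Subgroup.mem_subgroupOf.2 h), fun z hz => ?_⟩
      obtain ⟨k, hk⟩ := hzk z hz
      have h1 : (y : Ω) * (g c : Ω) = (g c : Ω) * y := congrArg Subtype.val hy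
      have h2 : (y : Ω) * (g c : Ω) * (y : Ω)⁻¹ = (g c : Ω) := by rw [h1]; group
      rw [hk]
      have e2 : (((g c) ^ k : E) : Ω) = (g c : Ω) ^ k := by simp
      rw [e2, ← conj_zpow, h2]
    · obtain ⟨-, y, hyQ, hyE⟩ := SetLike.lt_iff_le_and_exists.1 hlt
      refine ⟨y, hyQ, hyE, fun z hz => ?_⟩
      obtain ⟨k, hk⟩ := hzk z hz
      rw [hk]
      exact hZcomm _ (hnon g hg k) y hyQ
  refine Cfsg.Agent.Lib.FusionTheory.Transvect.no_transvection' F hS hF hE (Z₀ := Z₀) (fun g hg => ?_)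
  obtain ⟨y, hyQ, hyE, hy⟩ := hbig g hg
  refine ⟨y, hQS hyQ, hQn y hyQ, hyE, fun z hz => ?_, fun v => ?_, fun z hz => ?_⟩
  · apply Subtype.ext
    rw [normAct_apply]
    exact hZcomm _ ((hZ₀mem z).1 hz) y hyQ
  · rw [hZ₀mem]
    have h1 := hcommZ (v : Ω)⁻¹ (Q.inv_mem (hEQ v.2)) y hyQ
    have e : (((v⁻¹ * normAct E (hQn y hyQ) v : E)) : Ω) = (v : Ω)⁻¹ * (y * v * y⁻¹) := rfl
    rw [e]
    have e2 : (v : Ω)⁻¹ * (y * v * y⁻¹) = (v : Ω)⁻¹ * y * (v : Ω)⁻¹⁻¹ * y⁻¹ := by group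
    rwa [e2]
  · apply Subtype.ext
    rw [normAct_apply]
    exact hy z hz

end Cfsg.Agent.S5179
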