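import Cfsg.Statements.S5187
import Cfsg.Agent.Lib.Fusion.SmallEssentialAb

set_option autoImplicit false

open Cfsg

namespace Cfsg.Agent.S5187

open Cfsg.Agent.Lib.Fusion.SmallEssential Cfsg.Agent.Lib.Fusion.SmallEssentialAb Cfsg.Agent.Lib.Fusion.Basic

universe u

/-- Let F be a saturated fusion system over a finite p-group S and H an abelian essential subgroup of rank at most 2. Then H is elementary abelian of order p², or p ≤ 3 and H is homocyclic of rank 2. -/
theorem result {Ω : Type u} [Group Ω] {S : Subgroup Ω} [Finite S] (p : ℕ) [Fact p.Prime] (hS : IsPGroup p S)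
    (F : Cfsg.FusionSystem S) (hF : F.IsSaturated p) (H : Subgroup Ω) (hH : F.IsEssential p H) (hab : IsMulCommutative ↥H) (hrk : (frattini ↥H).index ≤ p ^ 2) :
    (Cfsg.IsElementaryAbelian p H ∧ Nat.card H = p ^ 2) ∨
      (p ≤ 3 ∧ ∃ k : ℕ, Nonempty (↥H ≃* Multiplicative (ZMod (p ^ k) × ZMod (p ^ k)))) := by
  have hX := essAut_of_isEssential hS F hH
  have hfH : Finite H := finite_of_le hH.1.1
  have hV : IsPGroup p H := hS.to_le hH.1.1
  letI cg : CommGroup H := { (inferInstance : Group H) with mul_comm := fun a b => hab.is_comm.comm a b }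
  rcases rank_two hV hX hrk with ⟨h1, h2⟩ | h
  · left
    refine ⟨⟨hab, fun a ha => ?_⟩, h2⟩
    have := h1 ⟨a, ha⟩
    simpa using congrArg Subtype.val this
  · right
    exact h

end Cfsg.Agent.S5187
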