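import Cfsg.Statements.S5191

set_option autoImplicit false
open Cfsg

namespace Cfsg.Agent.S5191

theorem lift_aux {G : Type*} [Group G] [Finite G] {p : ℕ} [Fact p.Prime] (N : Subgroup G) [N.Normal]
    (S : Sylow p G) (Q : Subgroup G) (hQp : IsPGroup p Q) (hQ : Q ≤ (S : Subgroup G) ⊔ N) :
    ∃ n ∈ N, ∀ x ∈ Q, n * x * n⁻¹ ∈ (S : Subgroup G) := by
  set H : Subgroup G := (S : Subgroup G) ⊔ N with hH
  have hSH : (S : Subgroup G) ≤ H := le_sup_left
  let T : Sylow p H := S.subtype hSH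
  have hQ' : IsPGroup p (Q.subgroupOf H) := by
    intro x
    obtain ⟨k, hk⟩ := hQp ⟨x.1.1, Subgroup.mem_subgroupOf.mp x.2⟩
    refine ⟨k, Subtype.ext (Subtype.ext ?_)⟩
    simpa using congrArg Subtype.val hk
  obtain ⟨T', hT'⟩ := hQ'.exists_le_sylow
  obtain ⟨h, hh⟩ := MulAction.exists_smul_eq H T' T
  obtain ⟨s, hs, n, hn, hsn⟩ := Subgroup.mem_sup_of_normal_right.mp h.2
  refine ⟨n, hn, fun x hx => ?_⟩
  have hxH : x ∈ H := hQ hx
  have h1 : (⟨x, hxH⟩ : H) ∈ (T' : Subgroup H) := hT' (Subgroup.mem_subgroupOf.mpr hx)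
  have h2 : h * ⟨x, hxH⟩ * h⁻¹ ∈ (T : Subgroup H) := by
    rw [← hh]
    exact Subgroup.mem_map_of_mem _ h1
  have h3 : ((h : G) * x * (h : G)⁻¹) ∈ (S : Subgroup G) := by
    have : (h * ⟨x, hxH⟩ * h⁻¹ : H) ∈ ((S : Subgroup G).subgroupOf H) := h2
    simpa using Subgroup.mem_subgroupOf.mp this
  have h4 : n * x * n⁻¹ = s⁻¹ * ((h : G) * x * (h : G)⁻¹) * s := by
    rw [← hsn]; group
  rw [h4]
  exact (S : Subgroup G).mul_mem ((S : Subgroup G).mul_mem ((S : Subgroup G).inv_mem hs) h3) hs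

/-- Fusion in a finite group G and in its quotient by O_{p'}(G) agree. Let S be a Sylow p-subgroup of G, N = O_{p'}(G) and P ≤ S. If an element of G/N conjugates the image of P into the image of S, then some element g of G conjugates P into S and induces the same map on P modulo N. (Together with the injectivity of S → G/N this says that g ↦ gN induces an isomorphism of the fusion system of G on S with that of G/N on SN/N.) -/
theorem result {G : Type*} [Group G] [Finite G] {p : ℕ} [Fact p.Prime]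
    [hN : (Cfsg.pPrimeCore p G).Normal] (S : Sylow p G) (P : Subgroup G) (hP : P ≤ (S : Subgroup G))
    (γ : G ⧸ Cfsg.pPrimeCore p G)
    (hγ : ∀ x ∈ P, γ * QuotientGroup.mk x * γ⁻¹ ∈ ((S : Subgroup G).map (QuotientGroup.mk' (Cfsg.pPrimeCore p G)))) :
    ∃ g : G, ∀ x ∈ P, g * x * g⁻¹ ∈ S ∧
      (QuotientGroup.mk (g * x * g⁻¹) : G ⧸ Cfsg.pPrimeCore p G) = γ * QuotientGroup.mk x * γ⁻¹ := by
  classical
  obtain ⟨g₀, hg₀⟩ := QuotientGroup.mk_surjective γ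
  subst hg₀
  set N := Cfsg.pPrimeCore p G with hNdef
  set Q : Subgroup G := P.map (MulAut.conj g₀).toMonoidHom with hQ
  have hQp : IsPGroup p Q := (S.isPGroup'.to_le hP).map _
  have hQH : Q ≤ (S : Subgroup G) ⊔ N := by
    rintro _ ⟨x, hx, rfl⟩
    obtain ⟨s, hs, hse⟩ := hγ x hx
    have h1 : (QuotientGroup.mk (g₀ * x * g₀⁻¹) : G ⧸ N) = QuotientGroup.mk s := by
      rw [show (QuotientGroup.mk' N) s = QuotientGroup.mk s from rfl] at hse
      rw [hse]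
      rfl
    have h2 : s⁻¹ * (g₀ * x * g₀⁻¹) ∈ N := QuotientGroup.eq.mp h1.symm
    have h3 : g₀ * x * g₀⁻¹ = s * (s⁻¹ * (g₀ * x * g₀⁻¹)) := by group
    show g₀ * x * g₀⁻¹ ∈ (S : Subgroup G) ⊔ N
    rw [h3]
    exact Subgroup.mul_mem _ (Subgroup.mem_sup_left hs) (Subgroup.mem_sup_right h2)
  obtain ⟨n, hn, hnQ⟩ := lift_aux N S Q hQp hQH
  refine ⟨n * g₀, fun x hx => ⟨?_, ?_⟩⟩
  · have := hnQ (g₀ * x * g₀⁻¹) ⟨x, hx, rfl⟩
    have h5 : n * g₀ * x * (n * g₀)⁻¹ = n * (g₀ * x * g₀⁻¹) * n⁻¹ := by group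
    rw [h5]; exact this
  · have h6 : (QuotientGroup.mk n : G ⧸ N) = 1 := (QuotientGroup.eq_one_iff n).mpr hn
    have h7 : n * g₀ * x * (n * g₀)⁻¹ = n * (g₀ * x * g₀⁻¹) * n⁻¹ := by group
    rw [h7]
    show ((QuotientGroup.mk' N) (n * (g₀ * x * g₀⁻¹) * n⁻¹)) = _
    simp only [map_mul, map_inv]
    rw [show (QuotientGroup.mk' N) n = 1 from h6]
    simp
    rfl

end Cfsg.Agent.S5191
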