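import Cfsg.Statements.S5193
import Cfsg.Agent.Lib.PLocal.FusionWC

set_option autoImplicit false
open Cfsg

namespace Cfsg.Agent.S5193

/-- Glauberman's Theorem for fusion systems. Let F be a saturated fusion system over a finite p-group S, let J(S) be the subgroup generated by the abelian subgroups of S of largest order, and let N be the normalizer fusion system of J(S) in F (a fusion system over N_S(J(S)) = S). Then every p-th power of an element of Z(S) that lies in the centre of N lies in the centre of F; and if p is odd, or if the symmetric group of degree 4 is not involved in any model of the normalizer system of a fully normalized F-centric subgroup (F is S₄-free), then the centre of N equals the centre of F. -/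
theorem result {Ω : Type*} [Group Ω] {S : Subgroup Ω} [Finite S] (p : ℕ) [Fact p.Prime] (hS : IsPGroup p S) (F : Cfsg.FusionSystem S) (hF : F.IsSaturated p) (N : Cfsg.FusionSystem (Cfsg.FusionSystem.normalizerIn S (Cfsg.thompsonSubgroupAOf S))) (hN : F.IsNormalizerSystem (Cfsg.thompsonSubgroupAOf S) N) : Subgroup.closure ((fun z : Ω => z ^ p) '' ((S ⊓ Subgroup.centralizer (S : Set Ω) : Subgroup Ω) : Set Ω)) ⊓ N.center ≤ F.center ∧ (p ≠ 2 ∨ F.IsSectionFree p (Equiv.Perm (Fin 4)) → N.center = F.center) := by
  have hcomm : ∀ a ∈ S ⊓ Subgroup.centralizer (S : Set Ω), ∀ b ∈ S ⊓ Subgroup.centralizer (S : Set Ω), a * b = b * a := by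
    intro a ha b hb
    exact (Subgroup.mem_centralizer_iff.1 ha.2 b hb.1).symm
  have hpow : ∀ x ∈ Subgroup.closure ((fun z : Ω => z ^ p) '' ((S ⊓ Subgroup.centralizer (S : Set Ω) : Subgroup Ω) : Set Ω)),
      ∃ z ∈ S ⊓ Subgroup.centralizer (S : Set Ω), z ^ p = x := by
    intro x hx
    induction hx using Subgroup.closure_induction with
    | mem y hy =>
      obtain ⟨z, hz, rfl⟩ := hy
      exact ⟨z, hz, rfl⟩
    | one => exact ⟨1, Subgroup.one_mem _, one_pow _⟩
    | mul a b _ _ iha ihb =>
      obtain ⟨u, hu, rfl⟩ := iha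
      obtain ⟨v, hv, rfl⟩ := ihb
      refine ⟨u * v, Subgroup.mul_mem _ hu hv, ?_⟩
      exact (show Commute u v from hcomm u hu v hv).mul_pow p
    | inv a _ ih =>
      obtain ⟨u, hu, rfl⟩ := ih
      exact ⟨u⁻¹, Subgroup.inv_mem _ hu, inv_pow _ _⟩
  constructor
  · rintro x ⟨hx1, hx2⟩
    obtain ⟨z, hz, rfl⟩ := hpow x hx1
    exact Cfsg.Agent.Lib.PLocal.FusionWC.mem_center_of_power hS F hF N hN hx2 hz.1
      (fun s hs => Subgroup.mem_centralizer_iff.1 hz.2 s hs) rfl
  · intro hC
    refine le_antisymm (fun x hx => ?_)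
      (Cfsg.Agent.Lib.Fusion.WeakClosure.center_le_center_normalizer Cfsg.Agent.Lib.PLocal.FusionWC.WJ
        Cfsg.Agent.Lib.PLocal.FusionWC.center_le_wJ hS F N hN)
    exact Cfsg.Agent.Lib.PLocal.FusionWC.mem_center_of_free hS F hF N hN hx hC

end Cfsg.Agent.S5193
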