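import Cfsg.Statements.S5198
import Cfsg.Agent.Lib.FusionTheory.StrongAct

set_option autoImplicit false
open Cfsg

namespace Cfsg.Agent.S5198

open Cfsg.FusionSystem Cfsg.Agent.Lib.Fusion.Basic Cfsg.Agent.Lib.FusionTheory.StrongAct
open Cfsg.Agent.Lib.Core.Residual

/-- Let F be a saturated fusion system over a finite p-group S and T a subgroup of S strongly closed in F (so T is normal in S). Then every element x of the hyperfocal subgroup of F acts on T by conjugation as an element of O^p(Aut_F(T))·Inn(T): there is an automorphism of T in the subgroup generated by the elements of Aut_F(T) of order prime to p together with the inner automorphisms of T that agrees with conjugation by x. -/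
theorem result {Ω : Type*} [Group Ω] {S : Subgroup Ω} [Finite S] (p : ℕ) [Fact p.Prime] (hS : IsPGroup p S) (F : Cfsg.FusionSystem S) (hF : F.IsSaturated p) (T : Subgroup Ω) (hT : F.StronglyClosed T) : ∀ x ∈ F.hyperfocalSubgroup p, ∃ α ∈ ((Cfsg.pResidual p ↥(F.autGroup T)).map (F.autGroup T).subtype ⊔ Cfsg.Inn ↥T : Subgroup (MulAut ↥T)), ∀ t : ↥T, ((α t : ↥T) : Ω) = x * (t : Ω) * x⁻¹ := by
  intro x hx
  have hXn : ∀ β ∈ F.autGroup T, ∀ ξ ∈ ((Cfsg.pResidual p ↥(F.autGroup T)).map (F.autGroup T).subtype ⊔ Cfsg.Inn ↥T : Subgroup (MulAut ↥T)),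
      β * ξ * β⁻¹ ∈ ((Cfsg.pResidual p ↥(F.autGroup T)).map (F.autGroup T).subtype ⊔ Cfsg.Inn ↥T : Subgroup (MulAut ↥T)) := by
    intro β hβ ξ hξ
    have hle : ((Cfsg.pResidual p ↥(F.autGroup T)).map (F.autGroup T).subtype ⊔ Cfsg.Inn ↥T : Subgroup (MulAut ↥T)) ≤
        ((Cfsg.pResidual p ↥(F.autGroup T)).map (F.autGroup T).subtype ⊔ Cfsg.Inn ↥T : Subgroup (MulAut ↥T)).comap
          (MulAut.conj β).toMonoidHom := by
      refine sup_le ?_ ?_
      · rintro _ ⟨a, ha, rfl⟩
        refine Subgroup.mem_sup_left ⟨⟨β, hβ⟩ * a * ⟨β, hβ⟩⁻¹, ?_, rfl⟩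
        exact (inferInstance : (Cfsg.pResidual p ↥(F.autGroup T)).Normal).conj_mem a ha ⟨β, hβ⟩
      · rintro _ ⟨t, rfl⟩
        refine Subgroup.mem_sup_right ⟨β t, ?_⟩
        ext u
        simp [MulAut.conj_apply]
    exact hle hξ
  have h := hyp_le_actSub F hS hF hT _ le_sup_right hXn le_sup_left hx
  obtain ⟨-, α, hα, hαt⟩ := h
  exact ⟨α, hα, hαt⟩

end Cfsg.Agent.S5198
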