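import Cfsg.Statements.S5200
import Cfsg.Agent.Lib.FusionTheory.LiftY9
import Cfsg.Agent.Lib.FusionExt.CentE3

set_option autoImplicit false
open Cfsg

namespace Cfsg.Agent.S5200

open Cfsg.FusionSystem Cfsg.Agent.Lib.Fusion.Basic Cfsg.Agent.Lib.FusionExt.CentE Cfsg.Agent.Lib.FusionExt.MapApi Cfsg.Agent.Lib.FusionExt.LowPi

/-- The commutator of products of commuting elements. -/
theorem comm_prod {G : Type*} [Group G] {a b t s : G} (hat : Commute a t) (has : Commute a s) (hbt : Commute b t) (hbs : Commute b s) :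
    (a * t) * (b * s) * (a * t)⁻¹ * (b * s)⁻¹ = (a * b * a⁻¹ * b⁻¹) * (t * s * t⁻¹ * s⁻¹) := by
  have h1 : a * t * (b * s) = a * b * (t * s) := by
    calc a * t * (b * s) = a * (t * b) * s := by group
      _ = a * (b * t) * s := by rw [hbt.eq]
      _ = _ := by group
  have h2 : (a * t)⁻¹ = a⁻¹ * t⁻¹ := by rw [hat.eq, mul_inv_rev]
  have h3 : (b * s)⁻¹ = b⁻¹ * s⁻¹ := by rw [hbs.eq, mul_inv_rev]
  have h4 : t * s * (a⁻¹ * b⁻¹) = a⁻¹ * b⁻¹ * (t * s) := by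
    have c1 : Commute (a⁻¹ * b⁻¹) (t * s) :=
      Commute.mul_left (Commute.mul_right hat.inv_left has.inv_left) (Commute.mul_right hbt.inv_left hbs.inv_left)
    exact c1.symm.eq
  have h5 : t⁻¹ * b⁻¹ = b⁻¹ * t⁻¹ := (hbt.inv_inv).symm.eq
  rw [h1, h2, h3]
  calc a * b * (t * s) * (a⁻¹ * t⁻¹) * (b⁻¹ * s⁻¹) = a * b * (t * s * (a⁻¹ * (t⁻¹ * b⁻¹))) * s⁻¹ := by group
    _ = a * b * (t * s * (a⁻¹ * (b⁻¹ * t⁻¹))) * s⁻¹ := by rw [h5]
    _ = a * b * ((t * s * (a⁻¹ * b⁻¹)) * t⁻¹) * s⁻¹ := by group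
    _ = a * b * ((a⁻¹ * b⁻¹ * (t * s)) * t⁻¹) * s⁻¹ := by rw [h4]
    _ = _ := by group

/-- Let F be a saturated fusion system over a finite p-group S and E a normal subsystem of F over T whose centralizer in S lies in T: every subgroup Y of C_S(T) such that E is contained in the centralizer fusion system of Y in F satisfies Y ≤ T. Then T·C_S(T)/T is abelian (the commutator subgroup of T·C_S(T) lies in T), and if p is odd then C_S(T) ≤ T. -/
theorem result {Ω : Type*} [Group Ω] {S : Subgroup Ω} [Finite S] (p : ℕ) [Fact p.Prime] (hS : IsPGroup p S) (F : Cfsg.FusionSystem S) (hF : F.IsSaturated p) {T : Subgroup Ω} (E : Cfsg.FusionSystem T) (hE : E.IsNormalIn F p) (hCE : ∀ Y : Subgroup Ω, Y ≤ Cfsg.FusionSystem.centralizerIn S T → (∀ C : Cfsg.FusionSystem (Cfsg.FusionSystem.centralizerIn S Y), F.IsCentralizerSystem Y C → E.IsSubsystemOf C) → Y ≤ T) : ⁅T ⊔ Cfsg.FusionSystem.centralizerIn S T, T ⊔ Cfsg.FusionSystem.centralizerIn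 S T⁆ ≤ T ∧ (p ≠ 2 → Cfsg.FusionSystem.centralizerIn S T ≤ T) := by
  haveI : Finite T := finite_of_le hE.1.2.2.2.1.1
  have hTS : T ≤ S := hE.1.2.2.2.1.1
  obtain ⟨hCl, hHom, -, -⟩ := Cfsg.Agent.Lib.FusionExt.CentE2.main' hS hE
  have hCC : CC F E ≤ T := hCE _ hCl (fun C hC P φ hφ => by
    rw [hC P]
    exact hHom P hφ)
  constructor
  · -- the commutator
    have hcomm : ∀ c ∈ centralizerIn S T, ∀ d ∈ centralizerIn S T, d⁻¹ * (c * d * c⁻¹) ∈ T := by
      intro c hc d hd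
      have hdc : c * d * c⁻¹ ∈ centralizerIn S T := Subgroup.mul_mem _ (Subgroup.mul_mem _ hc hd) (Subgroup.inv_mem _ hc)
      have hrel : Cfsg.Agent.Lib.FusionExt.CentE3.Rel F T d (c * d * c⁻¹) := by
        refine ⟨hd, hdc, fun x => c * x * c⁻¹, ?_, fun t ht => ?_, rfl⟩
        · exact Mp.conj (sup_le hTS ((Subgroup.zpowers_le).2 (mem_cent.1 hd).1)) (mem_cent.1 hc).1
        · show c * t * c⁻¹ = t
          rw [← (mem_cent.1 hc).2 t ht]
          group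
      exact hCC (Cfsg.Agent.Lib.FusionExt.CentE3.Foc_le_CC hS hE (Subgroup.subset_closure ⟨d, _, hrel, rfl⟩))
    rw [Subgroup.commutator_le]
    have hn : centralizerIn S T ≤ Subgroup.normalizer (T : Set Ω) := fun c hc =>
      (Subgroup.centralizer_le_normalizer (T : Set Ω)) (Subgroup.mem_centralizer_iff.2 (fun t ht => ((mem_cent.1 hc).2 t ht)))
    intro u hu v hv
    rw [sup_comm] at hu hv
    obtain ⟨a, ha, t, ht, rfl⟩ := Cfsg.Agent.Lib.FusionExt.Normal.exists_mul_of_mem_sup' hn hu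
    obtain ⟨b, hb, s, hs, rfl⟩ := Cfsg.Agent.Lib.FusionExt.Normal.exists_mul_of_mem_sup' hn hv
    have key := comm_prod (a := a) (b := b) (t := t) (s := s) ((mem_cent.1 ha).2 t ht).symm ((mem_cent.1 ha).2 s hs).symm
      ((mem_cent.1 hb).2 t ht).symm ((mem_cent.1 hb).2 s hs).symm
    rw [commutatorElement_def, key]
    refine T.mul_mem ?_ (T.mul_mem (T.mul_mem (T.mul_mem ht hs) (T.inv_mem ht)) (T.inv_mem hs))
    have h1 := hcomm a ha b⁻¹ (Subgroup.inv_mem _ hb)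
    have e : a * b * a⁻¹ * b⁻¹ = (b⁻¹⁻¹ * (a * b⁻¹ * a⁻¹))⁻¹ := by group
    rw [e]
    exact T.inv_mem h1
  · intro hp2 x hx
    obtain ⟨c, n, m, hn, hm, hce, hfx⟩ := Cfsg.Agent.Lib.FusionTheory.LiftY9.exists_fx (⟨hS, hE, hx⟩ : Cfsg.Agent.Lib.FusionTheory.LiftY1.Ctx F E x p) hp2
    have hc : c ∈ T := hCC (Subgroup.subset_closure hfx)
    have hxn : x ^ n ∈ T := by
      have e : x ^ n = c * m⁻¹ := by rw [hce]; group
      rw [e]
      exact T.mul_mem hc (T.inv_mem hm)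
    obtain ⟨k, hk⟩ := hS ⟨x, (mem_cent.1 hx).1⟩
    have hk' : x ^ p ^ k = 1 := congrArg Subtype.val hk
    exact mem_of_pow_mem_coprime (Nat.Coprime.coprime_dvd_left (orderOf_dvd_of_pow_eq_one hk') (Nat.Coprime.pow_left k hn.symm)) hxn

end Cfsg.Agent.S5200
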