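import Cfsg.Statements.S5212
import Cfsg.Agent.Lib.H29.StrongMetaTwo

set_option autoImplicit false
open Cfsg

namespace Cfsg.Agent.S5212


open Cfsg.Agent.Lib.Fusion.Basic Cfsg.Agent.Lib.Fusion.Saturation Cfsg.Agent.Lib.Fusion.Saturation2 Cfsg.Agent.Lib.Fusion.Alperin Cfsg.FusionSystem Cfsg.Agent.Lib.FusionTheory.Normal in

/-- Let S be a finite metacyclic 2-group that is not homocyclic abelian (a direct product of cyclic groups of one common order), not dihedral, not semidihedral and not generalized quaternion. Then every saturated fusion system over S is the inner fusion system of S. -/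
theorem result {Ω : Type*} [Group Ω] {S : Subgroup Ω} [Finite S] (hS : IsPGroup 2 S) (F : Cfsg.FusionSystem S) (hF : F.IsSaturated 2) (hm : Cfsg.IsMetacyclic ↥S) (hh : ¬ ∃ n k : ℕ, Nonempty (↥S ≃* Multiplicative (Fin k → ZMod (2 ^ n)))) (hd : ¬ ∃ m : ℕ, Nonempty (↥S ≃* DihedralGroup m)) (hq : ¬ ∃ m : ℕ, Nonempty (↥S ≃* QuaternionGroup m)) (hsd : ¬ Cfsg.IsQuasiDihedral ↥S) : ∀ P : Subgroup Ω, F.Hom P = (Cfsg.innerFusionSystem S).Hom P := by
  classical
  haveI : Fact (Nat.Prime 2) := ⟨Nat.prime_two⟩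
  have hA : IsPGroup 2 (MulAut ↥S) := by
    by_contra hA
    rcases Cfsg.Agent.Lib.PGroups.MetacyclicAut.main hS hm hA with ⟨⟨e⟩⟩ | ⟨n, ⟨e⟩⟩
    · exact hq ⟨2, ⟨e⟩⟩
    · refine hh ⟨n, 2, ⟨e.trans ?_⟩⟩
      exact (MulEquiv.prodMultiplicative _ _).symm.trans
        (AddEquiv.toMultiplicative (LinearEquiv.finTwoArrow ℤ (ZMod (2 ^ n))).symm.toAddEquiv)
  have hSc : F.StronglyClosed S := by
    refine ⟨le_rfl, ?_⟩
    intro T hT φ hφ t
    exact val_mem F hφ t
  intro P
  apply Set.Subset.antisymm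
  · refine alperin_goldschmidt F hS hF (Cfsg.innerFusionSystem S) ?_ P
    intro P hP α hα
    have hPS : P = S := by
      rcases hP with h | hE
      · exact h
      · exact le_antisymm hE.1.1 (le_of_normalizer_le hS hSc.1 (StronglyClosed.le_normalizer F hSc) hE.1.1
          (fun s hs hsn => Cfsg.Agent.Lib.H29.StrongMetaTwo.mem_of_mem_of_normalizer_two hS F hSc hm hd hq hsd hE hs hsn))
    subst hPS
    have hfn : F.IsFullyNormalized P := isFullyNormalized_top F hS
    have hpg : IsPGroup 2 (F.autGroup P) := hA.to_subgroup _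
    rw [autGroup_eq_of_isPGroup F hS hF hfn hpg] at hα
    obtain ⟨g, hg, hgα⟩ := (mem_autInducedBy_iff P P α).1 hα
    rw [mem_autGroup_iff _ hfn.1]
    exact ⟨hfn.1, g, hg, hgα⟩
  · exact inner_le F P
end Cfsg.Agent.S5212
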