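import Cfsg.Statements.S5220
import Cfsg.Agent.Lib.Fusion.Generation3

set_option autoImplicit false
open Cfsg

namespace Cfsg.Agent.S5220

/-- Let F be a saturated fusion system over a nontrivial finite p-group S, let J(S) be the subgroup generated by the abelian subgroups of S of largest order, and let V be the subgroup generated by the p-th powers of the elements of Z(S). Then F is generated by the centralizer fusion system of V and the normalizer fusion system of J(S): every fusion system over S containing the maps of both contains every map of F. -/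
theorem result {Ω : Type*} [Group Ω] {S : Subgroup Ω} [Finite S] (p : ℕ) [Fact p.Prime] (hS : IsPGroup p S) (F : Cfsg.FusionSystem S) (hF : F.IsSaturated p) (hS1 : S ≠ ⊥) (C : Cfsg.FusionSystem (Cfsg.FusionSystem.centralizerIn S (Cfsg.powerClosure p 1 (S ⊓ Subgroup.centralizer (S : Set Ω))))) (hC : F.IsCentralizerSystem (Cfsg.powerClosure p 1 (S ⊓ Subgroup.centralizer (S : Set Ω))) C) (N : Cfsg.FusionSystem (Cfsg.FusionSystem.normalizerIn S (Cfsg.thompsonSubgroupAOf S))) (hN : F.IsNormalizerSystem (Cfsg.thompsonSubgroupAOf S) N) (E : Cfsg.FusionSystem S) (hCE : C.IsSubsystemOf E) (hNE : N.IsSubsystemOf E) : F.IsSubsystemOf E := by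
  open Cfsg.Agent.Lib.Fusion.Generation3 Cfsg.Agent.Lib.Fusion.Basic Cfsg.FusionSystem in
  have hV := Cfsg.Agent.Lib.Fusion.PowerCenter.powerClosure_le_center (S := S) p 1
  have hHC : HC (p := p) E F := by
    intro R hRS hVR γ hγ hfix
    apply hCE R
    rw [hC R]
    have hle : R ⊔ Cfsg.powerClosure p 1 (S ⊓ Subgroup.centralizer (S : Set Ω)) ≤ R := sup_le le_rfl hVR
    have hRc : R ≤ centralizerIn S (Cfsg.powerClosure p 1 (S ⊓ Subgroup.centralizer (S : Set Ω))) := by
      intro x hx
      refine ⟨hRS hx, Subgroup.mem_centralizer_iff.2 fun v hv => ?_⟩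
      exact ((Subgroup.mem_centralizer_iff.1 (hV hv).2 x (hRS hx))).symm
    refine ⟨autHom_mem F hRS hγ, hRc, fun x => hRc (γ x).2, (autHom γ).comp (Subgroup.inclusion hle),
      restrict_mem F hle (autHom_mem F hRS hγ), fun x => rfl, fun x => ?_⟩
    have h1 := hfix ⟨x, hVR x.2⟩ x.2
    exact congrArg Subtype.val h1
  have hHN : HN E F := by
    intro R hRS hJR γ hγ hp'
    apply hNE R
    rw [hN R]
    refine aut_mem_normalizerHom hRS hJR (fun x hx => ?_) hγ hp'
    exact normalizerIn_le_J hS le_rfl ⟨hRS hx, Subgroup.le_normalizer (hRS hx)⟩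
  exact fun P => generation E hS (Mu F) S le_rfl F hF rfl hHC hHN P

end Cfsg.Agent.S5220
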