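import Cfsg.Statements.S5222
import Cfsg.Agent.Lib.Fusion.FocalInner
import Cfsg.Agent.Lib.Fusion.ModelNormalizer
import Cfsg.Agent.Lib.FusionExt.Normal

set_option autoImplicit false
open Cfsg

namespace Cfsg.Agent.S5222

/-- Let F be a saturated fusion system over a finite p-group S whose normalizer fusion system of S is the inner fusion system of S (Aut_F(S) is a p-group). Then for every subgroup Q of S with [S, S] ≤ Q ≤ Φ(S), the normalizer fusion system of Q in F is the inner fusion system of N_S(Q) = S. -/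
theorem result {Ω : Type*} [Group Ω] {S : Subgroup Ω} [Finite S] (p : ℕ) [Fact p.Prime] (hS : IsPGroup p S) (F : Cfsg.FusionSystem S) (hF : F.IsSaturated p) (hN : ∀ N : Cfsg.FusionSystem (Cfsg.FusionSystem.normalizerIn S S), F.IsNormalizerSystem S N → ∀ P : Subgroup Ω, N.Hom P = (Cfsg.innerFusionSystem (Cfsg.FusionSystem.normalizerIn S S)).Hom P) (Q : Subgroup Ω) (h1 : (commutator ↥S).map S.subtype ≤ Q) (h2 : Q ≤ (frattini ↥S).map S.subtype) : ∀ N : Cfsg.FusionSystem (Cfsg.FusionSystem.normalizerIn S Q), F.IsNormalizerSystem Q N → ∀ P : Subgroup Ω, N.Hom P = (Cfsg.innerFusionSystem (Cfsg.FusionSystem.normalizerIn S Q)).Hom P := by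
  open Cfsg.Agent.Lib.Fusion.Basic Cfsg.Agent.Lib.Fusion.FocalInner Cfsg.Agent.Lib.Fusion.ModelNormalizer Cfsg.Agent.Lib.Fusion.KSystem Cfsg.FusionSystem in
  intro E hE
  have hA := aut_inner_of_normalizer F hN
  have hΦS : (frattini ↥S).map S.subtype ≤ S := by
    rintro _ ⟨y, -, rfl⟩
    exact y.2
  have hQS : Q ≤ S := h2.trans hΦS
  have hcm : ∀ {g x : Ω}, g ∈ S → x ∈ S → x⁻¹ * (g * x * g⁻¹) ∈ Q := by
    intro g x hg hx
    apply h1
    refine ⟨(⟨x, hx⟩ : ↥S)⁻¹ * (⟨g, hg⟩ * ⟨x, hx⟩ * (⟨g, hg⟩ : ↥S)⁻¹), ?_, rfl⟩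
    have e : (⟨x, hx⟩ : ↥S)⁻¹ * (⟨g, hg⟩ * ⟨x, hx⟩ * (⟨g, hg⟩ : ↥S)⁻¹) =
        (⟨x, hx⟩ : ↥S)⁻¹ * ⟨g, hg⟩ * (⟨x, hx⟩ : ↥S)⁻¹⁻¹ * (⟨g, hg⟩ : ↥S)⁻¹ := by group
    rw [e]
    have h3 := Subgroup.commutator_mem_commutator (Subgroup.mem_top ((⟨x, hx⟩ : ↥S)⁻¹)) (Subgroup.mem_top (⟨g, hg⟩ : ↥S))
    rw [commutatorElement_def] at h3
    exact h3
  have hNQ : normalizerIn S Q = S := by
    apply le_antisymm inf_le_left
    intro g hg
    refine ⟨hg, Subgroup.mem_normalizer_iff.2 fun x => ?_⟩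
    constructor
    · intro hx
      have h3 := Q.mul_mem hx (hcm hg (hQS hx))
      rwa [mul_inv_cancel_left] at h3
    · intro hx
      have h3 := Q.mul_mem hx (hcm (S.inv_mem hg) (hQS hx))
      have e : g * x * g⁻¹ * ((g * x * g⁻¹)⁻¹ * (g⁻¹ * (g * x * g⁻¹) * g⁻¹⁻¹)) = x := by group
      rwa [e] at h3
  have hfn : F.IsFullyNormalized Q := ⟨hQS, fun Q' _ => by
    rw [hNQ]
    exact card_le_of_le_finite inf_le_left⟩
  have hEsat := isSaturated_normalizerSystem hS F hF hfn E hE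
  have hEn := normalizerSystem_isNormal F hQS hE
  have hEsc := Cfsg.Agent.Lib.FusionExt.Normal.isNormal_stronglyClosed E hEn
  have hS₁ : IsPGroup p ↥(normalizerIn S Q) := hS.of_injective (Subgroup.inclusion inf_le_left) (Subgroup.inclusion_injective _)
  haveI hfin₁ : Finite ↥(normalizerIn S Q) := finite_of_le (S := S) inf_le_left
  have hA₁ : ∀ φ ∈ E.Hom (normalizerIn S Q), ∃ g ∈ normalizerIn S Q, ∀ x : ↥(normalizerIn S Q), φ x = g * (x : Ω) * g⁻¹ := by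
    have key : ∀ (P : Subgroup Ω) (_ : P = S) (ψ : P →* Ω), ψ ∈ F.Hom P → ∃ g ∈ S, ∀ x : P, ψ x = g * (x : Ω) * g⁻¹ := by
      intro P hP ψ hψ
      rcases hP with rfl
      exact hA ψ hψ
    intro φ hφ
    rw [hE] at hφ
    obtain ⟨g, hg, h⟩ := key _ hNQ φ hφ.1
    exact ⟨g, hNQ.ge hg, h⟩
  have hfoc := focal_gen_mem E hS₁ hEsat Q (fun hg hx => hcm hg.1 hx.1) hA₁ hEsc
  have hfF : E.focalSubgroup ≤ (frattini ↥(normalizerIn S Q)).map (normalizerIn S Q).subtype := by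
    have h4 : (frattini ↥(normalizerIn S Q)).map (normalizerIn S Q).subtype = (frattini ↥S).map S.subtype := by
      rw [hNQ]
    rw [h4]
    refine le_trans ?_ h2
    apply (Subgroup.closure_le _).2
    rintro _ ⟨P, φ, x, hφ, rfl⟩
    exact hfoc P φ hφ x
  exact eq_inner_of_focal_le_frattini E hS₁ hEsat hfF

end Cfsg.Agent.S5222
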