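import Cfsg.Statements.S5234
import Cfsg.Agent.Lib.FusionTheory.Metacyclic

set_option autoImplicit false
open Cfsg

namespace Cfsg.Agent.S5234


/-- Let p be an odd prime, F a saturated fusion system over a finite p-group S and P a metacyclic subgroup of S strongly closed in F. Then P is normal in F. -/
theorem result {Ω : Type*} [Group Ω] {S : Subgroup Ω} [Finite S] (p : ℕ) [Fact p.Prime] (hS : IsPGroup p S) (F : Cfsg.FusionSystem S) (hF : F.IsSaturated p) (P : Subgroup Ω) (hP : F.StronglyClosed P) (hp : p ≠ 2) (hm : Cfsg.IsMetacyclic ↥P) : F.IsNormal P := by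
  classical
  by_cases hc : IsCyclic ↥P
  · refine Cfsg.Agent.Lib.FusionExt.Normal2.isNormal_of_abelian F hS hF hP (fun a ha b hb => ?_)
    have h1 := hc.commGroup.mul_comm ⟨a, ha⟩ ⟨b, hb⟩
    exact congrArg Subtype.val h1
  · apply Cfsg.Agent.Lib.FusionTheory.Normal.isNormal_of_invariant F hS hF hP.1
    rintro R (rfl | hR)
    · exact ⟨hP.1, fun α hα x hx => Cfsg.Agent.Lib.FusionTheory.Normal.StronglyClosed.aut_mem F hP le_rfl hα hx⟩
    · refine ⟨Cfsg.Agent.Lib.FusionTheory.Normal.le_of_normalizer_le hS hP.1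
        (Cfsg.Agent.Lib.FusionTheory.Normal.StronglyClosed.le_normalizer F hP) hR.1.1 (fun s hs hn => ?_),
        fun α hα x hx => Cfsg.Agent.Lib.FusionTheory.Normal.StronglyClosed.aut_mem F hP hR.1.1 hα hx⟩
      exact Cfsg.Agent.Lib.FusionTheory.Metacyclic.mem_essential F hS hF hp hP hm hc hR hs hn

end Cfsg.Agent.S5234
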