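import Cfsg.Statements.S5243
import Cfsg.Agent.Lib.Fusion.ChiK

set_option autoImplicit false
open Cfsg

namespace Cfsg.Agent.S5243

/-- Let F be a saturated fusion system over a finite p-group S, E a normal subsystem of F over T ≤ S, and χ a surjective homomorphism from Aut_F(T) onto a nontrivial finite group Δ of order prime to p whose kernel contains Aut_E(T). Then there is a proper normal subsystem F₀ of F over S containing E such that Aut_{F₀}(S) consists of those α ∈ Aut_F(S) whose restriction to T is an element of Aut_F(T) in the kernel of χ; moreover every p'-residual subsystem O^{p'}(F) of F is contained in F₀. -/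
theorem result {Ω : Type*} [Group Ω] {S : Subgroup Ω} [Finite S] (p : ℕ) [Fact p.Prime] (hS : IsPGroup p S) (F : Cfsg.FusionSystem S) (hF : F.IsSaturated p) {T : Subgroup Ω} (hTS : T ≤ S) (E : Cfsg.FusionSystem T) (hE : E.IsNormalIn F p) {Δ : Type*} [Group Δ] [Finite Δ] [Nontrivial Δ] (hΔ : (Nat.card Δ).Coprime p) (χ : ↥(F.autGroup T) →* Δ) (hχ : Function.Surjective χ) (hker : (E.autGroup T).subgroupOf (F.autGroup T) ≤ χ.ker) : ∃ F₀ : Cfsg.FusionSystem S, F₀.IsNormalIn F p ∧ ¬ (∀ P : Subgroup Ω, F₀.Hom P = F.Hom P) ∧ E.IsSubsystemOf F₀ ∧ (∀ α : MulAut ↥S, α ∈ F₀.autGroup S ↔ α ∈ F.autGroup S ∧ ∃ β : ↥(F.autGroup T), χ β = 1 ∧ ∀ t : ↥T, (((β : MulAut ↥T) t : ↥T) : Ω) = ((α ⟨(t : Ω), hTS t.2⟩ : ↥S) : Ω)) ∧ ∀ R : Cfsg.FusionSystem S, F.IsPPrimeResidual p R → R.IsSubsystemOf F₀ := by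
  obtain ⟨hEs, hF', hsub, hT, hInv, hFr⟩ := hE.1
  have hTS' : T ≤ S := hT.1
  haveI : Finite T := Cfsg.Agent.Lib.Fusion.Basic.finite_of_le hTS'
  have hSI := Cfsg.Agent.Lib.FusionExt.Invariant.strong_of_inv hInv hFr
  obtain ⟨K, hKdef⟩ : ∃ K : Subgroup (MulAut T), K = (χ.ker).map (F.autGroup T).subtype := ⟨_, rfl⟩
  have hmemK : ∀ {a : MulAut T}, a ∈ K ↔ ∃ h : a ∈ F.autGroup T, χ ⟨a, h⟩ = 1 := by
    intro a
    rw [hKdef]
    constructor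
    · rintro ⟨⟨x, hx⟩, hk, rfl⟩
      exact ⟨hx, hk⟩
    · rintro ⟨h, hk⟩
      exact ⟨⟨a, h⟩, hk, rfl⟩
  have hKOK : Cfsg.Agent.Lib.Fusion.ChiK.KOK F E p K := by
    refine ⟨fun a ha => (hmemK.1 ha).1, fun a ha => ?_, fun a ha c hc => ?_, fun a ha m hm => ?_⟩
    · have haF : a ∈ F.autGroup T := Cfsg.Agent.Lib.FusionExt.PIndex.autGroup_le_of_subsystem hsub le_rfl ha
      exact hmemK.2 ⟨haF, hker (show (⟨a, haF⟩ : F.autGroup T) ∈ (E.autGroup T).subgroupOf (F.autGroup T) from ha)⟩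
    · obtain ⟨hcF, hc1⟩ := hmemK.1 hc
      refine hmemK.2 ⟨Subgroup.mul_mem _ (Subgroup.mul_mem _ ha hcF) (Subgroup.inv_mem _ ha), ?_⟩
      have e : (⟨a * c * a⁻¹, Subgroup.mul_mem _ (Subgroup.mul_mem _ ha hcF) (Subgroup.inv_mem _ ha)⟩ : F.autGroup T) =
          ⟨a, ha⟩ * ⟨c, hcF⟩ * ⟨a, ha⟩⁻¹ := rfl
      rw [e, map_mul, map_mul, hc1]
      simp
    · refine hmemK.2 ⟨ha, ?_⟩
      have h1 : (χ ⟨a, ha⟩) ^ (p ^ m) = 1 := by
        rw [← map_pow]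
        have : (⟨a, ha⟩ : F.autGroup T) ^ (p ^ m) = 1 := Subtype.ext hm
        rw [this, map_one]
      have h2 : (χ ⟨a, ha⟩) ^ (Nat.card Δ) = 1 := pow_card_eq_one'
      have hco : (p ^ m).Coprime (Nat.card Δ) := Nat.Coprime.pow_left m hΔ.symm
      have h3 := pow_gcd_eq_one.2 ⟨h1, h2⟩
      rw [hco.gcd_eq_one, pow_one] at h3
      exact h3
  have H : Cfsg.Agent.Lib.Fusion.ChiK.Setup F E p K := ⟨hS, hF, hEs, hsub, hT, hSI, hFr, hKOK⟩
  refine ⟨Cfsg.Agent.Lib.Fusion.ChiK.f0 F E K, H.isNormalIn, fun hall => ?_, H.E_le, fun α => ?_, fun R hR => H.residual_le hR⟩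
  · obtain ⟨d, hd⟩ := exists_ne (1 : Δ)
    obtain ⟨β, hβ⟩ := hχ d
    have h1 : (β : MulAut T) ∈ (Cfsg.Agent.Lib.Fusion.ChiK.f0 F E K).autGroup T := by
      have h2 := (Cfsg.Agent.Lib.Fusion.Basic.mem_autGroup_iff F hTS' (β : MulAut T)).1 β.2
      rw [← hall T] at h2
      exact (Cfsg.Agent.Lib.Fusion.Basic.mem_autGroup_iff _ hTS' _).2 h2
    obtain ⟨h3, h4⟩ := hmemK.1 (H.mem_aut_T.1 h1)
    apply hd
    rw [← hβ]
    exact h4
  · rw [H.mem_aut_S]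
    refine and_congr_right (fun hα => ⟨?_, ?_⟩)
    · rintro ⟨β, hβ, e⟩
      obtain ⟨h3, h4⟩ := hmemK.1 hβ
      refine ⟨⟨β, h3⟩, h4, fun t => ?_⟩
      have h5 := e t t.2
      rw [Cfsg.Agent.Lib.FusionExt.MapApi.autFun_of_mem β t.2, Cfsg.Agent.Lib.FusionExt.MapApi.autFun_of_mem α (hTS' t.2)] at h5
      exact h5
    · rintro ⟨β, h1, h2⟩
      refine ⟨β, hmemK.2 ⟨β.2, h1⟩, fun x hx => ?_⟩
      rw [Cfsg.Agent.Lib.FusionExt.MapApi.autFun_of_mem _ hx, Cfsg.Agent.Lib.FusionExt.MapApi.autFun_of_mem α (hTS' hx)]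
      exact h2 ⟨x, hx⟩

end Cfsg.Agent.S5243
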