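import Cfsg.Statements.S5252
import Cfsg.Agent.Lib.Fusion.FocalControl4
import Cfsg.Agent.Lib.KInf.Transfer
import Cfsg.Agent.Lib.CharDeep.BlichA

set_option autoImplicit false
open Cfsg

namespace Cfsg.Agent.S5252

open Cfsg.FusionSystem Cfsg.Agent.Lib.Fusion.Basic Cfsg.Agent.Lib.Fusion.Saturation
  Cfsg.Agent.Lib.Fusion.Saturation2 Cfsg.Agent.Lib.Fusion.Model Cfsg.Agent.Lib.Fusion.ModelNormalizer
  Cfsg.Agent.Lib.Fusion.NormSystem Cfsg.Agent.Lib.Core.Basic Cfsg.Agent.Lib.FusionExt.Basic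
  Cfsg.Agent.Lib.Fusion.KSystem Cfsg.Agent.Lib.Fusion.WeakClosure Cfsg.Agent.Lib.Fusion.Generation3
  Cfsg.Agent.Lib.FusionExt.Normal Cfsg.Agent.Lib.Fusion.FocalControl Cfsg.Agent.Lib.Fusion.FocalControl4
  Cfsg.Agent.Lib.FusionExt.Factor Cfsg.Agent.Lib.FusionExt.FactorExt Cfsg.Agent.Lib.FusionExt.FactorSat
  Cfsg.Agent.Lib.KSeq.Basic Cfsg.Agent.Lib.KInf.Transfer Cfsg.Agent.Lib.KInf.Chain
open scoped commutatorElement

universe u

variable {p : ℕ} [Fact p.Prime]

/-- The group-theoretic input, for `p ≥ 5`. -/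
theorem hT_kInf (hp : 5 ≤ p) (G : Type u) [Group G] [Finite G] (P : Sylow p G)
    (_ : Subgroup.centralizer ((Cfsg.pCore p G : Subgroup G) : Set G) ≤ Cfsg.pCore p G) :
    Cfsg.pCore p G ⊓ commutator G = Cfsg.pCore p G ⊓ (commutator ↥(Subgroup.normalizer
        ((((kInfLower : ∀ (Q : Type u) [Group Q], Subgroup Q) ↥(P : Subgroup G)).map (P : Subgroup G).subtype : Subgroup G) : Set G))).map
          (Subgroup.normalizer (((kInfLower ↥(P : Subgroup G)).map (P : Subgroup G).subtype : Subgroup G) : Set G)).subtype := by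
  have e := eq_of_ctl (ctl_kInfLower (p := p) (X := G) hp) P
  have e2 := Subgroup.map_subtype_commutator (Subgroup.normalizer
    (((kInfLower ↥(P : Subgroup G)).map (P : Subgroup G).subtype : Subgroup G) : Set G))
  rw [e2]
  apply le_antisymm
  · rintro x ⟨hx1, hx2⟩
    have h1 : x ∈ (P : Subgroup G) ⊓ commutator G := ⟨pCore_le_sylow P hx1, hx2⟩
    rw [e] at h1
    exact ⟨hx1, h1.2⟩
  · refine le_inf inf_le_left (inf_le_right.trans ?_)
    exact Subgroup.commutator_mono le_top le_top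

theorem main (hp : 5 ≤ p) : ∀ (m : ℕ) (Ω : Type u) [Group Ω] (S : Subgroup Ω) [Finite S], IsPGroup p S →
    Nat.card S = m → S ≠ ⊥ → ∀ F : Cfsg.FusionSystem S, F.IsSaturated p →
    (∀ φ ∈ F.Hom S, ∃ g ∈ S, ∀ x : S, φ x = g * (x : Ω) * g⁻¹) → ¬ S ≤ F.focalSubgroup := by
  intro m
  induction m using Nat.strong_induction_on with
  | _ m ih =>
  intro Ω _ S _ hS hm hne F hF hA hle
  have hW := isCharP_kInfLower.{u} (p := p)
  have hW1 := hW.1
  have hW2 := hW.2
  have hmain := fun (Φ : Subgroup Ω) (hG : GoodA F (UU kInfLower S) Φ) =>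
    main_good hW1 hW2 (hT_kInf hp) _ Ω S hS F hF rfl Φ hG
  have hfoc : ∀ Φ : Subgroup Ω, Good F Φ → F.focalSubgroup ≤ Φ := by
    intro Φ hG
    apply (Subgroup.closure_le _).2
    rintro _ ⟨P, φ, x, hφ, rfl⟩
    exact hG P φ hφ x
  haveI hSnt : Nontrivial ↥S := (Subgroup.nontrivial_iff_ne_bot S).2 hne
  have hUS : UU kInfLower S ≤ S := UU_le _ S
  have hUne : UU kInfLower S ≠ ⊥ := by
    intro h
    apply hW1 ↥S hS hSnt
    exact (Subgroup.map_eq_bot_iff_of_injective _ S.subtype_injective).1 h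
  have hN1 : S ≤ normalizerIn S (UU kInfLower S) := UU_normal hS hW2
  by_cases hSU : S ≤ UU kInfLower S
  · -- the case `U = S`
    let Φ : Subgroup Ω := (commutator ↥S).map S.subtype
    have hGA : GoodA F (UU kInfLower S) Φ := by
      intro R γ hUR hRN hγ hpres x
      have hRS : R ≤ S := hRN.trans inf_le_left
      have hSR : S ≤ R := hSU.trans hUR
      obtain ⟨g, hg, h⟩ := hA _ (restrict_mem F hSR (autHom_mem F hRS hγ))
      have hx := h ⟨x, hRS x.2⟩
      have e : ((γ x : R) : Ω) = g * (x : Ω) * g⁻¹ := hx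
      rw [e]
      refine ⟨⁅(⟨(x : Ω)⁻¹, S.inv_mem (hRS x.2)⟩ : S), ⟨g, hg⟩⁆, ?_, ?_⟩
      · exact Subgroup.commutator_mem_commutator (Subgroup.mem_top _) (Subgroup.mem_top _)
      · simp [commutatorElement_def]
        group
    have h1 := hle.trans (hfoc Φ (hmain Φ hGA))
    apply Cfsg.Agent.Lib.CharDeep.BlichA.commutator_ne_top_of_pgroup (A := ↥S) hS
    rw [eq_top_iff]
    intro s _
    obtain ⟨c, hc, hcs⟩ := h1 s.2
    have : c = s := Subtype.ext hcs
    rwa [← this]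
  -- the case `U < S`
  obtain ⟨N, hN⟩ := exists_normalizerSystem F hUS
  haveI hS₁f : Finite ↥(normalizerIn S (UU kInfLower S)) := finite_of_le inf_le_left
  have hS₁e : normalizerIn S (UU kInfLower S) = S := le_antisymm inf_le_left hN1
  have hS₁p : IsPGroup p ↥(normalizerIn S (UU kInfLower S)) := hS₁e.symm ▸ hS
  have hUfn : F.IsFullyNormalized (UU kInfLower S) := by
    refine ⟨hUS, fun Q _ => ?_⟩
    rw [hS₁e]
    exact card_le_of_le_finite inf_le_left
  have hNsat := isSaturated_normalizerSystem hS F hF hUfn N hN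
  have hUn : N.IsNormal (UU kInfLower S) := normalizerSystem_isNormal F hUS hN
  have hsc := isNormal_stronglyClosed N hUn
  have hOn := sc_le_normalizer N hsc
  haveI hO'n : ((UU kInfLower S).subgroupOf (normalizerIn S (UU kInfLower S))).Normal := by
    refine ⟨fun n hn g => ?_⟩
    rw [Subgroup.mem_subgroupOf] at hn ⊢
    exact (Subgroup.mem_normalizer_iff.1 (hOn g.2) n).1 hn
  let θ : ↥(normalizerIn S (UU kInfLower S)) →* _ :=
    QuotientGroup.mk' ((UU kInfLower S).subgroupOf (normalizerIn S (UU kInfLower S)))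
  have hθ : ∀ s : ↥(normalizerIn S (UU kInfLower S)), θ s = 1 ↔ (s : Ω) ∈ UU kInfLower S := fun s => by
    rw [← Subgroup.mem_subgroupOf]
    exact QuotientGroup.eq_one_iff s
  obtain ⟨E, hE⟩ := exists_isFactorSystem N θ hsc hθ (S' := θ.range) rfl
  have hα := isSurjectiveMorphism_of_isFactorSystem N θ hS₁p hNsat hsc hE
  have hEsat := image_isSaturated θ N E hS₁p hNsat hα
  have hSbp : IsPGroup p ↥θ.range := hS₁p.of_surjective θ.rangeRestrict θ.rangeRestrict_surjective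
  haveI hSbf : Finite ↥θ.range := Finite.of_surjective θ.rangeRestrict θ.rangeRestrict_surjective
  -- nontrivial
  have hbot : θ.range ≠ ⊥ := by
    intro h
    apply hSU
    intro s hs
    have h1 : θ ⟨s, hN1 hs⟩ ∈ θ.range := ⟨_, rfl⟩
    rw [h, Subgroup.mem_bot] at h1
    exact (hθ _).1 h1
  -- smaller
  have hlt : Nat.card θ.range < m := by
    obtain ⟨hcardU⟩ : Nonempty (Nat.card ↥(UU kInfLower S) * Nat.card θ.range = Nat.card S) := by
      refine ⟨?_⟩
      have h2 := Subgroup.card_mul_index ((UU kInfLower S).subgroupOf (normalizerIn S (UU kInfLower S)))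
      have h3 : ((UU kInfLower S).subgroupOf (normalizerIn S (UU kInfLower S))).index = Nat.card θ.range := by
        rw [← Subgroup.index_ker, QuotientGroup.ker_mk']
      have h4 : Nat.card ((UU kInfLower S).subgroupOf (normalizerIn S (UU kInfLower S))) = Nat.card ↥(UU kInfLower S) :=
        Nat.card_congr (Subgroup.subgroupOfEquivOfLe (hUS.trans hN1)).toEquiv
      have h5 : Nat.card ↥(normalizerIn S (UU kInfLower S)) = Nat.card S := by rw [hS₁e]
      rw [h3, h4, h5] at h2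
      exact h2
    haveI : Finite ↥(UU kInfLower S) := finite_of_le hUS
    have h5 : 1 < Nat.card ↥(UU kInfLower S) := (Subgroup.one_lt_card_iff_ne_bot _).2 hUne
    have h6 : 0 < Nat.card θ.range := Nat.card_pos
    rw [← hm, ← hcardU]
    nlinarith
  -- inner automorphisms of the factor system
  have hĀ : ∀ φ' ∈ E.Hom θ.range, ∃ g' ∈ θ.range, ∀ x : θ.range, φ' x = g' * (x : _) * g'⁻¹ := by
    intro φ' hφ'
    obtain ⟨φ₁, hφ₁, hP, hφS, hPP', hform⟩ := hα.2.2 θ.range le_rfl φ' hφ'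
    have hpre : S ≤ preimageAlong θ θ.range := by
      intro y hy
      exact mem_preimageAlong.2 ⟨hN1 hy, ⟨_, rfl⟩⟩
    rw [hN] at hφ₁
    obtain ⟨g, hg, hgv⟩ := hA _ (restrict_mem F hpre hφ₁.1)
    refine ⟨θ ⟨g, hN1 hg⟩, ⟨_, rfl⟩, ?_⟩
    rintro ⟨_, s, rfl⟩
    have hs : (s : Ω) ∈ preimageAlong θ θ.range := mem_preimageAlong.2 ⟨s.2, ⟨_, rfl⟩⟩
    have h1 := hform ⟨s, hs⟩
    have h2 := hgv ⟨s, hS₁e.le s.2⟩
    have e1 : φ₁ ⟨s, hs⟩ = g * (s : Ω) * g⁻¹ := h2
    have e2 : (⟨φ₁ ⟨s, hs⟩, hφS ⟨s, hs⟩⟩ : ↥(normalizerIn S (UU kInfLower S))) =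
        ⟨g, hN1 hg⟩ * s * (⟨g, hN1 hg⟩ : ↥(normalizerIn S (UU kInfLower S)))⁻¹ := Subtype.ext e1
    rw [e2] at h1
    simpa using h1
  have hnot := ih _ hlt _ θ.range hSbp rfl hbot E hEsat hĀ
  apply hnot
  let Φ : Subgroup Ω := preimageAlong θ E.focalSubgroup
  have hGA : GoodA F (UU kInfLower S) Φ := by
    intro R γ hUR hRN hγ hpres x
    have hRS : R ≤ S := hRN.trans inf_le_left
    have h1 : autHom γ ∈ N.Hom R := by
      rw [hN]
      exact aut_mem_normalizerHom hRS hUR hRN hγ hpres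
    obtain ⟨φ', hφ', hP, hφS, hPP', hform⟩ := hα.1.2 R _ h1
    have hxS₁ := hP x.2
    refine mem_preimageAlong.2 ⟨Subgroup.mul_mem _ (Subgroup.inv_mem _ hxS₁) (hφS x), ?_⟩
    have h2 := hform x
    have e : θ ⟨(x : Ω)⁻¹ * ((γ x : R) : Ω), Subgroup.mul_mem _ (Subgroup.inv_mem _ hxS₁) (hφS x)⟩ =
        (θ ⟨x, hxS₁⟩)⁻¹ * φ' ⟨θ ⟨x, hxS₁⟩, hPP' x⟩ := by
      rw [h2, ← map_inv, ← map_mul]
      rfl
    rw [e]
    exact Subgroup.subset_closure ⟨_, φ', ⟨θ ⟨x, hxS₁⟩, hPP' x⟩, hφ', rfl⟩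
  have h1 := hle.trans (hfoc Φ (hmain Φ hGA))
  rintro _ ⟨s, rfl⟩
  exact (mem_preimageAlong.1 (h1 (hS₁e.le s.2))).2


/-- Let p ≥ 5 be a prime and F a saturated fusion system over a nontrivial finite p-group S such that Aut_F(S) is a p-group. Then the focal subgroup of F is a proper subgroup of S. -/
theorem result {Ω : Type*} [Group Ω] {S : Subgroup Ω} [Finite S] (p : ℕ) [Fact p.Prime] (hS : IsPGroup p S) (F : Cfsg.FusionSystem S) (hF : F.IsSaturated p) (hp : 5 ≤ p) (hS1 : S ≠ ⊥) (haut : IsPGroup p ↥(F.autGroup S)) : F.focalSubgroup < S := by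
  classical
  have hfocS : F.focalSubgroup ≤ S := by
    apply (Subgroup.closure_le _).2
    rintro _ ⟨P, φ, x, hφ, rfl⟩
    have hPS : P ≤ S := le_of_mem F hφ
    exact S.mul_mem (S.inv_mem (hPS x.2)) (val_mem F hφ x)
  refine lt_of_le_not_ge hfocS ?_
  refine main hp _ Ω S hS rfl hS1 F hF ?_
  intro φ hφ
  have hr : φ.range = S := Subgroup.eq_of_le_of_card_ge (range_le F hφ) (by rw [card_range F hφ])
  obtain ⟨β, hβ, hβv⟩ := exists_aut_of_range F hφ hr
  obtain ⟨-, R, hR⟩ := isFullyAutomized_of_isFullyNormalized F hS hF (isFullyNormalized_top F hS)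
  have htop : (⊤ : Subgroup ↥(F.autGroup S)) = R := R.is_maximal' (haut.to_subgroup ⊤) le_top
  have hmem : (⟨β, hβ⟩ : F.autGroup S) ∈ (R : Subgroup ↥(F.autGroup S)) := by
    rw [← htop]
    trivial
  rw [hR, Subgroup.mem_subgroupOf] at hmem
  obtain ⟨g, hg, h⟩ := (mem_autInducedBy_iff S S β).1 hmem
  exact ⟨g, hg, fun x => by rw [← hβv x, h x]⟩

end Cfsg.Agent.S5252
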