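import Cfsg.Statements.S5265
import Cfsg.Agent.Lib.FusionTheory.CenterIndexTwo
import Cfsg.Agent.Lib.PGroups.Presentations

set_option autoImplicit false
open Cfsg

namespace Cfsg.Agent.S5265

open Cfsg.Agent.Lib.FusionTheory.CenterIndex Cfsg.Agent.Lib.FusionTheory.CenterIndexTwo Cfsg.Agent.Lib.FusionTheory.ClassTwo

theorem mem_center_of_comm {G : Type*} [Group G] [Finite G] (h4 : (Subgroup.center G).index = 4) {a b : G}
    (ha : a ∉ Subgroup.center G) (hb : b ∉ Subgroup.center G) (hab : a⁻¹ * b ∉ Subgroup.center G) (haa : a * a = 1)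
    (hcomm : a * b = b * a) : False := by
  apply ha
  rw [Subgroup.mem_center_iff]
  intro s
  symm
  have hs' := four_cosets h4 ha hb hab haa s
  rcases hs' with h | h | h | h
  · exact (Subgroup.mem_center_iff.1 h a)
  · have e : s = a * (a⁻¹ * s) := by group
    have hc := Subgroup.mem_center_iff.1 h a
    rw [e]
    calc a * (a * (a⁻¹ * s)) = a * ((a⁻¹ * s) * a) := by rw [← hc]
      _ = _ := by group
  · have e : s = b * (b⁻¹ * s) := by group
    have hc := Subgroup.mem_center_iff.1 h a
    rw [e]
    calc a * (b * (b⁻¹ * s)) = (a * b) * (b⁻¹ * s) := by group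
      _ = (b * a) * (b⁻¹ * s) := by rw [hcomm]
      _ = b * (a * (b⁻¹ * s)) := by group
      _ = b * ((b⁻¹ * s) * a) := by rw [← hc]
      _ = _ := by group
  · have e : s = (a * b) * ((a * b)⁻¹ * s) := by group
    have hc := Subgroup.mem_center_iff.1 h a
    rw [e]
    calc a * (a * b * ((a * b)⁻¹ * s)) = a * (a * b) * ((a * b)⁻¹ * s) := by group
      _ = (a * b) * (a * ((a * b)⁻¹ * s)) := by
        rw [show a * (a * b) = a * (b * a) by rw [hcomm]]
        group
      _ = (a * b) * (((a * b)⁻¹ * s) * a) := by rw [← hc]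
      _ = _ := by group

/-- Let p be a prime, S a nontrivial finite p-group whose centre has index at most p², and F a saturated fusion system over S with no nontrivial normal subgroup and with hyperfocal subgroup equal to S. Then S is extraspecial of order p³; for odd p it has exponent p, and for p = 2 it is dihedral of order 8. -/
theorem result {Ω : Type*} [Group Ω] {S : Subgroup Ω} [Finite S] (p : ℕ) [Fact p.Prime] (hS : IsPGroup p ↥S) (F : Cfsg.FusionSystem S) (hF : F.IsSaturated p) (hS1 : S ≠ ⊥) (hcore : F.core = ⊥) (hhyp : F.hyperfocalSubgroup p = S) (hZ : (Subgroup.center ↥S).index ≤ p ^ 2) : Cfsg.IsExtraspecial p ↥S ∧ Nat.card S = p ^ 3 ∧ (p ≠ 2 → Monoid.exponent ↥S = p) ∧ (p = 2 → Nonempty (↥S ≃* DihedralGroup 4)) := by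
  classical
  have hpp := (Fact.out : p.Prime)
  have hna := nonabelian_of_core F hS hF hS1 hcore
  obtain ⟨hidx, Z, hs⟩ := exists_setup hS hna hZ
  by_cases hp2 : p = 2
  · have h4 : (Subgroup.center S).index = 4 := by
      rw [hidx, hp2]
      norm_num
    obtain ⟨heq, a, b, haa, hbb, ha, hb, hab⟩ := two_case F hs hp2 hna h4 hS hF hcore hhyp
    obtain ⟨hE, hc⟩ := conclusion_of_center_eq hs hS hna hidx heq
    refine ⟨hE, hc, fun h => absurd hp2 h, fun _ => ?_⟩
    have hainv : a⁻¹ = a := inv_eq_of_mul_eq_one_left haa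
    have hbinv : b⁻¹ = b := inv_eq_of_mul_eq_one_left hbb
    have hx2 : (a * b) * (a * b) ≠ 1 := by
      intro h
      apply mem_center_of_comm h4 ha hb hab haa
      have h1 : a * b = (a * b)⁻¹ := eq_inv_of_mul_eq_one_left h
      rw [mul_inv_rev, hainv, hbinv] at h1
      exact h1
    have hxc : (a * b) * (a * b) = a * b * a⁻¹ * b⁻¹ := by
      rw [hainv, hbinv]
      group
    have hx4 : ((a * b) * (a * b)) * ((a * b) * (a * b)) = 1 := by
      rw [hxc]
      exact zz_invol hs hp2 (zz_comm hs a b)
    have hord : orderOf (a * b) = 2 ^ (1 + 1) := by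
      refine orderOf_eq_prime_pow (p := 2) (n := 1) ?_ ?_
      · rw [pow_one, pow_two]
        exact hx2
      · rw [show 2 ^ (1 + 1) = 2 + 2 by norm_num, pow_add, pow_two]
        exact hx4
    have hconj : a * (a * b) * a⁻¹ = (a * b)⁻¹ := by
      rw [mul_inv_rev, hainv, hbinv, ← mul_assoc, haa, one_mul]
    have hy : a ∉ Subgroup.zpowers (a * b) := by
      intro h
      have hcomm : Commute a (a * b) := by
        obtain ⟨k, hk⟩ := Subgroup.mem_zpowers_iff.1 h
        have key : ∀ (x y : S) (k : ℤ), x ^ k = y → Commute y x := fun x y k h => h ▸ (Commute.refl x).zpow_left k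
        exact key _ _ k hk
      apply hx2
      have h1 : a * (a * b) * a⁻¹ = a * b := by
        rw [hcomm.eq, mul_inv_cancel_right]
      rw [h1] at hconj
      exact mul_eq_one_iff_eq_inv.2 hconj
    have hcard : Nat.card S = 2 * 4 := by
      rw [hc, hp2]
      norm_num
    have : NeZero 4 := ⟨by norm_num⟩
    obtain ⟨e⟩ := Cfsg.Agent.Lib.PGroups.Presentations.nonempty_dihedral_equiv (m := 4) (a := a * b) (y := a) (by rw [hord]; norm_num)
      (by rw [pow_two]; exact haa) hconj hy hcard
    exact ⟨e.symm⟩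
  · have hodd : Odd p := hpp.odd_of_ne_two hp2
    have heq := hs.center_eq F hodd hS hF hcore
    obtain ⟨hE, hc⟩ := conclusion_of_center_eq hs hS hna hidx heq
    have hexp := odd_case F hs hodd hS hF hcore
    refine ⟨hE, hc, fun _ => ?_, fun h => absurd h hp2⟩
    have : Nontrivial S := by
      obtain ⟨a, b, hab⟩ := hna
      by_contra hnt
      rw [not_nontrivial_iff_subsingleton] at hnt
      exact hab (Subsingleton.elim _ _)
    rw [Monoid.exponent_eq_prime_iff hpp]
    intro g hg
    exact orderOf_eq_prime (hexp g) hg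

end Cfsg.Agent.S5265
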