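import Cfsg.Statements.S5271
import Cfsg.Agent.Lib.FusionTheory.WeakEmb

set_option autoImplicit false
open Cfsg

namespace Cfsg.Agent.S5271

open Cfsg.FusionSystem Cfsg.Agent.Lib.Fusion.Basic Cfsg.Agent.Lib.Fusion.FrobThompson
open Cfsg.Agent.Lib.FusionTheory.WeakEmb

/-- Normalizer systems of inner systems are inner. -/
theorem normalizer_inner {Ω : Type*} [Group Ω] {S : Subgroup Ω} [Finite S] {F : Cfsg.FusionSystem S} (hin : IsInner F)
    {H : Subgroup Ω} (hHS : H ≤ S) {N : Cfsg.FusionSystem (normalizerIn S H)} (hN : F.IsNormalizerSystem H N) : IsInner N := by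
  have hfinH : Finite H := finite_of_le hHS
  intro P
  rw [hN P]
  ext φ
  constructor
  · rintro ⟨hφ, hPT, hval, ψ, hψ, hψ1, hψ2⟩
    rw [hin] at hψ
    obtain ⟨hle, g, hg, hv⟩ := hψ
    have hgn : g ∈ Subgroup.normalizer (H : Set Ω) := by
      refine Subgroup.mem_normalizer_iff.2 (fun x => ⟨fun hx => ?_, fun hx => ?_⟩)
      · have h1 := hv ⟨x, Subgroup.mem_sup_right hx⟩
        have h2 : ψ ⟨x, Subgroup.mem_sup_right hx⟩ ∈ H := hψ2.le ⟨_, hx, rfl⟩
        rw [h1] at h2
        exact h2
      · obtain ⟨z, hz, hzv⟩ := hψ2.ge hx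
        rw [hv z] at hzv
        have h3 : (z : Ω) = x := mul_left_cancel (mul_right_cancel hzv)
        rw [← h3]
        exact hz
    refine ⟨hPT, g, ⟨hg, hgn⟩, fun x => ?_⟩
    rw [← hψ1 x]
    exact hv _
  · rintro ⟨hPT, g, hg, hv⟩
    have hPS : P ≤ S := hPT.trans inf_le_left
    have hle : P ⊔ H ≤ S := sup_le hPS hHS
    have hφF : φ ∈ F.Hom P := by
      rw [hin]
      exact ⟨hPS, g, hg.1, hv⟩
    refine ⟨hφF, hPT, fun x => ?_, conjHom _ g, F.conj_mem hle hg.1, fun x => (hv x).symm, ?_⟩
    · rw [hv x]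
      exact (normalizerIn S H).mul_mem ((normalizerIn S H).mul_mem hg (hPT x.2)) ((normalizerIn S H).inv_mem hg)
    · apply le_antisymm
      · rintro _ ⟨x, hx, rfl⟩
        exact (Subgroup.mem_normalizer_iff.1 hg.2 x).1 hx
      · intro y hy
        have h1 : g⁻¹ * y * g⁻¹⁻¹ ∈ H := (Subgroup.mem_normalizer_iff.1 (Subgroup.inv_mem _ hg.2) y).1 hy
        refine ⟨⟨g⁻¹ * y * g⁻¹⁻¹, Subgroup.mem_sup_right h1⟩, h1, ?_⟩
        show g * (g⁻¹ * y * g⁻¹⁻¹) * g⁻¹ = y
        group

/-- A nilpotency criterion for fusion systems. Let F be a saturated fusion system over a finite p-group S of order at least p². Call a subgroup Q of S weakly embedded in F when there is a subgroup P of S strongly closed in F such that both the product QP and the intersection Q ∩ P are strongly closed in F. Then F is the inner fusion system of S if and only if there is a subgroup D of S with 1 < D < S such that every subgroup of S of the same order as D is weakly embedded in F and, for every fully normalized subgroup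 H of S of that order, the normalizer fusion system of H in F is the inner fusion system of N_S(H). -/
theorem result {Ω : Type*} [Group Ω] {S : Subgroup Ω} [Finite S] (p : ℕ) [Fact p.Prime] (hS : IsPGroup p ↥S) (F : Cfsg.FusionSystem S) (hF : F.IsSaturated p) (hcard : p ^ 2 ≤ Nat.card S) : (∀ P : Subgroup Ω, F.Hom P = (Cfsg.innerFusionSystem S).Hom P) ↔ ∃ D : Subgroup Ω, ⊥ < D ∧ D < S ∧ (∀ Q : Subgroup Ω, Q ≤ S → Nat.card ↥Q = Nat.card ↥D → ∃ P : Subgroup Ω, F.StronglyClosed P ∧ F.StronglyClosed (Q ⊔ P) ∧ F.StronglyClosed (Q ⊓ P)) ∧ (∀ H : Subgroup Ω, F.IsFullyNormalized H → Nat.card ↥H = Nat.card ↥D → ∀ N : Cfsg.FusionSystem (Cfsg.FusionSystem.normalizerIn S H), F.IsNormalizerSystem H N → ∀ P : Subgroup Ω, N.Hom P = (Cfsg.innerFusionSystem (Cfsg.FusionSystem.normalizerIn S H)).Hom P) := by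
  constructor
  · intro hin
    haveI hnt : Nontrivial S := by
      obtain ⟨k, hk⟩ := IsPGroup.iff_card.1 hS
      have : 1 < Nat.card S := lt_of_lt_of_le (Nat.one_lt_pow (by norm_num) (Fact.out : p.Prime).one_lt) hcard
      exact (Finite.one_lt_card_iff_nontrivial).1 this
    obtain ⟨M, hM⟩ : ∃ M : Subgroup S, IsCoatom M := by
      rcases (IsCoatomic.eq_top_or_exists_le_coatom (⊥ : Subgroup S)) with h | ⟨M, hM, -⟩
      · exact absurd h bot_ne_top
      · exact ⟨M, hM⟩
    have hMi := Cfsg.Agent.Lib.PGroups.Basic.index_eq_of_isCoatom hS hM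
    have hMc := Subgroup.card_mul_index M
    rw [hMi] at hMc
    have hDc : Nat.card (M.map S.subtype) = Nat.card M :=
      (Nat.card_congr (M.equivMapOfInjective _ S.subtype_injective).toEquiv).symm
    have hp' := (Fact.out : p.Prime)
    have hMne : M ≠ ⊤ := hM.1
    refine ⟨M.map S.subtype, ?_, ?_, ?_, ?_⟩
    · refine bot_lt_iff_ne_bot.2 (fun e => ?_)
      rw [e] at hDc
      simp only [Subgroup.card_bot] at hDc
      rw [← hDc, one_mul] at hMc
      have : p ^ 2 ≤ p := hMc ▸ hcard
      have h2 : p ^ 1 < p ^ 2 := Nat.pow_lt_pow_right hp'.one_lt (by norm_num)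
      rw [pow_one] at h2
      omega
    · refine lt_of_le_of_ne (Subgroup.map_subtype_le M) (fun e => hMne ?_)
      rw [eq_top_iff]
      intro x _
      have : (x : Ω) ∈ M.map S.subtype := by rw [e]; exact x.2
      obtain ⟨y, hy, hyx⟩ := this
      have : y = x := Subtype.ext hyx
      rwa [← this]
    · intro Q hQS hQc
      have hQ' : Nat.card (Q.subgroupOf S) = Nat.card M := by
        rw [← hDc, ← hQc]
        exact Nat.card_congr (Subgroup.subgroupOfEquivOfLe hQS).toEquiv
      have hi : (Q.subgroupOf S).index = p := by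
        have h1 := Subgroup.card_mul_index (Q.subgroupOf S)
        rw [hQ', ← hMc] at h1
        have hpos : 0 < Nat.card M := Nat.card_pos
        exact Nat.eq_of_mul_eq_mul_left hpos h1
      have hco : IsCoatom (Q.subgroupOf S) :=
        Cfsg.Agent.Lib.PGroups.Basic.isCoatom_of_index_prime (by rw [hi]; exact hp')
      have hn := Cfsg.Agent.Lib.PGroups.Basic.normal_of_isCoatom hS hco
      have hsc : F.StronglyClosed Q := by
        refine ⟨hQS, fun R hR φ hφ x => ?_⟩
        rw [hin] at hφ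
        obtain ⟨hRS, g, hg, hv⟩ := hφ
        rw [hv x]
        have h1 := hn.conj_mem ⟨x, hQS (hR x.2)⟩ (hR x.2) ⟨g, hg⟩
        exact h1
      exact ⟨Q, hsc, by rwa [sup_idem], by rwa [inf_idem]⟩
    · intro H hH _ N hN
      exact normalizer_inner hin hH.1 hN
  · rintro ⟨D, hbot, hlt, ha, hb⟩
    have hDS : D ≤ S := hlt.le
    have hfinD : Finite D := finite_of_le hDS
    have h1 : 1 < Nat.card D := by
      have : Nontrivial D := (Subgroup.nontrivial_iff_ne_bot D).2 hbot.ne'
      exact Finite.one_lt_card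
    have h2 : Nat.card D < Nat.card S := Cfsg.Agent.Lib.Fusion.LocalGlobal.card_lt_of_lt hlt
    have h3 : Nat.card D ∣ Nat.card S := Subgroup.card_dvd_of_le hDS
    refine main (p := p) (Nat.card S) Ω S F (Nat.card D) rfl hS hF h1 h2 h3 ha (fun R hRS hR => ?_)
    exact isPGroup_aut_of_we F hS hF h3 ha (fun H hH hc N hN => hb H hH hc N hN) hRS hR

end Cfsg.Agent.S5271
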