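import Cfsg.Statements.S5272
import Cfsg.Agent.Lib.FusionTheory.AxiomGT

set_option autoImplicit false
open Cfsg

namespace Cfsg.Agent.S5272


/-- An axiomatic Glauberman–Thompson nilpotency criterion for fusion systems. Let p be an odd prime, F a saturated fusion system over a finite p-group S, and 𝒜 a nonempty family of abelian subgroups of S. For Q ≤ S write I(Q) for the intersection of the members of 𝒜 contained in Q. Assume (invariance) that for every Q ≤ S containing a member of 𝒜, every F-automorphism of Q maps I(Q) into itself, and (replacement) that for every subgroup B of S of nilpotency class at most 2, if some member of 𝒜 contains [B,B] but not B, then B normalizes some member of 𝒜 that contains [B,B] but not B. Then F is the inner fusion system of S if and only if the normalizer fusion system of I(S) in F is the inner fusion system of N_S(I(S)). -/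
theorem result {Ω : Type*} [Group Ω] {S : Subgroup Ω} [Finite S] (p : ℕ) [Fact p.Prime] (hS : IsPGroup p ↥S) (F : Cfsg.FusionSystem S) (hF : F.IsSaturated p) (hp : p ≠ 2) (𝒜 : Set (Subgroup Ω)) (h𝒜 : ∀ A ∈ 𝒜, A ≤ S ∧ IsMulCommutative ↥A) (hne : 𝒜.Nonempty) (hinv : ∀ Q : Subgroup Ω, Q ≤ S → (∃ A ∈ 𝒜, A ≤ Q) → ∀ α ∈ F.autGroup Q, ∀ x : ↥Q, (x : Ω) ∈ (⨅ A ∈ {A : Subgroup Ω | A ∈ 𝒜 ∧ A ≤ Q}, A) → (((α : MulAut ↥Q) x : ↥Q) : Ω) ∈ (⨅ A ∈ {A : Subgroup Ω | A ∈ 𝒜 ∧ A ≤ Q}, A)) (hrep : ∀ B : Subgroup Ω, B ≤ S → ⁅⁅B, B⁆, B⁆ = ⊥ → (∃ A ∈ 𝒜, ⁅B, B⁆ ≤ A ∧ ¬ B ≤ A) → ∃ A ∈ 𝒜, ⁅B, B⁆ ≤ A ∧ ¬ B ≤ A ∧ B ≤ Subgroup.normalizer (A : Set Ω)) : (∀ P : Subgroup Ω, F.Hom P = (Cfsg.innerFusionSystem S).Hom P) ↔ ∀ N : Cfsg.FusionSystem (Cfsg.FusionSystem.normalizerIn S (⨅ A ∈ 𝒜, A)), F.IsNormalizerSystem (⨅ A ∈ 𝒜, A) N → ∀ P : Subgroup Ω, N.Hom P = (Cfsg.innerFusionSystem (Cfsg.FusionSystem.normalizerIn S (⨅ A ∈ 𝒜, A))).Hom P := by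
  classical
  constructor
  · intro hin N hN P
    apply Set.Subset.antisymm
    · intro φ hφ
      rw [hN P] at hφ
      obtain ⟨-, hPN, -, ψ, hψ, h1, h2⟩ := hφ
      rw [hin] at hψ
      obtain ⟨-, g, hg, hv⟩ := hψ
      refine ⟨hPN, g, ⟨hg, Subgroup.mem_normalizer_iff.2 fun y => ⟨fun hy => ?_, fun hy => ?_⟩⟩, fun x => ?_⟩
      · rw [← h2]
        refine ⟨⟨y, Subgroup.mem_sup_right hy⟩, hy, ?_⟩
        exact hv _
      · rw [← h2] at hy
        obtain ⟨z, hz, hzy⟩ := hy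
        have h3 : g * (z : Ω) * g⁻¹ = g * y * g⁻¹ := by
          rw [← hv z]
          exact hzy
        have h4 : (z : Ω) = y := mul_left_cancel (mul_right_cancel h3)
        rw [← h4]
        exact hz
      · rw [← h1 x]
        exact hv _
    · exact Cfsg.Agent.Lib.FusionTheory.Abelian.inner_subset N P
  · intro h
    by_contra hno
    push Not at hno
    have hcomm : ∀ A ∈ 𝒜, A ≤ S ∧ ∀ a ∈ A, ∀ b ∈ A, a * b = b * a := fun A hA =>
      ⟨(h𝒜 A hA).1, fun a ha b hb => by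
        have := (h𝒜 A hA).2
        exact congrArg Subtype.val (mul_comm' (⟨a, ha⟩ : A) ⟨b, hb⟩)⟩
    have h1 := Cfsg.Agent.Lib.FusionTheory.AxiomGT.main hS F hF hp 𝒜 hcomm hne (fun D hD hex α hα x hx => by
      have h2 := hinv D hD hex α hα x (by
        simp only [Subgroup.mem_iInf]
        exact fun A hA => hx A hA.1 hA.2)
      simp only [Subgroup.mem_iInf] at h2
      exact fun A hA hAD => h2 A ⟨hA, hAD⟩) hrep hno
    have hWS : (⨅ A ∈ 𝒜, A) ≤ S := by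
      obtain ⟨A₀, hA₀⟩ := hne
      intro x hx
      exact (h𝒜 A₀ hA₀).1 (Cfsg.Agent.Lib.FusionTheory.AxiomGT.mem_I.1 hx A₀ hA₀)
    obtain ⟨N, hN⟩ := Cfsg.Agent.Lib.Fusion.NormSystem.exists_normalizerSystem F hWS
    have h2 := Cfsg.Agent.Lib.FusionTheory.Bad.badAt_bot_of_normalizerSystem F hN h1
    have hfin : Finite ↥(Cfsg.FusionSystem.normalizerIn S (⨅ A ∈ 𝒜, A)) := Cfsg.Agent.Lib.Fusion.Basic.finite_of_le inf_le_left
    obtain ⟨P, hP⟩ := h2.not_inner N (hS.to_le inf_le_left)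
    exact hP (h N hN P)

end Cfsg.Agent.S5272
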