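import Cfsg.Statements.S5276
import Cfsg.Agent.Lib.Fusion.FrattiniFocal
import Cfsg.Agent.Lib.Fusion.NormSystem
import Cfsg.Agent.Lib.FusionTheory.Abelian
import Cfsg.Agent.S5224

set_option autoImplicit false
open Cfsg

namespace Cfsg.Agent.S5276

/-- Let p be a prime and F a saturated fusion system over a finite p-group S. Then F is the inner fusion system of S if and only if the normalizer fusion system of S itself in F is the inner fusion system (equivalently, Aut_F(S) is induced by S) and the Frattini subgroup Φ(S) is strongly closed in F. -/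
theorem result {Ω : Type*} [Group Ω] {S : Subgroup Ω} [Finite S] (p : ℕ) [Fact p.Prime] (hS : IsPGroup p ↥S) (F : Cfsg.FusionSystem S) (hF : F.IsSaturated p) : (∀ P : Subgroup Ω, F.Hom P = (Cfsg.innerFusionSystem S).Hom P) ↔ (∀ N : Cfsg.FusionSystem (Cfsg.FusionSystem.normalizerIn S S), F.IsNormalizerSystem S N → ∀ P : Subgroup Ω, N.Hom P = (Cfsg.innerFusionSystem (Cfsg.FusionSystem.normalizerIn S S)).Hom P) ∧ F.StronglyClosed ((frattini ↥S).map S.subtype) := by
  open Cfsg.Agent.Lib.Fusion.Basic Cfsg.Agent.Lib.Fusion.Alperin Cfsg.Agent.Lib.FusionTheory.Abelian in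
  constructor
  · intro hin
    refine ⟨fun N hN P => ?_, ?_, fun R hR φ hφ x => ?_⟩
    · apply Set.Subset.antisymm
      · intro φ hφ
        rw [hN P] at hφ
        obtain ⟨h1, h2, h3, -⟩ := hφ
        rw [hin P] at h1
        obtain ⟨hP, g, hg, h⟩ := h1
        exact ⟨h2, g, le_normalizerIn (le_refl S) hg, h⟩
      · exact inner_le N P
    · rintro _ ⟨y, -, rfl⟩
      exact y.2
    · rw [hin R] at hφ
      obtain ⟨hRS, g, hg, h⟩ := hφ
      rw [h x]
      obtain ⟨y, hy, hyx⟩ := hR x.2
      refine ⟨⟨g, hg⟩ * y * (⟨g, hg⟩ : ↥S)⁻¹, (inferInstance : (frattini ↥S).Normal).conj_mem y hy _, ?_⟩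
      rw [← hyx]
      rfl
  · rintro ⟨hN, hSC⟩
    obtain ⟨N, hNS⟩ := Cfsg.Agent.Lib.Fusion.NormSystem.exists_normalizerSystem F (le_refl S)
    have hI := hN N hNS
    have hA : ∀ φ ∈ F.Hom S, ∃ g ∈ S, ∀ x : S, φ x = g * (x : Ω) * g⁻¹ := by
      intro φ hφ
      have hr : φ.range = S := Subgroup.eq_of_le_of_card_ge (range_le F hφ) (by rw [card_range F hφ])
      have hle : S ≤ Cfsg.FusionSystem.normalizerIn S S := le_normalizerIn le_rfl
      have hsup : S ⊔ S ≤ S := by simp
      have hmem : φ ∈ N.Hom S := by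
        rw [hNS S]
        refine ⟨hφ, hle, fun x => hle (val_mem F hφ x), φ.comp (Subgroup.inclusion hsup), restrict_mem F hsup hφ,
          fun x => rfl, ?_⟩
        ext y
        constructor
        · rintro ⟨x, -, rfl⟩
          exact val_mem F hφ _
        · intro hy
          obtain ⟨x, rfl⟩ := hr.ge hy
          exact ⟨Subgroup.inclusion le_sup_left x, x.2, rfl⟩
      rw [hI S] at hmem
      obtain ⟨-, g, hg, h⟩ := hmem
      exact ⟨g, hg.1, h⟩
    have hfoc := Cfsg.Agent.Lib.Fusion.FrattiniFocal.focal_gen_mem_frattini F hS hF hA hSC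
    have hIsat := inner_isSaturated hS
    have hIF : (Cfsg.innerFusionSystem S).IsSubsystemOf F := inner_le F
    have hfF : F.focalSubgroup ≤ (frattini ↥S).map S.subtype := by
      apply (Subgroup.closure_le _).2
      rintro _ ⟨P, φ, x, hφ, rfl⟩
      exact hfoc P φ hφ x
    have hfI : (Cfsg.innerFusionSystem S).focalSubgroup ≤ (frattini ↥S).map S.subtype := by
      apply (Subgroup.closure_le _).2
      rintro _ ⟨P, φ, x, ⟨hP, g, hg, h⟩, rfl⟩
      rw [h x]
      exact Cfsg.Agent.Lib.Fusion.FrattiniFocal.conj_mem_frattini hS hg (hP x.2)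
    have hTate := Cfsg.Agent.S5224.result p hS F hF _ hIsat hIF
    have h1 : (frattini ↥S).map S.subtype ⊔ F.focalSubgroup =
        (frattini ↥S).map S.subtype ⊔ (Cfsg.innerFusionSystem S).focalSubgroup := by
      rw [sup_eq_left.2 hfF, sup_eq_left.2 hfI]
    have h2 := hTate.2.1 (hTate.1.1 h1)
    have hhypI : (Cfsg.innerFusionSystem S).hyperfocalSubgroup p = ⊥ := by
      rw [eq_bot_iff]
      apply (Subgroup.closure_le _).2
      rintro _ ⟨P, α, x, hPS, hα, rfl⟩
      have hres : pResidual p ↥((Cfsg.innerFusionSystem S).autGroup P) ≤ ⊥ := by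
        apply (Subgroup.closure_le _).2
        rintro β hβ
        have hm := autHom_mem _ hPS β.2
        obtain ⟨-, g, hg, h⟩ := hm
        have hβA : (β : MulAut P) ∈ autInducedBy S P := (mem_autInducedBy_iff S P _).2 ⟨g, hg, h⟩
        obtain ⟨k, hk⟩ := isPGroup_autInducedBy P hS ⟨_, hβA⟩
        have hk' : (β : MulAut P) ^ p ^ k = 1 := congrArg Subtype.val hk
        have hk'' : β ^ p ^ k = 1 := Subtype.ext hk'
        have h6 := Nat.dvd_gcd (orderOf_dvd_of_pow_eq_one hk'') (dvd_refl (orderOf β))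
        have h7 : Nat.gcd (p ^ k) (orderOf β) = 1 := Nat.Coprime.pow_left k (Nat.Coprime.symm hβ)
        rw [h7] at h6
        exact orderOf_eq_one_iff.1 (Nat.dvd_one.1 h6)
      have hα1 : α = 1 := hres hα
      subst hα1
      simp
    have hhypF : F.hyperfocalSubgroup p = ⊥ := h2.trans hhypI
    have hP : ∀ P : Subgroup Ω, P ≤ S → IsPGroup p (F.autGroup P) := by
      intro P hPS
      have := finite_of_le hPS
      refine Cfsg.Agent.Lib.FusionTheory.CoprimeAut.isPGroup_of_coprime_trivial (fun g hg => ?_)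
      have h3 : ∀ x : P, (x : Ω)⁻¹ * (((g : MulAut P) x : P) : Ω) = 1 := by
        intro x
        have h4 := Cfsg.Agent.Lib.FusionExt.Hyperfocal.hyperfocal_gen F hPS g
          (Cfsg.Agent.Lib.Core.Residual.mem_pResidual_of_coprime hg) x
        rw [hhypF] at h4
        exact Subgroup.mem_bot.1 h4
      apply Subtype.ext
      ext x
      have h5 := h3 x
      rw [inv_mul_eq_one] at h5
      exact h5.symm
    have hFin := eq_inner_of_isPGroup_aut F hS hF hP
    intro P
    exact congrFun (congrArg Cfsg.FusionSystem.Hom hFin) P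

end Cfsg.Agent.S5276
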