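import Cfsg.Statements.S5287
import Cfsg.Agent.S5284
import Cfsg.Agent.S3742
import Cfsg.Agent.Lib.H29.MetaSuperA
import Cfsg.Agent.Lib.H29.MetaSuperD
import Cfsg.Agent.Lib.H29.StrongMeta
import Cfsg.Agent.Lib.H29.StrongMetaTwo
import Cfsg.Agent.Lib.TwoFusion.Dih

set_option autoImplicit false
open Cfsg

namespace Cfsg.Agent.S5287


section helpers

open Subgroup

/-- A metacyclic group contains no homocyclic factor with a proper complement. -/
theorem no_extra_factor {X : Type*} [Group X] [Finite X] {p : ℕ} [hp : Fact p.Prime] (hS : IsPGroup p X)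
    (hm : Cfsg.IsMetacyclic X)
    (hnb : ¬ ∃ n : ℕ, 0 < n ∧ Nonempty (X ≃* Multiplicative (ZMod (p ^ n)) × Multiplicative (ZMod (p ^ n)))) :
    ¬ ∃ (n : ℕ) (H : Type) (_ : CommGroup H), 0 < n ∧
      Nonempty (X ≃* (Multiplicative (ZMod (p ^ n)) × Multiplicative (ZMod (p ^ n))) × H) := by
  rintro ⟨n, H, _, hn, ⟨e⟩⟩
  let ιH : H →* X := e.symm.toMonoidHom.comp (MonoidHom.inr _ _)
  have hιH : Function.Injective ιH := e.symm.injective.comp (fun a b h => (Prod.ext_iff.1 h).2)
  haveI : Finite H := Finite.of_injective ιH hιH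
  have hpH' : IsPGroup p H := hS.of_injective ιH hιH
  have hpp : 0 < p := hp.out.pos
  haveI : NeZero (p ^ n) := ⟨by positivity⟩
  by_cases hpH : p ∣ Nat.card H
  · obtain ⟨w, hw⟩ := exists_prime_orderOf_dvd_card' p hpH
    have hM : p ∣ Nat.card (Multiplicative (ZMod (p ^ n))) := by
      rw [Nat.card_congr Multiplicative.toAdd, Nat.card_zmod]
      exact dvd_pow_self p hn.ne'
    obtain ⟨z, hz⟩ := exists_prime_orderOf_dvd_card' p hM
    let E₀ : Subgroup ((Multiplicative (ZMod (p ^ n)) × Multiplicative (ZMod (p ^ n))) × H) :=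
      ((zpowers z).prod (zpowers z)).prod (zpowers w)
    let E : Subgroup X := E₀.map e.symm.toMonoidHom
    have hE : ∀ x ∈ E, x ^ p = 1 := by
      rintro _ ⟨⟨⟨a, b⟩, c⟩, ⟨⟨ha, hb⟩, hc⟩, rfl⟩
      have hza : ∀ u ∈ zpowers z, u ^ p = 1 := by
        rintro _ ⟨i, rfl⟩
        show (z ^ i) ^ p = 1
        have h0 : z ^ p = 1 := by
          have := pow_orderOf_eq_one z
          rwa [hz] at this
        rw [← zpow_natCast, zpow_comm, zpow_natCast, h0, one_zpow]
      have hwc : c ^ p = 1 := by
        obtain ⟨i, rfl⟩ := hc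
        show (w ^ i) ^ p = 1
        have h0 : w ^ p = 1 := by
          have := pow_orderOf_eq_one w
          rwa [hw] at this
        rw [← zpow_natCast, zpow_comm, zpow_natCast, h0, one_zpow]
      show (e.symm ((a, b), c)) ^ p = 1
      rw [← map_pow]
      have h1 : (((a, b), c) : (Multiplicative (ZMod (p ^ n)) × Multiplicative (ZMod (p ^ n))) × H) ^ p = 1 := by
        apply Prod.ext
        · apply Prod.ext
          · exact hza a ha
          · exact hza b hb
        · exact hwc
      rw [h1, map_one]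
    have h1 := Cfsg.Agent.Lib.H29.MetaSuperA.card_le_of_exp hpp hm E hE
    have h2 : Nat.card E = p ^ 3 := by
      have h3 : Nat.card E = Nat.card E₀ :=
        Subgroup.card_map_of_injective (f := e.symm.toMonoidHom) e.symm.injective
      rw [h3, Nat.card_congr (Subgroup.prodEquiv _ _).toEquiv, Nat.card_prod,
        Nat.card_congr (Subgroup.prodEquiv _ _).toEquiv, Nat.card_prod, Nat.card_zpowers, Nat.card_zpowers, hz, hw]
      ring
    rw [h2] at h1
    have h4 : 1 < p := hp.out.one_lt
    have h5 := (pow_le_pow_iff_right₀ h4).1 h1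
    omega
  · have h1 : Nat.card H = 1 := (hpH'.card_eq_or_dvd).resolve_right hpH
    haveI : Unique H := (Nat.card_eq_one_iff_unique.1 h1).2.some |> fun _ => by
      haveI := (Nat.card_eq_one_iff_unique.1 h1).1
      exact ⟨⟨1⟩, fun a => Subsingleton.elim _ _⟩
    exact hnb ⟨n, hn, ⟨e.trans MulEquiv.prodUnique⟩⟩

theorem comm_of_equiv {X Y : Type*} [Group X] [Group Y] (e : X ≃* Y) (h : ∀ a b : Y, a * b = b * a) (x y : X) :
    x * y = y * x := by
  apply e.injective
  rw [map_mul, map_mul, h]

theorem kleinfour_target :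
    IsKleinFour (Multiplicative (ZMod (2 ^ 1)) × Multiplicative (ZMod (2 ^ 1))) := by
  apply Cfsg.Agent.Lib.TwoFusion.Dih.isKleinFour_of_card_of_sq
  · rw [Nat.card_prod, Nat.card_congr Multiplicative.toAdd, Nat.card_zmod]
    norm_num
  · decide

end helpers


/-- Let S be a finite metacyclic p-group (an extension of a cyclic group by a cyclic group). Every saturated fusion system over S is supersoluble (S has a chain of F-strongly closed subgroups from 1 to S with cyclic steps) if and only if S is not homocyclic of rank two (isomorphic to Z/p^n × Z/p^n with n ≥ 1) and, when p = 2, S is not dihedral of order at least 4, not quasi-dihedral (semidihedral) and not generalized quaternion of order at least 8. -/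
theorem result {Ω : Type*} [Group Ω] {S : Subgroup Ω} [Finite S] (p : ℕ) [Fact p.Prime] (hS : IsPGroup p ↥S) (hm : Cfsg.IsMetacyclic ↥S) : (∀ F : Cfsg.FusionSystem S, F.IsSaturated p → (∃ (m : ℕ) (c : Fin (m + 1) → Subgroup Ω), c 0 = ⊥ ∧ c (Fin.last m) = S ∧ (∀ i : Fin (m + 1), F.StronglyClosed (c i)) ∧ ∀ i : Fin m, c i.castSucc ≤ c i.succ ∧ ∃ x ∈ S, c i.succ = c i.castSucc ⊔ Subgroup.zpowers x)) ↔ ¬ ((∃ n : ℕ, 0 < n ∧ Nonempty (↥S ≃* Multiplicative (ZMod (p ^ n)) × Multiplicative (ZMod (p ^ n)))) ∨ (p = 2 ∧ ((∃ n : ℕ, 2 ≤ n ∧ Nonempty (↥S ≃* DihedralGroup n)) ∨ Cfsg.IsQuasiDihedral ↥S ∨ (∃ n : ℕ, 2 ≤ n ∧ Nonempty (↥S ≃* QuaternionGroup n))))) := by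
  have hmain := Cfsg.Agent.Lib.Fusion.Supersoluble.supersoluble_iff (S := S) (p := p) hS
  constructor
  · intro hall hbad
    obtain ⟨hnorm, haut⟩ := hmain.1 hall
    have hhomo : ∀ n : ℕ, 0 < n →
        Nonempty (↥S ≃* Multiplicative (ZMod (p ^ n)) × Multiplicative (ZMod (p ^ n))) → False := by
      rintro n hn ⟨e⟩
      have hab : IsMulCommutative ↥S := ⟨⟨fun a b => comm_of_equiv e (fun a b => mul_comm a b) a b⟩⟩
      exact (Cfsg.Agent.S5284.result p hS hab).1 hall ⟨n, Unit, inferInstance, hn, ⟨e.trans MulEquiv.prodUnique.symm⟩⟩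
    rcases hbad with ⟨n, hn, he⟩ | ⟨rfl, ⟨n, hn, ⟨e⟩⟩ | hqd | ⟨n, hn, ⟨e⟩⟩⟩
    · exact hhomo n hn he
    · -- dihedral
      have hSc : ∃ a, Nat.card S = 2 ^ a := (IsPGroup.iff_card).1 hS
      obtain ⟨a, ha⟩ := hSc
      have hn0 : NeZero n := ⟨by omega⟩
      have hc : Nat.card S = 2 * n := by
        rw [Nat.card_congr e.toEquiv, DihedralGroup.nat_card]
      have hd : n ∣ 2 ^ a := by
        rw [← ha, hc]
        exact Dvd.intro_left _ rfl
      obtain ⟨k, -, rfl⟩ := (Nat.dvd_prime_pow Nat.prime_two).1 hd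
      by_cases hk : 2 ≤ k
      · obtain ⟨F, hF, hN⟩ := Cfsg.Agent.Lib.H29.MetaSuperD.not_normal_of_dihedral hS hk e
        exact hN (hnorm F hF)
      · have hk1 : k = 1 := by
          have : k ≠ 0 := by
            rintro rfl
            omega
          omega
        subst hk1
        haveI := kleinfour_target
        haveI : IsKleinFour (DihedralGroup (2 ^ 1)) := inferInstanceAs (IsKleinFour (DihedralGroup 2))
        obtain ⟨e2⟩ := IsKleinFour.nonempty_mulEquiv (G₁ := DihedralGroup (2 ^ 1))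
          (G₂ := Multiplicative (ZMod (2 ^ 1)) × Multiplicative (ZMod (2 ^ 1)))
        exact hhomo 1 (by norm_num) ⟨e.trans e2⟩
    · obtain ⟨F, hF, hN⟩ := Cfsg.Agent.Lib.H29.MetaSuperD.not_normal_of_semidihedral hS hqd
      exact hN (hnorm F hF)
    · -- quaternion
      obtain ⟨a, ha⟩ := (IsPGroup.iff_card).1 hS
      have hn0 : NeZero n := ⟨by omega⟩
      have hc : Nat.card S = 4 * n := by
        rw [Nat.card_congr e.toEquiv, Nat.card_eq_fintype_card, QuaternionGroup.card]
      have hd : n ∣ 2 ^ a := by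
        rw [← ha, hc]
        exact Dvd.intro_left _ rfl
      obtain ⟨k, -, rfl⟩ := (Nat.dvd_prime_pow Nat.prime_two).1 hd
      by_cases hk : 2 ≤ k
      · obtain ⟨F, hF, hN⟩ := Cfsg.Agent.Lib.H29.MetaSuperD.not_normal_of_quaternion hS hk e
        exact hN (hnorm F hF)
      · have hk1 : k = 1 := by
          have : k ≠ 0 := by
            rintro rfl
            omega
          omega
        subst hk1
        obtain ⟨φ⟩ := Cfsg.Agent.S3742.result
        let e' : ↥S ≃* QuaternionGroup 2 := e
        have hcA : Nat.card (MulAut ↥S) = 24 := by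
          rw [Nat.card_congr (MulAut.congr e').toEquiv, Nat.card_congr φ.toEquiv, Nat.card_perm]
          simp [Nat.factorial]
        haveI : Fact (Nat.Prime 3) := ⟨by norm_num⟩
        obtain ⟨σ, hσ⟩ := exists_prime_orderOf_dvd_card' (G := MulAut ↥S) 3 (by rw [hcA]; norm_num)
        have hH : (Nat.card (Subgroup.zpowers σ)).Coprime 2 := by
          rw [Nat.card_zpowers, hσ]
          norm_num
        have h1 := (haut _ hH).2 σ (Subgroup.mem_zpowers σ)
        rw [show (2 - 1 : ℕ) = 1 by norm_num, pow_one] at h1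
        rw [h1, orderOf_one] at hσ
        omega
  · intro hnb
    by_cases hab : ∀ x y : ↥S, x * y = y * x
    · have hab' : IsMulCommutative ↥S := ⟨⟨hab⟩⟩
      exact (Cfsg.Agent.S5284.result p hS hab').2
        (no_extra_factor hS hm (fun ⟨n, hn, he⟩ => hnb (Or.inl ⟨n, hn, he⟩)))
    · push Not at hab
      obtain ⟨x, y, hxy⟩ := hab
      apply hmain.2
      refine ⟨fun F hF => ?_, fun H hH => ?_⟩
      · have hcl : F.StronglyClosed S :=
          ⟨le_rfl, fun T hT φ hφ t => Cfsg.Agent.Lib.Fusion.Basic.val_mem F hφ t⟩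
        by_cases hp2 : p = 2
        · subst hp2
          refine Cfsg.Agent.Lib.H29.StrongMetaTwo.isNormal_of_metacyclic_two hS F hF hcl rfl hm ?_ ?_ ?_
          · rintro ⟨m, ⟨e⟩⟩
            rcases m with _ | _ | m
            · have h1 := Nat.card_congr e.toEquiv
              rw [DihedralGroup.nat_card] at h1
              exact Nat.card_pos.ne' h1
            · exact hxy (comm_of_equiv e (by decide) x y)
            · exact hnb (Or.inr ⟨rfl, Or.inl ⟨m + 2, by omega, ⟨e⟩⟩⟩)
          · rintro ⟨m, ⟨e⟩⟩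
            rcases m with _ | _ | m
            · haveI : Finite (QuaternionGroup 0) := Finite.of_equiv _ e.toEquiv
              haveI : Finite (ZMod (2 * 0)) := Finite.of_injective (QuaternionGroup.a : ZMod (2 * 0) → QuaternionGroup 0)
                (fun a b h => by cases h; rfl)
              haveI h9 : Finite ℤ := this
              exact not_finite (α := ℤ)
            · exact hxy (comm_of_equiv e (by decide) x y)
            · exact hnb (Or.inr ⟨rfl, Or.inr (Or.inr ⟨m + 2, by omega, ⟨e⟩⟩)⟩)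
          · exact fun h => hnb (Or.inr ⟨rfl, Or.inr (Or.inl h)⟩)
        · exact Cfsg.Agent.Lib.H29.StrongMeta.isNormal_of_metacyclic hp2 hS F hF hcl hm
      · by_cases hp2 : p = 2
        · subst hp2
          have h2 : IsPGroup 2 (MulAut ↥S) := by
            by_contra hA
            rcases Cfsg.Agent.Lib.PGroups.MetacyclicAut.main hS hm hA with ⟨⟨e⟩⟩ | ⟨n, ⟨e⟩⟩
            · exact hnb (Or.inr ⟨rfl, Or.inr (Or.inr ⟨2, le_rfl, ⟨e⟩⟩)⟩)
            · rcases Nat.eq_zero_or_pos n with rfl | hn
              · exact hxy (comm_of_equiv e (fun a b => mul_comm a b) x y)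
              · exact hnb (Or.inl ⟨n, hn, ⟨e⟩⟩)
          have h3 : IsPGroup 2 H := h2.to_subgroup H
          have h4 : Nat.card H = 1 := by
            refine h3.card_eq_or_dvd.resolve_right (fun hd => ?_)
            have h5 := Nat.dvd_gcd hd (dvd_refl 2)
            rw [Nat.Coprime.gcd_eq_one hH] at h5
            omega
          haveI := (Nat.card_eq_one_iff_unique.1 h4).1
          refine ⟨⟨⟨fun a b => Subsingleton.elim _ _⟩⟩, fun h hh => ?_⟩
          have h6 : (⟨h, hh⟩ : H) = 1 := Subsingleton.elim _ _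
          have h7 : h = 1 := congrArg Subtype.val h6
          rw [h7, one_pow]
        · exact Cfsg.Agent.Lib.H29.MetaSuperA.aut_facts_of_nonabelian hp2 hS hm ⟨x, y, hxy⟩ H hH

end Cfsg.Agent.S5287
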