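import Cfsg.Statements.S5289
import Cfsg.Agent.S3888
import Cfsg.Agent.Lib.Fusion.RankFiveB
import Cfsg.Agent.Lib.FusionTheory.Metacyclic

set_option autoImplicit false
open Cfsg

namespace Cfsg.Agent.S5289

open Subgroup Cfsg.Agent.Lib.Fusion.RankFivePres

/-- Transfer of generators to the ambient group. -/
theorem closure_transfer {Ω : Type*} [Group Ω] {S : Subgroup Ω} {x y z : S}
    (hcl : Subgroup.closure ({x, y, z} : Set S) = ⊤) : S ≤ closure {(x : Ω), (y : Ω), (z : Ω)} := by
  intro g hg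
  have h1 : (⟨g, hg⟩ : S) ∈ Subgroup.closure ({x, y, z} : Set S) := by rw [hcl]; trivial
  have h2 := Subgroup.mem_map_of_mem S.subtype h1
  rw [MonoidHom.map_closure] at h2
  have h3 : (S.subtype '' ({x, y, z} : Set S)) = {(x : Ω), (y : Ω), (z : Ω)} := by
    simp [Set.image_insert_eq]
  rw [h3] at h2
  exact h2

/-- Let p ≥ 5 be a prime and S a finite p-group of p-rank two (it has an elementary abelian subgroup of order p² and none of order p³) which is not the extraspecial group of order p³ and exponent p. Then S is resistant: for every saturated fusion system F over S, S is normal in F, that is, every map of F extends to an F-automorphism of S. -/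
theorem result {Ω : Type*} [Group Ω] {S : Subgroup Ω} [Finite S] (p : ℕ) [Fact p.Prime] (hS : IsPGroup p S)
    (F : Cfsg.FusionSystem S) (hF : F.IsSaturated p)
    (hp : 5 ≤ p)
    (hrank2 : ∃ E : Subgroup Ω, E ≤ S ∧ Cfsg.IsElementaryAbelian p E ∧ Nat.card E = p ^ 2)
    (hrank3 : ∀ E : Subgroup Ω, E ≤ S → Cfsg.IsElementaryAbelian p E → Nat.card E ≤ p ^ 2)
    (hnotE : ¬ (Nat.card S = p ^ 3 ∧ Monoid.exponent ↥S = p)) : F.IsNormal S := by
  classical
  have hpp : p.Prime := Fact.out
  have hp2 : p ≠ 2 := by omega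
  obtain ⟨n, hn⟩ := IsPGroup.iff_card.1 hS
  have hrk : Cfsg.PRankLE p 2 ↥S := by
    intro A hc he
    have h := hrank3 (A.map S.subtype) (Subgroup.map_subtype_le A) ⟨?_, ?_⟩
    · rwa [Subgroup.card_map_of_injective S.subtype_injective] at h
    · refine ⟨⟨?_⟩⟩
      rintro ⟨_, a, ha, rfl⟩ ⟨_, b, hb, rfl⟩
      apply Subtype.ext
      have := hc.is_comm.comm ⟨a, ha⟩ ⟨b, hb⟩
      have h2 := congrArg (fun t : A => ((t : S) : Ω)) this
      simpa using h2
    · rintro _ ⟨a, ha, rfl⟩
      have := he a ha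
      have h2 := congrArg (fun t : S => (t : Ω)) this
      simpa using h2
  have hnc : ¬ IsCyclic ↥S := by
    intro hcyc
    obtain ⟨E₀, hE₀, ⟨-, hexp⟩, hcard⟩ := hrank2
    haveI : Finite E₀ := Cfsg.Agent.Lib.Fusion.Basic.finite_of_le hE₀
    have hcycE : IsCyclic E₀ := isCyclic_of_injective (Subgroup.inclusion hE₀) (Subgroup.inclusion_injective hE₀)
    have h1 : Monoid.exponent E₀ = p ^ 2 := by
      rw [hcycE.exponent_eq_card, hcard]
    have h2 : Monoid.exponent E₀ ∣ p := by
      apply Monoid.exponent_dvd_of_forall_pow_eq_one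
      rintro ⟨a, ha⟩
      exact Subtype.ext (hexp a ha)
    rw [h1] at h2
    have h3 := Nat.le_of_dvd hpp.pos h2
    have h4 : p < p ^ 2 := by nlinarith [hpp.one_lt]
    omega
  apply Cfsg.Agent.Lib.FusionTheory.Normal.isNormal_top_of_no_essential F hS hF
  intro E hE
  have hlt : E < S := Cfsg.Agent.Lib.FusionTheory.Essential.IsEssential.lt F hS hF hE
  exfalso
  rcases Cfsg.Agent.S3888.result hp2 n hn hrk with hm | ⟨h3, x, y, z, hcl, xp, yp, zp, hxz, hyz, r⟩ |
    ⟨h4, s, x, y, z, hs, hcl, xp, yp, zp, hyz, r1, r2⟩ | ⟨hp3, -⟩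
  · -- metacyclic
    have hSC : F.StronglyClosed S := ⟨le_rfl, fun R _ φ hφ x => (F.le_of_mem hφ).2 x⟩
    have hlt2 := Cfsg.Agent.Lib.Fusion.Saturation2.lt_normalizerIn hS hlt
    obtain ⟨s, hs, hsE⟩ := SetLike.exists_of_lt hlt2
    have hsS : s ∈ S := hs.1
    have hsn : s ∈ Subgroup.normalizer (E : Set Ω) := hs.2
    exact hsE (Cfsg.Agent.Lib.FusionTheory.Metacyclic.mem_essential F hS hF hp2 hSC hm hnc hE hsS hsn)
  · -- second family
    have hcard : Nat.card S = p * (p * (p * p ^ (n - 3))) := by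
      rw [hn]
      obtain ⟨m, rfl⟩ : ∃ m, n = m + 3 := ⟨n - 3, by omega⟩
      rw [Nat.add_sub_cancel]
      ring
    have hn2 : p ^ (n - 2) = p * p ^ (n - 3) := by
      rw [← pow_succ']
      congr 1
      omega
    have zp' : (z : Ω) ^ (p * p ^ (n - 3)) = 1 := by
      rw [← hn2]
      exact congrArg Subtype.val zp
    have r' : cj (x : Ω) y = y * (z : Ω) ^ (p ^ (n - 3)) := by
      rw [cj_apply]
      exact congrArg Subtype.val r
    refine Cfsg.Agent.Lib.Fusion.RankFiveB.false_of_essential_b (p := p) hcard (closure_transfer hcl) x.2 y.2 z.2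
      (congrArg Subtype.val xp) (congrArg Subtype.val yp) zp' ?_ ?_ r' hp hS F hF hE hnotE
    · exact Subtype.ext_iff.1 hxz
    · exact Subtype.ext_iff.1 hyz
  · -- third family
    have hcard : Nat.card S = p * (p * (p * p ^ (n - 3))) := by
      rw [hn]
      obtain ⟨m, rfl⟩ : ∃ m, n = m + 3 := ⟨n - 3, by omega⟩
      rw [Nat.add_sub_cancel]
      ring
    have hn2 : p ^ (n - 2) = p * p ^ (n - 3) := by
      rw [← pow_succ']
      congr 1
      omega
    have zp' : (z : Ω) ^ (p * p ^ (n - 3)) = 1 := by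
      rw [← hn2]
      exact congrArg Subtype.val zp
    have r1' : cj (x : Ω) y = y * (z : Ω) ^ (s * p ^ (n - 3)) := by
      rw [cj_apply]
      exact congrArg Subtype.val r1
    have r2' : cj (x : Ω) z = y * z := by
      rw [cj_apply]
      exact congrArg Subtype.val r2
    have hpq : p ∣ p ^ (n - 3) := dvd_pow_self p (by omega)
    have hs' : ¬ p ∣ s := by
      intro hd
      rcases hs with rfl | hs
      · exact hpp.one_lt.ne' (Nat.dvd_one.1 hd)
      · apply hs
        rw [(ZMod.natCast_eq_zero_iff s p).2 hd]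
        exact IsSquare.zero
    have P := presC_of (p := p) hcard (closure_transfer hcl) x.2 y.2 z.2 (congrArg Subtype.val xp) (congrArg Subtype.val yp) zp'
      (Subtype.ext_iff.1 hyz) r1' r2' hpq hs'
    exact Cfsg.Agent.Lib.Fusion.RankFiveMain.false_of_essential_c P hp hS F hF hE
  · omega

end Cfsg.Agent.S5289
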