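import Cfsg.Statements.S5290
import Cfsg.Agent.Lib.FusionTheory.NormalCrit
import Cfsg.Agent.Lib.FusionTheory.Abelian

set_option autoImplicit false
open Cfsg

namespace Cfsg.Agent.S5290


/-- Let F be a saturated fusion system over a finite p-group S and Q a subgroup of S. Then Q is normal in F (F = N_F(Q)) if and only if the inner fusion system of Q, consisting of the conjugations by elements of Q on subgroups of Q, is a weakly normal subsystem of F (both saturated, Q strongly closed, invariant under F-conjugation, with the Frattini property). -/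
theorem result {Ω : Type*} [Group Ω] {S : Subgroup Ω} [Finite S] (p : ℕ) [Fact p.Prime] (hS : IsPGroup p S)
    (F : Cfsg.FusionSystem S) (hF : F.IsSaturated p)
    (Q : Subgroup Ω) (hQ : Q ≤ S) :
    F.IsNormal Q ↔ (Cfsg.innerFusionSystem Q).IsWeaklyNormalIn F p := by
  open Cfsg.Agent.Lib.FusionTheory.Normal Cfsg.Agent.Lib.FusionTheory.NormalCrit Cfsg.Agent.Lib.FusionTheory.Abelian Cfsg.FusionSystem Cfsg.Agent.Lib.Fusion.Basic in
  constructor
  · intro hN
    have hsc := IsNormal.stronglyClosed F hN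
    have hQf : Finite Q := finite_of_le hQ
    refine ⟨inner_isSaturated (hS.to_le hQ), hF, ?_, hsc, ?_, ?_⟩
    · rintro P φ ⟨hP, g, hg, h⟩
      exact conj_mem' F (hP.trans hQ) (hQ hg) φ h
    · rintro P hPQ φ ⟨-, q, hq, h⟩ α hα
      refine ⟨conjHom _ (α ⟨q, hq⟩), ⟨?_, _, (α ⟨q, hq⟩).2, fun _ => rfl⟩, ?_⟩
      · rintro _ ⟨x, -, rfl⟩
        exact (α x).2
      · intro x hφx hαx
        show ((α ⟨q, hq⟩ : Q) : Ω) * ((α ⟨x, hPQ x.2⟩ : Q) : Ω) * ((α ⟨q, hq⟩ : Q) : Ω)⁻¹ = ((α ⟨φ x, hφx⟩ : Q) : Ω)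
        have : (⟨φ x, hφx⟩ : Q) = ⟨q, hq⟩ * ⟨x, hPQ x.2⟩ * (⟨q, hq⟩ : Q)⁻¹ := Subtype.ext (h x)
        rw [this, map_mul, map_mul, map_inv]
        rfl
    · intro P hPQ φ hφ
      obtain ⟨β, hβ, hβφ⟩ := IsNormal.exists_aut F hN hPQ hφ
      exact ⟨β, hβ, P.subtype, ⟨hPQ, 1, Q.one_mem, fun x => by simp⟩, fun x hx => hβφ x⟩
  · rintro ⟨-, -, hsub, hsc, hinv, hfrat⟩
    apply isNormal_of_lcs F hS hF
    intro n
    have hle := Q.lowerCentralSeries_le_self n
    refine ⟨hle.trans hQ, fun R hR φ hφ x => ?_⟩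
    obtain ⟨α, hα, φ₀, ⟨-, q, hq, hφ₀⟩, h⟩ := hfrat R (hR.trans hle) φ hφ
    have hφ₀x : φ₀ x ∈ Q.lowerCentralSeries n := by
      rw [hφ₀ x]
      exact (Subgroup.mem_normalizer_iff.1 (Q.self_le_normalizer_lowerCentralSeries n hq) x).1 (hR x.2)
    rw [h x (hle hφ₀x)]
    exact lcs_aut_mem α n hφ₀x

end Cfsg.Agent.S5290
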