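import Cfsg.Statements.S5291
import Cfsg.Agent.Lib.FusionTheory.NormalCrit

set_option autoImplicit false
open Cfsg

namespace Cfsg.Agent.S5291

open Cfsg.Agent.Lib.FusionTheory.Normal Cfsg.Agent.Lib.FusionTheory.NormalCrit Cfsg.FusionSystem Cfsg.Agent.Lib.Fusion.Basic
open scoped commutatorElement

variable {Ω : Type*} [Group Ω] {S : Subgroup Ω}

/-- The image of `R` under an automorphism of `T`. -/
abbrev img {T : Subgroup Ω} (α : MulAut T) (R : Subgroup Ω) : Subgroup Ω :=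
  (R.subgroupOf T).map (T.subtype.comp α.toMonoidHom)

theorem mem_img {T : Subgroup Ω} {α : MulAut T} {R : Subgroup Ω} {x : Ω} :
    x ∈ img α R ↔ ∃ y : T, (y : Ω) ∈ R ∧ ((α y : T) : Ω) = x := by
  constructor
  · rintro ⟨y, hy, rfl⟩
    exact ⟨y, hy, rfl⟩
  · rintro ⟨y, hy, rfl⟩
    exact ⟨y, hy, rfl⟩

theorem img_le {T : Subgroup Ω} (α : MulAut T) (R : Subgroup Ω) : img α R ≤ T := by
  rintro _ ⟨x, -, rfl⟩
  exact (α x).2

/-- **Claim A**: the image of a subgroup normal in `E` under `Aut_F(T)` is normal in `E`. -/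
theorem isNormal_img {T : Subgroup Ω} (F : Cfsg.FusionSystem S) (E : Cfsg.FusionSystem T)
    (hinv : ∀ (P : Subgroup Ω) (hPT : P ≤ T) (φ : P →* Ω), φ ∈ E.Hom P → ∀ α ∈ F.autGroup T,
      ∃ χ ∈ E.Hom ((P.subgroupOf T).map (T.subtype.comp α.toMonoidHom)),
        ∀ (x : P) (hφx : φ x ∈ T)
          (hαx : ((α ⟨x, hPT x.2⟩ : T) : Ω) ∈ (P.subgroupOf T).map (T.subtype.comp α.toMonoidHom)),
          χ ⟨(α ⟨x, hPT x.2⟩ : T), hαx⟩ = ((α ⟨φ x, hφx⟩ : T) : Ω))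
    {R : Subgroup Ω} (hR : E.IsNormal R) {α : MulAut T} (hα : α ∈ F.autGroup T) : E.IsNormal (img α R) := by
  refine ⟨img_le α R, fun P' φ' hφ' => ?_⟩
  have hP'T : P' ≤ T := (E.le_of_mem hφ').1
  have hRT : R ≤ T := hR.1
  obtain ⟨χ, hχ, hχ'⟩ := hinv P' hP'T φ' hφ' α⁻¹ ((F.autGroup T).inv_mem hα)
  obtain ⟨ψ, hψ, h1, h2⟩ := hR.2 _ χ hχ
  have hPT : img α⁻¹ P' ≤ T := img_le α⁻¹ P'
  have hPRT : img α⁻¹ P' ⊔ R ≤ T := sup_le hPT hRT
  obtain ⟨χ₂, hχ₂, hχ₂'⟩ := hinv _ hPRT ψ hψ α hα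
  have happly : ∀ t : T, α (α⁻¹ t) = t := fun t => by simp
  have happly' : ∀ t : T, α⁻¹ (α t) = t := fun t => by simp
  have hle : P' ⊔ img α R ≤ img α (img α⁻¹ P' ⊔ R) := by
    apply sup_le
    · intro x hx
      refine mem_img.2 ⟨α⁻¹ ⟨x, hP'T hx⟩, Subgroup.mem_sup_left (mem_img.2 ⟨⟨x, hP'T hx⟩, hx, rfl⟩), ?_⟩
      rw [happly]
    · intro x hx
      obtain ⟨y, hy, rfl⟩ := mem_img.1 hx
      exact mem_img.2 ⟨y, Subgroup.mem_sup_right hy, rfl⟩
  have hψT : ∀ u, ψ u ∈ T := fun u => (E.le_of_mem hψ).2 u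
  -- the value of `ψ'`
  have hval : ∀ (u : T) (hu : (u : Ω) ∈ img α⁻¹ P' ⊔ R) (hu' : ((α u : T) : Ω) ∈ img α (img α⁻¹ P' ⊔ R)),
      χ₂ ⟨(α u : T), hu'⟩ = ((α ⟨ψ ⟨u, hu⟩, hψT _⟩ : T) : Ω) := by
    intro u hu hu'
    exact hχ₂' ⟨u, hu⟩ (hψT _) hu'
  refine ⟨χ₂.comp (Subgroup.inclusion hle), restrict_mem E hle hχ₂, fun x => ?_, ?_⟩
  · -- agreement on `P'`
    have hxT := hP'T x.2
    set y : T := α⁻¹ ⟨x, hxT⟩ with hy
    have hyP : (y : Ω) ∈ img α⁻¹ P' := mem_img.2 ⟨⟨x, hxT⟩, x.2, rfl⟩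
    have hαy : α y = ⟨x, hxT⟩ := happly _
    have hmem : ((α y : T) : Ω) ∈ img α (img α⁻¹ P' ⊔ R) := by
      rw [hαy]
      exact hle (Subgroup.mem_sup_left x.2)
    have e1 : (Subgroup.inclusion hle) (Subgroup.inclusion le_sup_left x) = ⟨((α y : T) : Ω), hmem⟩ := by
      apply Subtype.ext
      show (x : Ω) = ((α y : T) : Ω)
      rw [hαy]
    show χ₂ ((Subgroup.inclusion hle) (Subgroup.inclusion le_sup_left x)) = φ' x
    rw [e1, hval y (Subgroup.mem_sup_left hyP) hmem]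
    -- `ψ y = χ y`
    have e2 := h1 ⟨y, hyP⟩
    have e3 : (⟨y, Subgroup.mem_sup_left hyP⟩ : ↥(img α⁻¹ P' ⊔ R)) = Subgroup.inclusion le_sup_left (⟨y, hyP⟩ : img α⁻¹ P') := rfl
    have hφx : φ' x ∈ T := (E.le_of_mem hφ').2 x
    have e4 : χ ⟨y, hyP⟩ = (((α⁻¹ : MulAut T) ⟨φ' x, hφx⟩ : T) : Ω) := hχ' x hφx hyP
    have e5 : (⟨ψ ⟨y, Subgroup.mem_sup_left hyP⟩, hψT _⟩ : T) = α⁻¹ ⟨φ' x, hφx⟩ := by
      apply Subtype.ext
      show ψ ⟨y, Subgroup.mem_sup_left hyP⟩ = _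
      rw [e3, e2, e4]
    rw [e5, happly]
  · -- the image of `R'`
    apply le_antisymm
    · rintro _ ⟨x, hx, rfl⟩
      obtain ⟨r, hr, hrx⟩ := mem_img.1 hx
      have hrsup : (r : Ω) ∈ img α⁻¹ P' ⊔ R := Subgroup.mem_sup_right hr
      have hmem : ((α r : T) : Ω) ∈ img α (img α⁻¹ P' ⊔ R) := mem_img.2 ⟨r, hrsup, rfl⟩
      have e1 : (Subgroup.inclusion hle) x = ⟨((α r : T) : Ω), hmem⟩ := by
        apply Subtype.ext
        exact hrx.symm
      show χ₂ ((Subgroup.inclusion hle) x) ∈ img α R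
      rw [e1, hval r hrsup hmem]
      refine mem_img.2 ⟨_, ?_, rfl⟩
      show ψ ⟨r, hrsup⟩ ∈ R
      have : ψ ⟨r, hrsup⟩ ∈ (R.subgroupOf (img α⁻¹ P' ⊔ R)).map ψ := ⟨⟨r, hrsup⟩, hr, rfl⟩
      rwa [h2] at this
    · intro y hy
      obtain ⟨r, hr, hry⟩ := mem_img.1 hy
      have hr' : (r : Ω) ∈ (R.subgroupOf (img α⁻¹ P' ⊔ R)).map ψ := by
        rw [h2]
        exact hr
      obtain ⟨r₁, hr₁, hr₁r⟩ := hr'
      have hr₁T : (r₁ : Ω) ∈ T := hRT hr₁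
      have hmem : ((α ⟨r₁, hr₁T⟩ : T) : Ω) ∈ img α (img α⁻¹ P' ⊔ R) := mem_img.2 ⟨⟨r₁, hr₁T⟩, r₁.2, rfl⟩
      have hmemR : ((α ⟨r₁, hr₁T⟩ : T) : Ω) ∈ img α R := mem_img.2 ⟨⟨r₁, hr₁T⟩, hr₁, rfl⟩
      refine ⟨⟨_, Subgroup.mem_sup_right hmemR⟩, hmemR, ?_⟩
      show χ₂ ((Subgroup.inclusion hle) ⟨_, Subgroup.mem_sup_right hmemR⟩) = y
      have e1 : (Subgroup.inclusion hle) ⟨_, Subgroup.mem_sup_right hmemR⟩ = ⟨((α ⟨r₁, hr₁T⟩ : T) : Ω), hmem⟩ := rfl
      rw [e1, hval ⟨r₁, hr₁T⟩ r₁.2 hmem, ← hry]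
      congr 2
      apply Subtype.ext
      exact hr₁r

/-- Automorphisms of `T` preserving `Q` preserve its lower central series. -/
theorem lcs_aut_mem' {T : Subgroup Ω} {Q : Subgroup Ω} (hQT : Q ≤ T) (α : MulAut T)
    (h1 : ∀ x : T, (x : Ω) ∈ Q → ((α x : T) : Ω) ∈ Q) (n : ℕ) :
    ∀ x : T, (x : Ω) ∈ Q.lowerCentralSeries n → ((α x : T) : Ω) ∈ Q.lowerCentralSeries n := by
  induction n with
  | zero => exact h1
  | succ n ih =>
    let W : Subgroup Ω := ((Q.lowerCentralSeries (n + 1)).comap (T.subtype.comp α.toMonoidHom)).map T.subtype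
    have hle : Q.lowerCentralSeries (n + 1) ≤ W := by
      rw [Subgroup.lowerCentralSeries_succ, Subgroup.commutator_le]
      intro a ha b hb
      have haT := hQT (Q.lowerCentralSeries_le_self n ha)
      have hbT := hQT hb
      refine ⟨⁅(⟨a, haT⟩ : T), (⟨b, hbT⟩ : T)⁆, ?_, rfl⟩
      show (T.subtype.comp α.toMonoidHom) ⁅(⟨a, haT⟩ : T), (⟨b, hbT⟩ : T)⁆ ∈ Q.lowerCentralSeries (n + 1)
      have : (T.subtype.comp α.toMonoidHom) ⁅(⟨a, haT⟩ : T), (⟨b, hbT⟩ : T)⁆ =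
          ⁅((α ⟨a, haT⟩ : T) : Ω), ((α ⟨b, hbT⟩ : T) : Ω)⁆ :=
        map_commutatorElement (T.subtype.comp α.toMonoidHom) _ _
      rw [this]
      exact Subgroup.commutator_mem_commutator (ih ⟨a, haT⟩ ha) (h1 ⟨b, hbT⟩ hb)
    intro x hx
    obtain ⟨y, hy, hyx⟩ := hle hx
    have : y = x := Subtype.ext hyx
    subst this
    exact hy

/-- Let F be a saturated fusion system over a finite p-group S and E a weakly normal subsystem of F over a subgroup T. Suppose a subgroup R of T is normal in E (E = N_E(R)), and let R* be the subgroup of T generated by the images of R under all maps of F with source R. Then R* is normal in F (F = N_F(R*)). -/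
theorem result {Ω : Type*} [Group Ω] {S : Subgroup Ω} [Finite S] (p : ℕ) [Fact p.Prime] (hS : IsPGroup p S)
    (F : Cfsg.FusionSystem S) (hF : F.IsSaturated p)
    {T : Subgroup Ω} (E : Cfsg.FusionSystem T) (hE : E.IsWeaklyNormalIn F p)
    (R : Subgroup Ω) (hR : E.IsNormal R) :
    F.IsNormal (Subgroup.closure {x : Ω | ∃ φ ∈ F.Hom R, ∃ r : R, x = φ r}) := by
  obtain ⟨hEsat, -, hsub, hTsc, hinv, hfrat⟩ := hE
  have hRT : R ≤ T := hR.1
  have hTS : T ≤ S := hTsc.1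
  have hTf : Finite T := finite_of_le hTS
  have hTp : IsPGroup p T := hS.to_le hTS
  set X : Set Ω := {x : Ω | ∃ φ ∈ F.Hom R, ∃ r : R, x = φ r} with hX
  have hRsc := IsNormal.stronglyClosed E hR
  -- description of the generators
  have hXiff : ∀ x : Ω, x ∈ X ↔ ∃ α ∈ F.autGroup T, x ∈ img α R := by
    intro x
    constructor
    · rintro ⟨φ, hφ, r, rfl⟩
      obtain ⟨α, hα, φ₀, hφ₀, h⟩ := hfrat R hRT φ hφ
      have hr : φ₀ r ∈ R := hRsc.2 R le_rfl φ₀ hφ₀ r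
      refine ⟨α, hα, mem_img.2 ⟨⟨φ₀ r, hRT hr⟩, hr, ?_⟩⟩
      exact (h r (hRT hr)).symm
    · rintro ⟨α, hα, hx⟩
      obtain ⟨y, hy, rfl⟩ := mem_img.1 hx
      have hm : (autHom α).comp (Subgroup.inclusion hRT) ∈ F.Hom R :=
        restrict_mem F hRT (autHom_mem F hTS hα)
      exact ⟨_, hm, ⟨y, hy⟩, rfl⟩
  have hRstarT : Subgroup.closure X ≤ T := by
    apply (Subgroup.closure_le _).2
    intro x hx
    obtain ⟨α, -, hx⟩ := (hXiff x).1 hx
    exact img_le α R hx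
  -- `Aut_F(T)` preserves `R*`
  have hstar : ∀ α ∈ F.autGroup T, ∀ x : T, (x : Ω) ∈ Subgroup.closure X → ((α x : T) : Ω) ∈ Subgroup.closure X := by
    intro α hα x hx
    let W : Subgroup Ω := ((Subgroup.closure X).comap (T.subtype.comp α.toMonoidHom)).map T.subtype
    have hle : Subgroup.closure X ≤ W := by
      apply (Subgroup.closure_le _).2
      intro y hy
      obtain ⟨β, hβ, hy'⟩ := (hXiff y).1 hy
      obtain ⟨z, hz, rfl⟩ := mem_img.1 hy'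
      refine ⟨β z, ?_, rfl⟩
      apply Subgroup.subset_closure
      rw [hXiff]
      exact ⟨α * β, (F.autGroup T).mul_mem hα hβ, mem_img.2 ⟨z, hz, rfl⟩⟩
    obtain ⟨y, hy, hyx⟩ := hle hx
    have : y = x := Subtype.ext hyx
    subst this
    exact hy
  -- `R*` is normal in `E`
  have hRstarE : E.IsNormal (Subgroup.closure X) := by
    apply isNormal_of_invariant E hTp hEsat hRstarT
    intro P hP
    have hPT : P ≤ T := by
      rcases hP with rfl | hP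
      · exact le_rfl
      · exact hP.1.1
    have hle : Subgroup.closure X ≤ P := by
      rcases hP with rfl | hP
      · exact hRstarT
      · apply (Subgroup.closure_le _).2
        intro x hx
        obtain ⟨α, hα, hx⟩ := (hXiff x).1 hx
        exact IsNormal.le_essential E hTp hEsat (isNormal_img F E hinv hR hα) hP hx
    refine ⟨hle, fun ρ hρ x hx => ?_⟩
    let W : Subgroup Ω := ((Subgroup.closure X).comap (P.subtype.comp ρ.toMonoidHom)).map P.subtype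
    have hle' : Subgroup.closure X ≤ W := by
      apply (Subgroup.closure_le _).2
      intro y hy
      obtain ⟨α, hα, hy'⟩ := (hXiff y).1 hy
      have hyP : y ∈ P := hle (Subgroup.subset_closure hy)
      refine ⟨⟨y, hyP⟩, ?_, rfl⟩
      apply Subgroup.subset_closure
      rw [hXiff]
      exact ⟨α, hα, StronglyClosed.aut_mem E (IsNormal.stronglyClosed E (isNormal_img F E hinv hR hα)) hPT hρ hy'⟩
    obtain ⟨y, hy, hyx⟩ := hle' hx
    have : y = x := Subtype.ext hyx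
    subst this
    exact hy
  apply isNormal_of_lcs F hS hF
  intro n
  have hlcsE := lcs_stronglyClosed E hRstarE n
  have hle := (Subgroup.closure X).lowerCentralSeries_le_self n
  refine ⟨hle.trans (hRstarT.trans hTS), fun U hU φ hφ x => ?_⟩
  obtain ⟨α, hα, φ₀, hφ₀, h⟩ := hfrat U (hU.trans (hle.trans hRstarT)) φ hφ
  have h1 : φ₀ x ∈ (Subgroup.closure X).lowerCentralSeries n := hlcsE.2 U hU φ₀ hφ₀ x
  rw [h x (hRstarT (hle h1))]
  exact lcs_aut_mem' hRstarT α (hstar α hα) n ⟨φ₀ x, _⟩ h1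

end Cfsg.Agent.S5291
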