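import Cfsg.Statements.S5293
import Cfsg.Agent.Lib.FusionExt.CentE4

set_option autoImplicit false
open Cfsg

namespace Cfsg.Agent.S5293

open Cfsg.FusionSystem Cfsg.Agent.Lib.FusionExt.MapApi Cfsg.Agent.Lib.FusionExt.Basic


/-- Let F be a saturated fusion system over a finite p-group S, E a normal subsystem of F over T ≤ S, and C the join of the subgroups X ≤ C_S(T) such that E is contained in the centralizer system C_F(X). Then for the centralizer fusion system C_F(T) over C_S(T), the focal subgroup of C_F(T) is contained in C. -/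
theorem result {Ω : Type*} [Group Ω] {S : Subgroup Ω} [Finite S] (p : ℕ) [Fact p.Prime] (hS : IsPGroup p S)
    (F : Cfsg.FusionSystem S) (hF : F.IsSaturated p)
    {T : Subgroup Ω} (E : Cfsg.FusionSystem T) (hE : E.IsNormalIn F p)
    (C : Subgroup Ω)
    (hC : C = sSup {X : Subgroup Ω | X ≤ Cfsg.FusionSystem.centralizerIn S T ∧ ∀ P : Subgroup Ω, E.Hom P ⊆ F.centralizerHom X P})
    (D : Cfsg.FusionSystem (Cfsg.FusionSystem.centralizerIn S T)) (hD : F.IsCentralizerSystem T D) :
    D.focalSubgroup ≤ C := by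
  have hC₀ := Cfsg.Agent.Lib.FusionExt.CentE2.main' hS hE
  have hle : Cfsg.Agent.Lib.FusionExt.CentE.CC F E ≤ C := by
    rw [hC]
    exact le_sSup ⟨hC₀.1, hC₀.2.1⟩
  have hTS : T ≤ S := hE.1.2.2.2.1.1
  have hDe : D = centralizerSystem F T hTS := Cfsg.Agent.Lib.Fusion.Alperin.fusionSystem_ext hD
  subst hDe
  refine (Subgroup.closure_le _).2 ?_
  rintro _ ⟨P, φ, x, hφ, rfl⟩
  have h1 := Cfsg.Agent.Lib.FusionExt.CentE3.mp_diff_mem hS hE (X := P) (f := extOf φ) (mp_of_hom hφ) x.2
  rw [extOf_coe] at h1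
  exact hle h1

end Cfsg.Agent.S5293
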