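import Cfsg.Statements.S5296
import Cfsg.Agent.Lib.FusionTheory.SmallControl2

set_option autoImplicit false
universe u
open Cfsg

namespace Cfsg.Agent.S5296


/-- Small-exponent abelian subgroups of the hyperfocal subgroup control fusion. Let E and F be saturated fusion systems over the same finite p-group S with E contained in F. Suppose that E and F have the same maps between A and B for all subgroups A, B of the hyperfocal subgroup of F that are elementary abelian when p is odd, respectively abelian of exponent dividing 4 when p = 2. Then E = F. -/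
theorem result {Ω : Type u} [Group Ω] {S : Subgroup Ω} [Finite S] (p : ℕ) [Fact p.Prime] (hS : IsPGroup p S)
    (E F : Cfsg.FusionSystem S) (hE : E.IsSaturated p) (hF : F.IsSaturated p) (hEF : E.IsSubsystemOf F)
    (hodd : p ≠ 2 → ∀ A B : Subgroup Ω, A ≤ (F.hyperfocalSubgroup p) → B ≤ (F.hyperfocalSubgroup p) →
      Cfsg.IsElementaryAbelian p A → Cfsg.IsElementaryAbelian p B → E.homSet A B = F.homSet A B)
    (htwo : p = 2 → ∀ A B : Subgroup Ω, A ≤ (F.hyperfocalSubgroup p) → B ≤ (F.hyperfocalSubgroup p) →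
      IsMulCommutative ↥A → IsMulCommutative ↥B → (∀ a ∈ A, a ^ 4 = 1) → (∀ b ∈ B, b ^ 4 = 1) → E.homSet A B = F.homSet A B) :
    ∀ P : Subgroup Ω, E.Hom P = F.Hom P := by
  intro P
  refine Cfsg.Agent.Lib.FusionTheory.SmallControl2.hom_eq_of_agree hS hE hF hEF ?_ P
  intro A B hA hB hAs hBs
  by_cases hp2 : p = 2
  · refine htwo hp2 A B hA hB ⟨⟨fun a b => Subtype.ext (hAs.comm a a.2 b b.2)⟩⟩
      ⟨⟨fun a b => Subtype.ext (hBs.comm a a.2 b b.2)⟩⟩ ?_ ?_
    · intro a ha
      have h := hAs.exp a ha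
      rwa [Cfsg.Agent.Lib.FusionTheory.SmallControl.smallExp, if_pos hp2] at h
    · intro a ha
      have h := hBs.exp a ha
      rwa [Cfsg.Agent.Lib.FusionTheory.SmallControl.smallExp, if_pos hp2] at h
  · refine hodd hp2 A B hA hB ⟨⟨⟨fun a b => Subtype.ext (hAs.comm a a.2 b b.2)⟩⟩, ?_⟩
      ⟨⟨⟨fun a b => Subtype.ext (hBs.comm a a.2 b b.2)⟩⟩, ?_⟩
    · intro a ha
      have h := hAs.exp a ha
      rwa [Cfsg.Agent.Lib.FusionTheory.SmallControl.smallExp, if_neg hp2] at h
    · intro a ha
      have h := hBs.exp a ha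
      rwa [Cfsg.Agent.Lib.FusionTheory.SmallControl.smallExp, if_neg hp2] at h

end Cfsg.Agent.S5296
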