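import Cfsg.Statements.S5297
import Cfsg.Agent.Lib.FusionTheory.Hyperfocal
import Cfsg.Agent.S5298

set_option autoImplicit false
universe u
open Cfsg

namespace Cfsg.Agent.S5297

open Cfsg.Agent.Lib.FusionTheory.Normal Cfsg.Agent.Lib.FusionTheory.NormalCrit Cfsg.Agent.Lib.FusionTheory.Chain Cfsg.Agent.Lib.FusionTheory.CoprimeAut Cfsg.Agent.Lib.FusionTheory.Hyperfocal Cfsg.Agent.Lib.Fusion.Alperin Cfsg.FusionSystem Cfsg.Agent.Lib.Fusion.Basic
open scoped commutatorElement

/-- A map of the normalizer system of `S` extends to `Aut_F(S)`. -/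
theorem exists_aut_of_normalizerHom {Ω : Type*} [Group Ω] {S : Subgroup Ω} (F : Cfsg.FusionSystem S) [Finite S] {A : Subgroup Ω} {φ : A →* Ω}
    (hφ : φ ∈ F.normalizerHom S A) (hA : A ≤ S) : ∃ β ∈ F.autGroup S, ∀ x : A, φ x = ((β ⟨x, hA x.2⟩ : S) : Ω) := by
  obtain ⟨-, -, -, ψ, hψ, h1, h2⟩ := hφ
  have hle : S ≤ A ⊔ S := le_sup_right
  have hm : ψ.comp (Subgroup.inclusion hle) ∈ F.Hom S := restrict_mem F hle hψ
  have hrange : (ψ.comp (Subgroup.inclusion hle)).range = S := by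
    apply Subgroup.eq_of_le_of_card_ge (range_le F hm)
    rw [card_range F hm]
  obtain ⟨β, hβ, hβψ⟩ := exists_aut_of_range F hm hrange
  refine ⟨β, hβ, fun x => ?_⟩
  rw [hβψ, ← h1 x]
  rfl

theorem no_essential {Ω : Type u} [Group Ω] {S : Subgroup Ω} [Finite S] (p : ℕ) [hp : Fact p.Prime] (hS : IsPGroup p S)
    (F : Cfsg.FusionSystem S) (hF : F.IsSaturated p)
    (h : ∀ A B : Subgroup Ω, A ≤ (F.hyperfocalSubgroup p) → B ≤ (F.hyperfocalSubgroup p) → IsCyclic ↥A → (Nat.card ↥A = p ∨ Nat.card ↥A = 4) → IsCyclic ↥B → (Nat.card ↥B = p ∨ Nat.card ↥B = 4) →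
      F.homSet A B ⊆ F.normalizerHom S A)
    (P : Subgroup Ω) (hP : F.IsEssential p P) : P = S := by
  have hPS : P ≤ S := hP.1.1
  have hfin : Finite P := finite_of_le hPS
  have hPp : IsPGroup p P := hS.to_le hPS
  have hHsc := hyp_stronglyClosed F hS hF
  set L : Subgroup P := (F.hyperfocalSubgroup p).subgroupOf P with hL
  have hLinv : ∀ τ ∈ F.autGroup P, ∀ x ∈ L, τ x ∈ L := by
    intro τ hτ x hx
    exact StronglyClosed.aut_mem F hHsc hPS hτ hx
  obtain ⟨D, hDL, hDinv, hDsmall, hDtriv⟩ := Cfsg.Agent.Lib.FusionTheory.Chain.exists_small_char hPp L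
  have hDinvX : ∀ ρ ∈ F.autGroup P, ∀ x ∈ D, ρ x ∈ D := fun ρ hρ =>
    hDinv ρ (hLinv ρ hρ) (hLinv ρ⁻¹ ((F.autGroup P).inv_mem hρ))
  have htriv : ∀ τ ∈ F.autGroup P, (orderOf τ).Coprime p → (∀ x ∈ D, τ x = x) → τ = 1 := fun τ hτ hc h' =>
    hDtriv τ hc (hLinv τ hτ) (hLinv τ⁻¹ ((F.autGroup P).inv_mem hτ))
      (fun x => mem_hyp_of_coprime F hPS hτ hc x) h'
  -- elements of `D` move under `Aut_F(S)`
  have hmove : ∀ ρ ∈ F.autGroup P, ∀ d ∈ D, ∃ β ∈ F.autGroup S, ((ρ d : P) : Ω) = ((β ⟨d, hPS d.2⟩ : S) : Ω) := by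
    intro ρ hρ d hd
    by_cases hd1 : d = 1
    · refine ⟨1, Subgroup.one_mem _, ?_⟩
      subst hd1
      simp
    have hne1 : ((d : P) : Ω) ≠ 1 := fun h0 => hd1 (Subtype.ext h0)
    have hρd : ρ d ∈ D := hDinvX ρ hρ d hd
    have hne2 : ((ρ d : P) : Ω) ≠ 1 := by
      intro h0
      apply hd1
      have : ρ d = 1 := Subtype.ext h0
      simpa using this
    have hs1 : ((d : P) : Ω) ^ smallExp p = 1 := by
      have := congrArg Subtype.val (hDsmall d hd)
      simpa using this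
    have hs2 : ((ρ d : P) : Ω) ^ smallExp p = 1 := by
      have := congrArg Subtype.val (hDsmall _ hρd)
      simpa using this
    have hzle : Subgroup.zpowers ((d : P) : Ω) ≤ P := by
      rw [Subgroup.zpowers_le]
      exact d.2
    have hzS : Subgroup.zpowers ((d : P) : Ω) ≤ S := hzle.trans hPS
    have hm := restrict_mem_homSet F hPS hρ d hzle
    have hm2 := h _ _ (by rw [Subgroup.zpowers_le]; exact hDL hd) (by rw [Subgroup.zpowers_le]; exact hDL hρd)
      inferInstance (Cfsg.Agent.S5298.small_card p hne1 hs1) inferInstance (Cfsg.Agent.S5298.small_card p hne2 hs2) hm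
    obtain ⟨β, hβ, hβφ⟩ := exists_aut_of_normalizerHom F hm2 hzS
    exact ⟨β, hβ, hβφ ⟨d, Subgroup.mem_zpowers _⟩⟩
  -- the chain
  let W : ℕ → Subgroup P := fun j => D ⊓ (S.lowerCentralSeries j).subgroupOf P
  have hWinv : ∀ j, ∀ ρ ∈ F.autGroup P, ∀ x ∈ W j, ρ x ∈ W j := by
    intro j ρ hρ x hx
    refine ⟨hDinvX ρ hρ x hx.1, ?_⟩
    obtain ⟨β, hβ, hβx⟩ := hmove ρ hρ x hx.1
    show ((ρ x : P) : Ω) ∈ S.lowerCentralSeries j
    rw [hβx]
    exact lcs_aut_mem β j hx.2
  apply le_antisymm hPS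
  refine le_of_normalizer_le hS le_rfl Subgroup.le_normalizer hPS (fun s hs hn => ?_)
  set c := normAct P hn with hc
  have hcX : c ∈ F.autGroup P := normAct_mem_autGroup F hPS hs hn
  have hcx : ∀ x : P, ((x⁻¹ * c x : P) : Ω) = ⁅(x : Ω)⁻¹, s⁆ := by
    intro x
    rw [commutatorElement_def, inv_inv]
    show (x : Ω)⁻¹ * (s * (x : Ω) * s⁻¹) = _
    group
  have hnil : Group.IsNilpotent S := hS.isNilpotent
  obtain ⟨m, hm⟩ := (Subgroup.isNilpotent_iff_lowerCentralSeries S).1 hnil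
  have tow : ∀ k : ℕ, k ≤ m → IsTower p (F.autGroup P) c (W (m - k)) := by
    intro k
    induction k with
    | zero =>
      intro _
      have : W (m - 0) = ⊥ := by
        show D ⊓ (S.lowerCentralSeries (m - 0)).subgroupOf P = ⊥
        rw [Nat.sub_zero, hm, Subgroup.bot_subgroupOf, inf_bot_eq]
      rw [this]
      exact isTower_bot hcX
    | succ k ih =>
      intro hk
      have e : m - k = (m - (k + 1)) + 1 := by omega
      refine isTower_step hPp (ih (by omega)) (hWinv _) (hWinv _) (fun x hx => ?_)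
      rw [e]
      refine ⟨D.mul_mem (D.inv_mem hx.1) (hDinvX c hcX x hx.1), ?_⟩
      show ((x⁻¹ * c x : P) : Ω) ∈ S.lowerCentralSeries (m - (k + 1) + 1)
      rw [hcx]
      exact Subgroup.commutator_mem_commutator (Subgroup.inv_mem _ hx.2) hs
  have tow0 := tow m le_rfl
  have hW0 : W (m - m) = D := by
    show D ⊓ (S.lowerCentralSeries (m - m)).subgroupOf P = D
    rw [Nat.sub_self, Subgroup.lowerCentralSeries_zero]
    apply inf_eq_left.2
    intro x _
    exact hPS x.2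
  rw [hW0] at tow0
  exact mem_of_isEssential_of_isTower F hS hP hs hn tow0 htriv

/-- Let F be a saturated fusion system over a finite p-group S. If every map of F between cyclic subgroups of the hyperfocal subgroup of F of order p or 4 is a map of the normalizer system of S (it extends to a map of F defined on all of S), then S is normal in F. -/
theorem result {Ω : Type u} [Group Ω] {S : Subgroup Ω} [Finite S] (p : ℕ) [Fact p.Prime] (hS : IsPGroup p S)
    (F : Cfsg.FusionSystem S) (hF : F.IsSaturated p)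
    (h : ∀ A B : Subgroup Ω, A ≤ (F.hyperfocalSubgroup p) → B ≤ (F.hyperfocalSubgroup p) → IsCyclic ↥A → (Nat.card ↥A = p ∨ Nat.card ↥A = 4) → IsCyclic ↥B → (Nat.card ↥B = p ∨ Nat.card ↥B = 4) →
      F.homSet A B ⊆ F.normalizerHom S A) :
    F.IsNormal S := by
  exact isNormal_top_of_no_essential F hS hF (no_essential p hS F hF h)

end Cfsg.Agent.S5297
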