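import Cfsg.Statements.S5299

set_option autoImplicit false
universe u
open Cfsg

namespace Cfsg.Agent.S5299

/-- Section in the form of a surjection from a subgroup. -/
def SecOf (H : Type*) [Group H] (G : Type*) [Group G] : Prop :=
  ∃ (K : Subgroup G) (f : K →* H), Function.Surjective f

theorem secOf_of_involves {H : Type*} [Group H] {G : Type*} [Group G] (h : Cfsg.Involves H G) : SecOf H G := by
  obtain ⟨K, R, hn, ⟨e⟩⟩ := h
  refine ⟨K, e.toMonoidHom.comp (QuotientGroup.mk' _), ?_⟩
  exact e.surjective.comp (QuotientGroup.mk'_surjective _)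

theorem involves_of_secOf {H : Type*} [Group H] {G : Type*} [Group G] (h : SecOf H G) : Cfsg.Involves H G := by
  obtain ⟨K, f, hf⟩ := h
  have hR : (f.ker.map K.subtype).subgroupOf K = f.ker := by
    rw [Subgroup.subgroupOf, Subgroup.comap_map_eq_self_of_injective K.subtype_injective]
  have hn : ((f.ker.map K.subtype).subgroupOf K).Normal := by rw [hR]; infer_instance
  exact ⟨K, f.ker.map K.subtype, hn,
    ⟨(QuotientGroup.quotientMulEquivOfEq hR).trans (QuotientGroup.quotientKerEquivOfSurjective f hf)⟩⟩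

theorem SecOf.mono {H : Type*} [Group H] {A : Type*} [Group A] {B : Type*} [Group B] (h : SecOf H A)
    (j : A →* B) (hj : Function.Injective j) : SecOf H B := by
  obtain ⟨K, f, hf⟩ := h
  refine ⟨K.map j, f.comp (Subgroup.equivMapOfInjective K j hj).symm.toMonoidHom, ?_⟩
  exact hf.comp (MulEquiv.surjective _)

theorem SecOf.subgroup {H : Type*} [Group H] {Q : Subgroup H} {G : Type*} [Group G] (h : SecOf H G) :
    SecOf Q G := by
  obtain ⟨K, f, hf⟩ := h
  have h1 : SecOf Q K := by
    refine ⟨Q.comap f, (f.comp (Q.comap f).subtype).codRestrict Q (fun x => x.2), ?_⟩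
    rintro ⟨y, hy⟩
    obtain ⟨x, rfl⟩ := hf y
    exact ⟨⟨x, hy⟩, rfl⟩
  exact h1.mono K.subtype K.subtype_injective

/-- A surjection from a subgroup onto a `p`-group can be restricted to a `p`-subgroup. -/
theorem SecOf.sylow {p : ℕ} [Fact p.Prime] {Q : Type*} [Group Q] (hQ : IsPGroup p Q)
    {G : Type*} [Group G] [Finite G] (h : SecOf Q G) :
    ∃ (U : Subgroup G) (f : U →* Q), IsPGroup p U ∧ Function.Surjective f := by
  obtain ⟨K, f, hf⟩ := h
  obtain ⟨P⟩ : Nonempty (Sylow p K) := inferInstance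
  let P' : Sylow p Q := P.mapSurjective hf
  have htop : (⊤ : Subgroup Q) = (P' : Subgroup Q) :=
    P'.is_maximal' (IsPGroup.of_equiv hQ Subgroup.topEquiv.symm) le_top
  let U : Subgroup G := (P : Subgroup K).map K.subtype
  let e : (P : Subgroup K) ≃* U := Subgroup.equivMapOfInjective (P : Subgroup K) K.subtype K.subtype_injective
  refine ⟨U, (f.comp (P : Subgroup K).subtype).comp e.symm.toMonoidHom, P.isPGroup'.map _, ?_⟩
  intro y
  have hy : y ∈ (P' : Subgroup Q) := by rw [← htop]; trivial
  obtain ⟨x, hx, rfl⟩ := hy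
  exact ⟨e ⟨x, hx⟩, by simp⟩

theorem SecOf.intoSylow {p : ℕ} [Fact p.Prime] {Q : Type*} [Group Q] {G : Type*} [Group G] [Finite G]
    (U : Subgroup G) (f : U →* Q) (hU : IsPGroup p U) (hf : Function.Surjective f) (T : Sylow p G) :
    ∃ (V : Subgroup G) (f' : V →* Q), V ≤ T ∧ Function.Surjective f' := by
  obtain ⟨T', hT'⟩ := hU.exists_le_sylow
  obtain ⟨g, hg⟩ := MulAction.exists_smul_eq G T' T
  let V := U.map (MulAut.conj g).toMonoidHom
  let e : U ≃* V := Subgroup.equivMapOfInjective U _ (MulAut.conj g).injective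
  refine ⟨V, f.comp e.symm.toMonoidHom, ?_, hf.comp (MulEquiv.surjective _)⟩
  rintro _ ⟨x, hx, rfl⟩
  rw [← hg]
  exact Subgroup.mem_map_of_mem _ (hT' hx)

theorem SecOf.ofLeRange {Q : Type*} [Group Q] {A : Type*} [Group A] {G : Type*} [Group G] (ι : A →* G)
    (hι : Function.Injective ι) (V : Subgroup G) (hV : V ≤ ι.range) (f : V →* Q) (hf : Function.Surjective f) :
    SecOf Q A := by
  have hmap : (V.comap ι).map ι = V := Subgroup.map_comap_eq_self hV
  refine ⟨V.comap ι, (f.comp (MulEquiv.subgroupCongr hmap).toMonoidHom).comp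
    (Subgroup.equivMapOfInjective (V.comap ι) ι hι).toMonoidHom, ?_⟩
  exact (hf.comp (MulEquiv.surjective _)).comp (MulEquiv.surjective _)

/-- Let F be a saturated fusion system over a finite p-group S, H a finite group and Q a p-subgroup of H. If Q is not involved in S (no section of S is isomorphic to Q), then F is H-free: H is involved in no model of the normalizer system of a fully normalized centric subgroup. -/
theorem result {Ω : Type u} [Group Ω] {S : Subgroup Ω} [Finite S] (p : ℕ) [Fact p.Prime] (hS : IsPGroup p S)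
    (F : Cfsg.FusionSystem S) (hF : F.IsSaturated p) (H : Type*) [Group H] [Finite H] (Q : Subgroup H) (hQ : IsPGroup p Q)
    (hfree : ¬ Cfsg.Involves (↥Q) (↥S)) : F.IsSectionFree p H := by
  intro Q' hQ'fn _ N _ L _ ι hmodel hinv
  obtain ⟨hLfin, ⟨hιinj, -⟩, ⟨T, hT⟩, -⟩ := hmodel
  have h1 : SecOf Q L := (secOf_of_involves hinv).subgroup
  obtain ⟨U, f, hU, hf⟩ := SecOf.sylow hQ h1
  obtain ⟨V, f', hVT, hf'⟩ := SecOf.intoSylow U f hU hf T
  have hVr : V ≤ ι.range := by rw [← hT]; exact hVT
  have h2 : SecOf Q (FusionSystem.normalizerIn S Q') := SecOf.ofLeRange ι hιinj V hVr f' hf'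
  have hle : FusionSystem.normalizerIn S Q' ≤ S := inf_le_left
  exact hfree (involves_of_secOf (h2.mono (Subgroup.inclusion hle) (Subgroup.inclusion_injective hle)))

end Cfsg.Agent.S5299
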