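import Cfsg.Statements.S5312
import Cfsg.Agent.Lib.FusionExt.Layer

set_option autoImplicit false
open Cfsg

namespace Cfsg.Agent.S5312

open Cfsg.Agent.Lib.FusionExt.Layer Cfsg.Agent.Lib.FusionExt.CentP Cfsg.Agent.Lib.Fusion.GenFit Cfsg.Agent.Lib.FusionExt.Comp2


/-- Let F be a saturated fusion system over a finite p-group S. Every component C of F is a normal subsystem of every generalized Fitting subsystem of F. -/
theorem result {Ω : Type*} [Group Ω] {S : Subgroup Ω} [Finite S] (p : ℕ) [Fact p.Prime] (hS : IsPGroup p S) (F : Cfsg.FusionSystem S) (hF : F.IsSaturated p)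
    {T : Subgroup Ω} (C : Cfsg.FusionSystem T) (hC : C.IsComponentIn F p)
    {U : Subgroup Ω} (D : Cfsg.FusionSystem U) (hD : D.IsGeneralizedFittingOf F p) : C.IsNormalIn D p := by
  obtain ⟨T', E, hE, hcp⟩ := hD
  have hcore : F.IsNormal F.core := Cfsg.Agent.S5145.result F
  have hDn : D.IsNormalIn F p := cp_normal hS hF (inner_isNormalIn hS hF hcore) hE.1 hcp
  have hUS : U ≤ S := hDn.1.2.2.2.1.1
  haveI : Finite U := Cfsg.Agent.Lib.Fusion.Basic.finite_of_le hUS
  exact normal_right (hS.to_le hUS) hDn.1.1 hcp (comp_normal hS hF hE hC)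

end Cfsg.Agent.S5312
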