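import Cfsg.Statements.S5315
import Cfsg.Agent.S5144
import Cfsg.Agent.Lib.FusionExt.FactorExt
import Cfsg.Agent.Lib.FusionExt.FactorSat
import Cfsg.Agent.Lib.FusionTheory.NormalCrit
import Cfsg.Agent.Lib.FusionTheory.Hyperfocal

set_option autoImplicit false
open Cfsg

namespace Cfsg.Agent.S5315

open Cfsg.FusionSystem Cfsg.Agent.Lib.Fusion.Basic Cfsg.Agent.Lib.Fusion.Saturation Cfsg.Agent.Lib.Fusion.Saturation2
open Cfsg.Agent.Lib.FusionExt.Factor Cfsg.Agent.Lib.FusionExt.FactorExt Cfsg.Agent.Lib.FusionTheory.Hyperfocal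
open Cfsg.Agent.Lib.FusionTheory.Chain Cfsg.Agent.Lib.FusionTheory.NormalCrit

theorem comm_aux {G : Type*} [Group G] (a b z₁ z₂ : G) (h1 : z₁ * b = b * z₁) (h2 : z₁ * z₂ = z₂ * z₁)
    (h3 : z₂ * a = a * z₂) :
    (a * z₁) * (b * z₂) * (a * z₁)⁻¹ * (b * z₂)⁻¹ = a * b * a⁻¹ * b⁻¹ := by
  have e1 : a * z₁ * (b * z₂) = a * b * (z₁ * z₂) := by
    calc a * z₁ * (b * z₂) = a * (z₁ * b) * z₂ := by group
      _ = a * b * (z₁ * z₂) := by rw [h1]; group
  have e2 : b * z₂ * (a * z₁) = b * a * (z₂ * z₁) := by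
    calc b * z₂ * (a * z₁) = b * (z₂ * a) * z₁ := by group
      _ = b * a * (z₂ * z₁) := by rw [h3]; group
  calc (a * z₁) * (b * z₂) * (a * z₁)⁻¹ * (b * z₂)⁻¹
      = (a * z₁ * (b * z₂)) * (b * z₂ * (a * z₁))⁻¹ := by group
    _ = (a * b * (z₁ * z₂)) * (b * a * (z₂ * z₁))⁻¹ := by rw [e1, e2]
    _ = a * b * a⁻¹ * b⁻¹ := by rw [h2]; group

theorem comm_of_comm_eq {G : Type*} [Group G] (a u v : G)
    (h : a * v * a⁻¹ * v⁻¹ = a * u * a⁻¹ * u⁻¹) : u⁻¹ * v ∈ Subgroup.centralizer ({a} : Set G) := by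
  have e : v * a⁻¹ * v⁻¹ = u * a⁻¹ * u⁻¹ := by
    have := mul_left_cancel (a := a) (b := v * a⁻¹ * v⁻¹) (c := u * a⁻¹ * u⁻¹) (by
      calc a * (v * a⁻¹ * v⁻¹) = a * v * a⁻¹ * v⁻¹ := by group
        _ = a * u * a⁻¹ * u⁻¹ := h
        _ = a * (u * a⁻¹ * u⁻¹) := by group)
    exact this
  have e2 : (u⁻¹ * v) * a⁻¹ * (u⁻¹ * v)⁻¹ = a⁻¹ := by
    calc (u⁻¹ * v) * a⁻¹ * (u⁻¹ * v)⁻¹ = u⁻¹ * (v * a⁻¹ * v⁻¹) * u := by group
      _ = u⁻¹ * (u * a⁻¹ * u⁻¹) * u := by rw [e]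
      _ = a⁻¹ := by group
  rw [Subgroup.mem_centralizer_iff]
  intro b hb
  have hb' : b = a := hb
  rw [hb']
  have e3 : (u⁻¹ * v) * a⁻¹ = a⁻¹ * (u⁻¹ * v) := by
    calc (u⁻¹ * v) * a⁻¹ = (u⁻¹ * v) * a⁻¹ * (u⁻¹ * v)⁻¹ * (u⁻¹ * v) := by group
      _ = a⁻¹ * (u⁻¹ * v) := by rw [e2]
  calc a * (u⁻¹ * v) = a * ((u⁻¹ * v) * a⁻¹) * a := by group
    _ = a * (a⁻¹ * (u⁻¹ * v)) * a := by rw [e3]
    _ = (u⁻¹ * v) * a := by group

/-- An analogue of Grün's lemma for fusion systems. Let F be a saturated fusion system over a finite p-group S that is perfect in the sense that its hyperfocal subgroup is all of S (F coincides with its p-residual subsystem). Then the second centre of F equals its centre: every fusion system over S/(Z(F) ∩ S) that is the factor system of F modulo its centre Z(F), read through the quotient map, has trivial centre. -/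
theorem result {Ω : Type*} [Group Ω] {S : Subgroup Ω} [Finite S] (p : ℕ) [Fact p.Prime] (hS : IsPGroup p S) (F : Cfsg.FusionSystem S) (hF : F.IsSaturated p)
    (hperf : F.hyperfocalSubgroup p = S)
    (E : Cfsg.FusionSystem (⊤ : Subgroup (↥S ⧸ (F.center).subgroupOf S)))
    (hE : F.IsFactorSystem F.center (QuotientGroup.mk' ((F.center).subgroupOf S)) E) : E.center = ⊥ := by
  have hZc : F.IsCentral F.center := Cfsg.Agent.S5144.result F
  have hZS := hZc.1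
  have hZfix : ∀ (R : Subgroup Ω) (φ : R →* Ω), φ ∈ F.Hom R → ∀ x : R, (x : Ω) ∈ F.center → φ x = x := by
    intro R φ hφ x hx
    obtain ⟨ψ, -, h1, h2⟩ := hZc.2 R φ hφ
    have h3 := h1 x
    have h4 := h2 ⟨x, hx⟩
    have h5 : Subgroup.inclusion (le_sup_left : R ≤ R ⊔ F.center) x =
        Subgroup.inclusion (le_sup_right : F.center ≤ R ⊔ F.center) ⟨x, hx⟩ := rfl
    rw [h5, h4] at h3
    exact h3.symm
  have hZsc : F.StronglyClosed F.center := by
    refine ⟨hZS, fun R hR φ hφ x => ?_⟩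
    rw [hZfix R φ hφ x (hR x.2)]
    exact hR x.2
  have hZC : ∀ z ∈ F.center, ∀ s ∈ S, s * z = z * s := by
    intro z hz s hs
    exact Subgroup.mem_centralizer_iff.1 (center_le_centralizer F hz) s hs
  have hθ := hE.2.1
  set θ := QuotientGroup.mk' ((F.center).subgroupOf S) with hθdef
  have hsurj := isSurjectiveMorphism_of_isFactorSystem F θ hS hF hZsc hE
  have hSfin : Finite (⊤ : Subgroup (S ⧸ (F.center).subgroupOf S)) := inferInstance
  have hQ' : E.IsCentral E.center := Cfsg.Agent.S5144.result E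
  have hQc : ∀ q ∈ E.center, ∀ t : S ⧸ (F.center).subgroupOf S, t * q = q * t := by
    intro q hq t
    exact Subgroup.mem_centralizer_iff.1 (center_le_centralizer E hq) t trivial
  -- the preimage of the centre of `E`
  let A : Subgroup Ω := preimageAlong θ E.center
  have hAS : A ≤ S := preimageAlong_le θ _
  have hAθ : ∀ (a : Ω) (ha : a ∈ A), θ ⟨a, hAS ha⟩ ∈ E.center := by
    intro a ha
    obtain ⟨h1, h2⟩ := mem_preimageAlong.1 ha
    exact h2
  -- the extension step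
  have key : ∀ (R : Subgroup Ω) (φ : R →* Ω), φ ∈ F.Hom R → ∃ (D : Subgroup Ω) (χ : D →* Ω), χ ∈ F.Hom D ∧
      ∃ (hRD : R ≤ D) (hAD : A ≤ D), (∀ y : R, (χ ⟨y, hRD y.2⟩)⁻¹ * φ y ∈ F.center) ∧
        ∀ (a : Ω) (ha : a ∈ A), a⁻¹ * χ ⟨a, hAD ha⟩ ∈ F.center := by
    intro R φ hφ
    have hRS : R ≤ S := (F.le_of_mem hφ).1
    obtain ⟨φ', hφ', hP0, hφS, hP1, hφ'θ⟩ := hsurj.1.2 R φ hφ
    obtain ⟨χ', hχ', h1, h2⟩ := hQ'.2 _ φ' hφ'
    obtain ⟨χ, hχ, hD0, hχS, hP2, hχθ⟩ := hsurj.2.2 _ le_top χ' hχ'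
    refine ⟨_, χ, hχ, ?_, ?_, ?_, ?_⟩
    · intro y hy
      exact mem_preimageAlong.2 ⟨hRS hy, Subgroup.mem_sup_left ⟨⟨y, hRS hy⟩, hy, rfl⟩⟩
    · intro a ha
      exact mem_preimageAlong.2 ⟨hAS ha, Subgroup.mem_sup_right (hAθ a ha)⟩
    · intro y
      rw [← theta_eq_iff θ hθ ⟨_, hχS _⟩ ⟨_, val_mem F hφ y⟩]
      exact (hχθ _).symm.trans ((h1 ⟨_, hP1 y⟩).trans (hφ'θ y))
    · intro a ha
      rw [← theta_eq_iff θ hθ ⟨a, hAS ha⟩ ⟨_, hχS _⟩]
      exact (h2 ⟨_, hAθ a ha⟩).symm.trans (hχθ ⟨a, mem_preimageAlong.2 ⟨hAS ha, Subgroup.mem_sup_right (hAθ a ha)⟩⟩)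
  -- maps fix `A` modulo the centre
  have hmod : ∀ (R : Subgroup Ω) (φ : R →* Ω), φ ∈ F.Hom R → ∀ (a : Ω) (ha : a ∈ A) (har : a ∈ R),
      a⁻¹ * φ ⟨a, har⟩ ∈ F.center := by
    intro R φ hφ a ha har
    obtain ⟨D, χ, hχ, hRD, hAD, h1, h2⟩ := key R φ hφ
    have h3 := h1 ⟨a, har⟩
    have h4 := h2 a ha
    have h5 := Subgroup.mul_mem _ h4 h3
    have e : a⁻¹ * χ ⟨a, hAD ha⟩ * ((χ ⟨a, hRD har⟩)⁻¹ * φ ⟨a, har⟩) = a⁻¹ * φ ⟨a, har⟩ := by
      group
    rw [e] at h5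
    exact h5
  -- the commutator identity
  have hcomm : ∀ (a : Ω), a ∈ A → ∀ (R : Subgroup Ω) (φ : R →* Ω), φ ∈ F.Hom R → ∀ y : R,
      a * φ y * a⁻¹ * (φ y)⁻¹ = a * y * a⁻¹ * (y : Ω)⁻¹ := by
    intro a ha R φ hφ y
    have hRS : R ≤ S := (F.le_of_mem hφ).1
    obtain ⟨D, χ, hχ, hRD, hAD, h1, h2⟩ := key R φ hφ
    -- the commutator lies in the centre
    have hw : a * y * a⁻¹ * (y : Ω)⁻¹ ∈ F.center := by
      have h3 : θ (⟨a, hAS ha⟩ * ⟨y, hRS y.2⟩ * ⟨a, hAS ha⟩⁻¹ * ⟨y, hRS y.2⟩⁻¹) = 1 := by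
        rw [map_mul, map_mul, map_mul, map_inv, map_inv, ← hQc _ (hAθ a ha) (θ ⟨y, hRS y.2⟩)]
        group
      exact (hθ _).1 h3
    let X : D := ⟨a, hAD ha⟩
    let Y : D := ⟨y, hRD y.2⟩
    have h3 := hZfix D χ hχ (X * Y * X⁻¹ * Y⁻¹) hw
    rw [map_mul, map_mul, map_mul, map_inv, map_inv] at h3
    have h4 := h2 a ha
    have h5 := h1 y
    have hyS := val_mem F hφ y
    have h6 : χ X = a * (a⁻¹ * χ X) := by group
    have h7 : χ Y = φ y * ((φ y)⁻¹ * χ Y) := by group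
    set z₁ := a⁻¹ * χ X with hz₁
    have hz₂ : (φ y)⁻¹ * χ Y ∈ F.center := by
      have := Subgroup.inv_mem _ h5
      rw [mul_inv_rev, inv_inv] at this
      exact this
    set z₂ := (φ y)⁻¹ * χ Y with hz₂def
    have h8 := comm_aux a (φ y) z₁ z₂ (hZC _ h4 _ hyS).symm
      (hZC _ h4 _ (hZS hz₂)).symm (hZC _ hz₂ _ (hAS ha)).symm
    rw [← h6, ← h7] at h8
    rw [← h8]
    exact h3
  -- `A` centralizes `S`
  have hAC : ∀ a ∈ A, ∀ s ∈ S, a * s = s * a := by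
    intro a ha s hs
    have hle : F.hyperfocalSubgroup p ≤ Subgroup.centralizer ({a} : Set Ω) := by
      apply (Subgroup.closure_le _).2
      rintro _ ⟨P, α, x, hPS, -, rfl⟩
      have := hcomm a ha P (autHom (α : MulAut P)) (autHom_mem F hPS α.2) x
      exact comm_of_comm_eq a _ _ this
    rw [hperf] at hle
    exact Subgroup.mem_centralizer_iff.1 (hle hs) a rfl
  -- p'-automorphisms of `S` fix `A`
  have hfn : F.IsFullyNormalized S := Cfsg.Agent.Lib.Fusion.Saturation2.isFullyNormalized_top F hS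
  have hres : ∀ a (ha : a ∈ A), ∀ τ ∈ pResidual p (F.autGroup S),
      ((τ : F.autGroup S) : MulAut S) ⟨a, hAS ha⟩ = ⟨a, hAS ha⟩ := by
    intro a ha τ hτ
    induction hτ using Subgroup.closure_induction with
    | one => rfl
    | mul x y _ _ hx hy =>
      show ((x : MulAut S) * (y : MulAut S)) ⟨a, hAS ha⟩ = ⟨a, hAS ha⟩
      rw [MulAut.mul_apply, hy, hx]
    | inv x _ hx =>
      show ((x : MulAut S))⁻¹ ⟨a, hAS ha⟩ = ⟨a, hAS ha⟩
      have h := MulAut.inv_apply_self S (x : MulAut S) ⟨a, hAS ha⟩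
      rw [hx] at h
      exact h
    | mem τ hτ =>
      have hcop : (orderOf τ).Coprime p := hτ
      have hz : a⁻¹ * (((τ : MulAut S) ⟨a, hAS ha⟩ : S) : Ω) ∈ F.center := by
        have := hmod S (autHom (τ : MulAut S)) (autHom_mem F le_rfl τ.2) a ha (hAS ha)
        exact this
      let z : S := ⟨a, hAS ha⟩⁻¹ * (τ : MulAut S) ⟨a, hAS ha⟩
      have hzc : (z : Ω) ∈ F.center := hz
      have hτz : (τ : MulAut S) z = z := by
        have := hZfix S (autHom (τ : MulAut S)) (autHom_mem F le_rfl τ.2) z hzc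
        exact Subtype.ext this
      have hpow : ∀ n : ℕ, ((τ : MulAut S) ^ n) ⟨a, hAS ha⟩ = ⟨a, hAS ha⟩ * z ^ n := by
        intro n
        induction n with
        | zero => simp
        | succ n ih =>
          rw [pow_succ', MulAut.mul_apply, ih, map_mul, map_pow, hτz, pow_succ']
          simp [z, mul_assoc]
      have h1 := hpow (orderOf τ)
      have h2 : ((τ : MulAut S) ^ orderOf τ) = 1 := by
        have : (τ : F.autGroup S) ^ orderOf τ = 1 := pow_orderOf_eq_one τ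
        exact congrArg Subtype.val this
      rw [h2, MulAut.one_apply, left_eq_mul] at h1
      have h3 := eq_one_of_pow_coprime hS hcop h1
      have h4 : ⟨a, hAS ha⟩⁻¹ * (τ : MulAut S) ⟨a, hAS ha⟩ = 1 := h3
      exact (inv_mul_eq_one.1 h4).symm
  have hAut : ∀ a (ha : a ∈ A), ∀ α ∈ F.autGroup S, α ⟨a, hAS ha⟩ = ⟨a, hAS ha⟩ := by
    intro a ha α hα
    obtain ⟨s, hs, τ, hτ, h⟩ := Cfsg.Agent.Lib.FusionTheory.Hyperfocal.exists_factor F hS hF hfn ⟨α, hα⟩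
    apply Subtype.ext
    have h1 := h ⟨a, hAS ha⟩
    rw [hres a ha τ hτ] at h1
    rw [show ((α ⟨a, hAS ha⟩ : S) : Ω) = _ from h1]
    show s * a * s⁻¹ = a
    rw [← hAC a ha s hs, mul_inv_cancel_right]
  -- all maps fix `A`
  have hfix : ∀ a (ha : a ∈ A), ∀ (R : Subgroup Ω) (φ : R →* Ω), φ ∈ F.Hom R → ∀ har : a ∈ R, φ ⟨a, har⟩ = a := by
    intro a ha R φ hφ har
    have hRS : R ≤ S := (F.le_of_mem hφ).1
    have hb := hmod R φ hφ a ha har
    have hbc : ∀ s ∈ S, φ ⟨a, har⟩ * s = s * φ ⟨a, har⟩ := by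
      intro s hs
      have e : φ ⟨a, har⟩ = a * (a⁻¹ * φ ⟨a, har⟩) := by group
      rw [e, mul_assoc, ← hZC _ hb s hs, ← mul_assoc, hAC a ha s hs, mul_assoc]
    have hle : Subgroup.zpowers a ≤ R := (Subgroup.zpowers_le).2 har
    let φ₀ : Subgroup.zpowers a →* Ω := φ.comp (Subgroup.inclusion hle)
    have hφ₀ : φ₀ ∈ F.Hom (Subgroup.zpowers a) := restrict_mem F hle hφ
    have hrc : ∀ y ∈ φ₀.range, ∀ s ∈ S, s * y = y * s := by
      rintro _ ⟨⟨t, ht⟩, rfl⟩ s hs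
      obtain ⟨k, rfl⟩ := Subgroup.mem_zpowers_iff.1 ht
      have e : φ₀ ⟨a ^ k, ht⟩ = (φ₀ ⟨a, Subgroup.mem_zpowers a⟩) ^ k := by
        rw [← map_zpow]
        rfl
      rw [e]
      have hc : Commute (φ₀ ⟨a, Subgroup.mem_zpowers a⟩) s := hbc s hs
      exact ((hc.zpow_left k).eq).symm
    have hazc : ∀ y ∈ Subgroup.zpowers a, ∀ s ∈ S, s * y = y * s := by
      intro y hy s hs
      obtain ⟨k, rfl⟩ := Subgroup.mem_zpowers_iff.1 hy
      have hc : Commute a s := hAC a ha s hs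
      exact ((hc.zpow_left k).eq).symm
    have hr := range_le F hφ₀
    have hkey : ∀ Q : Subgroup Ω, Q ≤ S → (∀ y ∈ Q, ∀ s ∈ S, s * y = y * s) → centralizerIn S Q = S := by
      intro Q _ hQ
      apply le_antisymm (centralizerIn_le_left S Q)
      intro s hs
      exact ⟨hs, Subgroup.mem_centralizer_iff.2 fun y hy => (hQ y hy s hs).symm⟩
    have hfc : F.IsFullyCentralized φ₀.range := by
      refine ⟨hr, fun Q hQ => ?_⟩
      rw [hkey _ hr hrc]
      exact card_le_of_le_finite (centralizerIn_le_left S Q)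
    have hrec : F.IsReceptive φ₀.range := isReceptive_of_isFullyCentralized F hS hF hfc
    have hazS : Subgroup.zpowers a ≤ S := hle.trans hRS
    have hle2 : S ≤ extender S (Subgroup.zpowers a) φ₀ := by
      have := centralizerIn_le_extender (S := S) φ₀
      rwa [hkey _ hazS hazc] at this
    obtain ⟨ψ, hψ, hext⟩ := IsReceptive.exists_extension F hrec hφ₀ rfl hle2 hazS
    have hrange : ψ.range = S := by
      apply Subgroup.eq_of_le_of_card_ge (range_le F hψ)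
      rw [card_range F hψ]
    obtain ⟨α, hα, hαψ⟩ := exists_aut_of_range F hψ hrange
    have h1 := hext ⟨a, Subgroup.mem_zpowers a⟩
    have h2 := hAut a ha α hα
    have h3 := hαψ ⟨a, hAS ha⟩
    rw [h2] at h3
    exact (h1.symm.trans h3.symm)
  -- `A` is normal, hence central
  have hAsc : F.StronglyClosed A := by
    refine ⟨hAS, fun R hR φ hφ x => ?_⟩
    rw [hfix x (hR x.2) R φ hφ x.2]
    exact hR x.2
  have hlcs : ∀ n, F.StronglyClosed (A.lowerCentralSeries n) := by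
    intro n
    cases n with
    | zero => exact hAsc
    | succ n =>
      have hbot : A.lowerCentralSeries (n + 1) = ⊥ := by
        rw [eq_bot_iff]
        refine (Subgroup.lowerCentralSeries_antitone A (Nat.le_add_left 1 n)).trans ?_
        show ⁅A.lowerCentralSeries 0, A⁆ ≤ ⊥
        rw [Subgroup.commutator_le]
        intro g₁ h₁ g₂ h₂
        have hc := hAC g₁ h₁ g₂ (hAS h₂)
        rw [commutatorElement_def, hc]
        simp
      rw [hbot]
      refine ⟨bot_le, fun R hR φ hφ x => ?_⟩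
      have h1 : x = 1 := Subtype.ext (Subgroup.mem_bot.1 (hR x.2))
      rw [h1, map_one]
      exact Subgroup.one_mem _
  have hAn : F.IsNormal A := isNormal_of_lcs F hS hF hlcs
  have hAc : F.IsCentral A := by
    refine ⟨hAS, fun P φ hφ => ?_⟩
    obtain ⟨ψ, hψ, h1, -⟩ := hAn.2 P φ hφ
    exact ⟨ψ, hψ, h1, fun x => hfix x x.2 _ ψ hψ _⟩
  have hAZ : A ≤ F.center := le_sSup hAc
  rw [eq_bot_iff]
  intro q hq
  obtain ⟨s, rfl⟩ := QuotientGroup.mk'_surjective ((F.center).subgroupOf S) q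
  have h1 : (s : Ω) ∈ A := mem_preimageAlong.2 ⟨s.2, hq⟩
  exact Subgroup.mem_bot.2 ((hθ s).2 (hAZ h1))

end Cfsg.Agent.S5315
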