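import Cfsg.Statements.S5424
import Cfsg.Agent.S1339
import Cfsg.Agent.S5422
import Cfsg.Agent.Lib.ThreeT.SLCore
import Cfsg.Agent.Lib.PGroups.Special

set_option autoImplicit false
open Cfsg

namespace Cfsg.Agent.S5424

open Matrix Subgroup Cfsg.Agent.S1339 Cfsg.Agent.Lib.PGroups.Special Cfsg.Agent.Lib.ThreeT.SLCore Cfsg.Agent.Lib.Core.Basic

variable {n : ℕ}

abbrev MM (n : ℕ) := Matrix (Fin (n + 2)) (Fin (n + 2)) (ZMod 2)
abbrev GG (n : ℕ) := Matrix.SpecialLinearGroup (Fin (n + 2)) (ZMod 2)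
abbrev SS (n : ℕ) := Matrix.SpecialLinearGroup (Fin n) (ZMod 2)
abbrev Cz {n : ℕ} (z : GG n) := Subgroup.centralizer ({z} : Set (GG n))

lemma sum3 (f : Fin (n + 2) → ZMod 2) :
    ∑ c, f c = f 0 + f 1 + ∑ k : Fin n, f k.succ.succ := by
  rw [Fin.sum_univ_succ, Fin.sum_univ_succ (fun i : Fin (n + 1) => f i.succ)]
  exact (add_assoc _ _ _).symm

lemma idx3 (a : Fin (n + 2)) : a = 0 ∨ a = 1 ∨ ∃ k : Fin n, a = k.succ.succ := by
  induction a using Fin.cases with
  | zero => exact Or.inl rfl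
  | succ a =>
    induction a using Fin.cases with
    | zero => exact Or.inr (Or.inl rfl)
    | succ a => exact Or.inr (Or.inr ⟨a, rfl⟩)

lemma ss_ne_zero (k : Fin n) : k.succ.succ ≠ (0 : Fin (n + 2)) := Fin.succ_ne_zero _

lemma ss_ne_one (k : Fin n) : k.succ.succ ≠ (1 : Fin (n + 2)) := by
  intro h
  have := congrArg Fin.val h
  simp at this

lemma z_ne_o : (0 : Fin (n + 2)) ≠ 1 := by
  intro h
  have := congrArg Fin.val h
  simp at this

lemma one_ss_ss (k l : Fin n) : (1 : MM n) k.succ.succ l.succ.succ = (1 : Matrix (Fin n) (Fin n) (ZMod 2)) k l := by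
  by_cases h : k = l
  · subst h; simp
  · rw [one_apply_ne h, one_apply_ne]
    intro h'
    exact h (Fin.succ_injective _ (Fin.succ_injective _ h'))

lemma one_ss_0 (k : Fin n) : (1 : MM n) k.succ.succ 0 = 0 := one_apply_ne (ss_ne_zero k)
lemma one_ss_1 (k : Fin n) : (1 : MM n) k.succ.succ 1 = 0 := one_apply_ne (ss_ne_one k)
lemma one_0_ss (k : Fin n) : (1 : MM n) 0 k.succ.succ = 0 := one_apply_ne (ss_ne_zero k).symm
lemma one_1_ss (k : Fin n) : (1 : MM n) 1 k.succ.succ = 0 := one_apply_ne (ss_ne_one k).symm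
lemma one_0_1 : (1 : MM n) 0 1 = 0 := one_apply_ne z_ne_o
lemma one_1_0 : (1 : MM n) 1 0 = 0 := one_apply_ne z_ne_o.symm
lemma one_0_0 : (1 : MM n) 0 0 = 1 := one_apply_eq _
lemma one_1_1 : (1 : MM n) 1 1 = 1 := one_apply_eq _

/-- The middle block. -/
def mid (x : MM n) : Matrix (Fin n) (Fin n) (ZMod 2) := fun a b => x a.succ.succ b.succ.succ

lemma mid_apply (x : MM n) (a b : Fin n) : mid x a b = x a.succ.succ b.succ.succ := rfl

theorem mid_mul {x y : MM n} (hx : IsC 0 1 x) (hy : IsC 0 1 y) : mid (x * y) = mid x * mid y := by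
  ext a b
  rw [mid_apply, Matrix.mul_apply, sum3, hx.1 a.succ.succ, hy.2 b.succ.succ, one_ss_0, one_1_ss,
    Matrix.mul_apply]
  simp [mid_apply]

lemma mid_one : mid (1 : MM n) = 1 := by
  ext a b
  rw [mid_apply, one_ss_ss]

lemma det_eq_one_of_mul_eq_one {m : ℕ} {A B : Matrix (Fin m) (Fin m) (ZMod 2)} (h : A * B = 1) :
    A.det = 1 := by
  have h1 : A.det * B.det = 1 := by rw [← Matrix.det_mul, h, Matrix.det_one]
  refine zmod2_eq_one _ fun h2 => ?_
  rw [h2, zero_mul] at h1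
  exact zero_ne_one h1

section Cen

variable (z : GG n) (hz : (z : MM n) = transvection 0 1 1)
include hz

lemma isC_mem {g : GG n} (hg : g ∈ Cz z) : IsC 0 1 (g : MM n) :=
  isC_of_mem (ZMod.card 2) z_ne_o hz hg

lemma mem_of_isC' {g : GG n} (hg : IsC 0 1 (g : MM n)) : g ∈ Cz z :=
  mem_of_isC hz hg

/-- The block map. -/
def piHom : ↥(Cz z) →* SS n :=
  MonoidHom.mk' (fun x => ⟨mid ((x : GG n) : MM n), by
      have h1 : ((x : GG n) : MM n) * ((x⁻¹ : ↥(Cz z)) : GG n) = 1 :=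
        congrArg (fun y : ↥(Cz z) => ((y : GG n) : MM n)) (mul_inv_cancel x)
      have h2 := mid_mul (isC_mem z hz x.2) (isC_mem z hz (x⁻¹).2)
      rw [h1, mid_one] at h2
      exact det_eq_one_of_mul_eq_one h2.symm⟩)
    (fun x y => by
      apply Subtype.ext
      exact mid_mul (isC_mem z hz x.2) (isC_mem z hz y.2))

lemma piHom_apply (x : ↥(Cz z)) :
    ((piHom z hz x : SS n) : Matrix (Fin n) (Fin n) (ZMod 2)) = mid ((x : GG n) : MM n) := rfl

end Cen


/-- The block embedding. -/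
def sM (A : Matrix (Fin n) (Fin n) (ZMod 2)) : MM n := fun a b =>
  Fin.cases ((1 : MM n) 0 b)
    (fun a' => Fin.cases ((1 : MM n) 1 b)
      (fun a'' => Fin.cases (0 : ZMod 2)
        (fun b' => Fin.cases (0 : ZMod 2) (fun b'' => A a'' b'') b') b) a') a

section sM

variable (A B : Matrix (Fin n) (Fin n) (ZMod 2)) (b : Fin (n + 2)) (k l : Fin n)

lemma sM_0 : sM A 0 b = (1 : MM n) 0 b := rfl
lemma sM_1 : sM A 1 b = (1 : MM n) 1 b := rfl
lemma sM_ss_0 : sM A k.succ.succ 0 = 0 := rfl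
lemma sM_ss_1 : sM A k.succ.succ 1 = 0 := rfl
lemma sM_ss_ss : sM A k.succ.succ l.succ.succ = A k l := rfl

lemma sM_mul : sM A * sM B = sM (A * B) := by
  ext a b
  rw [Matrix.mul_apply, sum3]
  rcases idx3 a with rfl | rfl | ⟨k, rfl⟩
  · simp [sM_0, one_0_0, one_0_1, one_0_ss]
  · simp [sM_1, one_1_0, one_1_1, one_1_ss]
  · rcases idx3 b with rfl | rfl | ⟨l, rfl⟩
    · simp [sM_ss_0, sM_ss_1, sM_0, sM_1, one_0_0, one_1_0, sM_ss_ss]
    · simp [sM_ss_0, sM_ss_1, sM_0, sM_1, one_0_1, one_1_1, sM_ss_ss]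
    · simp [sM_ss_0, sM_ss_1, sM_0, sM_1, one_0_ss, one_1_ss, sM_ss_ss, Matrix.mul_apply]

lemma sM_one : sM (1 : Matrix (Fin n) (Fin n) (ZMod 2)) = 1 := by
  ext a b
  rcases idx3 a with rfl | rfl | ⟨k, rfl⟩
  · rw [sM_0]
  · rw [sM_1]
  · rcases idx3 b with rfl | rfl | ⟨l, rfl⟩
    · rw [sM_ss_0, one_ss_0]
    · rw [sM_ss_1, one_ss_1]
    · rw [sM_ss_ss, one_ss_ss]

lemma isC_sM : IsC 0 1 (sM A) := by
  refine ⟨fun a => ?_, fun b => sM_1 A b⟩
  rcases idx3 a with rfl | rfl | ⟨k, rfl⟩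
  · rw [sM_0]
  · rw [sM_1]
  · rw [sM_ss_0, one_ss_0]

lemma mid_sM : mid (sM A) = A := rfl

end sM

/-- The block embedding as a homomorphism. -/
def sHom : SS n →* GG n :=
  MonoidHom.mk' (fun A => ⟨sM (A : Matrix (Fin n) (Fin n) (ZMod 2)), by
      have h1 : (A : Matrix (Fin n) (Fin n) (ZMod 2)) * ((A⁻¹ : SS n) : Matrix (Fin n) (Fin n) (ZMod 2)) = 1 :=
        congrArg (fun y : SS n => (y : Matrix (Fin n) (Fin n) (ZMod 2))) (mul_inv_cancel A)
      have h2 := sM_mul (A : Matrix (Fin n) (Fin n) (ZMod 2)) ((A⁻¹ : SS n) : Matrix (Fin n) (Fin n) (ZMod 2))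
      rw [h1, sM_one] at h2
      exact det_eq_one_of_mul_eq_one h2⟩)
    (fun A B => by
      apply Subtype.ext
      exact (sM_mul _ _).symm)

lemma sHom_coe (A : SS n) : ((sHom A : GG n) : MM n) = sM (A : Matrix (Fin n) (Fin n) (ZMod 2)) := rfl

lemma sHom_injective : Function.Injective (sHom : SS n →* GG n) := by
  intro A B h
  apply Subtype.ext
  have h1 := congrArg (fun y : GG n => mid (y : MM n)) h
  exact h1

lemma isR_of_mid_one {x : MM n} (hx : IsC 0 1 x) (hm : mid x = 1) : IsR 0 1 x := by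
  intro a ha b hb
  rcases idx3 a with rfl | rfl | ⟨k, rfl⟩
  · exact absurd rfl ha
  · exact hx.2 b
  · rcases idx3 b with rfl | rfl | ⟨l, rfl⟩
    · exact hx.1 _
    · exact absurd rfl hb
    · rw [one_ss_ss, ← hm]
      rfl

lemma mid_one_of_isR {x : MM n} (hx : IsR 0 1 x) : mid x = 1 := by
  ext k l
  rw [mid_apply, hx _ (ss_ne_zero k) _ (ss_ne_one l), one_ss_ss]

section Core

variable (hn : 2 ≤ n) (z : GG n) (hz : (z : MM n) = transvection 0 1 1)
include hz

/-- The corestricted block embedding. -/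
def sHom' : SS n →* ↥(Cz z) :=
  (sHom : SS n →* GG n).codRestrict (Cz z) (fun A => mem_of_isC' z hz (isC_sM _))

lemma piHom_sHom' (A : SS n) : piHom z hz (sHom' z hz A) = A := by
  apply Subtype.ext
  rfl

lemma piHom_surjective : Function.Surjective (piHom z hz) :=
  fun A => ⟨sHom' z hz A, piHom_sHom' z hz A⟩

include hn

lemma pCore_map_eq_bot : (pCore 2 ↥(Cz z)).map (piHom z hz) = ⊥ := by
  have h1 := map_pCore_le_of_surjective (p := 2) (piHom z hz) (piHom_surjective z hz)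
  have h2 : pCore 2 (SS n) = ⊥ :=
    eq_bot_of_normal_of_isPGroup hn _ inferInstance pCore_isPGroup
  rw [h2] at h1
  exact le_bot_iff.1 h1

lemma mem_pCore_iff (x : ↥(Cz z)) : x ∈ pCore 2 ↥(Cz z) ↔ IsR 0 1 ((x : GG n) : MM n) := by
  constructor
  · intro hx
    apply isR_of_mid_one (isC_mem z hz x.2)
    have h1 : piHom z hz x ∈ (pCore 2 ↥(Cz z)).map (piHom z hz) := ⟨x, hx, rfl⟩
    rw [pCore_map_eq_bot hn z hz, Subgroup.mem_bot] at h1
    have h2 := congrArg (fun y : SS n => (y : Matrix (Fin n) (Fin n) (ZMod 2))) h1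
    exact h2
  · intro hx
    obtain ⟨R, hRn, hR2, hR⟩ := exists_radical (ZMod.card 2) z_ne_o hz
    exact le_pCore hRn hR2 ((hR x).2 hx)

end Core

/-! ### The radical in entries -/

/-- Membership in `O₂(C)`, in entries. -/
structure IsQ (x : MM n) : Prop where
  c : IsC 0 1 x
  r : IsR 0 1 x

section Q

variable {x y : MM n} (k l : Fin n)

lemma IsQ.e00 (hx : IsQ x) : x 0 0 = 1 := by rw [hx.c.1 0, one_0_0]
lemma IsQ.e11 (hx : IsQ x) : x 1 1 = 1 := by rw [hx.c.2 1, one_1_1]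
lemma IsQ.e10 (hx : IsQ x) : x 1 0 = 0 := by rw [hx.c.2 0, one_1_0]
lemma IsQ.e1s (hx : IsQ x) : x 1 k.succ.succ = 0 := by rw [hx.c.2 _, one_1_ss]
lemma IsQ.es0 (hx : IsQ x) : x k.succ.succ 0 = 0 := by rw [hx.c.1 _, one_ss_0]
lemma IsQ.ess (hx : IsQ x) : x k.succ.succ l.succ.succ = (1 : Matrix (Fin n) (Fin n) (ZMod 2)) k l := by
  rw [hx.r _ (ss_ne_zero k) _ (ss_ne_one l), one_ss_ss]

lemma IsQ.mul_01 (hx : IsQ x) (hy : IsQ y) :
    (x * y) 0 1 = x 0 1 + y 0 1 + ∑ k : Fin n, x 0 k.succ.succ * y k.succ.succ 1 := by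
  rw [Matrix.mul_apply, sum3, hx.e00, hy.e11]
  ring

lemma IsQ.mul_0s (hx : IsQ x) (hy : IsQ y) :
    (x * y) 0 l.succ.succ = x 0 l.succ.succ + y 0 l.succ.succ := by
  rw [Matrix.mul_apply, sum3, hx.e00, hy.e1s]
  simp only [hy.ess, one_mul, mul_zero, add_zero]
  simp [Matrix.one_apply, add_comm]

lemma IsQ.mul_s1 (hx : IsQ x) (hy : IsQ y) :
    (x * y) k.succ.succ 1 = x k.succ.succ 1 + y k.succ.succ 1 := by
  rw [Matrix.mul_apply, sum3, hx.es0, hy.e11]
  simp only [hx.ess, mul_one, zero_mul, zero_add]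
  simp [Matrix.one_apply]

lemma IsQ.mul (hx : IsQ x) (hy : IsQ y) : IsQ (x * y) :=
  ⟨hx.c.mul hy.c, fun _ ha _ hb => by
    rw [IsR.mul_apply hy.c hx.r ha hb]
    exact hy.r _ ha _ hb⟩

lemma IsQ.ext (hx : IsQ x) (hy : IsQ y) (h01 : x 0 1 = y 0 1)
    (h0 : ∀ l : Fin n, x 0 l.succ.succ = y 0 l.succ.succ)
    (h1 : ∀ k : Fin n, x k.succ.succ 1 = y k.succ.succ 1) : x = y := by
  ext a b
  by_cases ha1 : a = 1
  · rw [ha1, hx.c.2, hy.c.2]
  by_cases hb0 : b = 0
  · rw [hb0, hx.c.1, hy.c.1]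
  by_cases ha0 : a = 0
  · subst ha0
    rcases idx3 b with rfl | rfl | ⟨l, rfl⟩
    · exact absurd rfl hb0
    · exact h01
    · exact h0 l
  by_cases hb1 : b = 1
  · subst hb1
    rcases idx3 a with rfl | rfl | ⟨k, rfl⟩
    · exact absurd rfl ha0
    · exact absurd rfl ha1
    · exact h1 k
  · rw [hx.r _ ha0 _ hb1, hy.r _ ha0 _ hb1]

lemma isQ_one : IsQ (1 : MM n) := ⟨⟨fun _ => rfl, fun _ => rfl⟩, fun _ _ _ _ => rfl⟩

lemma isC_tr01 : IsC 0 1 (transvection 0 1 (1 : ZMod 2) : MM n) :=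
  ⟨fun a => by rw [tr_apply, if_neg (fun h => z_ne_o h.2.symm), add_zero],
   fun b => by rw [tr_apply, if_neg (fun h => z_ne_o h.1), add_zero]⟩

lemma isQ_tr : IsQ (transvection 0 1 (1 : ZMod 2) : MM n) :=
  ⟨isC_tr01, fun a ha b hb => by rw [tr_apply, if_neg (fun h => ha h.1.symm), add_zero]⟩

end Q

lemma two_self : ∀ a : ZMod 2, a + a = 0 := by decide

section Grp

variable (z : GG n) (hz : (z : MM n) = transvection 0 1 1)
include hz

lemma isQ_z : IsQ (z : MM n) := by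
  rw [hz]; exact isQ_tr

lemma z_ne_one' : z ≠ 1 := by
  intro h
  have h1 := congrArg (fun y : GG n => (y : MM n) 0 1) h
  simp only [hz] at h1
  rw [tr_apply, one_0_1] at h1
  simp at h1

lemma coe_z_mul {m : MM n} (hm : IsQ m) : ((z : MM n) * m) 0 1 = 1 + m 0 1 := by
  have hzq := isQ_z z hz
  rw [hzq.mul_01 hm, Finset.sum_eq_zero, add_zero]
  · congr 1
    rw [hz, tr_apply, one_0_1]
    simp
  · intro k _
    have : (z : MM n) 0 k.succ.succ = 0 := by
      rw [hz, tr_apply, one_0_ss, if_neg (fun h => ss_ne_one k h.2.symm), add_zero]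
    rw [this, zero_mul]

lemma z_0s (k : Fin n) : (z : MM n) 0 k.succ.succ = 0 := by
  rw [hz, tr_apply, one_0_ss, if_neg (fun h => ss_ne_one k h.2.symm), add_zero]

lemma z_s1 (k : Fin n) : (z : MM n) k.succ.succ 1 = 0 := by
  rw [hz, tr_apply, one_ss_1, if_neg (fun h => ss_ne_zero k h.1.symm), add_zero]

lemma mul_comm_or {x y : GG n} (hx : IsQ (x : MM n)) (hy : IsQ (y : MM n)) :
    x * y = y * x ∨ x * y = z * (y * x) := by
  have hxy : IsQ ((x : MM n) * (y : MM n)) := hx.mul hy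
  have hyx : IsQ ((y : MM n) * (x : MM n)) := hy.mul hx
  have hzyx : IsQ ((z : MM n) * ((y : MM n) * (x : MM n))) := (isQ_z z hz).mul hyx
  have h0 : ∀ l : Fin n, ((x : MM n) * (y : MM n)) 0 l.succ.succ = ((y : MM n) * (x : MM n)) 0 l.succ.succ := by
    intro l
    rw [hx.mul_0s l hy, hy.mul_0s l hx, add_comm]
  have h1 : ∀ k : Fin n, ((x : MM n) * (y : MM n)) k.succ.succ 1 = ((y : MM n) * (x : MM n)) k.succ.succ 1 := by
    intro k
    rw [hx.mul_s1 k hy, hy.mul_s1 k hx, add_comm]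
  have hdich : ∀ a b : ZMod 2, a = b ∨ a = 1 + b := by decide
  rcases hdich (((x : MM n) * (y : MM n)) 0 1) (((y : MM n) * (x : MM n)) 0 1) with h | h
  · left
    apply Subtype.ext
    exact hxy.ext hyx h h0 h1
  · right
    apply Subtype.ext
    show (x : MM n) * (y : MM n) = (z : MM n) * ((y : MM n) * (x : MM n))
    refine hxy.ext hzyx ?_ ?_ ?_
    · rw [coe_z_mul z hz hyx, h]
    · intro l
      rw [(isQ_z z hz).mul_0s l hyx, z_0s z hz, zero_add, h0]
    · intro k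
      rw [(isQ_z z hz).mul_s1 k hyx, z_s1 z hz, zero_add, h1]

lemma sq_or {x : GG n} (hx : IsQ (x : MM n)) : x * x = 1 ∨ x * x = z := by
  have hxx : IsQ ((x : MM n) * (x : MM n)) := hx.mul hx
  have h0 : ∀ l : Fin n, ((x : MM n) * (x : MM n)) 0 l.succ.succ = 0 := fun l => by
    rw [hx.mul_0s l hx, two_self]
  have h1 : ∀ k : Fin n, ((x : MM n) * (x : MM n)) k.succ.succ 1 = 0 := fun k => by
    rw [hx.mul_s1 k hx, two_self]
  have hdich : ∀ a : ZMod 2, a = 0 ∨ a = 1 := by decide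
  rcases hdich (((x : MM n) * (x : MM n)) 0 1) with h | h
  · left
    apply Subtype.ext
    show (x : MM n) * (x : MM n) = 1
    refine hxx.ext isQ_one ?_ ?_ ?_
    · rw [h, one_0_1]
    · intro l; rw [h0, one_0_ss]
    · intro k; rw [h1, one_ss_1]
  · right
    apply Subtype.ext
    show (x : MM n) * (x : MM n) = (z : MM n)
    refine hxx.ext (isQ_z z hz) ?_ ?_ ?_
    · rw [h, hz, tr_apply, one_0_1]; simp
    · intro l; rw [h0, z_0s z hz]
    · intro k; rw [h1, z_s1 z hz]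

lemma z_sq' : z * z = 1 := by
  rcases sq_or z hz (isQ_z z hz) with h | h
  · exact h
  · exact absurd (by
      have h1 : z * z = z * 1 := by rw [h, mul_one]
      exact mul_left_cancel h1) (z_ne_one' z hz)

lemma central_eq (x : GG n) (hx : x ∈ Cz z) (hc : ∀ y : GG n, IsQ (y : MM n) → x * y = y * x) :
    x = 1 ∨ x = z := by
  obtain ⟨R, hRn, hR2, hR⟩ := exists_radical (ZMod.card 2) (z_ne_o (n := n)) hz
  exact eq_of_commute (ZMod.card 2) z_ne_o hz R hR ⟨x, hx⟩ (fun r hr => by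
    apply Subtype.ext
    have h1 := (hR r).1 hr
    exact hc (r : GG n) ⟨isC_mem z hz r.2, h1⟩)

lemma mem_Cz_of_isQ {x : GG n} (hx : IsQ (x : MM n)) : x ∈ Cz z := mem_of_isC' z hz hx.c

lemma z_comm {x : GG n} (hx : x ∈ Cz z) : z * x = x * z := (mem_centralizer_iff.1 hx z rfl)

variable (Q : Subgroup (GG n)) (hQm : ∀ g : GG n, g ∈ Q ↔ IsQ (g : MM n))
include hQm

lemma center_iff (x : ↥Q) : x ∈ center ↥Q ↔ (x : GG n) = 1 ∨ (x : GG n) = z := by
  constructor
  · intro hx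
    apply central_eq z hz _ (mem_Cz_of_isQ z hz ((hQm _).1 x.2))
    intro y hy
    have h1 := (mem_center_iff.1 hx ⟨y, (hQm y).2 hy⟩)
    exact (congrArg Subtype.val h1).symm
  · rw [mem_center_iff]
    rintro (h | h) y
    · apply Subtype.ext
      show (y : GG n) * x = x * y
      rw [h, one_mul, mul_one]
    · apply Subtype.ext
      show (y : GG n) * x = x * y
      rw [h]
      exact (z_comm z hz (mem_Cz_of_isQ z hz ((hQm _).1 y.2))).symm

theorem extraLike : ExtraLike 2 ↥Q := by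
  have hzQ : z ∈ Q := (hQm z).2 (isQ_z z hz)
  refine ⟨fun x => ⟨2, ?_⟩, ?_, fun x y => ?_, fun x => ?_⟩
  · have h1 := sq_or z hz ((hQm _).1 x.2)
    apply Subtype.ext
    have h2 : (2 : ℕ) ^ 2 = 2 + 2 := by norm_num
    rw [h2, pow_add, pow_two]
    show ((x : GG n) * x) * ((x : GG n) * x) = 1
    rcases h1 with h | h
    · rw [h, one_mul]
    · rw [h, z_sq' z hz]
  · rw [Nat.card_eq_two_iff]
    refine ⟨⟨1, one_mem _⟩, ⟨⟨z, hzQ⟩, (center_iff z hz Q hQm _).2 (Or.inr rfl)⟩, ?_, ?_⟩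
    · intro h
      have h1 := congrArg (fun y : ↥(center ↥Q) => ((y : ↥Q) : GG n)) h
      exact z_ne_one' z hz h1.symm
    · ext ⟨x, hx⟩
      simp only [Set.mem_insert_iff, Set.mem_singleton_iff, Set.mem_univ, iff_true]
      rcases (center_iff z hz Q hQm _).1 hx with h | h
      · left
        apply Subtype.ext
        exact Subtype.ext h
      · right
        apply Subtype.ext
        exact Subtype.ext h
  · rw [center_iff z hz Q hQm]
    rcases mul_comm_or z hz ((hQm _).1 x.2) ((hQm _).1 y.2) with h | h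
    · left
      show (x : GG n) * y * (x : GG n)⁻¹ * (y : GG n)⁻¹ = 1
      rw [h]; group
    · right
      show (x : GG n) * y * (x : GG n)⁻¹ * (y : GG n)⁻¹ = z
      rw [h]; group
  · rw [center_iff z hz Q hQm, pow_two]
    exact sq_or z hz ((hQm _).1 x.2)

end Grp

/-! ### The order of `Q` -/

/-- The matrices of `O₂(C)`. -/
def mkQ (r c : Fin n → ZMod 2) (t : ZMod 2) : MM n := fun a b =>
  Fin.cases (Fin.cases (1 : ZMod 2) (fun b' => Fin.cases t r b') b)
    (fun a' => Fin.cases ((1 : MM n) 1 b)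
      (fun a'' => Fin.cases (0 : ZMod 2)
        (fun b' => Fin.cases (c a'') (fun b'' => (1 : Matrix (Fin n) (Fin n) (ZMod 2)) a'' b'') b') b) a') a

section mk

variable (r c : Fin n → ZMod 2) (t : ZMod 2) (b : Fin (n + 2)) (k l : Fin n)

lemma mk_00 : mkQ r c t 0 0 = 1 := rfl
lemma mk_01 : mkQ r c t 0 1 = t := rfl
lemma mk_0s : mkQ r c t 0 l.succ.succ = r l := rfl
lemma mk_1 : mkQ r c t 1 b = (1 : MM n) 1 b := rfl
lemma mk_s0 : mkQ r c t k.succ.succ 0 = 0 := rfl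
lemma mk_s1 : mkQ r c t k.succ.succ 1 = c k := rfl
lemma mk_ss : mkQ r c t k.succ.succ l.succ.succ = (1 : Matrix (Fin n) (Fin n) (ZMod 2)) k l := rfl

lemma isQ_mk : IsQ (mkQ r c t) := by
  refine ⟨⟨fun a => ?_, fun b => mk_1 r c t b⟩, fun a ha b hb => ?_⟩
  · rcases idx3 a with rfl | rfl | ⟨k, rfl⟩
    · rw [mk_00, one_0_0]
    · rw [mk_1]
    · rw [mk_s0, one_ss_0]
  · rcases idx3 a with rfl | rfl | ⟨k, rfl⟩
    · exact absurd rfl ha
    · rw [mk_1]
    · rcases idx3 b with rfl | rfl | ⟨l, rfl⟩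
      · rw [mk_s0, one_ss_0]
      · exact absurd rfl hb
      · rw [mk_ss, one_ss_ss]

end mk

lemma IsQ.det_eq {x : MM n} (hx : IsQ x) : x.det = 1 := by
  have h1 := IsR.pow_four (z_ne_o (n := n)) two_self hx.c hx.r
  have h2 : x * (x * (x * x)) = 1 := by
    rw [← h1]; noncomm_ring
  exact det_eq_one_of_mul_eq_one h2

/-- `Q`-matrices are special linear. -/
def toSL (x : MM n) (hx : IsQ x) : GG n := ⟨x, hx.det_eq⟩

lemma toSL_coe (x : MM n) (hx : IsQ x) : ((toSL x hx : GG n) : MM n) = x := rfl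

theorem card_Q (Q : Subgroup (GG n)) (hQm : ∀ g : GG n, g ∈ Q ↔ IsQ (g : MM n)) :
    Nat.card ↥Q = 2 ^ (2 * n + 1) := by
  let e : ↥Q ≃ (Fin n → ZMod 2) × (Fin n → ZMod 2) × ZMod 2 :=
    { toFun := fun x => (fun l => ((x : GG n) : MM n) 0 l.succ.succ,
        fun k => ((x : GG n) : MM n) k.succ.succ 1, ((x : GG n) : MM n) 0 1)
      invFun := fun p => ⟨toSL (mkQ p.1 p.2.1 p.2.2) (isQ_mk _ _ _), (hQm _).2 (isQ_mk _ _ _)⟩
      left_inv := fun x => by
        apply Subtype.ext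
        apply Subtype.ext
        exact (isQ_mk _ _ _).ext ((hQm _).1 x.2) rfl (fun _ => rfl) (fun _ => rfl)
      right_inv := fun p => rfl }
  rw [Nat.card_congr e, Nat.card_prod, Nat.card_prod, Nat.card_fun, Nat.card_zmod, Nat.card_fin]
  ring

/-- The row subgroup. -/
def rowSub : Subgroup (GG n) where
  carrier := {g | IsQ (g : MM n) ∧ ∀ k : Fin n, (g : MM n) k.succ.succ 1 = 0}
  one_mem' := ⟨isQ_one, fun k => one_ss_1 k⟩
  mul_mem' := by
    rintro x y ⟨hx, hx'⟩ ⟨hy, hy'⟩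
    refine ⟨hx.mul hy, fun k => ?_⟩
    show ((x : MM n) * (y : MM n)) k.succ.succ 1 = 0
    rw [hx.mul_s1 k hy, hx', hy', add_zero]
  inv_mem' := by
    rintro x ⟨hx, hx'⟩
    have h : x * x = 1 := by
      apply Subtype.ext
      show (x : MM n) * (x : MM n) = 1
      refine (hx.mul hx).ext isQ_one ?_ ?_ ?_
      · rw [hx.mul_01 hx, two_self, zero_add, one_0_1]
        exact Finset.sum_eq_zero fun k _ => by rw [hx', mul_zero]
      · intro l
        rw [hx.mul_0s l hx, two_self, one_0_ss]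
      · intro k
        rw [hx.mul_s1 k hx, two_self, one_ss_1]
    have h2 : x⁻¹ = x := inv_eq_of_mul_eq_one_left h
    show IsQ ((x⁻¹ : GG n) : MM n) ∧ ∀ k : Fin n, ((x⁻¹ : GG n) : MM n) k.succ.succ 1 = 0
    rw [h2]
    exact ⟨hx, hx'⟩

lemma rowSub_elem : IsElementaryAbelian 2 (rowSub (n := n)) := by
  refine ⟨⟨⟨fun x y => ?_⟩⟩, fun a ha => ?_⟩
  · apply Subtype.ext
    apply Subtype.ext
    obtain ⟨hx, hx'⟩ := x.2
    obtain ⟨hy, hy'⟩ := y.2
    show ((x : GG n) : MM n) * ((y : GG n) : MM n) = ((y : GG n) : MM n) * ((x : GG n) : MM n)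
    refine (hx.mul hy).ext (hy.mul hx) ?_ ?_ ?_
    · rw [hx.mul_01 hy, hy.mul_01 hx, Finset.sum_eq_zero, Finset.sum_eq_zero, add_comm (((x : GG n) : MM n) 0 1)]
      · exact fun k _ => by rw [hx', mul_zero]
      · exact fun k _ => by rw [hy', mul_zero]
    · intro l
      rw [hx.mul_0s l hy, hy.mul_0s l hx, add_comm]
    · intro k
      rw [hx.mul_s1 k hy, hy.mul_s1 k hx, add_comm]
  · obtain ⟨hx, hx'⟩ := ha
    rw [pow_two]
    apply Subtype.ext
    show (a : MM n) * (a : MM n) = 1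
    refine (hx.mul hx).ext isQ_one ?_ ?_ ?_
    · rw [hx.mul_01 hx, two_self, zero_add, one_0_1]
      exact Finset.sum_eq_zero fun k _ => by rw [hx', mul_zero]
    · intro l
      rw [hx.mul_0s l hx, two_self, one_0_ss]
    · intro k
      rw [hx.mul_s1 k hx, two_self, one_ss_1]

theorem card_rowSub : Nat.card ↥(rowSub (n := n)) = 2 ^ (n + 1) := by
  let e : ↥(rowSub (n := n)) ≃ (Fin n → ZMod 2) × ZMod 2 :=
    { toFun := fun x => (fun l => ((x : GG n) : MM n) 0 l.succ.succ, ((x : GG n) : MM n) 0 1)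
      invFun := fun p => ⟨toSL (mkQ p.1 0 p.2) (isQ_mk _ _ _), isQ_mk _ _ _, fun _ => rfl⟩
      left_inv := fun x => by
        apply Subtype.ext
        apply Subtype.ext
        exact (isQ_mk _ _ _).ext x.2.1 rfl (fun _ => rfl) (fun k => (x.2.2 k).symm)
      right_inv := fun p => rfl }
  rw [Nat.card_congr e, Nat.card_prod, Nat.card_fun, Nat.card_zmod, Nat.card_fin]
  ring

lemma rowSub_le (Q : Subgroup (GG n)) (hQm : ∀ g : GG n, g ∈ Q ↔ IsQ (g : MM n)) : rowSub ≤ Q :=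
  fun _ hg => (hQm _).2 hg.1

/-- Transvections in `Q`. -/
lemma not_comm (hn : 1 ≤ n) (Q : Subgroup (GG n)) (hQm : ∀ g : GG n, g ∈ Q ↔ IsQ (g : MM n)) :
    ¬ IsMulCommutative ↥Q := by
  intro hc
  let k₀ : Fin n := ⟨0, hn⟩
  let a : GG n := ⟨transvection 0 k₀.succ.succ 1, det_transvection_of_ne _ _ (ss_ne_zero k₀).symm 1⟩
  let b : GG n := ⟨transvection k₀.succ.succ 1 1, det_transvection_of_ne _ _ (ss_ne_one k₀) 1⟩
  have ha : IsQ (a : MM n) := ⟨isC_tr_left z_ne_o (ss_ne_zero k₀), isR_tr_left (ss_ne_zero k₀)⟩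
  have hb : IsQ (b : MM n) := ⟨isC_tr_right z_ne_o (ss_ne_one k₀), isR_tr_right⟩
  have h1 := hc.is_comm.comm (⟨a, (hQm a).2 ha⟩ : ↥Q) ⟨b, (hQm b).2 hb⟩
  have h2 : (a : MM n) * (b : MM n) = (b : MM n) * (a : MM n) :=
    congrArg (fun y : ↥Q => ((y : GG n) : MM n)) h1
  have h3 := congrFun (congrFun h2 0) 1
  have h4 : ((a : MM n) * (b : MM n)) 0 1 = 1 := by
    show (transvection 0 k₀.succ.succ (1 : ZMod 2) * (b : MM n)) 0 1 = 1
    rw [transvection_mul_apply_same]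
    show (transvection k₀.succ.succ 1 (1 : ZMod 2) : MM n) 0 1 +
      1 * (transvection k₀.succ.succ 1 (1 : ZMod 2) : MM n) k₀.succ.succ 1 = 1
    rw [tr_apply, tr_apply, one_0_1, one_ss_1, if_neg (fun h => ss_ne_zero k₀ h.1), if_pos ⟨rfl, rfl⟩]
    simp
  have h5 : ((b : MM n) * (a : MM n)) 0 1 = 0 := by
    show (transvection k₀.succ.succ 1 (1 : ZMod 2) * (a : MM n)) 0 1 = 0
    rw [transvection_mul_apply_of_ne _ _ _ _ (ss_ne_zero k₀).symm]
    show (transvection 0 k₀.succ.succ (1 : ZMod 2) : MM n) 0 1 = 0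
    rw [tr_apply, one_0_1, if_neg (fun h => ss_ne_one k₀ h.2), add_zero]
  rw [h4, h5] at h3
  exact one_ne_zero h3

/-! ### A conjugate of `z` in `Q` -/

section Swap

variable (s : Equiv.Perm (Fin (n + 2))) (hs : ∀ a, s (s a) = a)

/-- A permutation matrix. -/
def pM : MM n := fun a b => (1 : MM n) (s a) b

lemma pM_mul (A : MM n) (a b : Fin (n + 2)) : (pM s * A) a b = A (s a) b := by
  rw [Matrix.mul_apply]
  show ∑ c, (1 : MM n) (s a) c * A c b = A (s a) b
  rw [← Matrix.mul_apply, Matrix.one_mul]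

include hs in
lemma mul_pM (A : MM n) (a b : Fin (n + 2)) : (A * pM s) a b = A a (s b) := by
  rw [Matrix.mul_apply]
  have h1 : ∀ c, pM s c b = (1 : MM n) c (s b) := by
    intro c
    show (1 : MM n) (s c) b = (1 : MM n) c (s b)
    by_cases h : c = s b
    · rw [h, hs, one_apply_eq, one_apply_eq]
    · rw [one_apply_ne h, one_apply_ne]
      intro h'
      apply h
      rw [← h', hs]
  simp only [h1]
  rw [← Matrix.mul_apply, Matrix.mul_one]

include hs in
lemma pM_pM : pM s * pM s = 1 := by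
  ext a b
  rw [pM_mul]
  show (1 : MM n) (s (s a)) b = (1 : MM n) a b
  rw [hs]

end Swap

lemma exists_conj (hn : 1 ≤ n) (z : GG n) (hz : (z : MM n) = transvection 0 1 1) :
    ∃ g : GG n, IsQ ((g * z * g⁻¹ : GG n) : MM n) ∧ g * z * g⁻¹ ≠ z ∧ g * z * g⁻¹ ≠ 1 := by
  let k₀ : Fin n := ⟨0, hn⟩
  let t : Fin (n + 2) := k₀.succ.succ
  have ht0 : t ≠ 0 := ss_ne_zero k₀
  have ht1 : t ≠ 1 := ss_ne_one k₀
  let s : Equiv.Perm (Fin (n + 2)) := Equiv.swap 1 t
  have hs : ∀ a, s (s a) = a := fun a => Equiv.swap_apply_self _ _ _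
  have hs0 : s 0 = 0 := Equiv.swap_apply_of_ne_of_ne z_ne_o ht0.symm
  have hs1 : s 1 = t := Equiv.swap_apply_left _ _
  have hst : s t = 1 := Equiv.swap_apply_right _ _
  have hP := pM_pM s hs
  let g : GG n := ⟨pM s, det_eq_one_of_mul_eq_one hP⟩
  have hg : g * g = 1 := Subtype.ext hP
  have hginv : g⁻¹ = g := inv_eq_of_mul_eq_one_left hg
  have hentry : ∀ a b, ((g * z * g⁻¹ : GG n) : MM n) a b = (transvection 0 t (1 : ZMod 2) : MM n) a b := by
    intro a b
    rw [hginv]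
    show (pM s * (z : MM n) * pM s) a b = _
    rw [mul_pM s hs, pM_mul, hz, tr_apply, tr_apply]
    have h1 : (1 : MM n) (s a) (s b) = (1 : MM n) a b := by
      by_cases h : a = b
      · rw [h, one_apply_eq, one_apply_eq]
      · rw [one_apply_ne h, one_apply_ne (fun h' => h (s.injective h'))]
    have h2 : (0 = s a ∧ 1 = s b) ↔ (0 = a ∧ t = b) := by
      constructor
      · rintro ⟨h, h'⟩
        constructor
        · have := congrArg s h
          rwa [hs, hs0] at this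
        · have := congrArg s h'
          rwa [hs, hs1] at this
      · rintro ⟨h, h'⟩
        rw [← h, ← h', hs0, hst]
        exact ⟨rfl, rfl⟩
    rw [h1]
    simp only [h2]
  have hcoe : ((g * z * g⁻¹ : GG n) : MM n) = transvection 0 t (1 : ZMod 2) := by
    ext a b
    exact hentry a b
  refine ⟨g, ?_, ?_, ?_⟩
  · rw [hcoe]
    exact ⟨isC_tr_left z_ne_o ht0, isR_tr_left ht0⟩
  · intro h
    have h1 := congrArg (fun y : GG n => (y : MM n) 0 1) h
    simp only [hcoe, hz] at h1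
    rw [tr_apply, tr_apply, one_0_1, if_neg (fun h => ht1 h.2), if_pos ⟨rfl, rfl⟩] at h1
    simp at h1
  · intro h
    have h1 := congrArg (fun y : GG n => (y : MM n) 0 t) h
    simp only [hcoe] at h1
    rw [tr_apply, if_pos ⟨rfl, rfl⟩] at h1
    have h2 : (1 : MM n) 0 t = 0 := one_0_ss k₀
    have h3 : ((1 : GG n) : MM n) 0 t = 0 := h2
    rw [h2, h3] at h1
    simp at h1

/-- The main theorem. -/
theorem main_aux (hn : 2 ≤ n) (z : GG n) (hz : (z : MM n) = transvection 0 1 1)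
    (Q : Subgroup (GG n)) (hQ : Q = (pCore 2 ↥(Cz z)).map (Cz z).subtype) :
    IsExtraspecial 2 ↥Q ∧ Nat.card ↥Q = 2 ^ (2 * n + 1) ∧
    (∃ E : Subgroup (GG n), E ≤ Q ∧ IsElementaryAbelian 2 E ∧ Nat.card ↥E = 2 ^ (n + 1)) ∧
    IsLargeExtraspecial Q ∧
    ∃ K : Subgroup (GG n), K ≤ Cz z ∧ Q ⊓ K = ⊥ ∧ Q ⊔ K = Cz z ∧ Nonempty (↥K ≃* SS n) := by
  have hQm : ∀ g : GG n, g ∈ Q ↔ IsQ (g : MM n) := by
    intro g
    rw [hQ]
    constructor
    · rintro ⟨x, hx, rfl⟩
      exact ⟨isC_mem z hz x.2, (mem_pCore_iff hn z hz x).1 hx⟩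
    · intro hg
      exact ⟨⟨g, mem_Cz_of_isQ z hz hg⟩, (mem_pCore_iff hn z hz _).2 hg.r, rfl⟩
  have hL1 : IsExtraspecial 2 ↥Q :=
    (extraLike z hz Q hQm).isExtraspecial (not_comm (by omega) Q hQm)
  have hcard := card_Q Q hQm
  have hzQ : z ∈ Q := (hQm z).2 (isQ_z z hz)
  have hQC : Q ≤ Cz z := fun x hx => mem_Cz_of_isQ z hz ((hQm x).1 hx)
  -- the centre
  have hZ : ∀ x : GG n, x ∈ (center ↥Q).map Q.subtype ↔ x = 1 ∨ x = z := by
    intro x
    constructor
    · rintro ⟨y, hy, rfl⟩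
      exact (center_iff z hz Q hQm y).1 hy
    · rintro (h | h)
      · rw [h]; exact one_mem _
      · exact ⟨⟨z, hzQ⟩, (center_iff z hz Q hQm _).2 (Or.inr rfl), h.symm⟩
  have hzZ : z ∈ (center ↥Q).map Q.subtype := (hZ z).2 (Or.inr rfl)
  have hL2 : centralizer (Q : Set (GG n)) = (center ↥Q).map Q.subtype := by
    ext x
    rw [hZ, mem_centralizer_iff]
    constructor
    · intro hx
      refine central_eq z hz x (mem_centralizer_iff.2 fun y hy => ?_) fun y hy => ?_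
      · rw [Set.mem_singleton_iff.1 hy]
        exact hx z hzQ
      · exact (hx y ((hQm y).2 hy)).symm
    · rintro (h | h) y hy
      · rw [h, one_mul, mul_one]
      · rw [h]
        exact (z_comm z hz (hQC hy)).symm
  have hL3 : centralizer (((center ↥Q).map Q.subtype : Subgroup (GG n)) : Set (GG n)) ≤
      normalizer (Q : Set (GG n)) := by
    intro x hx
    have hxC : x ∈ Cz z := mem_centralizer_iff.2 fun y hy => by
      rw [Set.mem_singleton_iff.1 hy]
      exact mem_centralizer_iff.1 hx z hzZ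
    have hconj : ∀ x : GG n, x ∈ Cz z → ∀ h ∈ Q, x * h * x⁻¹ ∈ Q := by
      intro x hxC h hh
      have hh' := (hQm h).1 hh
      have hxinv : x⁻¹ ∈ Cz z := inv_mem hxC
      have h1 : IsC 0 1 (x : MM n) := isC_mem z hz hxC
      have h2 : IsC 0 1 ((x⁻¹ : GG n) : MM n) := isC_mem z hz hxinv
      have h3 : (x : MM n) * ((x⁻¹ : GG n) : MM n) = 1 :=
        congrArg (fun y : GG n => (y : MM n)) (mul_inv_cancel x)
      exact (hQm _).2 ⟨(h1.mul hh'.c).mul h2, IsR.conj h1 h2 hh'.r h3⟩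
    rw [mem_normalizer_iff]
    intro h
    constructor
    · exact hconj x hxC h
    · intro hh
      have := hconj x⁻¹ (inv_mem hxC) _ hh
      simpa [mul_assoc] using this
  obtain ⟨g, hg1, hg2, hg3⟩ := exists_conj (by omega) z hz
  have hgN : g ∉ normalizer (((center ↥Q).map Q.subtype : Subgroup (GG n)) : Set (GG n)) := by
    intro hg
    have h1 := (mem_normalizer_iff.1 hg z).1 hzZ
    rcases (hZ _).1 h1 with h | h
    · exact hg3 h
    · exact hg2 h
  have hgZ : ((center ↥Q).map Q.subtype).map (MulAut.conj g).toMonoidHom ≤ Q := by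
    rintro _ ⟨y, hy, rfl⟩
    rcases (hZ y).1 hy with h | h
    · rw [h, map_one]
      exact one_mem _
    · rw [h]
      exact (hQm _).2 hg1
  have hlarge := (Cfsg.Agent.S5422.result Q hL1 hL2 hL3 n hn hcard g hgN hgZ).2.2
  refine ⟨hL1, hcard, ⟨rowSub, rowSub_le Q hQm, rowSub_elem, card_rowSub⟩, hlarge,
    (sHom : SS n →* GG n).range, ?_, ?_, ?_, ⟨(MonoidHom.ofInjective sHom_injective).symm⟩⟩
  · rintro _ ⟨A, rfl⟩
    exact mem_of_isC' z hz (isC_sM _)
  · rw [eq_bot_iff]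
    rintro x ⟨hx1, A, rfl⟩
    have h1 := mid_one_of_isR ((hQm _).1 hx1).r
    rw [Subgroup.mem_bot]
    have h2 : A = 1 := by
      apply Subtype.ext
      exact h1
    rw [h2, map_one]
  · apply le_antisymm
    · refine sup_le hQC ?_
      rintro _ ⟨A, rfl⟩
      exact mem_of_isC' z hz (isC_sM _)
    · intro x hx
      let x' : ↥(Cz z) := ⟨x, hx⟩
      let A : SS n := piHom z hz x'
      have h1 : piHom z hz (x' * (sHom' z hz A)⁻¹) = 1 := by
        rw [map_mul, map_inv, piHom_sHom', mul_inv_cancel]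
      have h2 : IsQ (((x' * (sHom' z hz A)⁻¹ : ↥(Cz z)) : GG n) : MM n) := by
        refine ⟨isC_mem z hz (x' * (sHom' z hz A)⁻¹).2, isR_of_mid_one (isC_mem z hz (x' * (sHom' z hz A)⁻¹).2) ?_⟩
        exact congrArg (fun y : SS n => (y : Matrix (Fin n) (Fin n) (ZMod 2))) h1
      have h3 : x = ((x' * (sHom' z hz A)⁻¹ : ↥(Cz z)) : GG n) * sHom A := by
        show x = (x * (sHom A)⁻¹) * sHom A
        group
      rw [h3]
      exact Subgroup.mul_mem_sup ((hQm _).2 h2) ⟨A, rfl⟩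

/-- Let G be the special linear group of degree n + 2 over the field with two elements, n ≥ 2, let z be a transvection, and let Q be the largest normal 2-subgroup of the centralizer C of z. Then Q is extraspecial of order 2^(2n+1) with an elementary abelian subgroup of order 2^(n+1) (plus type), Q is a large extraspecial 2-subgroup of G, and C is the split extension of Q by the special linear group of degree n over the field with two elements. -/
theorem result (n : ℕ) (hn : 2 ≤ n) (z : Matrix.SpecialLinearGroup (Fin (n + 2)) (ZMod 2)) (hz : (z : Matrix (Fin (n + 2)) (Fin (n + 2)) (ZMod 2)) = Matrix.transvection 0 1 1) (Q : Subgroup (Matrix.SpecialLinearGroup (Fin (n + 2)) (ZMod 2))) (hQ : Q = (Cfsg.pCore 2 ↥(Subgroup.centralizer ({z} : Set (Matrix.SpecialLinearGroup (Fin (n + 2)) (ZMod 2))))).map (Subgroup.centralizer ({z} : Set (Matrix.SpecialLinearGroup (Fin (n + 2)) (ZMod 2)))).subtype) : Cfsg.IsExtraspecial 2 ↥Q ∧ Nat.card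 ↥Q = 2 ^ (2 * n + 1) ∧ (∃ E : Subgroup (Matrix.SpecialLinearGroup (Fin (n + 2)) (ZMod 2)), E ≤ Q ∧ Cfsg.IsElementaryAbelian 2 E ∧ Nat.card ↥E = 2 ^ (n + 1)) ∧ Cfsg.IsLargeExtraspecial Q ∧ ∃ K : Subgroup (Matrix.SpecialLinearGroup (Fin (n + 2)) (ZMod 2)), K ≤ Subgroup.centralizer ({z} : Set (Matrix.SpecialLinearGroup (Fin (n + 2)) (ZMod 2))) ∧ Q ⊓ K = ⊥ ∧ Q ⊔ K = Subgroup.centralizer ({z} : Set (Matrix.SpecialLinearGroup (Fin (n + 2)) (ZMod 2))) ∧ Nonempty (↥K ≃* Matrix.SpecialLinearGroup (Fin n) (ZMod 2)) := by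
  exact main_aux hn z hz Q hQ

end Cfsg.Agent.S5424
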