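import Cfsg.Statements.S5473
import Cfsg.Agent.Lib.ThreeT.M22y
import Cfsg.Agent.Lib.ThreeT.F22.Main
import Cfsg.Agent.Lib.PermComp.OutP.Abs
import Cfsg.Agent.S2079

set_option autoImplicit false
open Cfsg

namespace Cfsg.Agent.S5473

open Cfsg.Agent.Lib.ThreeT.M22 Cfsg.Agent.Lib.ThreeT.Basic Cfsg.Agent.Lib.ThreeT.Class Cfsg.Agent.Lib.ThreeT.Relations Cfsg.Agent.Lib.ThreeT.Rank3

/-- The order of the automorphism group. -/
theorem card_aut {G : Type*} [Group G] [Finite G] {D : Set G} (hD : Cfsg.IsThreeTranspositionGroup D) (hprim : Cfsg.IsPrimitiveUnderConj D)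
    (h22 : Cfsg.IsOfTypeM22 G D) : Nat.card (MulAut G) = 2 * Nat.card G := by
  obtain ⟨φ, -⟩ := Cfsg.Agent.Lib.ThreeT.F22.exists_iso hD hprim h22
  have h1 := Cfsg.Agent.Lib.PermComp.OutP.card_out_congr φ
  rw [Cfsg.Agent.S2079.result] at h1
  have hinj := conj_inj h22.1
  have hc : Nat.card (Cfsg.Inn G) = Nat.card G := Nat.card_congr (MonoidHom.ofInjective hinj).toEquiv.symm
  have h2 := Subgroup.card_mul_index (Cfsg.Inn G)
  have h3 : (Cfsg.Inn G).index = Nat.card (Cfsg.Out G) := rfl
  rw [hc, h3, ← h1] at h2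
  rw [← h2, mul_comm]

/-- Let G be a finite group with trivial centre generated by a conjugation-invariant set D of 3-transpositions on which it acts primitively, such that for some d in D the subgroup generated by the members of D other than d commuting with d has central largest normal 2- and 3-subgroups, and suppose G with D is of type M(22), and let A be the automorphism group of G. Let d₁, d₂ be distinct commuting members of D and j the inner automorphism of their product. Then the generalized Fitting subgroup Q of the centralizer of j in A is a large extraspecial 2-subgroup of A of order 2^11 (extraspecial; centralizer equal to its centre; normal in the centralizer of its centre; normalizing no non-trivial odd-order subgroup), and the centralizer of j modulo Q is isomorphic to the full automorphism group of the projective special unitary group of dimension 4 over the field with four elements. -/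
theorem result {G : Type*} [Group G] [Finite G] {D : Set G} (hD : Cfsg.IsThreeTranspositionGroup D) (hprim : Cfsg.IsPrimitiveUnderConj D) (d₀ : G) (hd₀ : d₀ ∈ D) (h3 : Cfsg.pCore 3 ↥(Subgroup.closure {y : G | y ∈ D ∧ y ≠ d₀ ∧ Commute d₀ y}) ≤ Subgroup.center ↥(Subgroup.closure {y : G | y ∈ D ∧ y ≠ d₀ ∧ Commute d₀ y})) (h2 : Cfsg.pCore 2 ↥(Subgroup.closure {y : G | y ∈ D ∧ y ≠ d₀ ∧ Commute d₀ y}) ≤ Subgroup.center ↥(Subgroup.closure {y : G | y ∈ D ∧ y ≠ d₀ ∧ Commute d₀ y})) (h22 : Cfsg.IsOfTypeM22 G D) (d₁ d₂ : G) (h₁ : d₁ ∈ D) (h₂ : d₂ ∈ D) (hne : d₁ ≠ d₂) (hc : Commute d₁ d₂) (j : MulAut G) (hj : j = MulAut.conj (d₁ * d₂)) (Q : Subgroup (MulAut G)) (hQ : Q = (Cfsg.generalizedFittingSubgroup ↥(Subgroup.centralizer ({j} : Set (MulAut G)))).map (Subgroup.centralizer ({j} : Set (MulAut G))).subtype) : Cfsg.IsLargeExtraspecial Q ∧ Nat.card Q = 2 ^ 11 ∧ Q ≤ Subgroup.centralizer ({j} : Set (MulAut G)) ∧ ∃ (_ : (Q.subgroupOf (Subgroup.centralizer ({j} : Set (MulAut G)))).Normal)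 (F : Type) (_ : Field F) (_ : Fintype F), Fintype.card F = 4 ∧ Nonempty (↥(Subgroup.centralizer ({j} : Set (MulAut G))) ⧸ Q.subgroupOf (Subgroup.centralizer ({j} : Set (MulAut G))) ≃* MulAut (Cfsg.PSU 4 F 2)) := by
  classical
  haveI := Fintype.ofFinite G
  have hA := card_aut hD hprim h22
  obtain ⟨F, _, _, hF, data⟩ := Cfsg.Agent.Lib.ThreeT.M22.exists_data h22 hD hprim
  obtain ⟨U⟩ := data d₁ h₁
  have hu : d₂ ∈ Da D d₁ := ⟨h₂, hne.symm, hc⟩
  obtain ⟨U', hb⟩ := exists_chart U hu
  let P : Pt D d₁ d₂ F := ⟨hD, hprim, h22, data, h₁, U', hu, hb⟩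
  subst hj
  have e1 : (Cfsg.generalizedFittingSubgroup ↥(Subgroup.centralizer ({MulAut.conj (d₁ * d₂)} : Set (MulAut G)))).map (Subgroup.centralizer ({MulAut.conj (d₁ * d₂)} : Set (MulAut G))).subtype = P.Qa := by
    show (Cfsg.generalizedFittingSubgroup ↥(XA d₁ d₂)).map (XA d₁ d₂).subtype = P.thHomA.ker.map (XA d₁ d₂).subtype
    rw [P.gFitA hA]
  have hQ' : Q = P.Qa := hQ.trans e1
  subst hQ'
  have hker : P.Qa.subgroupOf (XA d₁ d₂) = P.thHomA.ker :=
    Subgroup.comap_map_eq_self_of_injective (XA d₁ d₂).subtype_injective _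
  refine ⟨P.Qa_large hA, ?_, P.Qa_le, ?_⟩
  · rw [P.card_Qa hA]
    norm_num
  · have hn : (P.Qa.subgroupOf (XA d₁ d₂)).Normal := by
      rw [hker]
      exact MonoidHom.normal_ker _
    obtain ⟨ψ⟩ := P.quotA_iso hA (MonoidHom.normal_ker _)
    exact ⟨hn, F, inferInstance, inferInstance, hF.out, ⟨(QuotientGroup.quotientMulEquivOfEq hker).trans ψ⟩⟩

end Cfsg.Agent.S5473
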