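import Cfsg.Statements.S5522
import Cfsg.Agent.Lib.Golay.M12

set_option autoImplicit false
open Cfsg

namespace Cfsg.Agent.S5522

open Cfsg.Agent.Lib.Golay.Core Cfsg.Agent.Lib.Golay.Perm Cfsg.Agent.Lib.Golay.Chain
  Cfsg.Agent.Lib.Golay.M24 Cfsg.Agent.Lib.Golay.Orbits Cfsg.Agent.Lib.Golay.M12
open scoped Pointwise

private def testP (P : ℕ) : Bool :=
  (!allUpTo (fun x => (D0.testBit x) || !(Nat.beq (img P x) x)) 24) ||
  ((!allUpTo (fun x => Nat.beq (img P (img P x)) x) 24) &&
    (!allUpTo (fun x => Nat.beq (img P (img P (img P x))) x) 24))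

private def force (n : ℕ) (f : ℕ → Bool) : Bool := Nat.rec (f 0) (fun k _ => f (Nat.succ k)) n

private theorem force_eq (n : ℕ) (f : ℕ → Bool) : force n f = f n := by
  cases n <;> rfl

private theorem main_check : (U1.all fun a => U2.all fun b => force (comp a b) fun ab =>
    U3.all fun c => force (comp ab c) fun abc => U4.all fun d => force (comp abc d) testP) = true := by
  decide +kernel

private theorem all_test {a b c d : ℕ} (ha : a ∈ U1) (hb : b ∈ U2) (hc : c ∈ U3) (hd : d ∈ U4) :
    testP (comp (comp (comp a b) c) d) = true := by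
  have h := List.all_eq_true.mp main_check a ha
  have h := List.all_eq_true.mp h b hb
  rw [force_eq] at h
  have h := List.all_eq_true.mp h c hc
  rw [force_eq] at h
  have h := List.all_eq_true.mp h d hd
  rwa [force_eq] at h

private theorem not_all_iff {p : ℕ → Bool} {k : ℕ} : (!allUpTo p k) = true → ∃ i < k, p i = false := by
  intro h
  by_contra hc
  push Not at hc
  have : allUpTo p k = true := allUpTo_iff.mpr fun i hi => by simpa using hc i hi
  rw [this] at h
  exact absurd h (by simp)


/-- The Mathieu group M₁₁, realised as the stabiliser of one point of the dodecad of squares inside the stabiliser M₁₂ of that dodecad in M₂₄, acts on the twelve coordinate positions outside the dodecad of squares (its 3-transitive action of degree 12); in this action every element of prime order fixes a point, i.e. the action is elusive. -/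
theorem result (g : Equiv.Perm Cfsg.GolayPt) (hg : g ∈ Cfsg.Spor.M11) (hord : (orderOf g).Prime) :
    ∃ x : Cfsg.GolayPt, x ∉ Cfsg.Spor.squareDodecad ∧ g x = x := by
  classical
  by_contra hno
  push Not at hno
  rw [squareDodecad_eq] at hno
  have hM := mem_M11_iff.mp hg
  have hstab : ∀ x, g x ∉ Cfsg.Agent.Lib.Golay.Core.setOf D0 ↔ x ∉ Cfsg.Agent.Lib.Golay.Core.setOf D0 := by
    intro x
    constructor
    · intro h hx
      exact h (mem_setOf_of_smul hM.2.1 hx)
    · intro h hx
      apply h
      have h1 := mem_setOf_of_smul (σ := g⁻¹) (by rw [inv_smul_eq_iff, hM.2.1]) hx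
      simpa using h1
  set f : Equiv.Perm {x // x ∉ Cfsg.Agent.Lib.Golay.Core.setOf D0} := g.subtypePerm hstab with hf
  have hfix : ∀ x, f x ≠ x := by
    intro x h
    have := congrArg Subtype.val h
    exact hno x.1 x.2 this
  have : Fact (orderOf g).Prime := ⟨hord⟩
  have hfp : f ^ (orderOf g) ^ 1 = 1 := by
    rw [pow_one, hf, Equiv.Perm.subtypePerm_pow]
    ext x
    simp [pow_orderOf_eq_one]
  have hmod := Equiv.Perm.card_compl_support_modEq hfp
  have hsupp : f.supportᶜ = ∅ := by
    ext x
    simp [hfix x]
  rw [hsupp, Finset.card_empty] at hmod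
  have hcard : Fintype.card {x // x ∉ Cfsg.Agent.Lib.Golay.Core.setOf D0} = 12 := by
    rw [Fintype.card_subtype_compl, card_golayPt]
    have : Fintype.card {x // x ∈ Cfsg.Agent.Lib.Golay.Core.setOf D0} = 12 := by
      rw [Fintype.card_coe, card_setOf]
      decide +kernel
    rw [this]
  rw [hcard] at hmod
  have hdvd : orderOf g ∣ 12 := (Nat.modEq_zero_iff_dvd).mp hmod.symm
  have h23 : orderOf g = 2 ∨ orderOf g = 3 := by
    have hle : orderOf g ≤ 12 := Nat.le_of_dvd (by norm_num) hdvd
    have hp := hord
    generalize orderOf g = n at *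
    interval_cases n <;> first
      | omega
      | (exact absurd hp (by norm_num))
      | (exact absurd hdvd (by norm_num))
  obtain ⟨a, ha, b, hb, c, hc, d, hd, va, vb, vc, vd, e⟩ := M11_decomp hg
  have hvab := valid_comp va vb
  have hvabc := valid_comp hvab vc
  have hv := valid_comp hvabc vd
  have hgP : g = Cfsg.Agent.Lib.Golay.Perm.g (comp (comp (comp a b) c) d) := by
    rw [g_comp hvabc vd, g_comp hvab vc, g_comp va vb]
    exact e
  have htest := all_test ha hb hc hd
  set P := comp (comp (comp a b) c) d with hP
  have himg : ∀ i < 24, g (pt i) = pt (img P i) := by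
    intro i hi
    rw [hgP, g_pt hv hi]
  have himglt : ∀ i < 24, img P i < 24 := fun i hi => valid_img_lt hv hi
  simp only [testP, Bool.or_eq_true, Bool.and_eq_true] at htest
  rcases htest with h1 | ⟨h1, h2⟩
  · obtain ⟨x, hx, hxf⟩ := not_all_iff h1
    simp only [Bool.or_eq_false_iff, Bool.not_eq_false'] at hxf
    apply hno (pt x)
    · rw [mem_setOf, idx_pt hx, hxf.1]
      simp
    · rw [himg x hx, Nat.eq_of_beq_eq_true hxf.2]
  · obtain ⟨x, hx, hxf⟩ := not_all_iff h1
    obtain ⟨y, hy, hyf⟩ := not_all_iff h2
    rcases h23 with h | h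
    · have h3 : g ^ 2 = 1 := by rw [← h]; exact pow_orderOf_eq_one g
      have h4 : g (g (pt x)) = pt x := by
        have := congrArg (fun τ : Equiv.Perm GolayPt => τ (pt x)) h3
        simpa [pow_two] using this
      rw [himg x hx, himg _ (himglt x hx)] at h4
      have := pt_injOn (himglt _ (himglt x hx)) hx h4
      rw [this] at hxf
      simp at hxf
    · have h3 : g ^ 3 = 1 := by rw [← h]; exact pow_orderOf_eq_one g
      have h4 : g (g (g (pt y))) = pt y := by
        have := congrArg (fun τ : Equiv.Perm GolayPt => τ (pt y)) h3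
        simpa [pow_succ] using this
      rw [himg y hy, himg _ (himglt y hy), himg _ (himglt _ (himglt y hy))] at h4
      have := pt_injOn (himglt _ (himglt _ (himglt y hy))) hy h4
      rw [this] at hyf
      simp at hyf

end Cfsg.Agent.S5522
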