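import Cfsg.Statements.S5615
import Cfsg.Agent.Lib.M24Data.Orbit
import Cfsg.Agent.Lib.M24Orb.OctadStab

set_option autoImplicit false
open scoped Pointwise
open Cfsg

namespace Cfsg.Agent.S5615

open Cfsg.Agent.Lib.Golay.Core Cfsg.Agent.Lib.Golay.Perm Cfsg.Agent.Lib.Golay.M24
  Cfsg.Agent.Lib.Golay.Basic
  Cfsg.Agent.Lib.M24Data.Tree Cfsg.Agent.Lib.M24Data.Universe Cfsg.Agent.Lib.M24Data.Orbit

open Cfsg.Agent.Lib.Golay.Chain Cfsg.Agent.Lib.Golay.Stab Cfsg.Agent.Lib.M24Orb.OctadStab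
  Cfsg.Agent.Lib.M24Data.OctadPairs

def G0 : ℕ := 731722436169300660544467608200577198
def G1 : ℕ := 603045014232263525739812050603379735

/-- The trios through the base octad, by their indices. -/
def TRA : ℕ := 0xae5ae4ae3ae2ae1ae0adfadeaddadcadbadaad9ad8ad7

def TR (i : ℕ) : ℕ := nthW TRA 12 i

abbrev o0 : Finset Cfsg.GolayPt := Cfsg.Agent.Lib.Golay.Core.setOf O0

theorem gens_check : allL (fun P => checkAut P && Nat.beq (mapMask P O0) O0) [G0, G1] = true := by
  decide +kernel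

theorem gens_ok : ∀ P ∈ G0 :: [G0, G1], Good P ∧ g P • o0 = o0 := by
  intro P hP
  have hP' : P ∈ [G0, G1] := by
    rcases List.mem_cons.mp hP with rfl | h
    · simp
    · exact h
  have h := allL_iff.mp gens_check P hP'
  simp only [Bool.and_eq_true] at h
  refine ⟨good_of_check h.1, ?_⟩
  rw [smul_setOf (checkAut_valid h.1), Nat.eq_of_beq_eq_true h.2]

theorem TR_ok : ∀ i < 15, TR i < 3795 ∧ anyL (Nat.beq O0) (triL (TR i)) = true := by decide +kernel

theorem TR_cover_aux : allUpTo (fun m => !(anyL (Nat.beq O0) (triL m)) ||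
    !(allUpTo (fun i => !(Nat.beq (TR i) m)) 15)) 3795 = true := by
  decide +kernel

theorem TR_cover {m : ℕ} (hm : m < 3795) (h : anyL (Nat.beq O0) (triL m) = true) : ∃ i < 15, TR i = m := by
  have h1 := allUpTo_iff.mp TR_cover_aux m hm
  rw [h] at h1
  by_contra hne
  have h2 : allUpTo (fun i => !(Nat.beq (TR i) m)) 15 = true := by
    apply allUpTo_iff.mpr
    intro i hi
    cases h3 : Nat.beq (TR i) m with
    | false => rfl
    | true => exact absurd ⟨i, hi, Nat.eq_of_beq_eq_true h3⟩ hne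
  rw [h2] at h1
  exact absurd h1 (by simp)

/-- The enumeration of the trios through the base octad. -/
def D (i : ℕ) : Finset (Finset Cfsg.GolayPt) := decT (TR i)

theorem mem_dec_iff {m : ℕ} (hm : m < 3795) : o0 ∈ decT m ↔ anyL (Nat.beq O0) (triL m) = true := by
  constructor
  · intro h
    obtain ⟨a, ha, ha'⟩ := mem_famOf.mp h
    have h2 := eq_of_setOf_eq (triL_lt m a ha) (by decide +kernel) ha'
    exact anyL_beq_of_mem (h2 ▸ ha)
  · intro h
    exact mem_famOf.mpr ⟨_, mem_of_anyL_beq h, rfl⟩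

theorem D_mem {i : ℕ} (hi : i < 15) : D i ∈ Cfsg.trios ∧ o0 ∈ D i :=
  ⟨decT_mem (TR_ok i hi).1, (mem_dec_iff (TR_ok i hi).1).mpr (TR_ok i hi).2⟩

theorem exists_D {T : Finset (Finset Cfsg.GolayPt)} (hT : T ∈ Cfsg.trios) (h : o0 ∈ T) : ∃ i < 15, T = D i := by
  rw [trios_eq] at hT
  obtain ⟨m, hm, rfl⟩ := hT
  obtain ⟨i, hi, rfl⟩ := TR_cover hm ((mem_dec_iff hm).mp h)
  exact ⟨i, hi, rfl⟩

/-! ### Counting -/

theorem count15 : countUpTo (fun m => anyL (Nat.beq O0) (triL m)) 3795 = 15 := by decide +kernel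

theorem card15 : {T : Finset (Finset Cfsg.GolayPt) | T ∈ Cfsg.trios ∧ o0 ∈ T}.ncard = 15 := by
  rw [ncard_sep Cfsg.trios decT 3795 trios_eq decT_injOn (fun T => o0 ∈ T)
    (fun m => anyL (Nat.beq O0) (triL m)) (fun i hi => mem_dec_iff hi), count15]

/-! ### Double transitivity -/

/-- The relation on ordered pairs of trios, numbered `16 * i + j`. -/
def relP (k p c : ℕ) : Bool :=
  Nat.blt (TR (p / 16)) 3795 && Nat.blt (TR (c / 16)) 3795 && Nat.blt (TR (p % 16)) 3795 &&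
    Nat.blt (TR (c % 16)) 3795 && relT (genAt G0 [G0, G1] k) (TR (p / 16)) (TR (c / 16)) &&
    relT (genAt G0 [G0, G1] k) (TR (p % 16)) (TR (c % 16))

/-- The forest for the action on pairs. -/
def AP : ℕ := 0x10b0100107800b001b10b0027007806a107803b101b08200270c61027003006a079106a054003b041103b06200820ac00c60d710c60a500030b410030760079065107903c005403810540de004108010410e8006207c106205000ac09d10ac04a00d702610d709310a504d00b401810b402e007606710760350065073106505d103806b10de09100800ab10800b700e80ea007c06d107c03a009d052109d0c9004a089104a0e400260c71026005104d0e9001800a101808b002e0ce1067053003504300730641073036005d032105d0d9006b07110910c810ab04200b701610b702310ea014006d072106d059003a04910520d000c90d510890bc10e401e00c70d610c70a300050b3100507d00e90e510e901c000a0b9100a074008b0a1108b0b20053034004308410430e6106405e0036047003204c103206000d902510d909c00c80da004208c10420e00016007101608500230c410230060014008101408e007206c107203010590dc10490ec00d002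b10d009700bc01d10bc02a001e00e101e08110d609500a309410a3046107d03900e50e3001c00d101c08a00b901510b902c0074068107403e00a109010a104810b2020103406e00840a810840be00e60e7105e0d10047086004c08d006007b106005700250c3109c0ca00da029008c0ad108c0ba00e00eb10e001700070b610850bd00c40d810c40ae1006075108e0b1106c05a003004b00dc02d10dc09a00ec0ed10ec01a002b0c1102b0020097056102a00400810a010810b810950cd009405800460870039045008a0a9006807a106805b003e04e103e06100200cb006e07e106e05110be02110e701310d109800860a710860b5008d0a210570d300c30d410c30a610ca0a400290c5102900c00ad09200ba01910ba02400eb0e110eb012101708310d809b00ae09e0075063107503d00b101010b1028104b0e2002d0c2102d0091002070005603700cd0d210580db007a069005b03100210c000a709610a2040009205c001000b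

/-- The last test. -/
def finP (s : ℕ) : Bool :=
  allUpTo (fun p => Nat.beq (p / 16) (p % 16) || !(Nat.blt (p % 16) 15) || Nat.beq (bit s p) 1) 240

theorem runP : runF relP AP finP 209 (seedOf [1]) = true := by decide +kernel

/-- Being in the orbit of the first pair. -/
def PrP (p : ℕ) : Prop :=
  ∃ σ ∈ Cfsg.M24, σ • o0 = o0 ∧ σ • D 0 = D (p / 16) ∧ σ • D 1 = D (p % 16)

theorem prP_all : ∀ i < 15, ∀ j < 15, i ≠ j → PrP (16 * i + j) := by
  refine runF_sound (Pr := PrP) (rel := relP) (A := AP) (fin := finP) ?_ ?_ 209 _ (seed_spec ?_) runP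
  · intro k p c h hp
    simp only [relP, Bool.and_eq_true] at h
    obtain ⟨⟨⟨⟨⟨h1, h2⟩, h3⟩, h4⟩, h5⟩, h6⟩ := h
    obtain ⟨σ, hσ, h7, h8, h9⟩ := hp
    have hG := gens_ok _ (genAt_mem G0 [G0, G1] k)
    have e1 := (relT_iff hG.1 (blt_iff.mp h1) (blt_iff.mp h2)).mp h5
    have e2 := (relT_iff hG.1 (blt_iff.mp h3) (blt_iff.mp h4)).mp h6
    refine ⟨_ * σ, Cfsg.M24.mul_mem hG.1.2 hσ, ?_, ?_, ?_⟩
    · rw [mul_smul, h7, hG.2]
    · rw [mul_smul, h8]
      exact e1
    · rw [mul_smul, h9]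
      exact e2
  · intro s hs hp i hi j hj hij
    have hlt : 16 * i + j < 240 := by omega
    have h1 := allUpTo_iff.mp hs _ hlt
    have e1 : (16 * i + j) / 16 = i := by omega
    have e2 : (16 * i + j) % 16 = j := by omega
    simp only [e1, e2, Bool.or_eq_true] at h1
    rcases h1 with (h1 | h1) | h1
    · exact absurd (Nat.eq_of_beq_eq_true h1) hij
    · simp only [Bool.not_eq_eq_eq_not, Bool.not_true] at h1
      have h2 : Nat.blt j 15 = true := blt_iff.mpr hj
      rw [h2] at h1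
      exact absurd h1 (by simp)
    · exact hp _ (bit_eq_one_iff.mp (Nat.eq_of_beq_eq_true h1))
  · intro r hr
    have hr' : r = 1 := by simpa using hr
    subst hr'
    exact ⟨1, Cfsg.M24.one_mem, one_smul _ _, one_smul _ _, one_smul _ _⟩

theorem two_trans {T₁ T₂ T₁' T₂' : Finset (Finset Cfsg.GolayPt)} (h1 : T₁ ∈ Cfsg.trios) (h2 : T₂ ∈ Cfsg.trios)
    (h3 : T₁' ∈ Cfsg.trios) (h4 : T₂' ∈ Cfsg.trios) (h5 : o0 ∈ T₁) (h6 : o0 ∈ T₂) (h7 : o0 ∈ T₁') (h8 : o0 ∈ T₂')
    (hne : T₁ ≠ T₂) (hne' : T₁' ≠ T₂') : ∃ g ∈ Cfsg.M24, g • o0 = o0 ∧ g • T₁ = T₁' ∧ g • T₂ = T₂' := by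
  obtain ⟨i, hi, rfl⟩ := exists_D h1 h5
  obtain ⟨j, hj, rfl⟩ := exists_D h2 h6
  obtain ⟨i', hi', rfl⟩ := exists_D h3 h7
  obtain ⟨j', hj', rfl⟩ := exists_D h4 h8
  have hij : i ≠ j := fun h => hne (by rw [h])
  have hij' : i' ≠ j' := fun h => hne' (by rw [h])
  obtain ⟨σ, hσ, a1, a2, a3⟩ := prP_all i hi j hj hij
  obtain ⟨τ, hτ, b1, b2, b3⟩ := prP_all i' hi' j' hj' hij'
  have e1 : (16 * i + j) / 16 = i := by omega
  have e2 : (16 * i + j) % 16 = j := by omega
  have e3 : (16 * i' + j') / 16 = i' := by omega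
  have e4 : (16 * i' + j') % 16 = j' := by omega
  rw [e1] at a2
  rw [e2] at a3
  rw [e3] at b2
  rw [e4] at b3
  refine ⟨τ * σ⁻¹, Cfsg.M24.mul_mem hτ (Cfsg.M24.inv_mem hσ), ?_, ?_, ?_⟩
  · rw [mul_smul, inv_smul_eq_iff.mpr a1.symm, b1]
  · rw [mul_smul, ← a2, inv_smul_smul, b2]
  · rw [mul_smul, ← a3, inv_smul_smul, b3]

/-! ### The kernel -/

theorem T6_fix : ∀ P ∈ T6, allUpTo (fun i => relT P (TR i) (TR i)) 15 = true := by decide +kernel

theorem fix_of_pointwise {σ : Equiv.Perm Cfsg.GolayPt} (hσ : σ ∈ Cfsg.M24) (h : ∀ p ∈ o0, σ p = p) {T : Finset (Finset Cfsg.GolayPt)}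
    (hT : T ∈ Cfsg.trios) (hT' : o0 ∈ T) : σ • T = T := by
  have hf : σ ∈ FixO o0 := ⟨hσ, (mem_fixingSubgroup_iff _).mpr fun y hy => h y hy⟩
  obtain ⟨P, hP, rfl⟩ := mem_T6 (fix_O0_iff.mp hf)
  obtain ⟨i, hi, rfl⟩ := exists_D hT hT'
  have hG := good_of_check (tableOK_spec tableOK6 P hP).1
  exact (relT_iff hG (TR_ok i hi).1 (TR_ok i hi).1).mp (allUpTo_iff.mp (T6_fix P hP) i hi)

/-- The elements of the stabiliser fixing all the trios through the octad. -/
def KK : Subgroup (StabO o0) where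
  carrier := {x | ∀ T ∈ Cfsg.trios, o0 ∈ T → x.1 • T = T}
  one_mem' := fun T _ _ => one_smul _ T
  mul_mem' := by
    intro a b ha hb T h1 h2
    show (a.1 * b.1) • T = T
    rw [mul_smul, hb T h1 h2, ha T h1 h2]
  inv_mem' := by
    intro a ha T h1 h2
    show a.1⁻¹ • T = T
    rw [inv_smul_eq_iff, ha T h1 h2]

theorem KK_normal : KK.Normal := by
  constructor
  intro k hk x T h1 h2
  have hx : x.1 • o0 = o0 := x.2.2
  have hi : x.1⁻¹ • T ∈ Cfsg.trios := smul_mem_trios (Cfsg.M24.inv_mem x.2.1) h1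
  have hi' : o0 ∈ x.1⁻¹ • T := by
    rw [Finset.mem_smul_finset]
    exact ⟨x.1 • o0, by rw [hx]; exact h2, by rw [inv_smul_smul]⟩
  show (x.1 * k.1 * x.1⁻¹) • T = T
  rw [mul_smul, mul_smul, hk _ hi hi', smul_inv_smul]

theorem mover : relT G0 (TR 0) (TR 0) = false := by decide +kernel

theorem KK_ne : ∃ y : StabO o0, y ∉ KK := by
  have hG := gens_ok G0 (by simp)
  refine ⟨⟨g G0, hG.1.2, hG.2⟩, fun h => ?_⟩
  have h1 := h _ (D_mem (i := 0) (by norm_num)).1 (D_mem (i := 0) (by norm_num)).2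
  have h2 := (relT_iff hG.1 (TR_ok 0 (by norm_num)).1 (TR_ok 0 (by norm_num)).1).mpr h1
  rw [mover] at h2
  exact absurd h2 (by simp)

theorem pointwise_of_fix {σ : Equiv.Perm Cfsg.GolayPt} (hσ : σ ∈ Cfsg.M24) (hs : σ • o0 = o0)
    (h : ∀ T ∈ Cfsg.trios, o0 ∈ T → σ • T = T) : ∀ p ∈ o0, σ p = p := by
  have ho := O0_mem
  -- the image of the kernel in the alternating group
  have hsimple : IsSimpleGroup ↥(restr o0).range := by
    rw [range_restr_eq ho]
    apply alternatingGroup.isSimpleGroup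
    rw [Nat.card_eq_fintype_card, Fintype.card_coe, ho.2]
    norm_num
  have hN : (KK.map (restr o0).rangeRestrict).Normal :=
    KK_normal.map _ (restr o0).rangeRestrict_surjective
  have hker : ∀ x : StabO o0, restr o0 x = 1 → x ∈ KK := by
    intro x hx T h1 h2
    have hx' : x ∈ (restr o0).ker := hx
    have h3 := (mem_ker_restr x).mp hx'
    exact fix_of_pointwise x.2.1 (fun p hp => (mem_fixingSubgroup_iff _).mp h3.2 p hp) h1 h2
  rcases hN.eq_bot_or_eq_top with hb | ht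
  · have hmem : (⟨σ, hσ, hs⟩ : StabO o0) ∈ KK := h
    have h1 : (restr o0).rangeRestrict ⟨σ, hσ, hs⟩ ∈ KK.map (restr o0).rangeRestrict :=
      Subgroup.mem_map_of_mem _ hmem
    rw [hb, Subgroup.mem_bot] at h1
    have h2 : restr o0 ⟨σ, hσ, hs⟩ = 1 := congrArg Subtype.val h1
    have h3 := (mem_ker_restr _).mp h2
    intro p hp
    exact (mem_fixingSubgroup_iff _).mp h3.2 p hp
  · exfalso
    obtain ⟨y, hy⟩ := KK_ne
    have h1 : (restr o0).rangeRestrict y ∈ KK.map (restr o0).rangeRestrict := by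
      rw [ht]
      exact Subgroup.mem_top _
    obtain ⟨k, hk, hk'⟩ := h1
    apply hy
    have h2 : restr o0 (k⁻¹ * y) = 1 := by
      rw [map_mul, map_inv]
      have h3 : restr o0 k = restr o0 y := congrArg Subtype.val hk'
      rw [h3]
      group
    have h4 := KK.mul_mem hk (hker _ h2)
    have e : k * (k⁻¹ * y) = y := by group
    rwa [e] at h4


/-- An octad of the length-24 code lies in exactly 15 trios; the stabiliser of the octad in the code's group acts doubly transitively on these 15 trios, and the kernel of this action is the pointwise stabiliser of the octad. -/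
theorem result (o : Finset Cfsg.GolayPt) (ho : o ∈ Cfsg.octads) : {T : Finset (Finset Cfsg.GolayPt) | T ∈ Cfsg.trios ∧ o ∈ T}.ncard = 15 ∧ (∀ T₁ T₂ T₁' T₂' : Finset (Finset Cfsg.GolayPt), T₁ ∈ Cfsg.trios → T₂ ∈ Cfsg.trios → T₁' ∈ Cfsg.trios → T₂' ∈ Cfsg.trios → o ∈ T₁ → o ∈ T₂ → o ∈ T₁' → o ∈ T₂' → T₁ ≠ T₂ → T₁' ≠ T₂' → ∃ g ∈ Cfsg.M24, g • o = o ∧ g • T₁ = T₁' ∧ g • T₂ = T₂') ∧ ∀ g ∈ Cfsg.M24, g • o = o → ((∀ T ∈ Cfsg.trios, o ∈ T → g • T = T) ↔ ∀ p ∈ o, g p = p) := by
  obtain ⟨ρ, hρ, rfl⟩ := exists_smul_O0 ho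
  have hi := Cfsg.M24.inv_mem hρ
  have hmem : ∀ T : Finset (Finset Cfsg.GolayPt), ρ • o0 ∈ T ↔ o0 ∈ ρ⁻¹ • T := by
    intro T
    rw [Finset.mem_smul_finset]
    constructor
    · intro h
      exact ⟨_, h, inv_smul_smul _ _⟩
    · rintro ⟨s, hs, hs'⟩
      rwa [← hs', smul_inv_smul]
  refine ⟨?_, ?_, ?_⟩
  · have e : {T : Finset (Finset Cfsg.GolayPt) | T ∈ Cfsg.trios ∧ ρ • o0 ∈ T} =
        (fun z => ρ • z) '' {T : Finset (Finset Cfsg.GolayPt) | T ∈ Cfsg.trios ∧ o0 ∈ T} := by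
      ext T
      constructor
      · rintro ⟨h1, h2⟩
        exact ⟨ρ⁻¹ • T, ⟨smul_mem_trios hi h1, (hmem T).mp h2⟩, smul_inv_smul _ _⟩
      · rintro ⟨S, ⟨h1, h2⟩, rfl⟩
        refine ⟨smul_mem_trios hρ h1, (hmem _).mpr ?_⟩
        rw [inv_smul_smul]
        exact h2
    rw [e, Set.ncard_image_of_injective _ (MulAction.injective ρ), card15]
  · intro T₁ T₂ T₁' T₂' h1 h2 h3 h4 h5 h6 h7 h8 hne hne'
    obtain ⟨σ, hσ, a1, a2, a3⟩ := two_trans (smul_mem_trios hi h1) (smul_mem_trios hi h2)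
      (smul_mem_trios hi h3) (smul_mem_trios hi h4) ((hmem _).mp h5) ((hmem _).mp h6)
      ((hmem _).mp h7) ((hmem _).mp h8) (fun h => hne (smul_left_cancel _ h))
      (fun h => hne' (smul_left_cancel _ h))
    refine ⟨ρ * σ * ρ⁻¹, Cfsg.M24.mul_mem (Cfsg.M24.mul_mem hρ hσ) hi, ?_, ?_, ?_⟩
    · rw [mul_smul, mul_smul, inv_smul_smul, a1]
    · rw [mul_smul, mul_smul, a2, smul_inv_smul]
    · rw [mul_smul, mul_smul, a3, smul_inv_smul]
  · intro σ hσ hs
    have hc : ρ⁻¹ * σ * ρ ∈ Cfsg.M24 := Cfsg.M24.mul_mem (Cfsg.M24.mul_mem hi hσ) hρ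
    have hs' : (ρ⁻¹ * σ * ρ) • o0 = o0 := by
      rw [mul_smul, mul_smul, hs, inv_smul_smul]
    constructor
    · intro h p hp
      obtain ⟨q, hq, rfl⟩ := Finset.mem_smul_finset.mp hp
      have h2 := pointwise_of_fix hc hs' (fun T h1 h2 => by
        rw [mul_smul, mul_smul]
        have h3 := h (ρ • T) (smul_mem_trios hρ h1) (Finset.smul_mem_smul_finset h2)
        rw [h3, inv_smul_smul]) q hq
      simp only [Equiv.Perm.mul_apply] at h2
      have h3 := congrArg ρ h2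
      simpa using h3
    · intro h T h1 h2
      have h3 := fix_of_pointwise hc (fun q hq => by
        simp only [Equiv.Perm.mul_apply]
        have h5 : σ (ρ q) = ρ q := h _ (Finset.smul_mem_smul_finset hq)
        rw [h5]
        simp) (smul_mem_trios hi h1) ((hmem T).mp h2)
      rw [mul_smul, mul_smul, smul_inv_smul] at h3
      rw [inv_smul_eq_iff, smul_inv_smul] at h3
      exact h3

end Cfsg.Agent.S5615
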