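import Cfsg.Statements.S5727
import Cfsg.Agent.Lib.PermSylow.Derange

set_option autoImplicit false
open Cfsg

namespace Cfsg.Agent.S5727

open MulAction Cfsg.Agent.Lib.PermSylow.Derange

/-- If a finite group acts faithfully and transitively on a set with m·p elements, where p is a prime and 1 ≤ m ≤ p, then some element of order p fixes no point. -/
theorem result {G Ω : Type*} [Group G] [Finite G] [MulAction G Ω] [FaithfulSMul G Ω] [Fintype Ω] (htr : MulAction.IsPretransitive G Ω)
    (p m : ℕ) (hp : p.Prime) (hm : 1 ≤ m) (hmp : m ≤ p) (hΩ : Fintype.card Ω = m * p) :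
    ∃ g : G, orderOf g = p ∧ ∀ ω : Ω, g • ω ≠ ω := by
  classical
  haveI : Fact p.Prime := ⟨hp⟩
  rcases hmp.eq_or_lt with rfl | hlt
  · exact exists_derangement_of_card_eq_pow htr (k := 2) (by norm_num)
      (by rw [Nat.card_eq_fintype_card, hΩ, pow_two])
  have hΩ' : Nat.card Ω = m * p := by rw [Nat.card_eq_fintype_card, hΩ]
  obtain ⟨P⟩ : Nonempty (Sylow p G) := inferInstance
  have hPp : IsPGroup p (P : Subgroup G) := P.isPGroup'
  have hne : Nonempty Ω := by
    apply (Nat.card_pos_iff.mp _).1
    rw [hΩ']; exact Nat.mul_pos hm hp.pos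
  have horb : ∀ ω : Ω, Nat.card (orbit (P : Subgroup G) ω) = p := by
    intro ω
    have h1 := pow_dvd_orbit_card htr P (e := 1) (by rw [pow_one, hΩ']; exact dvd_mul_left _ _) ω
    rw [pow_one] at h1
    -- the orbit has `p`-power order
    have h2 : Nat.card (orbit (P : Subgroup G) ω) ∣ Nat.card (P : Subgroup G) := by
      have := Subgroup.index_dvd_card (stabilizer (P : Subgroup G) ω)
      rwa [index_stabilizer, ← Nat.card_coe_set_eq] at this
    obtain ⟨d, hd⟩ := IsPGroup.iff_card.mp hPp
    rw [hd] at h2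
    obtain ⟨c, _, hc⟩ := (Nat.dvd_prime_pow hp).mp h2
    have h3 : Nat.card (orbit (P : Subgroup G) ω) ≤ m * p := by
      rw [← hΩ']
      exact Nat.card_mono Set.finite_univ (Set.subset_univ _) |>.trans (by simp)
    rw [hc] at h1 h3 ⊢
    have hc1 : c ≠ 0 := by
      rintro rfl
      rw [pow_zero] at h1
      exact hp.one_lt.ne' (Nat.dvd_one.mp h1)
    have hc2 : c < 2 := by
      by_contra hcon
      have h4 : p ^ 2 ≤ p ^ c := Nat.pow_le_pow_right hp.pos (by omega)
      have h5 : m * p < p ^ 2 := by rw [pow_two]; exact Nat.mul_lt_mul_of_pos_right hlt hp.pos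
      omega
    have : c = 1 := by omega
    rw [this, pow_one]
  have hidx : ∀ ω : Ω, (stabilizer (P : Subgroup G) ω).index = p := by
    intro ω
    rw [index_stabilizer, ← Nat.card_coe_set_eq]
    exact horb ω
  -- number of orbits
  have hs : Nat.card (Quotient (orbitRel (P : Subgroup G) Ω)) ≤ p := by
    have h1 : Nat.card Ω = Nat.card (Σ o : Quotient (orbitRel (P : Subgroup G) Ω),
        orbit (P : Subgroup G) o.out) :=
      Nat.card_congr (selfEquivSigmaOrbits (P : Subgroup G) Ω)
    rw [Nat.card_sigma] at h1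
    simp only [horb, Finset.sum_const, Finset.card_univ, smul_eq_mul] at h1
    rw [hΩ'] at h1
    have h2 := Nat.eq_of_mul_eq_mul_right hp.pos h1
    rw [Nat.card_eq_fintype_card]
    omega
  obtain ⟨g, hg1, hg2⟩ := exists_derangement_of_index_eq hPp hidx hs
  refine ⟨(g : G), ?_, ?_⟩
  · rw [Subgroup.orderOf_coe, hg1]
  · intro ω
    exact hg2 ω

end Cfsg.Agent.S5727
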