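import Cfsg.Statements.S5728

set_option autoImplicit false
open Cfsg

namespace Cfsg.Agent.S5728

lemma exists_zmod_of_pow_eq (p : ℕ) [Fact p.Prime] {a : GaloisField p 2} (ha : a ^ p = a) :
    ∃ c : ZMod p, algebraMap (ZMod p) (GaloisField p 2) c = a := by
  have h1 : a ∈ (⊥ : Subfield (GaloisField p 2)) :=
    (Subfield.mem_bot_iff_pow_eq_self (GaloisField p 2) p).mpr ha
  rw [← ZMod.fieldRange_castHom_eq_bot p] at h1
  obtain ⟨c, hc⟩ := h1
  refine ⟨c, ?_⟩
  rw [← hc]
  have : algebraMap (ZMod p) (GaloisField p 2) = ZMod.castHom (m := p) dvd_rfl (GaloisField p 2) :=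
    Subsingleton.elim _ _
  rw [this]

/-- An elusive transitive action. Let p = 2^s − 1 be a prime and let F be the field with p² elements. Inside the group of affine maps x ↦ a·x + b of F (a ≠ 0), consider the subgroup of maps with both coefficients in the prime field. Then every element of prime order of the affine group is conjugate, within the affine group, to an element of that subgroup; equivalently, in the transitive action of the affine group on the cosets of that subgroup (of degree p(p + 1)) every element of prime order fixes a point. -/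
theorem result (p s : ℕ) [Fact p.Prime] (hs : p = 2 ^ s - 1)
    (g : Equiv.Perm (GaloisField p 2)) (hg : g ∈ Cfsg.affineGroup (GaloisField p 2)) (hord : (orderOf g).Prime) :
    ∃ x ∈ Cfsg.affineGroup (GaloisField p 2), ∃ a b : ZMod p, a ≠ 0 ∧
      ∀ y : GaloisField p 2, (x * g * x⁻¹) y = algebraMap (ZMod p) (GaloisField p 2) a * y + algebraMap (ZMod p) (GaloisField p 2) b := by
  classical
  have hpp : p.Prime := Fact.out
  obtain ⟨a, b, hab⟩ := hg
  by_cases ha1 : (a : GaloisField p 2) = 1
  · -- translation
    have hb0 : b ≠ 0 := by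
      rintro rfl
      have : g = 1 := by
        ext y
        rw [hab, ha1]
        simp
      rw [this, orderOf_one] at hord
      exact Nat.not_prime_one hord
    let x : Equiv.Perm (GaloisField p 2) := Equiv.mulLeft₀ b⁻¹ (inv_ne_zero hb0)
    have hxapp : ∀ y, x y = b⁻¹ * y := fun y => rfl
    have hxinv : ∀ y, x⁻¹ y = b * y := by
      intro y
      rw [Equiv.Perm.inv_eq_iff_eq, hxapp, ← mul_assoc, inv_mul_cancel₀ hb0, one_mul]
    refine ⟨x, ⟨Units.mk0 b⁻¹ (inv_ne_zero hb0), 0, fun y => ?_⟩, 1, 1, one_ne_zero, fun y => ?_⟩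
    · simp [hxapp]
    · simp only [Equiv.Perm.coe_mul, Function.comp_apply, hxinv, hab, ha1, hxapp, map_one]
      field_simp
  · -- fixed point
    have h1a : (1 : GaloisField p 2) - a ≠ 0 := by
      rw [sub_ne_zero]; exact fun h => ha1 h.symm
    set y0 : GaloisField p 2 := b / (1 - a) with hy0
    have hfix : (a : GaloisField p 2) * y0 + b = y0 := by
      rw [hy0]; field_simp; ring
    let x : Equiv.Perm (GaloisField p 2) := Equiv.addRight (-y0)
    have hxapp : ∀ y, x y = y + -y0 := fun y => rfl
    have hxinv : ∀ y, x⁻¹ y = y + y0 := by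
      intro y
      rw [Equiv.Perm.inv_eq_iff_eq, hxapp]; ring
    have hconj : ∀ y, (x * g * x⁻¹) y = (a : GaloisField p 2) * y := by
      intro y
      simp only [Equiv.Perm.coe_mul, Function.comp_apply, hxinv, hab, hxapp]
      linear_combination hfix
    have hconjpow : ∀ (k : ℕ) (y : GaloisField p 2), ((x * g * x⁻¹) ^ k) y = (a : GaloisField p 2) ^ k * y := by
      intro k
      induction k with
      | zero => intro y; simp
      | succ k ih =>
        intro y
        rw [pow_succ, Equiv.Perm.coe_mul, Function.comp_apply, ih, hconj, pow_succ, mul_assoc]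
    -- `a ^ r = 1`
    set r := orderOf g with hr
    have har : (a : GaloisField p 2) ^ r = 1 := by
      have h1 : (x * g * x⁻¹) ^ r = 1 := by
        rw [conj_pow, hr, pow_orderOf_eq_one]; group
      have h2 := hconjpow r 1
      rw [h1] at h2
      simpa using h2.symm
    haveI : Fact r.Prime := ⟨hord⟩
    have hordA : orderOf (a : GaloisField p 2) = r := orderOf_eq_prime har ha1
    have hcard : Nat.card (GaloisField p 2) = p ^ 2 := GaloisField.card p 2 (by norm_num)
    haveI : Fintype (GaloisField p 2) := Fintype.ofFinite _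
    have hpow : (a : GaloisField p 2) ^ (p ^ 2 - 1) = 1 := by
      have := FiniteField.pow_card_sub_one_eq_one (a : GaloisField p 2) a.ne_zero
      rwa [← Nat.card_eq_fintype_card, hcard] at this
    have hrdvd : r ∣ p ^ 2 - 1 := by
      rw [← hordA]; exact orderOf_dvd_of_pow_eq_one hpow
    have hp1 : p + 1 = 2 ^ s := by
      have : 1 ≤ 2 ^ s := Nat.one_le_two_pow
      omega
    have hpfac : p ^ 2 - 1 = (p - 1) * (p + 1) := by
      have h2 := hpp.one_lt
      obtain ⟨k, rfl⟩ : ∃ k, p = k + 1 := ⟨p - 1, by omega⟩
      simp only [Nat.add_sub_cancel]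
      have : (k + 1) ^ 2 = k * (k + 1 + 1) + 1 := by ring
      rw [this]; simp
    have hrp : r ∣ p - 1 := by
      rw [hpfac, hp1] at hrdvd
      rcases (Nat.Prime.dvd_mul hord).mp hrdvd with h | h
      · exact h
      · have h2 := Nat.Prime.dvd_of_dvd_pow hord h
        have hr2 : r = 2 := (Nat.prime_dvd_prime_iff_eq hord Nat.prime_two).mp h2
        rw [hr2]
        have hs1 : 2 ≤ s := by
          by_contra hlt
          have : s = 0 ∨ s = 1 := by omega
          rcases this with rfl | rfl
          · simp at hs; exact hpp.ne_zero hs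
          · simp at hs; exact hpp.ne_one hs
        have hev : 2 ∣ p + 1 := by
          rw [hp1]; exact dvd_pow_self 2 (by omega)
        omega
    have hap : (a : GaloisField p 2) ^ p = a := by
      obtain ⟨k, hk⟩ := hrp
      have h2 := hpp.one_lt
      have h3 : p = r * k + 1 := by omega
      calc (a : GaloisField p 2) ^ p = (a : GaloisField p 2) ^ (r * k + 1) := by
            exact congrArg (fun n => (a : GaloisField p 2) ^ n) h3
        _ = a := by rw [pow_succ, pow_mul, har, one_pow, one_mul]
    obtain ⟨c, hc⟩ := exists_zmod_of_pow_eq p hap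
    refine ⟨x, ⟨1, -y0, fun y => ?_⟩, c, 0, ?_, fun y => ?_⟩
    · simp [hxapp]
    · rintro rfl
      rw [map_zero] at hc
      exact a.ne_zero hc.symm
    · rw [hconj, hc]; simp

end Cfsg.Agent.S5728
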