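import Cfsg.Statements.S5748
import Cfsg.Agent.Lib.CAInv.Main
import Cfsg.Agent.S0183
import Cfsg.Agent.S0219
import Cfsg.Agent.Lib.Classical.SL2Sylow

set_option autoImplicit false
open Cfsg

namespace Cfsg.Agent.S5748


open scoped MatrixGroups

set_option linter.unusedVariables false
set_option linter.style.haveILetI false

private theorem no_comm {G : Type*} [Group G] (hG : ¬ IsMulCommutative G)
    (h : ∀ a b : G, a * b = b * a) : False :=
  hG ⟨⟨h⟩⟩

private theorem no_cyclic {G : Type*} [Group G] [Finite G] [IsSimpleGroup G]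
    (hG : ¬ IsMulCommutative G) (heven : Even (Nat.card G)) (h : ∀ P : Sylow 2 G, IsCyclic ↥P) :
    False := by
  obtain ⟨P⟩ : Nonempty (Sylow 2 G) := inferInstance
  obtain ⟨H, hH⟩ := Cfsg.Agent.S0219.result heven P (h P)
  have hn : H.Normal := Subgroup.normal_of_index_eq_two hH
  rcases IsSimpleGroup.eq_bot_or_eq_top_of_normal H hn with h1 | h1
  · rw [h1, Subgroup.index_bot] at hH
    haveI : Fact (Nat.Prime 2) := ⟨Nat.prime_two⟩
    haveI : IsCyclic G := isCyclic_of_prime_card hH
    apply no_comm hG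
    intro a b
    exact (IsCyclic.commGroup (α := G)).mul_comm a b
  · rw [h1, Subgroup.index_top] at hH
    omega

private theorem forward {G : Type*} [Group G] [Finite G] [IsSimpleGroup G]
    (hG : ¬ IsMulCommutative G)
    (htrans : ∀ a b c : G, a ≠ 1 → b ≠ 1 → c ≠ 1 → Commute a b → Commute b c → Commute a c) :
    ∃ (F : Type) (_ : Field F) (_ : Fintype F) (f : ℕ), 2 ≤ f ∧ Fintype.card F = 2 ^ f ∧
      Nonempty (G ≃* Matrix.ProjectiveSpecialLinearGroup (Fin 2) F) := by
  classical
  have hcent : ∀ g : G, g ≠ 1 → IsMulCommutative ↥(Subgroup.centralizer ({g} : Set G)) := by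
    intro g hg
    refine ⟨⟨?_⟩⟩
    rintro ⟨a, ha⟩ ⟨b, hb⟩
    apply Subtype.ext
    show a * b = b * a
    have ha' : a * g = g * a := Cfsg.Agent.Lib.CAInv.Basic.mem_centralizer_iff'.mp ha
    have hb' : b * g = g * b := Cfsg.Agent.Lib.CAInv.Basic.mem_centralizer_iff'.mp hb
    by_cases ha1 : a = 1
    · rw [ha1, one_mul, mul_one]
    by_cases hb1 : b = 1
    · rw [hb1, one_mul, mul_one]
    exact htrans a g b ha1 hg hb1 ha' hb'.symm
  by_cases hev : Even (Nat.card G)
  · have hinv : ∀ t : G, orderOf t = 2 →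
        IsMulCommutative ↥(Subgroup.centralizer ({t} : Set G)) := by
      intro t ht
      apply hcent t
      exact Cfsg.Agent.Lib.CAInv.Act.ne_one_of_order ht
    rcases Cfsg.Agent.Lib.CAInv.Main.main hinv with h1 | h1 | ⟨F, i1, i2, A, i3, i4, hchar, -, ⟨e⟩⟩
    · exact (no_cyclic hG hev h1).elim
    · exfalso
      obtain ⟨P⟩ : Nonempty (Sylow 2 G) := inferInstance
      have hP := h1 P
      rcases IsSimpleGroup.eq_bot_or_eq_top_of_normal (P : Subgroup G) hP with h2 | h2
      · exact P.ne_bot_of_dvd_card hev.two_dvd h2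
      · apply no_comm hG
        intro a b
        apply Cfsg.Agent.Lib.CAInv.Basic.sylow_comm hinv P
        · show a ∈ (P : Subgroup G)
          rw [h2]
          exact Subgroup.mem_top a
        · show b ∈ (P : Subgroup G)
          rw [h2]
          exact Subgroup.mem_top b
    · haveI := hchar
      let ψ : G →* SL(2, F) := (MonoidHom.fst _ _).comp e.toMonoidHom
      have hsurj : Function.Surjective ψ := by
        intro v
        refine ⟨e.symm (v, 1), ?_⟩
        show (e (e.symm (v, 1))).1 = v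
        rw [e.apply_symm_apply]
      have hker : ψ.ker = ⊥ := by
        rcases IsSimpleGroup.eq_bot_or_eq_top_of_normal ψ.ker inferInstance with h2 | h2
        · exact h2
        · exfalso
          obtain ⟨g, hg⟩ := hsurj (Cfsg.Agent.Lib.Classical.StSL2.Xm (1 : F))
          have h3 : g ∈ ψ.ker := by rw [h2]; exact Subgroup.mem_top g
          rw [MonoidHom.mem_ker, hg] at h3
          exact Cfsg.Agent.Lib.CAInv.SL2.Xm_ne_one one_ne_zero h3
      let e₂ : G ≃* SL(2, F) :=
        MulEquiv.ofBijective ψ ⟨(MonoidHom.ker_eq_bot_iff _).mp hker, hsurj⟩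
      obtain ⟨e₃⟩ := Cfsg.Agent.Lib.CAInv.CaseI2.psl_equiv_sl F
      obtain ⟨n, -, hn⟩ := FiniteField.card F 2
      refine ⟨F, i1, i2, n, ?_, hn, ⟨e₂.trans e₃.symm⟩⟩
      by_contra hlt
      have hn1 : (n : ℕ) = 1 := by
        have := n.pos
        omega
      rw [hn1, pow_one] at hn
      have hcS : Nat.card G = 6 := by
        rw [Nat.card_congr e₂.toEquiv, Cfsg.Agent.Lib.Classical.SL2Sylow.card_SL2, hn]
      apply no_cyclic hG hev
      intro P
      obtain ⟨m, hm⟩ := IsPGroup.iff_card.mp (P.isPGroup' : IsPGroup 2 P)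
      have hdvd : Nat.card P ∣ 6 := by
        rw [← hcS]
        exact Subgroup.card_subgroup_dvd_card (P : Subgroup G)
      have hm1 : m ≤ 1 := by
        by_contra hm2
        have h4 : 2 ^ 2 ∣ 2 ^ m := Nat.pow_dvd_pow 2 (by omega)
        rw [hm] at hdvd
        have := h4.trans hdvd
        omega
      have hm2 : m = 0 ∨ m = 1 := by omega
      rcases hm2 with rfl | rfl
      · rw [pow_zero] at hm
        haveI : Subsingleton P := (Nat.card_eq_one_iff_unique.mp hm).1
        exact isCyclic_of_subsingleton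
      · rw [pow_one] at hm
        haveI : Fact (Nat.Prime 2) := ⟨Nat.prime_two⟩
        exact isCyclic_of_prime_card hm
  · exfalso
    rw [Nat.not_even_iff_odd] at hev
    have hCN : Cfsg.IsCNGroup G := by
      intro g hg
      haveI := hcent g hg
      let _ : CommGroup ↥(Subgroup.centralizer ({g} : Set G)) :=
        { (inferInstance : Group ↥(Subgroup.centralizer ({g} : Set G))) with
          mul_comm := (IsMulCommutative.is_comm).comm }
      exact CommGroup.isNilpotent
    have hsol := Cfsg.Agent.S0183.result hev hCN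
    exact no_comm hG (IsSimpleGroup.comm_iff_isSolvable.mpr hsol)

private theorem comm_trans_entries {F : Type*} [Field F] {p q r s a00 a01 a10 a11 c00 c01 c10 c11 : F}
    (hnon : q ≠ 0 ∨ r ≠ 0 ∨ p ≠ s)
    (a1 : a01 * r = q * a10) (a2 : q * (a00 - a11) = a01 * (p - s)) (a3 : r * (a00 - a11) = a10 * (p - s))
    (c1 : c01 * r = q * c10) (c2 : q * (c00 - c11) = c01 * (p - s)) (c3 : r * (c00 - c11) = c10 * (p - s)) :
    a01 * c10 = c01 * a10 ∧ (a00 - a11) * c01 = (c00 - c11) * a01 ∧
      a10 * (c00 - c11) = c10 * (a00 - a11) := by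
  by_cases hq : q = 0
  · by_cases hr : r = 0
    · have hps : p ≠ s := by
        rcases hnon with h | h | h
        · exact absurd hq h
        · exact absurd hr h
        · exact h
      have hps' : p - s ≠ 0 := sub_ne_zero_of_ne hps
      rw [hq, zero_mul] at a2 c2
      rw [hr, zero_mul] at a3 c3
      have e1 : a01 = 0 := (mul_eq_zero.mp a2.symm).resolve_right hps'
      have e2 : c01 = 0 := (mul_eq_zero.mp c2.symm).resolve_right hps'
      have e3 : a10 = 0 := (mul_eq_zero.mp a3.symm).resolve_right hps'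
      have e4 : c10 = 0 := (mul_eq_zero.mp c3.symm).resolve_right hps'
      rw [e1, e2, e3, e4]
      simp
    · have h1 : a01 * c10 = c01 * a10 := by
        apply mul_left_cancel₀ hr
        rw [hq] at a1 c1
        have e1 : a01 = 0 := (mul_eq_zero.mp (a1.trans (zero_mul _))).resolve_right hr
        have e2 : c01 = 0 := (mul_eq_zero.mp (c1.trans (zero_mul _))).resolve_right hr
        rw [e1, e2]
        simp
      refine ⟨h1, ?_, ?_⟩
      · apply mul_left_cancel₀ hr
        linear_combination c01 * a3 - a01 * c3 - (p - s) * h1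
      · apply mul_left_cancel₀ hr
        linear_combination a10 * c3 - c10 * a3
  · refine ⟨?_, ?_, ?_⟩
    · apply mul_left_cancel₀ hq
      linear_combination (-a01) * c1 + c01 * a1
    · apply mul_left_cancel₀ hq
      linear_combination c01 * a2 - a01 * c2
    · apply mul_left_cancel₀ hq
      linear_combination (-(c00 - c11)) * a1 + a01 * c3 - c10 * a2

private theorem sl2_comm_trans {F : Type*} [Field F] [CharP F 2] {a b c : SL(2, F)} (hb : b ≠ 1)
    (hab : a * b = b * a) (hbc : b * c = c * b) : a * c = c * a := by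
  open Cfsg.Agent.Lib.Classical.StSL2 in
  have h2 : (2 : F) = 0 := CharTwo.two_eq_zero
  have hdet := Cfsg.Agent.Lib.CAInv.SL2.det_eq b
  have hnon : b 0 1 ≠ 0 ∨ b 1 0 ≠ 0 ∨ b 0 0 ≠ b 1 1 := by
    by_contra hcon
    push Not at hcon
    obtain ⟨h01, h10, hd⟩ := hcon
    apply hb
    rw [h01, zero_mul, add_zero, ← hd] at hdet
    have h3 : (b 0 0 + 1) ^ 2 = 0 := by
      linear_combination hdet + (b 0 0 + 1) * h2
    have h4 : b 0 0 + 1 = 0 := pow_eq_zero_iff two_ne_zero |>.mp h3
    have h5 : b 0 0 = 1 := by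
      have h6 : b 0 0 = -1 := eq_neg_of_add_eq_zero_left h4
      rw [h6, CharTwo.neg_eq]
    apply sl_ext
    · rw [h5]; simp
    · rw [h01]; simp
    · rw [h10]; simp
    · rw [← hd, h5]; simp
  have entries : ∀ x : SL(2, F), x * b = b * x →
      x 0 1 * b 1 0 = b 0 1 * x 1 0 ∧ b 0 1 * (x 0 0 - x 1 1) = x 0 1 * (b 0 0 - b 1 1) ∧
        b 1 0 * (x 0 0 - x 1 1) = x 1 0 * (b 0 0 - b 1 1) := by
    intro x hx
    have e00 : (x * b) 0 0 = (b * x) 0 0 := by rw [hx]
    have e01 : (x * b) 0 1 = (b * x) 0 1 := by rw [hx]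
    have e10 : (x * b) 1 0 = (b * x) 1 0 := by rw [hx]
    rw [mul_entry, mul_entry] at e00 e01 e10
    refine ⟨?_, ?_, ?_⟩
    · linear_combination e00
    · linear_combination e01
    · linear_combination -e10
  obtain ⟨a1, a2, a3⟩ := entries a hab
  obtain ⟨c1, c2, c3⟩ := entries c hbc.symm
  obtain ⟨h1, h2', h3⟩ := comm_trans_entries hnon a1 a2 a3 c1 c2 c3
  apply sl_ext
  · rw [mul_entry, mul_entry]
    linear_combination h1
  · rw [mul_entry, mul_entry]
    linear_combination h2'
  · rw [mul_entry, mul_entry]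
    linear_combination h3
  · rw [mul_entry, mul_entry]
    linear_combination -h1

private theorem backward {G : Type*} [Group G] {F : Type} [Field F] [Fintype F] {f : ℕ}
    (hcard : Fintype.card F = 2 ^ f) (e : G ≃* Matrix.ProjectiveSpecialLinearGroup (Fin 2) F) :
    ∀ a b c : G, a ≠ 1 → b ≠ 1 → c ≠ 1 → Commute a b → Commute b c → Commute a c := by
  have hc1 : 1 < Fintype.card F := Fintype.one_lt_card
  have hf : f ≠ 0 := by
    rintro rfl
    rw [pow_zero] at hcard
    omega
  have hchar : ringChar F = 2 := by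
    apply FiniteField.even_card_iff_char_two.mpr
    rw [hcard]
    exact Nat.even_iff.mp (Nat.even_pow.mpr ⟨even_two, hf⟩)
  haveI : CharP F 2 := ringChar.of_eq hchar
  obtain ⟨e₃⟩ := Cfsg.Agent.Lib.CAInv.CaseI2.psl_equiv_sl F
  let e₂ : G ≃* SL(2, F) := e.trans e₃
  intro a b c ha hb hc hab hbc
  have hb' : e₂ b ≠ 1 := fun h => hb (e₂.injective (by rw [h, map_one]))
  have h1 : e₂ a * e₂ b = e₂ b * e₂ a := by
    rw [← map_mul, ← map_mul, hab.eq]
  have h2 : e₂ b * e₂ c = e₂ c * e₂ b := by
    rw [← map_mul, ← map_mul, hbc.eq]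
  have h3 := sl2_comm_trans hb' h1 h2
  apply e₂.injective
  rw [map_mul, map_mul, h3]

/-- A finite non-abelian simple group in which commuting is a transitive relation on the non-identity elements (equivalently, every non-identity element has abelian centraliser) is isomorphic to PSL₂ over a field with 2^f elements for some f ≥ 2; conversely these groups have that property. -/
theorem result {G : Type*} [Group G] [Finite G] [IsSimpleGroup G] (hG : ¬ IsMulCommutative G) :
    (∀ a b c : G, a ≠ 1 → b ≠ 1 → c ≠ 1 → Commute a b → Commute b c → Commute a c) ↔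
    ∃ (F : Type) (_ : Field F) (_ : Fintype F) (f : ℕ), 2 ≤ f ∧ Fintype.card F = 2 ^ f ∧ Nonempty (G ≃* Matrix.ProjectiveSpecialLinearGroup (Fin 2) F) := by
  classical
  constructor
  · intro htrans
    exact forward hG htrans
  · rintro ⟨F, i1, i2, f, hf, hcard, ⟨e⟩⟩
    exact backward hcard e

end Cfsg.Agent.S5748
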